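import Cfsg.Agent.Lib.Walter.Twist.Defs
import Cfsg.Agent.Lib.AutPSL.FieldGalois

/-!
Walter, the field part: a generator of the field part and its fixed field, in characteristic three.
-/

set_option autoImplicit false
set_option linter.unusedSectionVars false
set_option linter.style.haveILetI false

namespace CfsgLib.Walter.Twist

open Subgroup CfsgLib.FieldGalois

universe u

variable {G : Type u} [Group G] [Finite G] {E : Setup G}

/-- A generator `σ` of the field part, its fixed field has `3 ^ k` elements with `k` odd, and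
`q = (3 ^ k) ^ f`. -/
theorem Frame.exists_generator (R : Frame E) [CharP R.F 3] :
    ∃ (σ : R.Γ) (k : ℕ), (∀ τ : R.Γ, τ ∈ zpowers σ) ∧ orderOf σ = R.f ∧ Odd k ∧
      Nat.card (fixedSub (σ : R.F ≃+* R.F)) = 3 ^ k ∧ R.q = (3 ^ k) ^ R.f ∧
      (∀ x : R.F, x ∈ fixedSub (σ : R.F ≃+* R.F) ↔ ∀ τ : R.Γ, (τ : R.F ≃+* R.F) x = x) := by
  haveI : Fact (Nat.Prime 3) := ⟨Nat.prime_three⟩
  haveI : IsCyclic (R.F ≃+* R.F) := isCyclic_ringAut
  haveI : IsCyclic R.Γ := Subgroup.isCyclic _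
  obtain ⟨σ, hσ⟩ := IsCyclic.exists_generator (α := R.Γ)
  have hord : orderOf σ = R.f := orderOf_eq_card_of_forall_mem_zpowers hσ
  have hq : R.q = Nat.card (fixedSub (σ : R.F ≃+* R.F)) ^ R.f := by
    rw [← hord, ← Subgroup.orderOf_coe, ← natCard_fixedSub, Nat.card_eq_fintype_card]
    rfl
  obtain ⟨n, -, hn⟩ := FiniteField.card R.F 3
  have hdvd : Nat.card (fixedSub (σ : R.F ≃+* R.F)) ∣ 3 ^ (n : ℕ) := by
    rw [← hn]
    exact (show Nat.card (fixedSub (σ : R.F ≃+* R.F)) ∣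
      Nat.card (fixedSub (σ : R.F ≃+* R.F)) ^ R.f from dvd_pow_self _ (by
        rw [← hord]; exact (orderOf_pos σ).ne')).trans (by rw [← hq]; rfl)
  obtain ⟨k, -, hk⟩ := (Nat.dvd_prime_pow Nat.prime_three).1 hdvd
  refine ⟨σ, k, hσ, hord, ?_, hk, by rw [hq, hk], fun x => ⟨fun hx τ => ?_, fun h => h σ⟩⟩
  · rcases Nat.even_or_odd k with he | ho
    · exfalso
      have h8 := R.q_mod
      obtain ⟨j, rfl⟩ := he
      have hq' : Fintype.card R.F = 9 ^ (j * R.f) := by
        show R.q = _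
        rw [hq, hk, ← pow_mul, show (9 : ℕ) = 3 ^ 2 by norm_num, ← pow_mul]
        congr 1
        ring
      rw [hq', Nat.pow_mod] at h8
      norm_num at h8
    · exact ho
  · obtain ⟨i, hi⟩ := Subgroup.mem_zpowers_iff.1 (hσ τ)
    have hm : (σ : R.F ≃+* R.F) ^ i ∈ MulAction.stabilizer (R.F ≃+* R.F) x :=
      Subgroup.zpow_mem _ (show (σ : R.F ≃+* R.F) • x = x from hx) i
    rw [← hi, Subgroup.coe_zpow]
    exact hm

end CfsgLib.Walter.Twist
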