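import Cfsg.Agent.Lib.Walter.Twist.CaseDefs
import Cfsg.Agent.Lib.Walter.Twist.FixedField

/-!
Walter, rank three: the case division of `FieldFree` from the pieces.
-/

set_option autoImplicit false
set_option linter.unusedSectionVars false

namespace CfsgLib.Walter.Twist

open Subgroup

universe u

/-- Piece C: the centralisers of field elements. -/
structure CentraliserFacts : Prop where
  dichotomy : ∀ (G : Type u) [Group G] [Finite G] (E : Setup G), Local E → SmallField G → ∀ R : Frame E,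
    1 < R.f → CharP R.F 3 ∨ ∃ r, (r = 7 ∨ r = 11 ∨ r = 19) ∧ R.f = r ∧ R.q = 5 ^ r
  prime_dvd : ∀ (G : Type u) [Group G] [Finite G] (E : Setup G), Local E → SmallField G → ∀ R : Frame E,
    CharP R.F 3 → ¬ 3 ∣ R.f →
      ∀ r : ℕ, r.Prime → r ∣ R.f → 5 ≤ r ∧ r ∣ R.q ^ 2 - R.q + 1 ∧ r ∣ R.I
  fld_fusion : ∀ (G : Type u) [Group G] [Finite G] (E : Setup G), Local E → SmallField G → ∀ R : Frame E,
    ∀ (σ σ' : R.Γ) (g : G), g * R.fld σ * g⁻¹ = R.fld σ' → σ = σ'
  false_of_three : ∀ (G : Type u) [Group G] [Finite G] (E : Setup G), Local E → SmallField G →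
    ∀ R : Frame E, CharP R.F 3 → ¬ 3 ∣ R.f → 1 < R.f → R.q = 3 ^ R.f → False
  false_of_five : ∀ (G : Type u) [Group G] [Finite G] (E : Setup G), Local E → SmallField G →
    ∀ (R : Frame E) (r : ℕ), (r = 7 ∨ r = 11 ∨ r = 19) → R.f = r → R.q = 5 ^ r → False

/-- Piece T: an element of the split torus fixed by the field part. -/
def FixedGoal : Prop :=
  ∀ (G : Type u) [Group G] [Finite G] (E : Setup G), Local E → E.W = ⊥ → SmallField G →
    ∀ R : Frame E, CharP R.F 3 → ¬ 3 ∣ R.f → 1 < R.f → R.q ≠ 3 ^ R.f →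
      ∃ y ∈ E.H, (orderOf y).Prime ∧ orderOf y ≠ 2 ∧ orderOf y ∣ R.q - 1 ∧
        (∀ σ : R.Γ, Commute (R.fld σ) y) ∧ centralizer ({y} : Set G) ≤ E.H

/-- The case division. -/
theorem goal_of (hC : CentraliserFacts.{u}) (hT : FixedGoal.{u}) (hB : BorelGoal.{u})
    (hS : TorusIndexGoal.{u}) (hU : ThreeIndexGoal.{u}) (hX : RowsGoal.{u}) (hI : IndexStep)
    (hL : LinearStep) : Goal.{u} := by
  intro G _ _ E hloc hW hsmall R
  by_contra hne
  have hf : 1 < R.f := by
    have : 0 < R.f := Nat.card_pos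
    omega
  rcases hC.dichotomy G E hloc hsmall R hf with h3 | ⟨r, hr, hfr, hqr⟩
  · have hn3 : ¬ 3 ∣ R.f := hB G E hloc hW R h3
    by_cases hq : R.q = 3 ^ R.f
    · exact hC.false_of_three G E hloc hsmall R h3 hn3 hf hq
    · exact caseD_false hS hU hX hI hL hloc hW R
        ⟨h3, hf, hn3, hC.prime_dvd G E hloc hsmall R h3 hn3, hC.fld_fusion G E hloc hsmall R,
          hT G E hloc hW hsmall R h3 hn3 hf hq⟩
  · exact hC.false_of_five G E hloc hsmall R r hr hfr hqr

end CfsgLib.Walter.Twist
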