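import Cfsg.Agent.Lib.Techniques.StableControl
import Cfsg.Agent.Lib.Techniques.QdStable
import Cfsg.Agent.Lib.GW.Quad
import Cfsg.Agent.Lib.Transfer.Basic

/-!
Walter, rank three, `FieldFree`, piece Z: with abelian Sylow 2-subgroups `N(ZJ(P))` controls strong fusion
in the Sylow `p`-subgroup `P`, `p` odd, so in a simple group it has no abelian `p`-quotient.
-/

set_option autoImplicit false
set_option linter.style.haveILetI false

namespace CfsgLib.Walter.Twist

open Subgroup

universe u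

variable {G : Type u} [Group G] [Finite G] {p : ℕ} [Fact p.Prime]

theorem not_involves_qd_of_abelian
    (hab : ∀ S : Sylow 2 G, ∀ a b : ↥(S : Subgroup G), a * b = b * a) (hp : p ≠ 2) :
    ¬ Cfsg.Involves ↥(Cfsg.qd p) G := by
  haveI : Fact (Nat.Prime 2) := ⟨Nat.prime_two⟩
  have h : CfsgLib.GW.TwoCyclicLike G := fun a b hab2 _ _ => by
    obtain ⟨S, hS⟩ := hab2.exists_le_sylow
    exact congrArg Subtype.val
      (hab S ⟨a, hS (subset_closure (Or.inl rfl))⟩ ⟨b, hS (subset_closure (Or.inr rfl))⟩)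
  rintro ⟨K, R, hR, ⟨e⟩⟩
  exact CfsgLib.GW.not_twoCyclicLike_qd hp ((h.subgroup K).map
    (e.toMonoidHom.comp (QuotientGroup.mk' (R.subgroupOf K)))
    (e.surjective.comp (QuotientGroup.mk'_surjective _)))

/-- `N(ZJ(P))` controls strong fusion in `P`. -/
theorem zj_controls (hab : ∀ S : Sylow 2 G, ∀ a b : ↥(S : Subgroup G), a * b = b * a) (hp : p ≠ 2)
    (P : Sylow p G) {X : Subgroup G} (hX : X ≤ (P : Subgroup G)) {g : G}
    (hg : ∀ x ∈ X, g * x * g⁻¹ ∈ (P : Subgroup G)) :
    ∃ n ∈ normalizer (CfsgLib.PLocal.zj 0 (P : Subgroup G) : Set G),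
      ∀ x ∈ X, n * x * n⁻¹ = g * x * g⁻¹ := by
  have hc := CfsgLib.Techniques.StableQuot.fusCtrl_zJA (p := p) hp G
    (CfsgLib.Techniques.KInf.isNormalizerPStable_of_not_involves_qd hp
      (not_involves_qd_of_abelian hab hp)) P X g (Subgroup.mem_top _) hX (by
      rintro _ ⟨x, hx, rfl⟩; exact hg x hx)
  rw [CfsgLib.Techniques.Fusion.stepGroups, Set.image_singleton,
    CfsgLib.Techniques.StableQuot.inducedFunctor_zJAFun, ← CfsgLib.PLocal.zj_zero] at hc
  obtain ⟨n, hn, hn'⟩ := hc.exists_mem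
  exact ⟨n, hn, hn'⟩

/-- In a simple group `N(ZJ(P))` has no non-trivial homomorphism to an abelian `p`-group. -/
theorem false_of_zj_hom [IsSimpleGroup G] (hnc : ¬ IsMulCommutative G)
    (hab : ∀ S : Sylow 2 G, ∀ a b : ↥(S : Subgroup G), a * b = b * a) (hp : p ≠ 2) (P : Sylow p G)
    {A : Type*} [CommGroup A] (hA : IsPGroup p A)
    (psi : ↥(normalizer (CfsgLib.PLocal.zj 0 (P : Subgroup G) : Set G)) →* A) (hpsi : psi ≠ 1) : False := by
  revert psi hpsi
  set N : Subgroup G := normalizer (CfsgLib.PLocal.zj 0 (P : Subgroup G) : Set G) with hN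
  intro psi hpsi
  have hPN : (P : Subgroup G) ≤ N := CfsgLib.PLocal.le_normalizer_zj 0 _
  have hperf : commutator G = ⊤ := by
    refine (inferInstance : (commutator G).Normal).eq_bot_or_eq_top.resolve_left fun e =>
      hnc ⟨⟨fun a b => ?_⟩⟩
    rw [← commutatorElement_eq_one_iff_mul_comm, ← mem_bot, ← e]
    exact commutator_mem_commutator (mem_top _) (mem_top _)
  have hle : (P : Subgroup G) ≤ ⁅N, N⁆ := by
    have h := CfsgLib.Transfer.commutator_inf_eq_of_controls P hPN fun x hx g hg => by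
      obtain ⟨n, hn, e⟩ := zj_controls hab hp P (X := zpowers x) (zpowers_le.2 hx) (g := g) (by
        rintro _ ⟨i, rfl⟩
        show g * x ^ i * g⁻¹ ∈ _
        rw [← conj_zpow]
        exact zpow_mem hg i)
      exact ⟨n, hn, e x (mem_zpowers x)⟩
    rw [hperf, top_inf_eq] at h
    exact h.le.trans inf_le_left
  have hker : (P.subtype hPN : Subgroup ↥N) ≤ psi.ker := by
    intro x hx
    have hx' : (x : G) ∈ ⁅N, N⁆ := hle (by simpa [Sylow.coe_subtype, mem_subgroupOf] using hx)
    have hN' : ⁅N, N⁆ = (_root_.commutator ↥N).map N.subtype := by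
      rw [_root_.commutator_def, Subgroup.map_commutator, ← MonoidHom.range_eq_map, N.range_subtype]
    rw [hN'] at hx'
    obtain ⟨y, hy, hyx⟩ := hx'
    rw [Subtype.ext hyx.symm]
    exact Abelianization.commutator_subset_ker psi hy
  refine hpsi (MonoidHom.ext fun n => ?_)
  haveI : Finite ↥psi.range := Finite.of_surjective _ psi.rangeRestrict_surjective
  obtain ⟨k, hk⟩ := hA.to_subgroup psi.range |> IsPGroup.iff_card.1
  have h1 : psi.ker.index = p ^ k := by rw [index_ker, hk]
  have h2 : ¬ p ∣ psi.ker.index := fun h =>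
    (P.subtype hPN).not_dvd_index (h.trans (index_dvd_of_le hker))
  have hk0 : k = 0 := by
    by_contra hne
    exact h2 (h1 ▸ dvd_pow_self p hne)
  have : psi.ker = ⊤ := index_eq_one.1 (by rw [h1, hk0, pow_zero])
  exact MonoidHom.mem_ker.1 (this.ge (mem_top n))

end CfsgLib.Walter.Twist
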