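import Cfsg.Agent.Lib.Walter.Twist.BorelFrame
import Cfsg.Agent.Lib.Walter.Twist.Control
import Cfsg.Agent.Lib.NumberTheory.Zsigmondy

/-!
Walter, rank three, piece B: in characteristic three the field part has order prime to three.
-/

set_option autoImplicit false
set_option linter.style.haveILetI false

namespace CfsgLib.Walter.Twist

open Subgroup CfsgLib.NumberTheory

universe u

/-- Piece B from piece G. -/
theorem borelGoal_of (hG : GoodGoal.{u}) : BorelGoal.{u} := by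
  intro G _ _ E hloc hW R h3 hf
  haveI := h3
  haveI : Fact (Nat.Prime 3) := ⟨Nat.prime_three⟩
  haveI := E.simple
  obtain ⟨hq3, -⟩ := FixedT.q_mod_three R
  obtain ⟨n, -, hn⟩ := FiniteField.card R.F 3
  have hfn : R.f ∣ (n : ℕ) := by
    rw [← CfsgLib.FieldGalois.card_ringAut (p := 3) hn]
    exact Subgroup.card_subgroup_dvd_card R.Γ
  have hn3 : 3 ≤ (n : ℕ) := Nat.le_of_dvd n.pos (hf.trans hfn)
  obtain ⟨s, hs⟩ := exists_isPPD_of_two_lt (a := 3) (n := (n : ℕ)) (by norm_num) (by omega) (by omega)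
  obtain ⟨hsp, hdvd, hmin⟩ := hs
  have hqn : R.q = 3 ^ (n : ℕ) := hn
  have hprim : ∀ m, 0 < m → 3 ^ m < 3 ^ (n : ℕ) → ¬ s ∣ 3 ^ m - 1 := fun m hm hlt =>
    hmin m hm ((Nat.pow_lt_pow_iff_right (by norm_num)).1 hlt)
  have hs2 : s ≠ 2 := by
    rintro rfl
    exact hmin 1 (by omega) (by omega) (by norm_num)
  have hs3 : s ≠ 3 := by
    rintro rfl
    obtain ⟨k, hk⟩ : 3 ∣ 3 ^ (n : ℕ) := dvd_pow_self 3 n.ne_zero
    omega
  have hgood : R.GoodTorus s := hG G E hloc hW R hq3 h3 hf s ⟨hsp, hqn ▸ hdvd, hqn ▸ hprim⟩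
  haveI : IsCyclic (R.F ≃+* R.F) := CfsgLib.FieldGalois.isCyclic_ringAut
  haveI : IsCyclic R.Γ := Subgroup.isCyclic _
  letI : CommGroup R.Γ := IsCyclic.commGroup
  let pw : R.Γ →* R.Γ := powMonoidHom (R.f / 3)
  have hA : IsPGroup 3 pw.range := by
    rintro ⟨_, σ, rfl⟩
    refine ⟨1, Subtype.ext ?_⟩
    show (σ ^ (R.f / 3)) ^ 3 ^ 1 = 1
    rw [pow_one, ← pow_mul, Nat.div_mul_cancel hf]
    exact pow_card_eq_one'
  have hπ : pw.rangeRestrict ≠ 1 := by
    obtain ⟨g, hg⟩ := IsCyclic.exists_ofOrder_eq_natCard (α := R.Γ)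
    intro h
    have h1 : g ^ (R.f / 3) = 1 := congrArg Subtype.val (DFunLike.congr_fun h g)
    have hpos : 0 < R.f := Nat.card_pos
    have h2 := Nat.le_of_dvd (Nat.div_pos (Nat.le_of_dvd hpos hf) (by norm_num))
      (orderOf_dvd_of_pow_eq_one h1)
    rw [hg] at h2
    exact absurd h2 (not_le.2 (Nat.div_lt_self hpos (by norm_num)))
  obtain ⟨D, hD⟩ := Borel.exists_datum R hloc
  obtain ⟨T⟩ := Borel.exists_torus R D hD hn hsp hs2 hs3 (hqn ▸ hdvd) hprim hgood pw.rangeRestrict hπ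
  haveI : Fact s.Prime := ⟨hsp⟩
  obtain ⟨P, ψ, hψ⟩ := D.exists_hom hs2 T
  refine false_of_zj_hom E.noncomm (fun S a b => ?_) (by norm_num) P hA ψ hψ
  exact Subtype.ext (D.two_comm _ S.isPGroup' a a.2 b b.2)

end CfsgLib.Walter.Twist
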