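import Cfsg.Agent.Lib.OddOrder.SylowOf
import Cfsg.Agent.Lib.InvChar.SolvableTwo
import Cfsg.Agent.Lib.PF.OddOrder
import Cfsg.Agent.Lib.ReeOrder.Local.PartTools
import Cfsg.Agent.Lib.Involutions.Fusion
import Cfsg.Agent.Lib.PGUThree.Tools

/-!
Walter, rank three, piece B: the group theoretic part.  A local subgroup over the Borel subgroup of the
centraliser of an involution is `O⟨t⟩` with `O` of odd order; the `ZJ` factorisation moves it to the normaliser
of `Z(J(P))` of a Sylow `3`-subgroup of the whole group, which then maps onto the field part.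
-/

set_option autoImplicit false
set_option linter.style.haveILetI false
set_option linter.unusedSectionVars false

namespace CfsgLib.Walter.Twist.Borel

open Subgroup CfsgLib.OddOrder CfsgLib.PLocal

universe u

variable {G : Type u} [Group G] [Finite G]

/-- What is used about the Borel subgroup `⟨t⟩ × K`, `K = UTΓ`, of the centraliser of `t`. -/
structure Datum (t : G) where
  /-- the odd part of the Borel subgroup -/
  K : Subgroup G
  /-- the unipotent part -/
  U : Subgroup G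
  /-- the simple part of the centraliser -/
  L : Subgroup G
  /-- an involution of `L` -/
  i : G
  orderOf_t : orderOf t = 2
  K_le : K ≤ centralizer ({t} : Set G)
  K_odd : Odd (Nat.card K)
  U_le : U ≤ K
  U_ne : U ≠ ⊥
  U_p : IsPGroup 3 U
  U_norm : K ≤ normalizer (U : Set G)
  L_le : L ≤ centralizer ({t} : Set G)
  i_mem : i ∈ L
  orderOf_i : orderOf i = 2
  i_ne : i ≠ t
  up : ∀ D : Subgroup G, K ≤ D → t ∈ D → D ≤ centralizer ({t} : Set G) →
    (∀ x ∈ D, x ∈ K ∨ t * x ∈ K) ∨ L ≤ D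
  L_free : ∀ D : Subgroup G, D ≤ centralizer ({t} : Set G) → IsPGroup 3 D →
    L ≤ normalizer (D : Set G) → K ≤ normalizer (D : Set G) → D = ⊥
  K_free : ∀ D : Subgroup G, D ≤ K → (Nat.card D).Coprime 3 → K ≤ normalizer (D : Set G) → D = ⊥
  noInv : ∀ x v e : G, IsPGroup 3 (zpowers x) → orderOf v = 2 → orderOf e = 2 → v ≠ e → Commute v e →
    v * x * v = x⁻¹ → Commute x e → x = 1
  two_comm : ∀ T : Subgroup G, IsPGroup 2 T → ∀ a ∈ T, ∀ b ∈ T, a * b = b * a

/-- In a group of odd order an element inverted by an involution is a commutator with a fixed point. -/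
theorem exists_fixed_mul {t : G} (ht : t * t = 1) {W : Subgroup G} (hW : Odd (Nat.card W)) {v w : G}
    (hw : w ∈ W) (hv : t * v * t = v * w) : ∃ r ∈ W, Commute (v * r) t := by
  have hti : t⁻¹ = t := inv_eq_of_mul_eq_one_right ht
  have hwinv : t * w * t = w⁻¹ := by
    have h1 : t * (v * w) * t = v := by
      rw [← hv, show t * (t * v * t) * t = t * t * v * (t * t) by group, ht, one_mul, mul_one]
    have h2 : t * (v * w) * t = v * w * (t * w * t) := by
      calc t * (v * w) * t = t * v * t * (t * w * t) := by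
            rw [show t * v * t * (t * w * t) = t * v * (t * t) * w * t by group, ht, mul_one, mul_assoc t v w]
        _ = v * w * (t * w * t) := by rw [hv]
    have h3 : v * (w * (t * w * t)) = v := by rw [← mul_assoc, ← h2, h1]
    exact eq_inv_of_mul_eq_one_right (mul_eq_left.1 h3)
  obtain ⟨m, hm⟩ := hW.of_dvd_nat (Subgroup.orderOf_dvd_natCard _ hw)
  refine ⟨w ^ (m + 1), pow_mem hw _, ?_⟩
  have hr : t * w ^ (m + 1) * t = (w ^ (m + 1))⁻¹ := by
    have h4 : t * w ^ (m + 1) * t = (t * w * t⁻¹) ^ (m + 1) := by rw [conj_pow, hti]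
    rw [h4, hti, hwinv, inv_pow]
  have hsq : w = w ^ (m + 1) * w ^ (m + 1) := by
    rw [← pow_add, show m + 1 + (m + 1) = (2 * m + 1) + 1 by ring, ← hm, pow_succ,
      pow_orderOf_eq_one, one_mul]
  show v * w ^ (m + 1) * t = t * (v * w ^ (m + 1))
  have h5 : t * (v * w ^ (m + 1)) * t = v * w ^ (m + 1) := by
    calc t * (v * w ^ (m + 1)) * t = t * v * t * (t * w ^ (m + 1) * t) := by
          rw [show t * v * t * (t * w ^ (m + 1) * t) = t * v * (t * t) * w ^ (m + 1) * t by group, ht,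
            mul_one, mul_assoc t v]
      _ = v * w * (w ^ (m + 1))⁻¹ := by rw [hv, hr]
      _ = v * w ^ (m + 1) := by nth_rw 1 [hsq]; group
  calc v * w ^ (m + 1) * t = t * (v * w ^ (m + 1)) * t * t := by rw [h5]
    _ = t * (v * w ^ (m + 1)) := by rw [mul_assoc, ht, mul_one]

/-- `O_{p'}(O)` is normalised by whatever normalises `O`. -/
theorem conj_mem_oPrime {p : ℕ} [Fact p.Prime] {O : Subgroup G} {g : G}
    (hg : g ∈ normalizer (O : Set G)) {x : G} (hx : x ∈ oPrime p O) : g * x * g⁻¹ ∈ oPrime p O := by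
  set N := (oPrime p O).map (MulAut.conj g).toMonoidHom with hN
  have hle : N ≤ oPrime p O := by
    refine le_oPrime ?_ ?_ ?_
    · rintro _ ⟨y, hy, rfl⟩
      exact (mem_normalizer_iff.1 hg y).1 (oPrime_le O hy)
    · intro o ho
      have ho' : g⁻¹ * o * g ∈ O := (mem_normalizer_iff''.1 hg o).1 ho
      refine Subgroup.mem_normalizer_fintype ?_
      rintro _ ⟨y, hy, rfl⟩
      refine ⟨g⁻¹ * o * g * y * (g⁻¹ * o * g)⁻¹,
        (mem_normalizer_iff.1 (oPrime_normal O ho') y).1 hy, ?_⟩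
      simp only [MulEquiv.coe_toMonoidHom, MulAut.conj_apply]
      group
    · rw [hN, card_map_of_injective (MulAut.conj g).injective]
      exact oPrime_coprime O
  exact hle ⟨x, hx, rfl⟩

namespace Datum

variable {t : G} (D : Datum t)

include D in
theorem t_sq : t * t = 1 := by
  have h := pow_orderOf_eq_one t
  rwa [D.orderOf_t, pow_two] at h

include D in
theorem t_inv : t⁻¹ = t := inv_eq_of_mul_eq_one_right D.t_sq

theorem commute_K {k : G} (hk : k ∈ D.K) : Commute k t :=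
  mem_centralizer_singleton_iff.1 (D.K_le hk)

include D in
theorem t_notMem {O : Subgroup G} (hO : Odd (Nat.card O)) : t ∉ O := fun h => by
  have h2 := Subgroup.orderOf_dvd_natCard _ h
  rw [D.orderOf_t] at h2
  exact Nat.not_even_iff_odd.2 hO (even_iff_two_dvd.2 h2)

/-- A local subgroup over the Borel subgroup. -/
def Good (X : Subgroup G) : Prop :=
  D.K ≤ X ∧ t ∈ X ∧ ∃ R : Subgroup G, R ≠ ⊥ ∧ R ≤ X ∧ IsPGroup 3 R ∧ X ≤ normalizer (R : Set G)

theorem good_normalizer_U : D.Good (normalizer (D.U : Set G)) := by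
  refine ⟨D.U_norm, ?_, D.U, D.U_ne, le_normalizer, D.U_p, le_rfl⟩
  refine centralizer_le_normalizer _ (mem_centralizer_iff.2 fun u hu => ?_)
  exact (D.commute_K (D.U_le hu)).eq

/-- `X ∩ C(t)` is the Borel subgroup. -/
theorem inter {X : Subgroup G} (hX : D.Good X) {x : G} (hx : x ∈ X) (hxt : Commute x t) :
    x ∈ D.K ∨ t * x ∈ D.K := by
  obtain ⟨hK, htX, R, hRne, hRX, hR, hRn⟩ := hX
  rcases D.up (X ⊓ centralizer ({t} : Set G)) (le_inf hK D.K_le)
    ⟨htX, mem_centralizer_singleton_iff.2 rfl⟩ inf_le_right with h | h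
  · exact h x ⟨hx, mem_centralizer_singleton_iff.2 hxt.eq⟩
  exfalso
  have hLX : D.L ≤ X := h.trans inf_le_left
  -- `C_R(t) = 1`
  have hCt : ∀ r ∈ R, Commute r t → r = 1 := by
    intro r hr hrt
    have hb : R ⊓ centralizer ({t} : Set G) = ⊥ := by
      have hn : ∀ A : Subgroup G, A ≤ X → A ≤ centralizer ({t} : Set G) →
          A ≤ normalizer ((R ⊓ centralizer ({t} : Set G) : Subgroup G) : Set G) := by
        intro A hAX hAt a ha
        refine Subgroup.mem_normalizer_fintype fun y hy => mem_inf.2 ⟨?_, ?_⟩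
        · exact (mem_normalizer_iff.1 (hRn (hAX ha)) y).1 hy.1
        · exact mul_mem (mul_mem (hAt ha) hy.2) (inv_mem (hAt ha))
      exact D.L_free _ inf_le_right (hR.to_le inf_le_left) (hn _ hLX D.L_le) (hn _ hK D.K_le)
    have : r ∈ R ⊓ centralizer ({t} : Set G) := ⟨hr, mem_centralizer_singleton_iff.2 hrt.eq⟩
    rw [hb] at this
    exact this
  have hit : Commute t D.i := (mem_centralizer_singleton_iff.1 (D.L_le D.i_mem)).symm
  have hodd : Odd (Nat.card R) := by
    haveI : Fact (Nat.Prime 3) := ⟨Nat.prime_three⟩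
    obtain ⟨k, hk⟩ := IsPGroup.iff_card.1 hR
    rw [hk]; exact Odd.pow (by decide)
  refine hRne (le_bot_iff.1 (CfsgLib.ReeOrder.PartTools.le_of_parts D.orderOf_t D.orderOf_i hit
    D.i_ne.symm hodd (hRn htX) (hRn (hLX D.i_mem)) ⊥ fun e he y hy hye => ?_))
  rw [mem_bot]
  rcases he with rfl | he
  · exact hCt y hy hye
  -- `t` inverts `y⁻¹ t y t`, which commutes with `e`
  have hte : Commute t e := by
    rcases he with rfl | rfl
    · exact hit
    · exact (Commute.refl t).mul_right hit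
  have he2 : orderOf e = 2 := by
    rcases he with rfl | rfl
    · exact D.orderOf_i
    · refine orderOf_eq_prime ?_ fun h => D.i_ne ?_
      · rw [hit.mul_pow]
        nth_rw 1 [← D.orderOf_t]; rw [pow_orderOf_eq_one, one_mul]
        nth_rw 1 [← D.orderOf_i]; rw [pow_orderOf_eq_one]
      · rw [eq_inv_of_mul_eq_one_right h, D.t_inv]
  have hne : t ≠ e := by
    rcases he with rfl | rfl
    · exact D.i_ne.symm
    · intro h
      have h1 : D.i = 1 := by simpa using h
      have h2 := D.orderOf_i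
      rw [h1, orderOf_one] at h2
      exact absurd h2 (by norm_num)
  have hty : t * y * t ∈ R := by
    have := (mem_normalizer_iff.1 (hRn htX) y).1 hy
    rwa [D.t_inv] at this
  have hw : y⁻¹ * (t * y * t) = 1 := by
    refine D.noInv _ t e (hR.to_le (zpowers_le.2 (mul_mem (inv_mem hy) hty))) D.orderOf_t he2 hne hte ?_
      (hye.inv_left.mul_left ((hte.mul_left hye).mul_left hte))
    have ht := D.t_sq
    rw [show (y⁻¹ * (t * y * t))⁻¹ = t⁻¹ * y⁻¹ * t⁻¹ * y by group, D.t_inv,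
      show t * (y⁻¹ * (t * y * t)) * t = t * y⁻¹ * t * y * (t * t) by group, ht, mul_one]
  refine hCt y hy ?_
  have h3 : t * y * t = y := (inv_mul_eq_one.1 hw).symm
  calc y * t = t * y * t * t := by rw [h3]
    _ = t * y := by rw [mul_assoc, D.t_sq, mul_one]

/-- The Sylow two-subgroups of a local subgroup have order two: it has an odd part of index two. -/
theorem exists_odd {X : Subgroup G} (hX : D.Good X) :
    ∃ O : Subgroup G, O ≤ X ∧ Odd (Nat.card O) ∧ X ≤ normalizer (O : Set G) ∧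
      (∀ x ∈ X, x ∈ O ∨ t * x ∈ O) ∧ ∀ x ∈ X, Odd (orderOf x) → x ∈ O := by
  haveI : Fact (Nat.Prime 2) := ⟨Nat.prime_two⟩
  set s : X := ⟨t, hX.2.1⟩ with hs
  have hs2 : orderOf s = 2 := by rw [hs, Subgroup.orderOf_mk, D.orderOf_t]
  obtain ⟨T, hT⟩ := (CfsgLib.Involutions.isPGroup_two_zpowers hs2).exists_le_sylow
  have hTeq : (T : Subgroup X) = zpowers s := by
    refine le_antisymm (fun x hx => ?_) hT
    have hcomm : Commute (x : G) t := D.two_comm ((T : Subgroup X).map X.subtype) (T.isPGroup'.map _)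
      (x : G) ⟨x, hx, rfl⟩ t ⟨s, hT (mem_zpowers s), rfl⟩
    obtain ⟨j, hj⟩ := T.isPGroup' ⟨x, hx⟩
    have hj' : (x : G) ^ 2 ^ j = 1 := by simpa using congrArg (fun z : T => ((z : X) : G)) hj
    have key : ∀ k ∈ D.K, k ^ 2 ^ j = 1 → k = 1 := by
      intro k hk hk1
      refine orderOf_eq_one_iff.1 (Nat.eq_one_of_dvd_coprimes ?_ (orderOf_dvd_of_pow_eq_one hk1) dvd_rfl)
      exact ((Nat.coprime_two_left.2 (D.K_odd.of_dvd_nat (Subgroup.orderOf_dvd_natCard _ hk)))).pow_left j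
    rcases D.inter hX x.2 hcomm with h | h
    · rw [show x = 1 from Subtype.ext (key _ h hj')]; exact one_mem _
    · have hx' : x = s := by
        rcases Nat.eq_zero_or_pos j with rfl | hjpos
        · have h1 : (x : G) = 1 := by simpa using hj'
          rw [h1, mul_one] at h
          exact absurd h (D.t_notMem D.K_odd)
        have h1 : (t * (x : G)) ^ 2 ^ j = 1 := by
          rw [hcomm.symm.mul_pow, hj', mul_one]
          obtain ⟨i, rfl⟩ : ∃ i, j = i + 1 := ⟨j - 1, by omega⟩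
          rw [pow_succ', pow_mul, pow_two, D.t_sq, one_pow]
        refine Subtype.ext ?_
        rw [hs, eq_inv_of_mul_eq_one_right (key _ h h1), D.t_inv]
      rw [hx']; exact mem_zpowers s
  have hTn : normalizer ((T : Subgroup X) : Set X) ≤ centralizer ((T : Subgroup X) : Set X) := by
    intro g hg
    have h1 := (mem_normalizer_iff.1 hg s).1 (hT (mem_zpowers s))
    rw [hTeq] at h1
    have hgs : Commute g s := by
      rcases CfsgLib.InvChar.KleinCentralizer.cases_of_mem_zpowers hs2 h1 with e | e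
      · exact absurd (conj_eq_one_iff.1 e) (CfsgLib.Involutions.ne_one_of_involution hs2)
      · exact mul_inv_eq_iff_eq_mul.1 e
    rw [hTeq, mem_centralizer_iff]
    rintro _ ⟨i, rfl⟩
    exact (hgs.zpow_right i).eq.symm
  set O₁ : Subgroup X := (MonoidHom.transferSylow T hTn).ker with hO₁
  have hcompl := MonoidHom.ker_transferSylow_isComplement' T hTn
  have hidx : O₁.index = 2 := by
    rw [hcompl.symm.index_eq_card, hTeq, Nat.card_zpowers, hs2]
  have hodd : Odd (Nat.card O₁) := by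
    rw [← hcompl.index_eq_card, ← Nat.not_even_iff_odd, even_iff_two_dvd]
    exact T.not_dvd_index
  have hO₁n : O₁.Normal := MonoidHom.normal_ker _
  clear_value O₁
  clear hO₁
  refine ⟨O₁.map X.subtype, map_subtype_le _, by rwa [card_map_of_injective X.subtype_injective], ?_, ?_, ?_⟩
  · intro g hg
    refine Subgroup.mem_normalizer_fintype ?_
    rintro _ ⟨o, ho, rfl⟩
    exact ⟨(⟨g, hg⟩ : X) * o * (⟨g, hg⟩ : X)⁻¹, hO₁n.conj_mem o ho ⟨g, hg⟩, rfl⟩
  · intro x hx
    by_cases h : (⟨x, hx⟩ : X) ∈ O₁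
    · exact Or.inl ⟨_, h, rfl⟩
    · refine Or.inr ⟨s * ⟨x, hx⟩, (Subgroup.mul_mem_iff_of_index_two hidx).2 (iff_of_false ?_ h), rfl⟩
      intro hsO
      have h2 := Subgroup.orderOf_dvd_natCard _ hsO
      rw [hs2] at h2
      exact Nat.not_even_iff_odd.2 hodd (even_iff_two_dvd.2 h2)
  · intro x hx ho
    obtain ⟨m, hm⟩ := ho
    refine ⟨⟨x, hx⟩, ?_, rfl⟩
    have h1 : (⟨x, hx⟩ : X) = ((⟨x, hx⟩ : X) ^ (m + 1)) ^ 2 := by
      refine Subtype.ext ?_
      rw [SubmonoidClass.coe_pow, SubmonoidClass.coe_pow, ← pow_mul,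
        show (m + 1) * 2 = (2 * m + 1) + 1 by ring, ← hm, pow_succ, pow_orderOf_eq_one, one_mul]
    rw [h1]
    exact sq_mem_of_index_two hidx _

/-- `B ≤ N(Z(J(P)))` for a `t`-invariant Sylow `3`-subgroup `P` of a local subgroup. -/
theorem exists_zj {X : Subgroup G} (hX : D.Good X) :
    ∃ P : Subgroup G, P ≤ X ∧ IsPGroup 3 P ∧ D.Good (normalizer (zj 0 P : Set G)) ∧
      ∀ Q : Subgroup G, Q ≤ X → IsPGroup 3 Q → Nat.card Q ≤ Nat.card P := by
  haveI : Fact (Nat.Prime 3) := ⟨Nat.prime_three⟩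
  obtain ⟨O, hOX, hOodd, hOn, hO2, hOmem⟩ := D.exists_odd hX
  haveI hsol : Group.IsSolvable O := CfsgLib.PF.oddSolvable _ hOodd
  have hodd3 : ∀ Q : Subgroup G, IsPGroup 3 Q → ∀ q ∈ Q, Odd (orderOf q) := fun Q hQ q hq => by
    obtain ⟨k, hk⟩ := IsPGroup.iff_orderOf.1 hQ ⟨q, hq⟩
    rw [Subgroup.orderOf_mk] at hk
    rw [hk]; exact Odd.pow (by decide)
  have htO : t ∈ normalizer (O : Set G) := hOn hX.2.1
  have hAO : zpowers t ≤ normalizer (O : Set G) := zpowers_le.2 htO
  have hcop : (Nat.card (zpowers t)).Coprime (Nat.card O) := by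
    rw [Nat.card_zpowers, D.orderOf_t]; exact Nat.coprime_two_left.2 hOodd
  obtain ⟨P0, hP0⟩ := CfsgLib.Coprime.exists_invariant_sylow (zpowers t) O hAO hcop (Or.inr hsol) 3
  set P := (P0 : Subgroup O).map O.subtype with hP
  have hPof : SylowOf 3 P O := sylowOf_map P0
  have hPp : IsPGroup 3 P := P0.isPGroup'.map _
  have hKO : D.K ≤ O := fun k hk =>
    hOmem k (hX.1 hk) (D.K_odd.of_dvd_nat (Subgroup.orderOf_dvd_natCard _ hk))
  have hcard : ∀ Q : Subgroup G, Q ≤ X → IsPGroup 3 Q → Nat.card Q ≤ Nat.card P := fun Q hQX hQ =>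
    Nat.le_of_dvd Nat.card_pos (hPof.card_dvd (fun q hq => hOmem q (hQX hq) (hodd3 Q hQ q hq)) hQ)
  have hPne : P ≠ ⊥ := by
    intro h
    have h1 := hcard D.U (D.U_le.trans hX.1) D.U_p
    rw [h, Subgroup.card_bot] at h1
    exact D.U_ne (Subgroup.eq_bot_of_card_le _ h1)
  set Z := zj 0 P with hZ
  have hZne : Z ≠ ⊥ := zj_ne_bot hPp hPne
  have htZ : t ∈ normalizer (Z : Set G) :=
    normalizer_le_normalizer_zj 0 P (hP0 (mem_zpowers t))
  set V := oPrime 3 O with hV
  -- `C_V(t) = 1`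
  have hVt : ∀ v ∈ V, Commute v t → v = 1 := by
    have hb : V ⊓ D.K = ⊥ := by
      refine D.K_free _ inf_le_right ?_ fun k hk => ?_
      · exact Nat.Coprime.coprime_dvd_left (card_dvd_of_le inf_le_left) (oPrime_coprime O)
      · refine Subgroup.mem_normalizer_fintype fun v hv => mem_inf.2 ⟨?_, ?_⟩
        · exact conj_mem_oPrime (hOn (hX.1 hk)) hv.1
        · exact mul_mem (mul_mem hk hv.2) (inv_mem hk)
    intro v hv hvt
    have hvO := oPrime_le O hv
    rcases D.inter hX (hOX hvO) hvt with h | h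
    · have : v ∈ V ⊓ D.K := ⟨hv, h⟩
      rw [hb] at this
      exact this
    · refine absurd ?_ (D.t_notMem hOodd)
      have := mul_mem (hKO h) (inv_mem hvO)
      rwa [mul_inv_cancel_right] at this
  have hKZ : D.K ≤ normalizer (Z : Set G) := by
    intro k hk
    have hk' := le_sup_normalizer_zj hOodd (by decide : (3 : ℕ) ≠ 2) hPof (hKO hk)
    rw [← SetLike.mem_coe,
      coe_mul_of_right_le_normalizer_left _ _ (inf_le_left.trans (oPrime_normal O))] at hk'
    obtain ⟨v, hv, n, hn, rfl⟩ := hk'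
    have hnZ : n ∈ normalizer (Z : Set G) := hn.2
    have ht := D.t_sq
    have htvn : t * (v * n) * t = v * n := by
      rw [mul_assoc, (D.commute_K hk).eq, ← mul_assoc, ht, one_mul]
    -- `t` moves `v` by an element of `V ∩ N(Z)`
    set w := v⁻¹ * (t * v * t) with hw
    have hw' : w = n * (t * n * t)⁻¹ := by
      have h1 : t * v * t * (t * n * t) = v * n := by
        rw [show t * v * t * (t * n * t) = t * v * (t * t) * n * t by group, ht, mul_one, mul_assoc t v,
          htvn]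
      calc w = v⁻¹ * (t * v * t * (t * n * t) * (t * n * t)⁻¹) := by rw [mul_inv_cancel_right, hw]
        _ = v⁻¹ * (v * n * (t * n * t)⁻¹) := by rw [h1]
        _ = n * (t * n * t)⁻¹ := by group
    have htv : t * v * t ∈ V := by
      have := conj_mem_oPrime htO hv
      rwa [D.t_inv] at this
    obtain ⟨r, hr, hrc⟩ := exists_fixed_mul ht (W := V ⊓ normalizer (Z : Set G))
      (hOodd.of_dvd_nat (card_dvd_of_le (inf_le_left.trans (oPrime_le O))))
      (v := v) (w := w) (mem_inf.2 ⟨mul_mem (inv_mem hv) htv, by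
        rw [hw']; exact mul_mem hnZ (inv_mem (mul_mem (mul_mem htZ hnZ) htZ))⟩)
      (by rw [hw, mul_inv_cancel_left])
    have hvr : v * r = 1 := hVt _ (mul_mem hv hr.1) hrc
    exact mul_mem (by rw [eq_inv_of_mul_eq_one_left hvr]; exact inv_mem hr.2) hnZ
  refine ⟨P, (Subgroup.map_subtype_le _).trans hOX, hPp, ⟨hKZ, htZ, Z, hZne, le_normalizer,
    hPp.to_le (zj_le 0 P), le_rfl⟩, hcard⟩

/-- A local subgroup containing a Sylow `3`-subgroup `P` of the group is `N(Z(J(P)))`. -/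
theorem exists_sylow :
    ∃ P : Sylow 3 G, D.Good (normalizer (zj 0 (P : Subgroup G) : Set G)) := by
  classical
  haveI : Fact (Nat.Prime 3) := ⟨Nat.prime_three⟩
  let cands : Set (Subgroup G) := {Q | IsPGroup 3 Q ∧ ∃ X, D.Good X ∧ Q ≤ X}
  obtain ⟨Q, ⟨hQ, X, hX, hQX⟩, hmax⟩ := Set.exists_max_image cands (fun Q => Nat.card Q) cands.toFinite
    ⟨D.U, D.U_p, _, D.good_normalizer_U, le_normalizer⟩
  obtain ⟨P, hPX, hPp, hgood, hcard⟩ := D.exists_zj hX
  obtain ⟨S, hS⟩ := hPp.exists_le_sylow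
  refine ⟨S, ?_⟩
  have hSP : (S : Subgroup G) = P := by
    refine le_antisymm ?_ hS
    by_contra hne
    have hgrow := Transitivity.normalizer_grows S.isPGroup' (lt_of_le_not_ge hS hne)
    have h1 := hmax (normalizer (P : Set G) ⊓ S) ⟨S.isPGroup'.to_le inf_le_right, _, hgood,
      inf_le_left.trans (normalizer_le_normalizer_zj 0 P)⟩
    have h2 := hcard Q hQX hQ
    omega
  rwa [hSP]

/-- A torus element of a primitive prime order, and the field part. -/
structure Torus (s : ℕ) (A : Type*) [CommGroup A] where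
  /-- the torus element -/
  y : G
  /-- the torus -/
  T : Subgroup G
  /-- the field part -/
  φ : centralizer ({t} : Set G) →* A
  y_mem : y ∈ D.K
  orderOf_y : orderOf y = s
  cyclic : IsCyclic T
  cent : ∀ x ∈ D.K, Commute x y → x ∈ T
  good : ∀ z : G, orderOf z = s → Commute z y → t * z * t = z⁻¹ → False
  ker : ∀ M : Subgroup G, M ≤ D.K → y ∈ normalizer (M : Set G) → (Nat.card M).Coprime s →
    ∀ x (hx : x ∈ centralizer ({t} : Set G)), x ∈ M → φ ⟨x, hx⟩ = 1
  nontriv : ∃ x, ∃ hx : x ∈ D.K, φ ⟨x, D.K_le hx⟩ ≠ 1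

/-- The normaliser of `Z(J(P))` maps onto the field part. -/
theorem exists_hom {s : ℕ} [Fact s.Prime] (hs : s ≠ 2) {A : Type*} [CommGroup A] (T : D.Torus s A) :
    ∃ P : Sylow 3 G, ∃ ψ : normalizer (zj 0 (P : Subgroup G) : Set G) →* A, ψ ≠ 1 := by
  obtain ⟨P, hP⟩ := D.exists_sylow
  refine ⟨P, ?_⟩
  set N := normalizer (zj 0 (P : Subgroup G) : Set G) with hN
  obtain ⟨O, hON, hOodd, hOn, hO2, hOmem⟩ := D.exists_odd hP
  haveI hsol : Group.IsSolvable O := CfsgLib.PF.oddSolvable _ hOodd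
  have ht := D.t_sq
  have htO : t ∈ normalizer (O : Set G) := hOn hP.2.1
  have hKO : D.K ≤ O := fun k hk =>
    hOmem k (hP.1 hk) (D.K_odd.of_dvd_nat (Subgroup.orderOf_dvd_natCard _ hk))
  have hOK : ∀ x ∈ O, Commute x t → x ∈ D.K := by
    intro x hx hxt
    refine (D.inter hP (hON hx) hxt).resolve_right fun h => D.t_notMem hOodd ?_
    have := mul_mem (hKO h) (inv_mem hx)
    rwa [mul_inv_cancel_right] at this
  have hcop : (Nat.card (zpowers t)).Coprime (Nat.card O) := by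
    rw [Nat.card_zpowers, D.orderOf_t]; exact Nat.coprime_two_left.2 hOodd
  have hyt : Commute T.y t := D.commute_K T.y_mem
  obtain ⟨S, hyS, htS⟩ := CfsgLib.Coprime.exists_invariant_sylow_ge (zpowers t) O (zpowers_le.2 htO) hcop
    (Or.inr hsol) s (zpowers T.y) (zpowers_le.2 (hKO T.y_mem))
    (IsPGroup.of_card (n := 1) (by rw [Nat.card_zpowers, T.orderOf_y, pow_one]))
    (zpowers_le.2 (by
      refine centralizer_le_normalizer _ (mem_centralizer_iff.2 ?_)
      rintro _ ⟨k, rfl⟩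
      exact (hyt.zpow_left k).eq))
  set Ps := (S : Subgroup O).map O.subtype with hPs
  have hPsp : IsPGroup s Ps := S.isPGroup'.map _
  have hPsO : Ps ≤ O := map_subtype_le _
  have hPst : ∀ x ∈ Ps, t * x * t ∈ Ps := by
    intro x hx
    have := (mem_normalizer_iff.1 (htS (mem_zpowers t)) x).1 hx
    rwa [D.t_inv] at this
  -- nothing of `s`-power order inverted by `t` commutes with `y`
  have hgood : ∀ w ∈ Ps, Commute w T.y → t * w * t = w⁻¹ → w = 1 := by
    intro w hw hwy hwt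
    by_contra hw1
    obtain ⟨k, hk⟩ := IsPGroup.iff_orderOf.1 hPsp ⟨w, hw⟩
    rw [Subgroup.orderOf_mk] at hk
    obtain _ | k := k
    · exact hw1 (orderOf_eq_one_iff.1 hk)
    refine T.good (w ^ s ^ k) ?_ (hwy.pow_left _) ?_
    · rw [orderOf_pow' w (pow_ne_zero _ (Fact.out : s.Prime).ne_zero), hk,
        Nat.gcd_eq_right (pow_dvd_pow s k.le_succ), pow_succ,
        Nat.mul_div_cancel_left _ (pow_pos (Fact.out : s.Prime).pos k)]
    · have h4 : t * w ^ s ^ k * t = (t * w * t⁻¹) ^ s ^ k := by rw [conj_pow, D.t_inv]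
      rw [h4, D.t_inv, hwt, inv_pow]
  have hcy : ∀ x ∈ Ps, Commute x T.y → Commute x t := by
    intro x hx hxy
    have hw := hgood (x⁻¹ * (t * x * t)) (mul_mem (inv_mem hx) (hPst x hx))
      (hxy.inv_left.mul_left ((hyt.symm.mul_left hxy).mul_left hyt.symm)) (by
        rw [show (x⁻¹ * (t * x * t))⁻¹ = t⁻¹ * x⁻¹ * t⁻¹ * x by group, D.t_inv,
          show t * (x⁻¹ * (t * x * t)) * t = t * x⁻¹ * t * x * (t * t) by group, ht, mul_one])
    have h3 : t * x * t = x := (inv_mul_eq_one.1 hw).symm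
    calc x * t = t * x * t * t := by rw [h3]
      _ = t * x := by rw [mul_assoc, ht, mul_one]
  -- `y` is central in `Ps`, so `t` centralises `Ps`
  have hyPs : T.y ∈ Ps := hyS (mem_zpowers _)
  have hPst' : ∀ x ∈ Ps, Commute x t := by
    have hyc : ∀ x ∈ Ps, Commute x T.y := by
      haveI : Nontrivial Ps := (nontrivial_iff_ne_bot _).2 fun h => by
        rw [h, mem_bot] at hyPs
        have := T.orderOf_y
        rw [hyPs, orderOf_one] at this
        exact (Fact.out : s.Prime).one_lt.ne this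
      haveI := hPsp.center_nontrivial
      obtain ⟨z, hz⟩ := exists_prime_orderOf_dvd_card' (G := center Ps) s (by
        obtain ⟨n, hn, hc⟩ := (hPsp.to_subgroup (center Ps)).nontrivial_iff_card.1 inferInstance
        rw [hc]; exact dvd_pow_self s hn.ne')
      have hzy : Commute (((z : Ps)) : G) T.y :=
        (congrArg Subtype.val (mem_center_iff.1 z.2 ⟨_, hyPs⟩)).symm
      have hzK : ((z : Ps) : G) ∈ D.K := hOK _ (hPsO (z : Ps).2) (hcy _ (z : Ps).2 hzy)
      have hzo : orderOf ((z : Ps) : G) = s := by rw [Subgroup.orderOf_coe, Subgroup.orderOf_coe, hz]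
      haveI := T.cyclic
      have hyz : T.y ∈ zpowers ((z : Ps) : G) := by
        set a : T.T := ⟨_, T.cent _ hzK hzy⟩ with ha
        set b : T.T := ⟨T.y, T.cent _ T.y_mem (Commute.refl _)⟩ with hb
        obtain ⟨i, hi⟩ := mem_zpowers_iff.1 (CfsgLib.PGUThree.mem_zpowers_of_orderOf_dvd (x := b) (y := a) (by
          rw [ha, hb, Subgroup.orderOf_mk, Subgroup.orderOf_mk, T.orderOf_y, hzo]))
        exact mem_zpowers_iff.2 ⟨i, by simpa [ha, hb] using congrArg Subtype.val hi⟩
      intro x hx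
      obtain ⟨i, hi⟩ := mem_zpowers_iff.1 hyz
      rw [← hi]
      exact Commute.zpow_right (congrArg Subtype.val (mem_center_iff.1 z.2 ⟨x, hx⟩)) i
    exact fun x hx => hcy x hx (hyc x hx)
  -- `O = M₁ C_O(t)`
  set M₁ := oPrime s O with hM₁
  set q := QuotientGroup.mk' (Cfsg.pPrimeCore s O) with hq
  have hcore : ∀ m : O, q m = 1 ↔ (m : G) ∈ M₁ := fun m => by
    rw [hq, QuotientGroup.mk'_apply, QuotientGroup.eq_one_iff, hM₁, oPrime]
    exact ⟨fun h => ⟨m, h, rfl⟩, fun ⟨m', h, e⟩ => by rwa [← Subtype.ext e]⟩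
  have hM₁t : ∀ m ∈ M₁, t * m * t ∈ M₁ := fun m hm => by
    have := conj_mem_oPrime htO hm
    rwa [D.t_inv] at this
  have hTO : ∀ x ∈ O, t * x * t ∈ O := fun x hx => by
    have := (mem_normalizer_iff.1 htO x).1 hx
    rwa [D.t_inv] at this
  have hdec : ∀ x ∈ O, ∃ c ∈ D.K, x⁻¹ * c ∈ M₁ := by
    intro x hx
    set w : O := ⟨x⁻¹ * (t * x * t), mul_mem (inv_mem hx) (hTO x hx)⟩ with hw
    set Q := Cfsg.pCore s (O ⧸ Cfsg.pPrimeCore s O) with hQ
    have hQS : Q ≤ (S : Subgroup O).map q := by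
      have := CfsgLib.PCore.pCore_le_sylow (S.mapSurjective (QuotientGroup.mk'_surjective (Cfsg.pPrimeCore s O)))
      rwa [Sylow.coe_mapSurjective] at this
    have hwc : q w ∈ centralizer (Q : Set (O ⧸ Cfsg.pPrimeCore s O)) := by
      refine mem_centralizer_iff.2 fun r hr => ?_
      obtain ⟨e, he, rfl⟩ := hQS hr
      obtain ⟨e', he', hee⟩ := hQS ((Cfsg.pCore_normal s (O ⧸ Cfsg.pPrimeCore s O)).conj_mem _ hr
        (q ⟨x, hx⟩))
      have hm : q (e'⁻¹ * (⟨x, hx⟩ * e * ⟨x, hx⟩⁻¹)) = 1 := by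
        rw [map_mul, map_inv, hee, map_mul, map_mul, map_inv, inv_mul_cancel]
      have het : Commute (e : G) t := hPst' e ⟨e, he, rfl⟩
      have he't : Commute (e' : G) t := hPst' e' ⟨e', he', rfl⟩
      set x' : O := ⟨t * x * t, hTO x hx⟩ with hx'
      have hm' : q (e'⁻¹ * (x' * e * x'⁻¹)) = 1 := by
        rw [hcore]
        have h1 := hM₁t _ ((hcore _).1 hm)
        have h2 : t * (((e'⁻¹ * (⟨x, hx⟩ * e * ⟨x, hx⟩⁻¹)) : O) : G) * t =
            (((e'⁻¹ * (x' * e * x'⁻¹)) : O) : G) := by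
          simp only [Subgroup.coe_mul, InvMemClass.coe_inv, hx', _root_.mul_inv_rev, D.t_inv]
          have a1 : t * (e' : G)⁻¹ = (e' : G)⁻¹ * t := he't.inv_left.eq.symm
          have a2 : (e : G) = t * (e : G) * t := by
            rw [mul_assoc, het.eq, ← mul_assoc, ht, one_mul]
          calc t * ((e' : G)⁻¹ * (x * e * x⁻¹)) * t = (t * (e' : G)⁻¹) * (x * e * x⁻¹) * t := by group
            _ = (e' : G)⁻¹ * t * (x * (t * e * t) * x⁻¹) * t := by rw [a1, ← a2]
            _ = _ := by group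
        rwa [h2] at h1
      rw [map_mul, map_inv, inv_mul_eq_one, map_mul, map_mul, map_inv] at hm hm'
      have h3 : q ⟨x, hx⟩ * q e * (q ⟨x, hx⟩)⁻¹ = q x' * q e * (q x')⁻¹ := hm.symm.trans hm'
      have hwx : q w = (q ⟨x, hx⟩)⁻¹ * q x' := by
        rw [← map_inv, ← map_mul]
        exact congrArg q (Subtype.ext rfl)
      rw [hwx]
      calc q e * ((q ⟨x, hx⟩)⁻¹ * q x') = (q ⟨x, hx⟩)⁻¹ * (q ⟨x, hx⟩ * q e * (q ⟨x, hx⟩)⁻¹) * q x' := by
            group
        _ = (q ⟨x, hx⟩)⁻¹ * (q x' * q e * (q x')⁻¹) * q x' := by rw [h3]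
        _ = (q ⟨x, hx⟩)⁻¹ * q x' * q e := by group
    obtain ⟨e, he, hwe⟩ := hQS (CfsgLib.InvChar.centralizer_pCore_le
      CfsgLib.PCore.pPrimeCore_quotient_pPrimeCore hwc)
    have het : Commute (e : G) t := hPst' e ⟨e, he, rfl⟩
    have hwM : (w : G) ∈ M₁ := by
      have hew : (e : G)⁻¹ * w ∈ M₁ := (hcore (e⁻¹ * w)).1 (by rw [map_mul, map_inv, hwe, inv_mul_cancel])
      have hwt : t * (w : G) * t = (w : G)⁻¹ := by
        show t * (x⁻¹ * (t * x * t)) * t = (x⁻¹ * (t * x * t))⁻¹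
        rw [show (x⁻¹ * (t * x * t))⁻¹ = t⁻¹ * x⁻¹ * t⁻¹ * x by group, D.t_inv,
          show t * (x⁻¹ * (t * x * t)) * t = t * x⁻¹ * t * x * (t * t) by group, ht, mul_one]
      have h1 : (e : G)⁻¹ * (w : G)⁻¹ ∈ M₁ := by
        have h := hM₁t _ hew
        rwa [show t * ((e : G)⁻¹ * w) * t = (e : G)⁻¹ * (t * w * t) by
          rw [← mul_assoc t, het.inv_left.eq.symm]; group, hwt] at h
      have h2 : q e * q e = 1 := by
        have h := (hcore (e⁻¹ * w⁻¹)).2 h1
        rw [map_mul, map_inv, map_inv, ← hwe] at h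
        rw [← inv_inj, _root_.mul_inv_rev, inv_one, h]
      have he1 : q e = 1 := by
        have hodd : Odd (orderOf e) := hOodd.of_dvd_nat (orderOf_dvd_natCard e)
        refine orderOf_eq_one_iff.1 (Nat.eq_one_of_dvd_coprimes (Nat.coprime_two_left.2 hodd)
          (orderOf_dvd_of_pow_eq_one (by rw [pow_two, h2])) (orderOf_map_dvd q e))
      exact (hcore w).1 (hwe.symm.trans he1)
    obtain ⟨r, hr, hrc⟩ := exists_fixed_mul ht (hOodd.of_dvd_nat (card_dvd_of_le (oPrime_le O)))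
      hwM (show t * x * t = x * w by show _ = x * (x⁻¹ * (t * x * t)); rw [mul_inv_cancel_left])
    refine ⟨x * r, hOK _ (mul_mem hx (oPrime_le O hr)) hrc, ?_⟩
    rwa [inv_mul_cancel_left]
  -- the homomorphism
  set C := (centralizer ({t} : Set G)).subgroupOf N with hC
  haveI : (M₁.subgroupOf N).Normal := (normal_subgroupOf_iff_le_normalizer
    ((oPrime_le O).trans hON)).2 fun g hg => Subgroup.mem_normalizer_fintype fun m hm =>
      conj_mem_oPrime (hOn hg) hm
  set f : C →* N ⧸ M₁.subgroupOf N := (QuotientGroup.mk' _).comp C.subtype with hf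
  have hfs : Function.Surjective f := by
    intro g
    obtain ⟨⟨x, hx⟩, rfl⟩ := QuotientGroup.mk'_surjective _ g
    have htC : (⟨t, hP.2.1⟩ : N) ∈ C := mem_subgroupOf.2 (mem_centralizer_singleton_iff.2 rfl)
    rcases hO2 x hx with h | h
    · obtain ⟨c, hc, hxc⟩ := hdec x h
      refine ⟨⟨⟨c, hP.1 hc⟩, mem_subgroupOf.2 (D.K_le hc)⟩, ?_⟩
      show QuotientGroup.mk' _ _ = QuotientGroup.mk' _ _
      rw [QuotientGroup.mk'_apply, QuotientGroup.mk'_apply, QuotientGroup.eq, mem_subgroupOf]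
      have := inv_mem hxc
      simpa [_root_.mul_inv_rev] using this
    · obtain ⟨c, hc, hxc⟩ := hdec (t * x) h
      refine ⟨⟨⟨t, hP.2.1⟩, htC⟩ * ⟨⟨c, hP.1 hc⟩, mem_subgroupOf.2 (D.K_le hc)⟩, ?_⟩
      show QuotientGroup.mk' _ _ = QuotientGroup.mk' _ _
      rw [QuotientGroup.mk'_apply, QuotientGroup.mk'_apply, QuotientGroup.eq, mem_subgroupOf]
      have h2 : (t * c)⁻¹ * x = ((t * x)⁻¹ * c)⁻¹ := by
        rw [_root_.mul_inv_rev, _root_.mul_inv_rev, D.t_inv, inv_inv]; group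
      show (t * c)⁻¹ * x ∈ M₁
      rw [h2]
      exact inv_mem hxc
  let φ' : C →* A := T.φ.comp ((N.subtype.comp C.subtype).codRestrict _ fun x => mem_subgroupOf.1 x.2)
  have hker : f.ker ≤ φ'.ker := by
    rintro ⟨⟨x, hxN⟩, hx⟩ hk
    rw [MonoidHom.mem_ker, hf] at hk
    have hxM : x ∈ M₁ := mem_subgroupOf.1 ((QuotientGroup.eq_one_iff _).1 hk)
    have hxt : x ∈ centralizer ({t} : Set G) := mem_subgroupOf.1 hx
    have hxK : x ∈ D.K := hOK x (oPrime_le O hxM) (mem_centralizer_singleton_iff.1 hxt)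
    rw [MonoidHom.mem_ker]
    refine T.ker (M₁ ⊓ D.K) inf_le_right ?_ ?_ x hxt ⟨hxM, hxK⟩
    · refine Subgroup.mem_normalizer_fintype fun m hm => mem_inf.2 ⟨?_, ?_⟩
      · exact conj_mem_oPrime (hOn (hP.1 T.y_mem)) hm.1
      · exact mul_mem (mul_mem T.y_mem hm.2) (inv_mem T.y_mem)
    · exact Nat.Coprime.coprime_dvd_left (card_dvd_of_le inf_le_left) (oPrime_coprime O)
  let χ : (N ⧸ M₁.subgroupOf N) →* A := f.liftOfSurjective hfs ⟨φ', hker⟩
  refine ⟨χ.comp (QuotientGroup.mk' _), fun h => ?_⟩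
  obtain ⟨x, hx, hne⟩ := T.nontriv
  have h1 := DFunLike.congr_fun h ⟨x, hP.1 hx⟩
  have h2 : χ (f ⟨⟨x, hP.1 hx⟩, mem_subgroupOf.2 (D.K_le hx)⟩) =
      φ' ⟨⟨x, hP.1 hx⟩, mem_subgroupOf.2 (D.K_le hx)⟩ :=
    MonoidHom.liftOfRightInverse_comp_apply f _ _ ⟨φ', hker⟩ _
  refine hne ?_
  exact h2.symm.trans h1

end Datum

end CfsgLib.Walter.Twist.Borel
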