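import Cfsg.Agent.Lib.Walter.Twist.FixedBasic
import Cfsg.Agent.Lib.ReeOrder.Local.Characteristic
import Cfsg.Agent.Lib.Walter.Twist.BorelLocal

/-!
Walter, rank three, piece B: the Borel subgroup `⟨t⟩ × UTΓ` in the coordinates of a frame.
-/

set_option autoImplicit false
set_option linter.unusedSectionVars false
set_option linter.style.haveILetI false

namespace CfsgLib.Walter.Twist.Borel

open Subgroup Matrix CfsgLib.AutPSL CfsgLib.ReeOrder CfsgLib.SL2Tori CfsgLib.Walter.Twist.FixedT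
open CfsgLib.ReeType (prj prj_eq_one prj_surjective)

universe u

section Matrices

variable {F : Type} [Field F] [Fintype F] [DecidableEq F]

local notation "SL2" => Matrix.SpecialLinearGroup (Fin 2) F
local notation "M2" => Matrix (Fin 2) (Fin 2) F
local notation "PSL2" => Matrix.ProjectiveSpecialLinearGroup (Fin 2) F

/-- The class of `[[a, b], [0, 1/a]]`. -/
def bm (a : Fˣ) (b : F) : PSL2 := prj (bEl a b : SL2)

theorem bm_trans (b : F) : bm (1 : Fˣ) b = Char96.trans (Multiplicative.ofAdd b) := rfl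

theorem bm_zero (a : Fˣ) : bm a (0 : F) = Char96.diagHom a := rfl

theorem bm_one : bm (1 : Fˣ) (0 : F) = 1 := by rw [bm_zero, map_one]

theorem bm_mul (a a' : Fˣ) (b b' : F) :
    bm a b * bm a' b' = bm (a * a') ((a : F) * b' + b * ((a'⁻¹ : Fˣ) : F)) := by
  rw [bm, bm, bm, ← map_mul]
  refine congrArg prj (Subtype.ext ?_)
  rw [Matrix.SpecialLinearGroup.coe_mul, bEl_coe, bEl_coe, bEl_coe]
  ext i j
  fin_cases i <;> fin_cases j <;> simp [mul_comm]

theorem bm_inv (a : Fˣ) (b : F) : (bm a b)⁻¹ = bm a⁻¹ (-b) := by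
  refine inv_eq_of_mul_eq_one_right ?_
  rw [bm_mul, mul_inv_cancel, inv_inv, ← bm_one]
  congr 1
  ring

theorem bm_eq_one {a : Fˣ} {b : F} (h : bm a b = 1) : (a = 1 ∨ a = -1) ∧ b = 0 := by
  rcases prj_eq_one.1 h with e | e
  · have h0 := congrArg (fun g : SL2 => (g : M2) 0 0) e
    have h1 := congrArg (fun g : SL2 => (g : M2) 0 1) e
    simp at h0 h1
    exact ⟨Or.inl h0, h1⟩
  · have h0 := congrArg (fun g : SL2 => (g : M2) 0 0) e
    have h1 := congrArg (fun g : SL2 => (g : M2) 0 1) e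
    simp at h0 h1
    exact ⟨Or.inr (Units.ext (by simpa using h0)), h1⟩

theorem bm_inj {a a' : Fˣ} {b b' : F} (h : bm a b = bm a' b') :
    (a = a' ∧ b = b') ∨ (a = -a' ∧ b = -b') := by
  have h1 : bm (a⁻¹ * a') (((a⁻¹ : Fˣ) : F) * b' + -b * ((a'⁻¹ : Fˣ) : F)) = 1 := by
    rw [← bm_mul, ← bm_inv, h, inv_mul_cancel]
  obtain ⟨ha, hb⟩ := bm_eq_one h1
  rcases ha with e | e
  · have e' : a' = a := by rw [← mul_inv_cancel_left a a', e, mul_one]
    subst e'
    refine Or.inl ⟨rfl, ?_⟩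
    have hne : ((a'⁻¹ : Fˣ) : F) ≠ 0 := (a'⁻¹).ne_zero
    have : ((a'⁻¹ : Fˣ) : F) * (b' - b) = 0 := by linear_combination hb
    exact (sub_eq_zero.1 ((mul_eq_zero.1 this).resolve_left hne)).symm
  · have e' : a' = -a := by rw [← mul_inv_cancel_left a a', e, mul_neg_one]
    subst e'
    refine Or.inr ⟨(neg_neg a).symm, ?_⟩
    have hne : ((a⁻¹ : Fˣ) : F) ≠ 0 := (a⁻¹).ne_zero
    have : ((a⁻¹ : Fˣ) : F) * (b' + b) = 0 := by
      simp only [Units.val_inv_eq_inv_val, Units.val_neg, inv_neg] at hb ⊢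
      linear_combination hb
    exact eq_neg_of_add_eq_zero_right ((mul_eq_zero.1 this).resolve_left hne)

theorem bm_pow (a : Fˣ) (b : F) (n : ℕ) : ∃ b', bm a b ^ n = bm (a ^ n) b' := by
  induction n with
  | zero => exact ⟨0, by rw [pow_zero, pow_zero, bm_one]⟩
  | succ n ih =>
    obtain ⟨b', hb'⟩ := ih
    exact ⟨_, by rw [pow_succ, hb', bm_mul, ← pow_succ]⟩

theorem bm_cube [CharP F 3] {a : Fˣ} (b : F) (ha : a = 1 ∨ a = -1) : bm a b ^ 3 = 1 := by
  rw [bm, ← map_pow, prj_eq_one]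
  exact CfsgLib.ReeType.bEl_pow_three ha b

theorem bm_conj (a : Fˣ) (b e : F) : bm a b * bm 1 e * (bm a b)⁻¹ = bm 1 ((a : F) * a * e) := by
  rw [mul_inv_eq_iff_eq_mul, bm_mul, bm_mul, mul_one, one_mul]
  congr 1
  simp only [inv_one, Units.val_one, Units.val_inv_eq_inv_val, mul_one, one_mul]
  field_simp
  ring

theorem fieldAut_bm (σ : F ≃+* F) (a : Fˣ) (b : F) :
    fieldAut σ (bm a b) = bm (Units.map (σ : F →* F) a) (σ b) := by
  show fieldAut σ (QuotientGroup.mk (bEl a b : SL2)) = QuotientGroup.mk _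
  rw [fieldAut_mk]
  refine congrArg _ (Subtype.ext ?_)
  rw [slField_coe, bEl_coe, bEl_coe]
  ext i j
  fin_cases i <;> fin_cases j <;> simp

theorem exists_bm {g : SL2} (h : (g : M2) 1 0 = 0) : ∃ a b, prj g = bm a b := by
  obtain ⟨⟨a, b⟩, hab⟩ := bEl_bijective.2 (⟨g, mem_borel.2 h⟩ : borel F)
  exact ⟨a, b, congrArg prj (congrArg Subtype.val hab).symm⟩

theorem bruhat {A B : SL2} (hA : (A : M2) 1 0 ≠ 0) (hB : (B : M2) 1 0 ≠ 0) :
    ∃ (a : Fˣ) (b b' : F), prj B = bm a b * prj A * bm 1 b' := by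
  set c : Fˣ := Units.mk0 _ hA * (Units.mk0 _ hB)⁻¹ with hc
  refine ⟨c, ((B : M2) 0 0 - c * (A : M2) 0 0) / (A : M2) 1 0,
    ((B : M2) 1 1 - (A : M2) 1 1 * (B : M2) 1 0 / (A : M2) 1 0) / (B : M2) 1 0, ?_⟩
  rw [bm, bm, ← map_mul, ← map_mul]
  refine congrArg prj (Subtype.ext ?_)
  have hdA := A.2
  have hdB := B.2
  rw [Matrix.det_fin_two] at hdA hdB
  rw [Matrix.SpecialLinearGroup.coe_mul, Matrix.SpecialLinearGroup.coe_mul, bEl_coe, bEl_coe]
  rw [Matrix.eta_fin_two (A : M2), Matrix.eta_fin_two (B : M2), Matrix.mul_fin_two, Matrix.mul_fin_two]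
  ext i j
  fin_cases i <;> fin_cases j <;>
    simp [hc, Units.val_inv_eq_inv_val] <;> field_simp
  all_goals first
    | ring1
    | linear_combination ((A : M2) 1 0 * (B : M2) 1 0) * hdA - ((A : M2) 1 0 * (B : M2) 1 0) * hdB
    | linear_combination ((A : M2) 1 0 * (B : M2) 1 0) * hdB - ((A : M2) 1 0 * (B : M2) 1 0) * hdA
    | linear_combination ((A : M2) 1 0) * hdB - ((B : M2) 1 0) * hdA
    | linear_combination ((B : M2) 1 0) * hdA - ((A : M2) 1 0) * hdB

end Matrices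

variable {G : Type u} [Group G] [Finite G] {E : Setup G} (R : Frame E)

local notation "PSLF" => ProjectiveSpecialLinearGroup (Fin 2) R.F

/-- A field automorphism on units. -/
def fu (σ : R.Γ) : R.Fˣ →* R.Fˣ := Units.map ((σ : R.F ≃+* R.F) : R.F →* R.F)

theorem fu_val (σ : R.Γ) (a : R.Fˣ) : ((fu R σ a : R.Fˣ) : R.F) = (σ : R.F ≃+* R.F) a := rfl

theorem fieldAut_bm' (σ : R.Γ) (a : R.Fˣ) (b : R.F) :
    fieldAut (σ : R.F ≃+* R.F) (bm a b) = bm (fu R σ a) ((σ : R.F ≃+* R.F) b) := fieldAut_bm _ a b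

/-- The odd part `UTΓ` of the Borel subgroup. -/
def bor : Subgroup G where
  carrier := {g | ∃ a b σ, g = R.psl (bm a b) * R.fld σ}
  one_mem' := ⟨1, 0, 1, by rw [bm_one, map_one, map_one, one_mul]⟩
  mul_mem' := by
    rintro _ _ ⟨a, b, σ, rfl⟩ ⟨a', b', τ, rfl⟩
    exact ⟨_, _, σ * τ, by rw [comb_mul, fieldAut_bm', bm_mul]⟩
  inv_mem' := by
    rintro _ ⟨a, b, σ, rfl⟩
    refine ⟨fu R σ⁻¹ a⁻¹, ((σ⁻¹ : R.Γ) : R.F ≃+* R.F) (-b), σ⁻¹, ?_⟩
    rw [← fieldAut_bm', ← bm_inv, ← psl_fld, _root_.mul_inv_rev, map_inv, map_inv]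

theorem fld_mem_bor (σ : R.Γ) : R.fld σ ∈ bor R :=
  ⟨1, 0, σ, by rw [bm_one, map_one, one_mul]⟩

theorem psl_bm_mem_bor (a : R.Fˣ) (b : R.F) : R.psl (bm a b) ∈ bor R :=
  ⟨a, b, 1, by rw [map_one, mul_one]⟩

theorem conj_unip (a : R.Fˣ) (b e : R.F) (σ : R.Γ) :
    R.psl (bm a b) * R.fld σ * R.psl (bm 1 e) * (R.psl (bm a b) * R.fld σ)⁻¹ =
      R.psl (bm 1 ((a : R.F) * a * (σ : R.F ≃+* R.F) e)) := by
  rw [mul_assoc (R.psl _), psl_fld, fieldAut_bm', map_one, ← bm_conj a b, map_mul, map_mul, map_inv]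
  group

theorem bor_le : bor R ≤ centralizer ({E.t} : Set G) := by
  rintro _ ⟨a, b, σ, rfl⟩
  exact mul_mem (R.psl_mem _) (R.fld_mem σ)

section CharThree

variable [CharP R.F 3]

theorem bor_odd : Odd (Nat.card (bor R)) := by
  haveI : Fact (Nat.Prime 2) := ⟨Nat.prime_two⟩
  rw [← Nat.not_even_iff_odd, even_iff_two_dvd]
  intro h
  obtain ⟨⟨g, a, b, σ, rfl⟩, hg⟩ := exists_prime_orderOf_dvd_card' 2 h
  rw [← Subgroup.orderOf_coe] at hg
  replace hg : orderOf (R.psl (bm a b) * R.fld σ) = 2 := hg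
  have hg2 := pow_orderOf_eq_one (R.psl (bm a b) * R.fld σ)
  rw [hg, pow_two, comb_mul] at hg2
  have hσ := sigma_eq_one R (R.eq_one _ _ hg2).2
  subst hσ
  have hx2 := (R.eq_one _ _ hg2).1
  simp only [OneMemClass.coe_one, map_one, MulAut.one_apply, bm_mul] at hx2
  obtain ⟨ha, -⟩ := bm_eq_one hx2
  have hsq : ¬ IsSquare (-1 : R.F) := by
    rw [FiniteField.isSquare_neg_one_iff]
    have := (q_mod_three R).1
    omega
  have ha1 : a = 1 ∨ a = -1 := by
    rcases ha with e | e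
    · rcases sq_eq_one_iff.1 (show (a : R.F) ^ 2 = 1 by rw [pow_two, ← Units.val_mul, e, Units.val_one])
        with e' | e'
      · exact Or.inl (Units.ext e')
      · exact Or.inr (Units.ext (by simpa using e'))
    · exact absurd ⟨(a : R.F), by rw [← Units.val_mul, e]; simp⟩ hsq
  have h3 : (R.psl (bm a b) * R.fld 1) ^ 3 = 1 := by
    rw [map_one, mul_one, ← map_pow, bm_cube b ha1, map_one]
  have := orderOf_dvd_of_pow_eq_one h3
  rw [hg] at this
  omega

/-- The Borel datum of a frame. -/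
theorem exists_datum (hloc : Local E) : ∃ D : Datum E.t, D.K = bor R := by
  haveI : Fact (Nat.Prime 3) := ⟨Nat.prime_three⟩
  haveI : Fact (Nat.Prime 2) := ⟨Nat.prime_two⟩
  obtain ⟨hq3, hq11⟩ := q_mod_three R
  have h2 := psl_two_ne R
  obtain ⟨-, -, x₁, -, -, -, -, -, ho₁, -⟩ := exists_S_pair R
  haveI : IsSimpleGroup PSLF := Matrix.ProjectiveSpecialLinearGroup.rank_two_simple (by
    rw [Nat.card_eq_fintype_card]; omega)
  let U : Subgroup G := (R.psl.comp (Char96.trans : Multiplicative R.F →* PSLF)).range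
  have hU : ∀ e, R.psl (bm 1 e) ∈ U := fun e => ⟨Multiplicative.ofAdd e, rfl⟩
  have hU' : ∀ g ∈ U, ∃ e, g = R.psl (bm 1 e) := by
    rintro _ ⟨e, rfl⟩; exact ⟨Multiplicative.toAdd e, rfl⟩
  have hUne : U ≠ ⊥ := by
    intro h
    have h1 : R.psl (bm 1 1) = 1 := mem_bot.1 (h ▸ hU 1)
    exact one_ne_zero (bm_eq_one (R.psl_inj (h1.trans (map_one R.psl).symm))).2
  have hUp : IsPGroup 3 U := by
    rintro ⟨g, hg⟩
    obtain ⟨e, rfl⟩ := hU' g hg
    refine ⟨1, Subtype.ext ?_⟩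
    rw [pow_one, SubmonoidClass.coe_pow, ← map_pow, bm_cube e (Or.inl rfl), map_one]
    rfl
  have hUK : U ≤ bor R := by
    intro g hg
    obtain ⟨e, rfl⟩ := hU' g hg
    exact psl_bm_mem_bor R 1 e
  have hodd3 : ∀ {x : G}, IsPGroup 3 (zpowers x) → ∃ k, orderOf x = 3 ^ k := fun {x} hx => by
    obtain ⟨k, hk⟩ := IsPGroup.iff_orderOf.1 hx ⟨x, mem_zpowers x⟩
    exact ⟨k, by rwa [Subgroup.orderOf_mk] at hk⟩
  refine ⟨{
    K := bor R
    U := U
    L := R.psl.range
    i := R.psl x₁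
    orderOf_t := E.orderOf_t
    K_le := bor_le R
    K_odd := bor_odd R
    U_le := hUK
    U_ne := hUne
    U_p := hUp
    U_norm := ?_
    L_le := ?_
    i_mem := ⟨x₁, rfl⟩
    orderOf_i := by rw [orderOf_psl, ho₁]
    i_ne := fun e => R.ne_t x₁ 1 (by rw [map_one, mul_one, e])
    up := ?_
    L_free := ?_
    K_free := ?_
    noInv := ?_
    two_comm := ?_ }, rfl⟩
  · rintro _ ⟨a, b, σ, rfl⟩
    refine Subgroup.mem_normalizer_fintype fun g hg => ?_
    obtain ⟨e, rfl⟩ := hU' g hg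
    rw [conj_unip]
    exact hU _
  · rintro _ ⟨x, rfl⟩; exact R.psl_mem x
  · -- the Borel subgroup is maximal
    intro D hKD htD hDH
    by_cases h : ∀ x ∈ D, x ∈ bor R ∨ E.t * x ∈ bor R
    · exact Or.inl h
    refine Or.inr ?_
    push Not at h
    obtain ⟨x, hxD, hxK, htxK⟩ := h
    obtain ⟨g, σ, hx⟩ := R.exists_eq x (hDH hxD)
    have hgσ : R.psl g * R.fld σ ∈ D := by
      rcases hx with rfl | rfl
      · exact hxD
      · have := mul_mem htD hxD
        rwa [← mul_assoc, t_sq, one_mul] at this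
    have hgD : R.psl g ∈ D := by
      have := mul_mem hgσ (inv_mem (hKD (fld_mem_bor R σ)))
      rwa [mul_inv_cancel_right] at this
    obtain ⟨A, rfl⟩ := prj_surjective g
    have hA : (A : Matrix (Fin 2) (Fin 2) R.F) 1 0 ≠ 0 := by
      intro h0
      obtain ⟨a, b, hab⟩ := exists_bm h0
      rw [hab] at hx
      rcases hx with rfl | rfl
      · exact hxK ⟨a, b, σ, rfl⟩
      · refine htxK ?_
        rw [← mul_assoc, t_sq, one_mul]
        exact ⟨a, b, σ, rfl⟩
    rintro _ ⟨y, rfl⟩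
    obtain ⟨B, rfl⟩ := prj_surjective y
    by_cases hB : (B : Matrix (Fin 2) (Fin 2) R.F) 1 0 = 0
    · obtain ⟨a, b, hab⟩ := exists_bm hB
      rw [hab]
      exact hKD (psl_bm_mem_bor R a b)
    · obtain ⟨a, b, b', hab⟩ := bruhat hA hB
      rw [hab, map_mul, map_mul]
      exact mul_mem (mul_mem (hKD (psl_bm_mem_bor R a b)) hgD) (hKD (psl_bm_mem_bor R 1 b'))
  · -- no `3`-subgroup is normalised by the simple part
    intro D hDH hD hLD hKD
    have hint : ∀ z, R.psl z ∈ D → z = 1 := by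
      haveI hn : (D.comap R.psl).Normal := ⟨fun z hz w => by
        show R.psl (w * z * w⁻¹) ∈ D
        rw [map_mul, map_mul, map_inv]
        exact (mem_normalizer_iff.1 (hLD ⟨w, rfl⟩) _).1 hz⟩
      rcases IsSimpleGroup.eq_bot_or_eq_top_of_normal _ hn with h | h
      · exact fun z hz => mem_bot.1 (h ▸ (show z ∈ D.comap R.psl from hz))
      · exfalso
        have hx₁ : x₁ ∈ D.comap R.psl := h ▸ mem_top x₁
        obtain ⟨k, hk⟩ := hodd3 (hD.to_le (zpowers_le.2 (show R.psl x₁ ∈ D from hx₁)))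
        rw [orderOf_psl, ho₁] at hk
        have h3 : Odd (3 ^ k) := Odd.pow (by decide)
        rw [← hk] at h3
        exact absurd h3 (by decide)
    rw [eq_bot_iff]
    intro x hx
    rw [mem_bot]
    have hcomm : ∀ z, Commute x (R.psl z) := by
      intro z
      obtain ⟨w, hw⟩ := conj_psl R (hDH hx) z
      have hmem : R.psl (w * z⁻¹) ∈ D := by
        rw [map_mul, map_inv, ← hw]
        have := mul_mem hx ((mem_normalizer_iff.1 (hLD ⟨z, rfl⟩) x⁻¹).1 (inv_mem hx))
        simpa only [mul_assoc] using this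
      rw [mul_inv_eq_one.1 (hint _ hmem)] at hw
      exact mul_inv_eq_iff_eq_mul.1 hw
    obtain ⟨k, hk⟩ := hodd3 (hD.to_le (zpowers_le.2 hx))
    obtain ⟨a, σ, rfl⟩ := odd_form R (hDH hx) (by rw [hk]; exact Odd.pow (by decide))
    have hconj : ∀ e, a * bm 1 ((σ : R.F ≃+* R.F) e) = bm 1 e * a := by
      intro e
      have h : R.psl a * R.fld σ * R.psl (bm 1 e) = R.psl (bm 1 e) * (R.psl a * R.fld σ) := hcomm _
      rw [mul_assoc, psl_fld, fieldAut_bm', map_one, ← mul_assoc, ← map_mul, ← mul_assoc, ← map_mul] at h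
      exact R.psl_inj (mul_right_cancel h)
    have h1 := hconj 1
    rw [map_one] at h1
    obtain ⟨b, hb⟩ := Char96.cent_trans h2 (show Commute a (Char96.trans (Multiplicative.ofAdd 1)) from h1)
    have hσ : σ = 1 := by
      refine Subtype.ext (RingEquiv.ext fun e => ?_)
      have h := hconj e
      rw [← hb, bm_trans, bm_trans, ← map_mul, ← map_mul, mul_comm _ b] at h
      exact congrArg Multiplicative.toAdd (mul_left_cancel (Char96.trans_injective h2 h))
    subst hσ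
    rw [map_one, mul_one] at hx ⊢
    rw [hint _ hx, map_one]
  · -- `O_{3'}` of the Borel subgroup
    intro D hDK hco hKD
    rw [eq_bot_iff]
    intro x hx
    rw [mem_bot]
    have hxc := Nat.Coprime.coprime_dvd_left (Subgroup.orderOf_dvd_natCard _ hx) hco
    obtain ⟨a, b, σ, rfl⟩ := hDK hx
    have hfix : ∀ e, (a : R.F) * a * (σ : R.F ≃+* R.F) e = e := by
      intro e
      set z := R.psl (bm a b) * R.fld σ * R.psl (bm 1 e) * (R.psl (bm a b) * R.fld σ)⁻¹ *
        (R.psl (bm 1 e))⁻¹ with hz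
      have hzU : z ∈ U := by rw [hz, conj_unip]; exact mul_mem (hU _) (inv_mem (hU e))
      have hzD : z ∈ D := by
        have := mul_mem hx ((mem_normalizer_iff.1 (hKD (psl_bm_mem_bor R 1 e)) _).1 (inv_mem hx))
        simpa only [hz, mul_assoc] using this
      obtain ⟨j, hj⟩ := IsPGroup.iff_orderOf.1 hUp ⟨z, hzU⟩
      rw [Subgroup.orderOf_mk] at hj
      have hz1 : orderOf z = 1 := by
        refine Nat.eq_one_of_dvd_coprimes ((Nat.Coprime.coprime_dvd_left
          (Subgroup.orderOf_dvd_natCard _ hzD) hco).pow_right j) dvd_rfl (hj ▸ dvd_rfl)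
      rw [orderOf_eq_one_iff, hz, conj_unip, mul_inv_eq_one] at hz1
      rcases bm_inj (R.psl_inj hz1) with ⟨-, h⟩ | ⟨h, -⟩
      · exact h
      · exact absurd (show (2 : R.F) = 0 by
          have := congrArg (fun u : R.Fˣ => (u : R.F)) h
          simp at this
          linear_combination this) h2
    have ha := hfix 1
    rw [map_one, mul_one] at ha
    have hσ : σ = 1 := by
      refine Subtype.ext (RingEquiv.ext fun e => ?_)
      have h := hfix e
      rw [ha, one_mul] at h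
      exact h
    subst hσ
    rw [map_one, mul_one] at hxc ⊢
    have ha' : a = 1 ∨ a = -1 := by
      rcases sq_eq_one_iff.1 (show (a : R.F) ^ 2 = 1 by rw [pow_two, ha]) with e | e
      · exact Or.inl (Units.ext e)
      · exact Or.inr (Units.ext (by simpa using e))
    refine orderOf_eq_one_iff.1 (Nat.eq_one_of_dvd_coprimes hxc dvd_rfl (orderOf_dvd_of_pow_eq_one ?_))
    rw [← map_pow, bm_cube b ha', map_one]
  · -- unipotent elements are not inverted
    intro x v e hx hv he hve hc hinv hxe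
    obtain ⟨g, hg⟩ := isConj_iff.1 (hloc.one_class e E.t he E.orderOf_t)
    set c := (MulAut.conj g) with hcdef
    have hcx : c x ∈ E.H := mem_H (by
      rw [← hg, ← MulAut.conj_apply]
      exact hxe.map c.toMonoidHom)
    have hcv : c v ∈ E.H := mem_H (by
      rw [← hg, ← MulAut.conj_apply]
      exact hc.map c.toMonoidHom)
    have hvv : orderOf (c v) = 2 := by rw [MulEquiv.orderOf_eq, hv]
    have hvne : c v ≠ E.t := fun h => hve (c.injective (by rw [h, ← hg]; rfl))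
    have hv1 : v⁻¹ = v := by
      refine inv_eq_of_mul_eq_one_right ?_
      rw [← pow_two, ← hv, pow_orderOf_eq_one]
    have hinv' : c v * c x * (c v)⁻¹ = (c x)⁻¹ := by
      rw [← map_inv, ← map_mul, ← map_mul, hv1, hinv, map_inv]
    obtain ⟨k, hk⟩ := hodd3 hx
    have hcxo : Odd (orderOf (c x)) := by rw [MulEquiv.orderOf_eq, hk]; exact Odd.pow (by decide)
    obtain ⟨a, ha⟩ := psl_of_inverted R hcx hcxo hcv hinv'
    obtain ⟨j, hj, hjv⟩ := invol_form R hcv hvv hvne
    rw [ha, conj_psl_invol R hjv, ← map_inv] at hinv'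
    have hja := R.psl_inj hinv'
    have hoa : orderOf a = 3 ^ k := by rw [← orderOf_psl R, ← ha, MulEquiv.orderOf_eq, hk]
    by_contra hx1
    obtain _ | k := k
    · exact hx1 (orderOf_eq_one_iff.1 hk)
    have hu1 : a ^ 3 ^ k ≠ 1 := fun h => by
      have h1 := Nat.le_of_dvd (pow_pos (by norm_num) k) (orderOf_dvd_of_pow_eq_one h)
      rw [hoa] at h1
      exact absurd h1 (not_le.2 (Nat.pow_lt_pow_right (by norm_num) k.lt_succ_self))
    refine Psl.unipotent_not_inverted R.q_mod hq11 3 hq3 (u := a ^ 3 ^ k) (i := j) hu1 ?_ hj ?_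
    · rw [← pow_mul, ← pow_succ, ← hoa, pow_orderOf_eq_one]
    · rw [← conj_pow, hja, inv_pow]
  · -- the Sylow two-subgroups are abelian
    intro T hT a ha b hb
    obtain ⟨P, hP⟩ := hT.exists_le_sylow
    obtain ⟨g, hg⟩ := MulAction.exists_smul_eq G E.S P
    rw [← hg, Sylow.coe_subgroup_smul] at hP
    obtain ⟨a', ha', rfl⟩ := hP ha
    obtain ⟨b', hb', rfl⟩ := hP hb
    show g * a' * g⁻¹ * (g * b' * g⁻¹) = g * b' * g⁻¹ * (g * a' * g⁻¹)
    rw [show g * a' * g⁻¹ * (g * b' * g⁻¹) = g * (a' * b') * g⁻¹ by group, E.comm ha' hb']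
    group

/-- The field part of an element of the centraliser. -/
theorem exists_part : ∃ φ : centralizer ({E.t} : Set G) →* R.Γ,
    ∀ (x : G) (hx : x ∈ centralizer ({E.t} : Set G)) (a : PSLF) (σ : R.Γ),
      x = R.psl a * R.fld σ → φ ⟨x, hx⟩ = σ := by
  classical
  have huniq : ∀ (a a' : PSLF) (σ σ' : R.Γ) (x : G),
      (x = R.psl a * R.fld σ ∨ x = E.t * (R.psl a * R.fld σ)) →
      (x = R.psl a' * R.fld σ' ∨ x = E.t * (R.psl a' * R.fld σ')) → σ = σ' := by
    intro a a' σ σ' x h h'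
    have hmix : ∀ (a a' : PSLF) (σ σ' : R.Γ), R.psl a * R.fld σ ≠ E.t * (R.psl a' * R.fld σ') := by
      intro a a' σ σ' e
      obtain ⟨y, τ, hy⟩ : ∃ y τ, R.psl a * R.fld σ * (R.psl a' * R.fld σ')⁻¹ = R.psl y * R.fld τ :=
        ⟨_, _, by rw [_root_.mul_inv_rev, ← map_inv, ← map_inv, psl_fld, comb_mul]⟩
      rw [e, mul_inv_cancel_right] at hy
      exact R.ne_t y τ hy.symm
    rcases h with rfl | rfl <;> rcases h' with e | e
    · exact (comb_unique R e).2
    · exact absurd e (hmix _ _ _ _)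
    · exact absurd e.symm (hmix _ _ _ _)
    · exact (comb_unique R (mul_left_cancel e)).2
  choose a σ hax using fun x : centralizer ({E.t} : Set G) => R.exists_eq x x.2
  refine ⟨MonoidHom.mk' σ fun x y => ?_, fun x hx b τ h => huniq _ b _ τ x (hax ⟨x, hx⟩) (Or.inl h)⟩
  refine huniq _ (a x * fieldAut ((σ x : R.Γ) : R.F ≃+* R.F) (a y)) _ _ _ (hax (x * y)) ?_
  have htx : Commute (R.psl (a x) * R.fld (σ x)) E.t :=
    (commute_t (R.psl_mem _)).mul_left (commute_t (R.fld_mem _))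
  rcases hax x with h | h <;> rcases hax y with h' | h' <;> rw [Subgroup.coe_mul, h, h', ← comb_mul]
  · exact Or.inl rfl
  · exact Or.inr (by rw [← mul_assoc, htx.eq, mul_assoc])
  · exact Or.inr (mul_assoc _ _ _)
  · exact Or.inl (by rw [← htx.eq, mul_assoc (R.psl _ * R.fld _) E.t, ← mul_assoc E.t E.t, t_sq, one_mul])

/-- A unit of primitive prime order is moved by every field automorphism. -/
theorem eq_one_of_fix {n s : ℕ} (hn : Fintype.card R.F = 3 ^ n)
    (hs : ∀ m, 0 < m → 3 ^ m < 3 ^ n → ¬ s ∣ 3 ^ m - 1) {c : R.Fˣ} (hc : orderOf c = s) {σ : R.Γ}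
    (hfix : (σ : R.F ≃+* R.F) (c : R.F) = c) : σ = 1 := by
  classical
  by_contra hne
  set S := FieldGalois.fixedSub (σ : R.F ≃+* R.F) with hS
  haveI : Fintype S := Fintype.ofFinite S
  haveI : CharP S 3 := (RingHom.charP_iff_charP S.subtype 3).2 inferInstance
  obtain ⟨m, -, hm⟩ := FiniteField.card S 3
  have hlt : Fintype.card S < Fintype.card R.F := by
    refine Fintype.card_lt_of_injective_not_surjective _ Subtype.val_injective fun hsur => hne ?_
    refine Subtype.ext (RingEquiv.ext fun e => ?_)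
    obtain ⟨⟨_, he⟩, rfl⟩ := hsur e
    exact he
  rw [hm, hn] at hlt
  refine hs m m.pos hlt ?_
  rw [← hm, ← hc]
  refine orderOf_dvd_of_pow_eq_one (Units.ext ?_)
  have hne0 : (⟨(c : R.F), hfix⟩ : S) ≠ 0 := fun h => c.ne_zero (congrArg Subtype.val h)
  have h1 := congrArg Subtype.val (FiniteField.pow_card_sub_one_eq_one _ hne0)
  rw [Units.val_pow_eq_pow_val, Units.val_one]
  simpa using h1

/-- The torus element and the field part modulo the elements of order prime to three. -/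
theorem exists_torus (D : Datum E.t) (hD : D.K = bor R) {n s : ℕ} (hn : Fintype.card R.F = 3 ^ n)
    (hsp : s.Prime) (hs2 : s ≠ 2) (hs3 : s ≠ 3) (hdvd : s ∣ R.q - 1)
    (hs : ∀ m, 0 < m → 3 ^ m < 3 ^ n → ¬ s ∣ 3 ^ m - 1) (hgood : R.GoodTorus s)
    {A : Type*} [CommGroup A] (π : R.Γ →* A) (hπ : π ≠ 1) : Nonempty (D.Torus s A) := by
  classical
  haveI : Fact s.Prime := ⟨hsp⟩
  obtain ⟨φ, hφ⟩ := exists_part R
  obtain ⟨c, hc⟩ := exists_prime_orderOf_dvd_card' (G := R.Fˣ) s (by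
    rw [Nat.card_units, Nat.card_eq_fintype_card]; exact hdvd)
  have hcs : c ^ s = 1 := hc ▸ pow_orderOf_eq_one c
  have hsodd : Odd s := hsp.odd_of_ne_two hs2
  have h2 := psl_two_ne R
  have hneg : ∀ d : R.Fˣ, d ^ s = 1 → (-d) ^ s ≠ 1 := fun d hd h => by
    rw [hsodd.neg_pow, hd] at h
    refine h2 ?_
    have h' : (-1 : R.F) = 1 := by simpa using congrArg (fun u : R.Fˣ => (u : R.F)) h
    linear_combination -h'
  have hfu : ∀ σ : R.Γ, fu R σ c ^ s = 1 := fun σ => by rw [← map_pow, hcs, map_one]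
  have hmove : ∀ σ : R.Γ, fu R σ c = c → σ = 1 := fun σ h =>
    eq_one_of_fix R hn hs hc (congrArg Units.val h)
  set y := R.psl (bm c 0) with hy
  have hc1 : c ≠ 1 := fun e => by rw [e, orderOf_one] at hc; exact hsp.one_lt.ne hc
  have hyo : orderOf y = s := by
    rw [hy, orderOf_psl]
    refine orderOf_eq_prime ?_ fun e => ?_
    · rw [bm_zero, ← map_pow, hcs, map_one]
    · rcases (bm_eq_one e).1 with h | h
      · exact hc1 h
      · exact hneg c hcs (by rw [h, neg_neg, one_pow])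
  have hyK : y ∈ D.K := hD ▸ psl_bm_mem_bor R c 0
  refine ⟨{
    y := y
    T := (R.psl.comp (Char96.diagHom : R.Fˣ →* PSLF)).range
    φ := π.comp φ
    y_mem := hyK
    orderOf_y := hyo
    cyclic := isCyclic_of_surjective _ (MonoidHom.rangeRestrict_surjective _)
    cent := ?_
    good := fun z hz hzy hzt => hgood y (bor_le R (hD ▸ hyK)) hyo z hz hzy hzt
    ker := ?_
    nontriv := ?_ }⟩
  · intro x hx hxy
    rw [hD] at hx
    obtain ⟨a, b, σ, rfl⟩ := hx
    have h : R.psl (bm a b) * R.fld σ * (R.psl (bm c 0) * R.fld 1) =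
        R.psl (bm c 0) * R.fld 1 * (R.psl (bm a b) * R.fld σ) := by
      simp only [map_one, mul_one]
      exact hxy.eq
    rw [comb_mul, comb_mul, fieldAut_bm', bm_mul, OneMemClass.coe_one, map_one, MulAut.one_apply,
      bm_mul] at h
    rcases bm_inj (comb_unique R h).1 with ⟨h1, hb⟩ | ⟨h1, -⟩
    · rw [mul_comm c a] at h1
      have hσc := mul_left_cancel h1
      have hσ := hmove σ hσc
      subst hσ
      rw [hσc] at hb
      simp only [OneMemClass.coe_one, RingAut.one_apply, mul_zero, zero_add, add_zero,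
        Units.val_inv_eq_inv_val, zero_mul] at hb
      have hb0 : b = 0 := by
        by_contra hb0
        have e : (c : R.F) * c = 1 := by
          field_simp at hb
          linear_combination -hb
        have := orderOf_dvd_of_pow_eq_one (x := c) (n := 2) (Units.ext (by simpa [pow_two] using e))
        rw [hc] at this
        exact hs2 ((Nat.prime_dvd_prime_iff_eq hsp Nat.prime_two).1 this)
      subst hb0
      exact ⟨a, by rw [map_one, mul_one]; rfl⟩
    · rw [mul_comm c a, ← mul_neg] at h1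
      exact absurd (by rw [← mul_left_cancel h1]; exact hfu σ) (hneg c hcs)
  · intro M hMK hyM hMs x hx hxM
    obtain ⟨a, b, σ, rfl⟩ : x ∈ bor R := hD ▸ hMK hxM
    set z := R.psl (bm a b) * R.fld σ * y * (R.psl (bm a b) * R.fld σ)⁻¹ * y⁻¹ with hz
    have hzM : z ∈ M := by
      have := mul_mem hxM ((mem_normalizer_iff.1 hyM _).1 (inv_mem hxM))
      simpa only [hz, mul_assoc] using this
    obtain ⟨b₀, hzb⟩ : ∃ b₀, z = R.psl (bm (fu R σ c * c⁻¹) b₀) := by
      have e : z = R.psl (bm a b * bm (fu R σ c) ((σ : R.F ≃+* R.F) 0) * (bm a b)⁻¹ * (bm c 0)⁻¹) := by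
        rw [hz, hy, mul_assoc (R.psl (bm a b)) (R.fld σ), psl_fld, fieldAut_bm', map_mul, map_mul, map_mul,
          map_inv, map_inv]
        group
      rw [bm_inv, bm_inv, bm_mul, bm_mul, bm_mul, mul_comm a (fu R σ c), mul_inv_cancel_right] at e
      exact ⟨_, e⟩
    haveI : Fact (Nat.Prime 3) := ⟨Nat.prime_three⟩
    set d := fu R σ c * c⁻¹ with hd
    have hds : d ^ s = 1 := by rw [hd, mul_pow, hfu, inv_pow, hcs, inv_one, one_mul]
    obtain ⟨b₁, hb₁⟩ := bm_pow d b₀ s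
    have h3s : z ^ (3 * s) = 1 := by
      rw [mul_comm, pow_mul, hzb, ← map_pow, ← map_pow, hb₁, hds, bm_cube b₁ (Or.inl rfl), map_one]
    have h3 : z ^ 3 = 1 := by
      refine orderOf_dvd_iff_pow_eq_one.1 ?_
      exact (Nat.Coprime.coprime_dvd_left (Subgroup.orderOf_dvd_natCard _ hzM) hMs).dvd_of_dvd_mul_right
        (orderOf_dvd_of_pow_eq_one h3s)
    obtain ⟨b₂, hb₂⟩ := bm_pow d b₀ 3
    rw [hzb, ← map_pow, hb₂] at h3
    have hd6 : d ^ 6 = 1 := by
      rcases (bm_eq_one (R.psl_inj (h3.trans (map_one R.psl).symm))).1 with e | e <;>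
        rw [show 6 = 3 * 2 from rfl, pow_mul, e] <;> simp
    have hd1 : d = 1 := by
      refine orderOf_eq_one_iff.1 (Nat.eq_one_of_dvd_coprimes (?_ : Nat.Coprime 6 s)
        (orderOf_dvd_of_pow_eq_one hd6) (orderOf_dvd_of_pow_eq_one hds))
      refine ((Nat.coprime_primes Nat.prime_two hsp).2 (Ne.symm hs2)).mul_left
        ((Nat.coprime_primes Nat.prime_three hsp).2 (Ne.symm hs3))
    have hσ := hmove σ (mul_inv_eq_one.1 hd1)
    rw [MonoidHom.comp_apply, hφ _ hx _ σ rfl, hσ, map_one]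
  · obtain ⟨σ, hσ⟩ : ∃ σ, π σ ≠ 1 := by
      by_contra h
      push Not at h
      exact hπ (MonoidHom.ext h)
    refine ⟨R.fld σ, hD ▸ fld_mem_bor R σ, ?_⟩
    rwa [MonoidHom.comp_apply, hφ _ _ 1 σ (by rw [map_one, one_mul])]

end CharThree

end CfsgLib.Walter.Twist.Borel
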