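import Cfsg.Agent.Lib.ReeOrder.NumDefs

/-!
Walter, the field part, case D: the numbers attached to a twisted block, and what the arithmetic has to
prove.

The four characters meeting the first projective are normalised (positive coefficient): `x` is the
signed degree and `v` the value at the involution with the same sign.  The first two occur in the
exceptional function with trivial sign, the last two in the other one.
-/

set_option autoImplicit false

namespace CfsgLib.Walter.Twist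

/-- The four rows of a twisted block. -/
structure Rows (q : ℕ) (K : ℚ) where
  /-- signed degrees -/
  x : Fin 4 → ℤ
  /-- signed values at the involution -/
  v : Fin 4 → ℤ
  x_ne : ∀ i, x i ≠ 0
  cong : ∀ i, (8 : ℤ) ∣ x i - v i
  sum_x : x 0 + x 1 + x 2 + x 3 = 0
  eq_K : (v 0 : ℚ) ^ 2 / x 0 + (v 1 : ℚ) ^ 2 / x 1 + (v 2 : ℚ) ^ 2 / x 2 + (v 3 : ℚ) ^ 2 / x 3 = K
  shape : (∃ e : Equiv.Perm (Fin 4), v ∘ e = ![1, (q : ℤ), 1, (q : ℤ)]) ∨
    (∃ e : Equiv.Perm (Fin 4),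
      v ∘ e = ![1, ((q : ℤ) + 1) / 2, ((q : ℤ) + 1) / 2, (q : ℤ)])
  pair_ne : x 2 + x 3 ≠ 0
  pair_prop : v 2 * x 3 = v 3 * x 2
  pair_sq : (v 0 + v 1) ^ 2 = (v 2 + v 3) ^ 2

/-- What is known more if the principal block has the seven-row pattern: `f` is the signed degree of the
two conjugate characters with value `(q + 1) / 2` (positive by Frobenius–Schur), and the second equation
holds with the two further signed degrees. -/
def SevenPrincipal (q I : ℕ) (f : ℤ) : Prop :=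
  0 < f ∧ ∃ P R : ℤ, P ≠ 0 ∧ R ≠ 0 ∧ P + R = 1 + f ∧
    (((q : ℤ) + 1) / 2 : ℤ) ^ 2 / (f : ℚ) + (q : ℚ) ^ 2 / ((-(2 * f + 1) : ℤ) : ℚ) +
        4 * (((q : ℚ) - 1) / 2) ^ 2 / (P : ℚ) + (((q : ℚ) - 1) / 2) ^ 2 / (R : ℚ) =
      CfsgLib.ReeOrder.ratio₂ q * CfsgLib.ReeOrder.ratio q I

/-- The principal block determines the index. -/
def IndexStep : Prop :=
  ∀ (q I n : ℕ), q = 3 ^ n → Odd n → 3 ≤ n → Odd I →
    (∀ s : ℕ, s.Prime → s ∣ (q - 1) / 2 → ¬ s ∣ I) → (¬ 3 ∣ I ∨ q ∣ I) →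
    (∃ r : ℕ, r.Prime ∧ 5 ≤ r ∧ r ∣ I ∧ r ∣ q ^ 2 - q + 1) →
    ∀ W : Rows q (CfsgLib.ReeOrder.ratio q I), W.x 0 = 1 → W.v 0 = 1 →
      (W.v 2 = W.v 3 → SevenPrincipal q I (W.x 2)) →
      I = q ^ 2 * (q ^ 2 - q + 1)

/-- With this index every twisted block contains a signed degree one. -/
def LinearStep : Prop :=
  ∀ (q n : ℕ), q = 3 ^ n → Odd n → 3 ≤ n →
    ∀ W : Rows q (CfsgLib.ReeOrder.ratio q (q ^ 2 * (q ^ 2 - q + 1))),
      ∃ i, W.x i = 1 ∧ W.v i = 1

end CfsgLib.Walter.Twist
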