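import Cfsg.Agent.Lib.Walter.Twist.Defs
import Cfsg.Agent.Lib.Walter.Twist.RowsDefs
import Cfsg.Agent.Lib.AutPSL.FieldGalois
import Mathlib.GroupTheory.SpecificGroups.Cyclic
import Mathlib.Analysis.Complex.Basic

/-!
Walter, the field part, case D (characteristic three, `3 ∤ f`, fixed field of `Γ` larger than `F₃`):
the hypotheses, the interfaces of the pieces and the conclusion from them.
See `coord/notes/Walter_caseD_helper6.md`.
-/

set_option autoImplicit false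
set_option linter.unusedSectionVars false
set_option linter.style.haveILetI false

namespace CfsgLib.Walter.Twist

open Subgroup

universe u

variable {G : Type u} [Group G] [Finite G] {E : Setup G}

/-- The number of conjugates of the involution. -/
noncomputable def Frame.I (_R : Frame E) : ℕ := E.H.index

/-- What is known in case D. -/
structure CaseD (R : Frame E) : Prop where
  char_three : CharP R.F 3
  one_lt : 1 < R.f
  not_three : ¬ 3 ∣ R.f
  prime_dvd : ∀ r : ℕ, r.Prime → r ∣ R.f → 5 ≤ r ∧ r ∣ R.q ^ 2 - R.q + 1 ∧ r ∣ R.I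
  fld_fusion : ∀ (σ σ' : R.Γ) (g : G), g * R.fld σ * g⁻¹ = R.fld σ' → σ = σ'
  fixed : ∃ y ∈ E.H, (orderOf y).Prime ∧ orderOf y ≠ 2 ∧ orderOf y ∣ R.q - 1 ∧
    (∀ σ : R.Γ, Commute (R.fld σ) y) ∧ centralizer ({y} : Set G) ≤ E.H

/-- Piece S: the primes of the split torus do not divide the index. -/
def TorusIndexGoal : Prop :=
  ∀ (G : Type u) [Group G] [Finite G] (E : Setup G), Local E → E.W = ⊥ → ∀ R : Frame E,
    CaseD R → ∀ s : ℕ, s.Prime → s ∣ (R.q - 1) / 2 → ¬ s ∣ R.I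

/-- Piece U: the characteristic. -/
def ThreeIndexGoal : Prop :=
  ∀ (G : Type u) [Group G] [Finite G] (E : Setup G), Local E → E.W = ⊥ → ∀ R : Frame E,
    CaseD R → ¬ 3 ∣ R.I ∨ R.q ∣ R.I

/-- Piece X: the rows of the block of a linear character of the field part. -/
def RowsGoal : Prop :=
  ∀ (G : Type u) [Group G] [Finite G] (E : Setup G), Local E → E.W = ⊥ → ∀ R : Frame E,
    CaseD R → ∀ lam : R.Γ →* ℂˣ,
      ∃ W : Rows R.q (CfsgLib.ReeOrder.ratio R.q R.I),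
        (lam = 1 → W.x 0 = 1 ∧ W.v 0 = 1 ∧
          (W.v 2 = W.v 3 → SevenPrincipal R.q R.I (W.x 2))) ∧ (∀ i, W.x i = 1 → lam = 1)

/-- The index is odd. -/
theorem Frame.odd_I (R : Frame E) : Odd R.I := by
  haveI := Fact.mk Nat.prime_two
  have hle : (E.S : Subgroup G) ≤ E.H := fun x hx =>
    mem_centralizer_singleton_iff.2 (E.comm hx E.mem)
  exact Nat.not_even_iff_odd.1 fun he =>
    E.S.not_dvd_index ((even_iff_two_dvd.1 he).trans (Subgroup.index_dvd_of_le hle))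

/-- Case D is impossible. -/
theorem caseD_false (hS : TorusIndexGoal.{u}) (hU : ThreeIndexGoal.{u}) (hX : RowsGoal.{u})
    (hI : IndexStep) (hL : LinearStep) (hloc : Local E) (hW : E.W = ⊥) (R : Frame E)
    (D : CaseD R) : False := by
  haveI := D.char_three
  obtain ⟨n, -, hn⟩ := FiniteField.card R.F 3
  have hq8 : (n : ℕ) % 2 = 1 ∧ 3 ≤ (n : ℕ) := by
    have h8 := R.q_mod
    have h3 := R.three
    rw [hn] at h8 h3
    obtain ⟨k, hk | hk⟩ := Nat.even_or_odd' (n : ℕ)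
    · rw [hk, pow_mul, Nat.pow_mod] at h8
      norm_num at h8
    · refine ⟨by omega, ?_⟩
      rcases Nat.eq_zero_or_pos k with rfl | hk0
      · rw [hk] at h3; norm_num at h3
      · omega
  obtain ⟨hn1, hn3⟩ := hq8
  have hodd : Odd (n : ℕ) := Nat.odd_iff.2 hn1
  obtain ⟨r, hr, hrf⟩ := Nat.exists_prime_and_dvd (show R.f ≠ 1 by have := D.one_lt; omega)
  obtain ⟨h5, hrq, hrI⟩ := D.prime_dvd r hr hrf
  obtain ⟨W₀, hW₀, -⟩ := hX G E hloc hW R D 1
  obtain ⟨hx, hv, h7⟩ := hW₀ rfl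
  have hI' : R.I = R.q ^ 2 * (R.q ^ 2 - R.q + 1) :=
    hI R.q R.I n hn hodd hn3 R.odd_I (hS G E hloc hW R D) (hU G E hloc hW R D)
      ⟨r, hr, h5, hrI, hrq⟩ W₀ hx hv h7
  haveI : IsCyclic (R.F ≃+* R.F) := CfsgLib.FieldGalois.isCyclic_ringAut
  haveI : IsCyclic R.Γ := Subgroup.isCyclic _
  haveI : Nontrivial R.Γ := (Finite.one_lt_card_iff_nontrivial).1 D.one_lt
  obtain ⟨lam, hlam⟩ : ∃ lam : R.Γ →* ℂˣ, lam ≠ 1 := by
    obtain ⟨σ, hσ⟩ := exists_ne (1 : R.Γ)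
    letI : CommGroup R.Γ := IsCyclic.commGroup
    obtain ⟨φ, hφ⟩ := CommGroup.exists_apply_ne_one_of_hasEnoughRootsOfUnity R.Γ ℂ hσ
    exact ⟨φ, fun e => hφ (by rw [e, MonoidHom.one_apply])⟩
  obtain ⟨W, -, hW1⟩ := hX G E hloc hW R D lam
  obtain ⟨W', hW'⟩ : ∃ W' : Rows R.q (CfsgLib.ReeOrder.ratio R.q (R.q ^ 2 * (R.q ^ 2 - R.q + 1))),
      W'.x = W.x := by
    rw [← hI']; exact ⟨W, rfl⟩
  obtain ⟨i, hi, -⟩ := hL R.q n hn hodd hn3 W'
  exact hlam (hW1 i (by rw [← hW']; exact hi))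

end CfsgLib.Walter.Twist
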