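import Cfsg.Agent.Lib.Walter.Twist.FixedBasic
import Cfsg.Agent.Lib.Walter.Twist.CaseDefs
import Cfsg.Agent.Lib.ReeOrder.Block.Coeff
import Cfsg.Agent.Lib.InvChar.KleinCentralizer
import Mathlib.GroupTheory.SemidirectProduct

/-!
Walter, the field part, case D, piece X: the class multiplication on the section of `t` for a complement
`Y` of `⟨t⟩` whose involutions lie in `PSL₂(q)`.
-/

set_option autoImplicit false
set_option linter.unusedSectionVars false
set_option linter.style.haveILetI false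

namespace CfsgLib.Walter.Twist.CaseEq

open Cfsg CfsgLib.Characters CfsgLib.JankoThompson
open CfsgLib.ReeOrder (ratio ratio₂)
open CfsgLib.ReeOrder.Block (HalfData)
open scoped ComplexConjugate Classical

universe u v

/-- Involutions of a semidirect product by a group of odd order lie in the normal factor. -/
theorem inl_range_of_orderOf_two {N Q : Type*} [Group N] [Group Q] {φ : Q →* MulAut N}
    (hQ : Odd (Nat.card Q)) {y : N ⋊[φ] Q} (hy : orderOf y = 2) :
    y ∈ (SemidirectProduct.inl : N →* N ⋊[φ] Q).range := by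
  refine ⟨y.left, ?_⟩
  have h1 : orderOf y.right ∣ 2 := hy ▸ orderOf_map_dvd SemidirectProduct.rightHom y
  have h2 : orderOf y.right = 1 :=
    Nat.eq_one_of_dvd_coprimes (Nat.coprime_two_right.2 (hQ.of_dvd_nat (orderOf_dvd_natCard _))) dvd_rfl h1
  exact SemidirectProduct.ext rfl (orderOf_eq_one_iff.1 h2).symm

section Generic

variable {G : Type u} [Group G] [Fintype G]
variable {F : Type} [Field F] [Fintype F] [DecidableEq F]
variable {t : G} {Y : Type v} [Group Y] [Fintype Y] (P : Proj t Y)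

local notation "PSL2" => Matrix.ProjectiveSpecialLinearGroup (Fin 2) F
local notation "InvL" =>
  (Finset.univ.filter fun k : Matrix.ProjectiveSpecialLinearGroup (Fin 2) F => orderOf k = 2)

/-- The pairs of involutions of the centraliser, by the pairs in `PSL₂(q)`. -/
theorem sum_invs (hker : (P.sg.prod P.proj).ker = ⊥) (i : PSL2 →* Y) (hi : Function.Injective i)
    (hinv : ∀ y : Y, orderOf y = 2 → y ∈ i.range) {f : Y → ℂ} (hs : OddSupport f) :
    ∑ a ∈ P.invs, ∑ b ∈ P.invs, P.phi f (a * b) = 4 * ∑ k ∈ InvL, ∑ l ∈ InvL, f (i (k * l)) := by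
  set g : Multiplicative (ZMod 2) := Multiplicative.ofAdd 1 with hg
  let e : Subgroup.centralizer ({t} : Set G) ≃* Multiplicative (ZMod 2) × Y :=
    MulEquiv.ofBijective (P.sg.prod P.proj) ⟨(MonoidHom.ker_eq_bot_iff _).1 hker, P.surj⟩
  let H : Multiplicative (ZMod 2) × Y → ℂ := fun y => (1 - signZTwo y.1) * f y.2
  set I2 := Finset.univ.filter
    (fun y : Multiplicative (ZMod 2) × Y => orderOf y = 2) with hI2
  have htr : ∀ Φ : Multiplicative (ZMod 2) × Y → ℂ,
      ∑ a ∈ P.invs, Φ (e a) = ∑ y ∈ I2, Φ y := fun Φ =>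
    Finset.sum_equiv e.toEquiv (fun a => by
      simp [Proj.invs, hI2, MulEquiv.orderOf_eq]) fun a _ => rfl
  have hphi : ∀ a b : Subgroup.centralizer ({t} : Set G),
      P.phi f (a * b) = H (e a * e b) := fun a b => by
    rw [← map_mul]; rfl
  simp only [hphi]
  rw [htr (fun y => ∑ b ∈ P.invs, H (y * e b))]
  rw [Finset.sum_congr rfl fun y _ => htr (fun z => H (y * z))]
  have hz : ∀ z : Multiplicative (ZMod 2), z = 1 ∨ z = g := by decide
  have hg1 : g ≠ 1 := by decide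
  have hgg : g * g = 1 := by decide
  set InvY := Finset.univ.filter (fun y : Y => orderOf y = 2) with hInvY
  have hY : InvY = Finset.map ⟨i, hi⟩ InvL := by
    ext y
    simp only [hInvY, Finset.mem_filter, Finset.mem_univ, true_and, Finset.mem_map,
      Function.Embedding.coeFn_mk]
    refine ⟨fun h => ?_, ?_⟩
    · obtain ⟨k, rfl⟩ := hinv y h
      exact ⟨k, by rwa [orderOf_injective i hi] at h, rfl⟩
    · rintro ⟨k, hk, rfl⟩
      rw [orderOf_injective i hi, hk]
  have hset : I2 = insert (g, (1 : Y)) (({1, g} : Finset (Multiplicative (ZMod 2))) ×ˢ InvY) := by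
    ext ⟨z, k⟩
    simp only [hI2, hInvY, Finset.mem_filter, Finset.mem_univ, true_and, Finset.mem_insert,
      Finset.mem_product, Finset.mem_singleton, Prod.mk.injEq, hz z]
    rw [orderOf_eq_prime_iff, orderOf_eq_prime_iff, pow_two, pow_two, Prod.mk_mul_mk,
      Prod.mk_eq_one, ne_eq, Prod.mk_eq_one]
    rcases hz z with rfl | rfl
    · simp [hg1.symm]
    · by_cases hk : k = 1 <;> simp [hk, hgg, hg1]
  have hnot : (g, (1 : Y)) ∉ ({1, g} : Finset (Multiplicative (ZMod 2))) ×ˢ InvY := by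
    simp [hInvY, Finset.mem_product]
  have hsum : ∀ Φ : Multiplicative (ZMod 2) × Y → ℂ, ∑ y ∈ I2, Φ y =
      Φ (g, 1) + ((∑ k ∈ InvY, Φ (1, k)) + ∑ k ∈ InvY, Φ (g, k)) := fun Φ => by
    rw [hset, Finset.sum_insert hnot, Finset.sum_product, Finset.sum_pair hg1.symm]
  have hf : ∀ k ∈ InvY, f k = 0 := fun k hk =>
    hs k (by rw [(Finset.mem_filter.1 hk).2]; exact even_two)
  have hH1 : ∀ k, H (1, k) = 0 := fun k => by simp [H, signZTwo]
  have hHg : ∀ k, H (g, k) = 2 * f k := fun k => by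
    simp [H, signZTwo, hg1]; norm_num
  simp only [hsum, Prod.mk_mul_mk, one_mul, mul_one, hgg, hH1, hHg]
  simp only [Finset.sum_const_zero, zero_add, add_zero, Finset.mul_sum]
  rw [Finset.sum_congr rfl fun k hk => show 2 * f k = 0 by rw [hf k hk, mul_zero],
    Finset.sum_const_zero, zero_add, Finset.sum_congr rfl fun k hk =>
      show 2 * f k + ∑ l ∈ InvY, 2 * f (k * l) = ∑ l ∈ InvY, 2 * f (k * l) by
        rw [hf k hk, mul_zero, zero_add],
    ← Finset.sum_add_distrib, hY]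
  simp only [Finset.sum_map, Function.Embedding.coeFn_mk, map_mul]
  refine Finset.sum_congr rfl fun k _ => ?_
  rw [← Finset.sum_add_distrib]
  exact Finset.sum_congr rfl fun l _ => by ring

/-- The equation of the class multiplication on the section. -/
theorem pair_sum (hker : (P.sg.prod P.proj).ker = ⊥) (i : PSL2 →* Y) (hi : Function.Injective i)
    (hinv : ∀ y : Y, orderOf y = 2 → y ∈ i.range) (hone : ∀ g : G, orderOf g = 2 → IsConj t g)
    {f : Y → ℂ} (hs : OddSupport f) :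
    ∑ χ : IrrCharacter G, classInner (P.sec f) (χ : G → ℂ) * (χ : G → ℂ) t ^ 2 / (χ : G → ℂ) 1 =
      4 * (∑ k ∈ InvL, ∑ l ∈ InvL, f (i (k * l))) /
        ((Subgroup.centralizer ({t} : Set G)).index : ℂ) := by
  set S := ∑ χ : IrrCharacter G,
    classInner (P.sec f) (χ : G → ℂ) * (χ : G → ℂ) t ^ 2 / (χ : G → ℂ) 1 with hS
  set I := (Subgroup.centralizer ({t} : Set G)).index with hI
  set IG := Finset.univ.filter (fun g : G => orderOf g = 2) with hIG
  have heq : IG = Finset.univ.filter (IsConj t) := by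
    ext g
    simp only [hIG, Finset.mem_filter, Finset.mem_univ, true_and]
    refine ⟨fun h => hone g h, fun h => ?_⟩
    obtain ⟨c, rfl⟩ := isConj_iff.1 h
    exact (orderOf_injective (MulAut.conj c).toMonoidHom (MulEquiv.injective _) t).trans P.t_two
  have hcard : (Finset.univ.filter (IsConj t)).card = I := by
    rw [hI, ← card_isConj_eq_index, Nat.card_eq_fintype_card, Fintype.card_subtype]
  have hA : ∑ a ∈ IG, ∑ b ∈ IG, P.sec f (a * b) = (I : ℂ) ^ 2 * S := by
    conv_lhs => rw [classFunction_eq_sum (P.sec_class f)]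
    simp only [Finset.sum_apply, Pi.smul_apply, smul_eq_mul]
    rw [hS, Finset.mul_sum, Finset.sum_congr rfl fun a _ => Finset.sum_comm, Finset.sum_comm]
    refine Finset.sum_congr rfl fun χ _ => ?_
    simp only [← Finset.mul_sum]
    rw [heq, CfsgLib.InvChar.KleinCentralizer.sum_char_class_products, hcard]
    ring
  have hB := P.class_product_sum hs
  rw [hA, sum_invs P hker i hi hinv hs, ← (Subgroup.centralizer ({t} : Set G)).card_mul_index, ← hI,
    Nat.cast_mul] at hB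
  have hI0 : (I : ℂ) ≠ 0 := Nat.cast_ne_zero.2 Subgroup.index_ne_zero_of_finite
  have hC : (Nat.card (Subgroup.centralizer ({t} : Set G)) : ℂ) ≠ 0 :=
    Nat.cast_ne_zero.2 Nat.card_pos.ne'
  rw [eq_div_iff hI0]
  refine mul_left_cancel₀ hI0 (mul_left_cancel₀ hC ?_)
  linear_combination hB

end Generic

section Psl

variable {F : Type} [Field F] [Fintype F] [DecidableEq F] (hq3 : Fintype.card F % 8 = 3)
  (hge : 11 ≤ Fintype.card F) (D : HalfData F)

local notation "PSL2" => Matrix.ProjectiveSpecialLinearGroup (Fin 2) F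
local notation "InvL" =>
  (Finset.univ.filter fun k : Matrix.ProjectiveSpecialLinearGroup (Fin 2) F => orderOf k = 2)

include hq3 hge

/-- The three sums over pairs of involutions of `PSL₂(q)`. -/
theorem psl_sums :
    (∑ k ∈ InvL, ∑ l ∈ InvL, D.f0 (k * l) =
      ((Fintype.card F : ℂ) * ((Fintype.card F : ℂ) - 1) / 2) ^ 2 * (1 + 1 / (Fintype.card F : ℂ))) ∧
    (∑ k ∈ InvL, ∑ l ∈ InvL, D.g1 (k * l) =
      ((Fintype.card F : ℂ) * ((Fintype.card F : ℂ) - 1) / 2) ^ 2 *
        (2 / ((Fintype.card F : ℂ) - 1) + 1 / (Fintype.card F : ℂ))) ∧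
    (∑ k ∈ InvL, ∑ l ∈ InvL, D.g2 (k * l) =
      ((Fintype.card F : ℂ) * ((Fintype.card F : ℂ) - 1) / 2) ^ 2 *
        (2 / ((Fintype.card F : ℂ) - 1) + 1 / (Fintype.card F : ℂ))) := by
  haveI := Fact.mk Nat.prime_two
  set q := Fintype.card F with hq
  have hq8 : q % 8 = 3 ∨ q % 8 = 5 := Or.inl hq3
  have hodd : Odd q := CfsgLib.ReeOrder.Psl.q_odd hq8 hge
  have h2 : (2 : F) ≠ 0 := CfsgLib.PSL2.two_ne_zero_of_odd hodd
  have he : D.e = 1 := by rcases D.q_mod with ⟨h, -⟩ | ⟨-, h⟩ <;> omega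
  obtain ⟨w, hw⟩ : ∃ w : PSL2, orderOf w = 2 := exists_prime_orderOf_dvd_card' 2 (by
    rw [CfsgLib.ReeOrder.Psl.card_psl_eq hq8 hge, mul_assoc, mul_assoc]
    exact dvd_mul_of_dvd_left (by norm_num) _)
  have hcardL : (InvL).card = (Subgroup.centralizer ({w} : Set PSL2)).index := by
    rw [← card_isConj_eq_index, Nat.card_eq_fintype_card, Fintype.card_subtype]
    refine congrArg Finset.card (Finset.ext fun k => ?_)
    simp only [Finset.mem_filter, Finset.mem_univ, true_and]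
    refine ⟨fun h => CfsgLib.PSL2.isConj_of_orderOf_two h2 hw h, fun h => ?_⟩
    obtain ⟨c, rfl⟩ := isConj_iff.1 h
    exact (orderOf_injective (MulAut.conj c).toMonoidHom (MulEquiv.injective _) w).trans hw
  have hN : ((InvL).card : ℂ) = (q : ℂ) * ((q : ℂ) - 1) / 2 := by
    have hc := CfsgLib.PSL2.card_centralizer_involution hodd hw
    rw [if_neg (by omega : ¬ q % 4 = 1)] at hc
    have hmul := (Subgroup.centralizer ({w} : Set PSL2)).card_mul_index
    have hp := CfsgLib.PSL2.card_psl (F := F)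
    rw [CfsgLib.PSL2.gcd_eq_two hodd, ← hmul, hc, ← hcardL] at hp
    have h' : 2 * (InvL).card = q * (q - 1) := by
      refine Nat.eq_of_mul_eq_mul_left (Nat.succ_pos q) ?_
      linarith
    have h'' : (2 : ℂ) * ((InvL).card : ℂ) = (q : ℂ) * ((q : ℂ) - 1) := by
      have h3 := congrArg (Nat.cast : ℕ → ℂ) h'
      rw [Nat.cast_mul, Nat.cast_mul, Nat.cast_sub (by omega : 1 ≤ q), Nat.cast_one] at h3
      exact_mod_cast h3
    linear_combination h'' / 2
  have hsum : ∀ ψ : IrrCharacter PSL2, ∑ a ∈ InvL, ∑ b ∈ InvL, (ψ : PSL2 → ℂ) (a * b) =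
      ((q : ℂ) * ((q : ℂ) - 1) / 2) ^ 2 * ((ψ : PSL2 → ℂ) w ^ 2 / (ψ : PSL2 → ℂ) 1) := by
    intro ψ
    have heq : InvL = Finset.univ.filter (IsConj w) := by
      ext k
      simp only [Finset.mem_filter, Finset.mem_univ, true_and]
      refine ⟨fun h => CfsgLib.PSL2.isConj_of_orderOf_two h2 hw h, fun h => ?_⟩
      obtain ⟨c, rfl⟩ := isConj_iff.1 h
      exact (orderOf_injective (MulAut.conj c).toMonoidHom (MulEquiv.injective _) w).trans hw
    rw [← hN, heq, ← mul_div_assoc]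
    convert CfsgLib.InvChar.KleinCentralizer.sum_char_class_products ψ w
  obtain ⟨hst, heta, heta'⟩ := D.even w (by rw [hw]; exact even_two)
  rw [he, Int.cast_one] at hst heta heta'
  have hST : ∑ a ∈ InvL, ∑ b ∈ InvL, (D.St : PSL2 → ℂ) (a * b) =
      ((q : ℂ) * ((q : ℂ) - 1) / 2) ^ 2 * (1 / (q : ℂ)) := by
    rw [hsum, hst, D.St_one, neg_one_sq]
  have half : ∀ η : IrrCharacter PSL2, (η : PSL2 → ℂ) w = 1 →
      2 * (η : PSL2 → ℂ) 1 = (q : ℂ) - 1 →
      ∑ a ∈ InvL, ∑ b ∈ InvL, ((D.e : ℂ) • ((η : PSL2 → ℂ) + D.St)) (a * b) =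
        ((q : ℂ) * ((q : ℂ) - 1) / 2) ^ 2 * (2 / ((q : ℂ) - 1) + 1 / (q : ℂ)) := by
    intro η hη hη1
    have h1 : (η : PSL2 → ℂ) 1 = ((q : ℂ) - 1) / 2 := by rw [← hη1]; ring
    simp only [Pi.smul_apply, Pi.add_apply, smul_eq_mul, he, Int.cast_one, one_mul,
      Finset.sum_add_distrib, hST, hsum, hη, h1, one_pow, one_div_div]
    ring
  have h0 : ∑ a ∈ InvL, ∑ b ∈ InvL, D.f0 (a * b) =
      ((q : ℂ) * ((q : ℂ) - 1) / 2) ^ 2 * (1 + 1 / (q : ℂ)) := by
    simp only [HalfData.f0, Pi.add_apply, Pi.smul_apply, smul_eq_mul, Finset.sum_add_distrib,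
      he, Int.cast_one, one_mul, hST, Finset.sum_const, nsmul_eq_mul, mul_one, hN]
    ring
  have e1 := D.eta_one
  have e2 := D.eta'_one
  rw [he, Int.cast_one] at e1 e2
  exact ⟨h0, half D.eta heta e1, half D.eta' heta' e2⟩

variable {G : Type u} [Group G] [Fintype G] {t : G} {Y : Type v} [Group Y] [Fintype Y] (P : Proj t Y)
  (hker : (P.sg.prod P.proj).ker = ⊥) (i : Matrix.ProjectiveSpecialLinearGroup (Fin 2) F →* Y)
  (hi : Function.Injective i) (hinv : ∀ y : Y, orderOf y = 2 → y ∈ i.range) (hone : ∀ g : G, orderOf g = 2 → IsConj t g)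
  {f : Y → ℂ} (hs : OddSupport f)

include hker hi hinv hone hs

/-- The first equation. -/
theorem eq_ratio (hf : ∀ x, f (i x) = D.f0 x) :
    ∑ χ : IrrCharacter G, classInner (P.sec f) (χ : G → ℂ) * (χ : G → ℂ) t ^ 2 / (χ : G → ℂ) 1 =
      ((ratio (Fintype.card F) (Subgroup.centralizer ({t} : Set G)).index : ℚ) : ℂ) := by
  rw [pair_sum P hker i hi hinv hone hs]
  simp only [hf]
  rw [(psl_sums hq3 hge D).1]
  set q := Fintype.card F
  have hI : ((Subgroup.centralizer ({t} : Set G)).index : ℂ) ≠ 0 :=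
    Nat.cast_ne_zero.2 Subgroup.index_ne_zero_of_finite
  have hq0 : (q : ℂ) ≠ 0 := Nat.cast_ne_zero.2 (by omega)
  have habs : ((((q : ℕ) : ℤ) - 1).natAbs : ℚ) = (q : ℚ) - 1 := by
    rw [show (((q : ℕ) : ℤ) - 1).natAbs = q - 1 by omega, Nat.cast_sub (by omega), Nat.cast_one]
  simp only [ratio, CfsgLib.ReeOrder.sq, if_pos hq3, habs]
  push_cast
  field_simp
  ring

/-- The second equation. -/
theorem eq_ratio₂ (hf : (∀ x, f (i x) = D.g1 x) ∨ (∀ x, f (i x) = D.g2 x)) :
    ∑ χ : IrrCharacter G, classInner (P.sec f) (χ : G → ℂ) * (χ : G → ℂ) t ^ 2 / (χ : G → ℂ) 1 =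
      ((ratio₂ (Fintype.card F) *
        ratio (Fintype.card F) (Subgroup.centralizer ({t} : Set G)).index : ℚ) : ℂ) := by
  rw [pair_sum P hker i hi hinv hone hs]
  obtain ⟨-, h1, h2⟩ := psl_sums hq3 hge D
  set q := Fintype.card F
  have key : ∑ k ∈ InvL, ∑ l ∈ InvL, f (i (k * l)) =
      ((q : ℂ) * ((q : ℂ) - 1) / 2) ^ 2 * (2 / ((q : ℂ) - 1) + 1 / (q : ℂ)) := by
    rcases hf with hf | hf <;> simp only [hf]
    · exact h1
    · exact h2
  rw [key]
  have hI : ((Subgroup.centralizer ({t} : Set G)).index : ℂ) ≠ 0 :=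
    Nat.cast_ne_zero.2 Subgroup.index_ne_zero_of_finite
  have hq0 : (q : ℂ) ≠ 0 := Nat.cast_ne_zero.2 (by omega)
  have hqm : (q : ℂ) - 1 ≠ 0 := sub_ne_zero.2 (by exact_mod_cast (by omega : q ≠ 1))
  have hsq2 : (q : ℂ) ^ 2 - 1 ≠ 0 := by
    rw [show (q : ℂ) ^ 2 - 1 = ((q : ℂ) - 1) * ((q : ℂ) + 1) by ring]
    exact mul_ne_zero hqm (by exact_mod_cast Nat.succ_ne_zero q)
  have habs : ((((q : ℕ) : ℤ) - 1).natAbs : ℚ) = (q : ℚ) - 1 := by
    rw [show (((q : ℕ) : ℤ) - 1).natAbs = q - 1 by omega, Nat.cast_sub (by omega), Nat.cast_one]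
  simp only [ratio, ratio₂, CfsgLib.ReeOrder.sq, if_pos hq3, habs]
  push_cast
  field_simp
  ring

end Psl

section Frame

variable {G : Type u} [Group G] [Fintype G] {E : Setup G} (R : Frame E) [CharP R.F 3]
  (hloc : Local E) (D : HalfData R.F) {Y : Type v} [Group Y] [Fintype Y] (P : Proj E.t Y)
  (hker : (P.sg.prod P.proj).ker = ⊥)
  (i : Matrix.ProjectiveSpecialLinearGroup (Fin 2) R.F →* Y) (hi : Function.Injective i)
  (hinv : ∀ y : Y, orderOf y = 2 → y ∈ i.range) {f : Y → ℂ} (hs : OddSupport f)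

include hloc hker hi hinv hs

/-- The first equation in a frame. -/
theorem frame_eq_ratio (hf : ∀ x, f (i x) = D.f0 x) :
    ∑ χ : IrrCharacter G, classInner (P.sec f) (χ : G → ℂ) * (χ : G → ℂ) E.t ^ 2 / (χ : G → ℂ) 1 =
      ((ratio R.q R.I : ℚ) : ℂ) :=
  eq_ratio (FixedT.q_mod_three R).1 (FixedT.q_mod_three R).2 D P hker i hi hinv
    (fun g hg => hloc.one_class E.t g E.orderOf_t hg) hs hf

/-- The second equation in a frame. -/
theorem frame_eq_ratio₂ (hf : (∀ x, f (i x) = D.g1 x) ∨ (∀ x, f (i x) = D.g2 x)) :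
    ∑ χ : IrrCharacter G, classInner (P.sec f) (χ : G → ℂ) * (χ : G → ℂ) E.t ^ 2 / (χ : G → ℂ) 1 =
      ((ratio₂ R.q * ratio R.q R.I : ℚ) : ℂ) :=
  eq_ratio₂ (FixedT.q_mod_three R).1 (FixedT.q_mod_three R).2 D P hker i hi hinv
    (fun g hg => hloc.one_class E.t g E.orderOf_t hg) hs hf

end Frame

end CfsgLib.Walter.Twist.CaseEq
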