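import Cfsg.Agent.Lib.Walter.Twist.CaseProj
import Cfsg.Agent.Lib.Blocks.AbelianInduced
import Cfsg.Agent.Lib.Blocks.RootsMod
import Cfsg.Agent.Lib.Blocks.PrincipalSq
import Cfsg.Agent.Lib.Characters.Counting
import Cfsg.Agent.Lib.Characters.Ito

/-!
Walter, case D, piece X: the blocks of the centralizer with full defect group are those of the linear
characters of the field part, and two of them never induce the same block of the group.
-/

set_option autoImplicit false
set_option linter.unusedSectionVars false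
set_option linter.style.haveILetI false

namespace CfsgLib.Walter.Twist.CaseX

open Cfsg CfsgLib.Characters CfsgLib.Blocks CfsgLib.ReeOrder CfsgLib.Walter.Twist.FixedT
open scoped Classical

universe u

variable {G : Type u} [Group G] [Fintype G] {E : Setup G} (R : Frame E)

set_option quotPrecheck false in
local notation "CT" => Subgroup.centralizer ({Setup.t E} : Set G)

/-- The field component. -/
noncomputable def fpC : Subgroup.centralizer ({E.t} : Set G) →* R.Γ :=
  SemidirectProduct.rightHom.comp (toProj R).proj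

theorem fpC_up (k : YExt R) : fpC R (up R k) = k.right := by
  rw [fpC, MonoidHom.comp_apply, proj_up]; rfl

theorem fpC_isConj {x y : Subgroup.centralizer ({E.t} : Set G)} (h : IsConj x y) :
    fpC R x = fpC R y := by
  obtain ⟨c, rfl⟩ := isConj_iff.1 h
  rw [map_mul, map_mul, map_inv, show fpC R c * fpC R x = fpC R x * fpC R c from
    Subtype.ext (CfsgLib.FieldGalois.commute_ringAut ((fpC R c : R.Γ) : R.F ≃+* R.F) _).eq,
    mul_inv_cancel_right]

theorem fpC_fldC (σ : R.Γ) : fpC R (fldC R σ) = σ := by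
  have h : fldC R σ = up R (SemidirectProduct.inr σ) := Subtype.ext (up_inr R σ).symm
  rw [h, fpC_up, SemidirectProduct.right_inr]

/-- The linear character of the centralizer given by one of the field part. -/
noncomputable def linC (lam : R.Γ →* ℂˣ) : IrrCharacter (Subgroup.centralizer ({E.t} : Set G)) :=
  linearIrr (lam.comp (fpC R))

theorem linC_apply (lam : R.Γ →* ℂˣ) (x : Subgroup.centralizer ({E.t} : Set G)) :
    (linC R lam : Subgroup.centralizer ({E.t} : Set G) → ℂ) x = (lam (fpC R x) : ℂ) := rfl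

/-- The fixed Sylow subgroup inside the centralizer. -/
def sylC (E : Setup G) : Subgroup (Subgroup.centralizer ({E.t} : Set G)) :=
  (E.S : Subgroup G).subgroupOf (Subgroup.centralizer ({E.t} : Set G))

theorem card_sylC : Nat.card (sylC E) = 2 ^ 3 := by
  rw [sylC, Nat.card_congr (Subgroup.subgroupOfEquivOfLe
    (show (E.S : Subgroup G) ≤ Subgroup.centralizer ({E.t} : Set G) from E.sylow_le_H)).toEquiv,
    E.card_S]
  rfl

theorem sylC_comm (x : Subgroup.centralizer ({E.t} : Set G)) (hx : x ∈ sylC E)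
    (y : Subgroup.centralizer ({E.t} : Set G)) (hy : y ∈ sylC E) : x * y = y * x :=
  Subtype.ext (E.comm hx hy)

/-- The 2-subgroups are commutative. -/
theorem two_comm (E : Setup G) : ∀ P : Subgroup G, IsPGroup 2 P → ∀ x ∈ P, ∀ y ∈ P, x * y = y * x := by
  intro P hP x hx y hy
  haveI := Fact.mk Nat.prime_two
  obtain ⟨T, hT⟩ := hP.exists_le_sylow
  obtain ⟨g, hg⟩ := MulAction.exists_smul_eq G E.S T
  have hm : ∀ z ∈ P, g⁻¹ * z * g ∈ (E.S : Subgroup G) := fun z hz => by
    have h := hT hz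
    rw [← hg, Sylow.coe_subgroup_smul, Subgroup.mem_pointwise_smul_iff_inv_smul_mem] at h
    simpa [MulAut.smul_def] using h
  have h := E.comm (hm x hx) (hm y hy)
  calc x * y = g * (g⁻¹ * x * g * (g⁻¹ * y * g)) * g⁻¹ := by group
    _ = g * (g⁻¹ * y * g * (g⁻¹ * x * g)) * g⁻¹ := by rw [h]
    _ = y * x := by group

theorem factorization_G (E : Setup G) : (Nat.card G).factorization 2 = 3 := by
  have h := E.S.card_eq_multiplicity
  rw [E.card_S, show (8 : ℕ) = 2 ^ 3 by norm_num] at h
  exact (Nat.pow_right_injective le_rfl h).symm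

theorem factorization_C (E : Setup G) :
    (Nat.card (Subgroup.centralizer ({E.t} : Set G))).factorization 2 = 3 := by
  refine le_antisymm ?_ ?_
  · exact ((Nat.factorization_le_iff_dvd Nat.card_pos.ne' Nat.card_pos.ne').2
      (Subgroup.card_subgroup_dvd_card _) 2).trans (factorization_G E).le
  · refine (Nat.Prime.pow_dvd_iff_le_factorization Nat.prime_two Nat.card_pos.ne').1 ?_
    rw [show (2 : ℕ) ^ 3 = Nat.card (E.S : Subgroup G) by rw [E.card_S]; rfl]
    exact Subgroup.card_dvd_of_le E.sylow_le_H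

variable [CharP R.F 3]

/-- What centralizes `S`. -/
theorem centralizes_S {h : G} (hh : h ∈ E.H) (hc : ∀ s ∈ (E.S : Subgroup G), Commute h s) :
    ∃ s ∈ (E.S : Subgroup G), ∃ σ, h = s * R.fld σ := by
  obtain ⟨h3, h11⟩ := q_mod_three R
  obtain ⟨s₁, s₂, x₁, x₂, hs₁, hs₂, e₁, e₂, ho₁, ho₂, hx, hne, -, -⟩ := exists_S_pair R
  have hone : ∀ s y, s ∈ (E.S : Subgroup G) → (s = R.psl y ∨ s = E.t * R.psl y) →
      R.psl y ∈ (E.S : Subgroup G) := by
    rintro s y hs (rfl | rfl)
    · exact hs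
    · have := mul_mem E.mem hs
      rwa [← mul_assoc, t_sq, one_mul] at this
  obtain ⟨x, σ, hx' | hx'⟩ := R.exists_eq h hh
  all_goals
    have hcomm : ∀ s y, s ∈ (E.S : Subgroup G) → (s = R.psl y ∨ s = E.t * R.psl y) →
        Commute x y := fun s y hs e => by
      refine ((commute_psl_iff R e x).1 ?_).symm
      have h1 : Commute s (R.psl x * R.fld σ) := by
        first
          | (rw [← hx']; exact (hc s hs).symm)
          | (have h2 : Commute s (E.t * h) :=
               Commute.mul_right (E.comm hs E.mem : Commute s E.t) (hc s hs).symm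
             rwa [hx', ← mul_assoc, t_sq, one_mul] at h2)
      have h3 := h1.mul_right ((R.S_fld σ s hs).symm.inv_right)
      rwa [mul_inv_cancel_right] at h3
    have hxS : R.psl x ∈ (E.S : Subgroup G) := by
      rcases Psl.four_centralizer R.q_mod h11 ho₁ ho₂ hx hne (hcomm _ _ hs₁ e₁) (hcomm _ _ hs₂ e₂)
        with e | e | e | e <;> rw [e]
      · rw [map_one]; exact one_mem _
      · exact hone _ _ hs₁ e₁
      · exact hone _ _ hs₂ e₂
      · rw [map_mul]; exact mul_mem (hone _ _ hs₁ e₁) (hone _ _ hs₂ e₂)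
  · exact ⟨_, hxS, σ, hx'⟩
  · exact ⟨_, mul_mem E.mem hxS, σ, by rw [hx', mul_assoc]⟩

/-- The elements of odd order centralizing `S` are those of the field part. -/
theorem centralizes_S_odd {h : G} (hh : h ∈ E.H) (hc : ∀ s ∈ (E.S : Subgroup G), Commute h s)
    (ho : Odd (orderOf h)) : ∃ σ, h = R.fld σ := by
  obtain ⟨s, hs, σ, rfl⟩ := centralizes_S R hh hc
  obtain ⟨n, hn⟩ := ho
  have hss := E.sq s hs
  have h1 : (s * R.fld σ) ^ (2 * n + 1) = 1 := by rw [← hn, pow_orderOf_eq_one]
  rw [((R.S_fld σ s hs).symm).mul_pow, pow_succ s, pow_mul, pow_two, hss, one_pow, one_mul,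
    ← map_pow] at h1
  have h2 : s = R.fld (σ ^ (2 * n + 1))⁻¹ := by rw [map_inv]; exact eq_inv_of_mul_eq_one_left h1
  refine ⟨σ, ?_⟩
  rw [h2, ← map_mul] at hss
  rw [h2, sigma_eq_one R (R.fld_inj (hss.trans (map_one _).symm)), map_one, one_mul]

theorem fldC_commute_sylC (σ : R.Γ) : ∀ s ∈ sylC E, s * fldC R σ = fldC R σ * s := fun s hs =>
  Subtype.ext (R.S_fld σ s hs).eq.symm

theorem odd_index_fldC (σ : R.Γ) :
    Odd (Subgroup.centralizer ({fldC R σ} : Set (Subgroup.centralizer ({E.t} : Set G)))).index := by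
  haveI := Fact.mk Nat.prime_two
  refine Nat.not_even_iff_odd.1 fun he => ?_
  have hle : sylC E ≤
      Subgroup.centralizer ({fldC R σ} : Set (Subgroup.centralizer ({E.t} : Set G))) := fun s hs =>
    Subgroup.mem_centralizer_singleton_iff.2 (fldC_commute_sylC R σ s hs)
  have h1 : 2 ∣ (sylC E).index := (even_iff_two_dvd.1 he).trans (Subgroup.index_dvd_of_le hle)
  have h2 := (sylC E).card_mul_index
  rw [card_sylC] at h2
  have h3 : 2 ^ 4 ∣ Nat.card (Subgroup.centralizer ({E.t} : Set G)) := by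
    rw [← h2, pow_succ]
    exact mul_dvd_mul_left _ h1
  rw [Nat.Prime.pow_dvd_iff_le_factorization Nat.prime_two Nat.card_pos.ne', factorization_C] at h3
  omega

/-- The classes of odd size of elements of odd order. -/
theorem exists_fld_of_odd_index {y : Subgroup.centralizer ({E.t} : Set G)} (ho : Odd (orderOf y))
    (hi : Odd (Subgroup.centralizer ({y} : Set (Subgroup.centralizer ({E.t} : Set G)))).index) :
    IsConj y (fldC R (fpC R y)) := by
  haveI := Fact.mk Nat.prime_two
  set K := Subgroup.centralizer ({y} : Set (CT))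
  obtain ⟨P⟩ : Nonempty (Sylow 2 K) := inferInstance
  have hP : Nat.card ((P : Subgroup K).map K.subtype) = 2 ^ 3 := by
    rw [Subgroup.card_map_of_injective K.subtype_injective, P.card_eq_multiplicity]
    congr 1
    rw [← factorization_C E, ← K.card_mul_index,
      Nat.factorization_mul Nat.card_pos.ne' Subgroup.index_ne_zero_of_finite, Finsupp.add_apply,
      Nat.factorization_eq_zero_of_not_dvd (n := K.index)
        (fun h => Nat.not_even_iff_odd.2 hi (even_iff_two_dvd.2 h)), add_zero]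
  obtain ⟨c, hc⟩ := MulAction.exists_smul_eq (CT)
    (Sylow.ofCard ((P : Subgroup K).map K.subtype) (by rw [hP, factorization_C]))
    (Sylow.ofCard (sylC E) (by rw [card_sylC, factorization_C]))
  have hcent : ∀ s ∈ (E.S : Subgroup G), Commute ((c * y * c⁻¹ : (CT)) : G) s := by
    intro s hs
    have hsC : s ∈ (CT) := E.sylow_le_H hs
    have hm : (⟨s, hsC⟩ : (CT)) ∈ sylC E := hs
    have h1 : (⟨s, hsC⟩ : (CT)) ∈ (↑(c • (Sylow.ofCard ((P : Subgroup K).map K.subtype)
        (by rw [hP, factorization_C]) : Sylow 2 (CT))) : Subgroup (CT)) := by rw [hc]; exact hm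
    rw [Sylow.coe_subgroup_smul, Subgroup.mem_pointwise_smul_iff_inv_smul_mem] at h1
    obtain ⟨k, -, hk⟩ := h1
    have hky := Subgroup.mem_centralizer_singleton_iff.1 k.2
    rw [show (k : (CT)) = c⁻¹ * ⟨s, hsC⟩ * c by rw [← K.coe_subtype, hk]; simp [MulAut.smul_def]] at hky
    refine congrArg Subtype.val (show c * y * c⁻¹ * ⟨s, hsC⟩ = ⟨s, hsC⟩ * (c * y * c⁻¹) from ?_)
    calc c * y * c⁻¹ * ⟨s, hsC⟩ = c * (y * (c⁻¹ * ⟨s, hsC⟩ * c)) * c⁻¹ := by group
      _ = c * (c⁻¹ * ⟨s, hsC⟩ * c * y) * c⁻¹ := by rw [hky]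
      _ = _ := by group
  obtain ⟨σ, hσ⟩ := centralizes_S_odd R (c * y * c⁻¹ : (CT)).2 hcent
    (by rw [Subgroup.orderOf_coe, ← MulAut.conj_apply, MulEquiv.orderOf_eq]; exact ho)
  have heq : c * y * c⁻¹ = fldC R σ := Subtype.ext hσ
  refine isConj_iff.2 ⟨c, ?_⟩
  have h2 := congrArg (fpC R) heq
  rw [map_mul, map_mul, map_inv, fpC_fldC] at h2
  have hcomm : fpC R c * fpC R y = fpC R y * fpC R c :=
    Subtype.ext (CfsgLib.FieldGalois.commute_ringAut ((fpC R c : R.Γ) : R.F ≃+* R.F) _).eq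
  rw [hcomm, mul_inv_cancel_right] at h2
  rw [heq, h2]

variable {M : Ideal AlgInt}

theorem root_memLocalIdeal (hM : IsPModular 2 M) {μ : ℂ} (h : μ ^ 2 = 1) :
    MemLocalIdeal M (μ - 1) := by
  rcases sq_eq_one_iff.1 h with rfl | rfl
  · rw [sub_self]; exact memLocalIdeal_zero hM
  · rw [show (-1 : ℂ) - 1 = -((2 : ℕ) : ℂ) by norm_num]
    exact MemLocalIdeal.neg hM ((memLocalIdeal_natCast_iff hM 2).2 dvd_rfl)

theorem odd_natCast_sub_one (hM : IsPModular 2 M) {j : ℕ} (hj : Odd j) :
    MemLocalIdeal M ((j : ℂ) - 1) := by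
  obtain ⟨i, rfl⟩ := hj
  rw [show ((2 * i + 1 : ℕ) : ℂ) - 1 = ((2 * i : ℕ) : ℂ) by push_cast; ring]
  exact (memLocalIdeal_natCast_iff hM _).2 ⟨i, rfl⟩

theorem linC_memLocalRing (hM : IsPModular 2 M) (lam : R.Γ →* ℂˣ) (σ : R.Γ) :
    MemLocalRing M (lam σ : ℂ) := by
  have h := CfsgLib.BlockCover.irr_memLocalRing hM (linC R lam) (fldC R σ)
  rwa [linC_apply, fpC_fldC] at h

theorem centralChar_linC (lam : R.Γ →* ℂˣ) (y : Subgroup.centralizer ({E.t} : Set G)) :
    centralChar (linC R lam : Subgroup.centralizer ({E.t} : Set G) → ℂ) y =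
      ((Subgroup.centralizer ({y} : Set (Subgroup.centralizer ({E.t} : Set G)))).index : ℂ) *
        (lam (fpC R y) : ℂ) := by
  rw [centralChar, linC_apply, linC_apply, map_one (fpC R), map_one, Units.val_one, div_one]

/-- At the field elements the linear characters are units. -/
theorem centralChar_linC_fldC (hM : IsPModular 2 M) (lam : R.Γ →* ℂˣ) (σ : R.Γ) :
    MemLocalIdeal M (centralChar (linC R lam : Subgroup.centralizer ({E.t} : Set G) → ℂ)
      (fldC R σ) - (lam σ : ℂ)) := by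
  rw [centralChar_linC, fpC_fldC, ← sub_one_mul]
  exact MemLocalIdeal.mul_right hM (odd_natCast_sub_one hM (odd_index_fldC R σ))
    (linC_memLocalRing R hM lam σ)

theorem blockDefect_linC (hM : IsPModular 2 M) (lam : R.Γ →* ℂˣ) :
    blockDefect 2 (blockOf M (linC R lam : Subgroup.centralizer ({E.t} : Set G) → ℂ)) = 3 := by
  rw [blockDefect, factorization_C]
  suffices h : sInf ((fun χ : IrrCharacter (Subgroup.centralizer ({E.t} : Set G)) =>
      (charDegree (χ : Subgroup.centralizer ({E.t} : Set G) → ℂ)).factorization 2) ''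
        blockOf M (linC R lam : Subgroup.centralizer ({E.t} : Set G) → ℂ)) = 0 by omega
  refine Nat.sInf_eq_zero.2 (Or.inl ⟨linC R lam, mem_blockOf_self hM _, ?_⟩)
  have h1 : charDegree (linC R lam : Subgroup.centralizer ({E.t} : Set G) → ℂ) = 1 := by
    rw [charDegree, linC_apply, map_one (fpC R), map_one, Units.val_one]; simp
  show (charDegree _).factorization 2 = 0
  rw [h1, Nat.factorization_one]
  rfl

include R in
/-- A block with full defect group is induced by a linear character of `C(S)`. -/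
theorem exists_inducing_linear (hM : IsPModular 2 M)
    {b : Set (IrrCharacter (Subgroup.centralizer ({E.t} : Set G)))} (hb : IsPBlock M b)
    (hd : blockDefect 2 b = 3) :
    ∃ μ : Subgroup.centralizer (sylC E : Set (Subgroup.centralizer ({E.t} : Set G))) →* ℂˣ,
      ∀ ξ ∈ b, ∀ y, MemLocalIdeal M (inducedCentralChar
        (Subgroup.centralizer (sylC E : Set (Subgroup.centralizer ({E.t} : Set G))))
        (fun h => (μ h : ℂ)) y -
          centralChar (ξ : Subgroup.centralizer ({E.t} : Set G) → ℂ) y) := by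
  haveI := Fact.mk Nat.prime_two
  obtain ⟨D, hD⟩ := exists_isDefectGroup hM hb
  have hcard := CfsgLib.BlockCover.natCard_defect hM hb hD
  rw [hd] at hcard
  obtain ⟨c, hc⟩ := MulAction.exists_smul_eq (CT)
    (Sylow.ofCard D (by rw [hcard, factorization_C]))
    (Sylow.ofCard (sylC E) (by rw [card_sylC, factorization_C]))
  have hS : IsDefectGroup 2 M b (sylC E) := by
    have h1 := CfsgLib.BlockCover.isDefectGroup_conj hM hb hD c
    have h2 : D.map (MulAut.conj c).toMonoidHom = sylC E := by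
      rw [show sylC E = ((Sylow.ofCard (sylC E) (by rw [card_sylC, factorization_C]) : Sylow 2 (CT)) :
        Subgroup (CT)) from rfl, ← hc, Sylow.coe_subgroup_smul]
      rfl
    rwa [h2] at h1
  set H₀ := Subgroup.centralizer (sylC E : Set (CT)) with hH₀
  let _ : Fintype H₀ := Fintype.ofFinite _
  obtain ⟨b₀, hb₀, hind, -⟩ := exists_inducing_block hM hb hS (H := H₀)
    (fun x hx => Subgroup.mem_centralizer_iff.2 fun y hy => sylC_comm y hy x hx) le_rfl
    (Subgroup.centralizer_le_normalizer _)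
  obtain ⟨ξ₀, hξ₀⟩ := IsPBlock.nonempty hM hb₀
  have hcomm : ∀ a ∈ (⊤ : Subgroup H₀), ∀ b ∈ (⊤ : Subgroup H₀), a * b = b * a := by
    intro a _ b _
    have hS' : ∀ z : H₀, ∀ s ∈ (E.S : Subgroup G), Commute ((z : (CT)) : G) s := fun z s hs =>
      (congrArg Subtype.val (Subgroup.mem_centralizer_iff.1 z.2 ⟨s, E.sylow_le_H hs⟩ hs)).symm
    obtain ⟨s, hs, σ, ha⟩ := centralizes_S R (a : (CT)).2 (hS' a)
    obtain ⟨s', hs', σ', hb'⟩ := centralizes_S R (b : (CT)).2 (hS' b)
    refine Subtype.ext (Subtype.ext ?_)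
    show ((a : (CT)) : G) * ((b : (CT)) : G) = ((b : (CT)) : G) * ((a : (CT)) : G)
    rw [ha, hb']
    refine Commute.eq (Commute.mul_left ?_ ?_)
    · exact Commute.mul_right (E.comm hs hs' : Commute s s') (R.S_fld σ' s hs).symm
    · exact (R.S_fld σ s' hs').mul_right (fld_comm R σ σ')
  obtain ⟨d, hd1, hd2⟩ := CfsgLib.CharIto.degree_dvd_index_of_abelian_normal ξ₀.2 ⊤ inferInstance hcomm
  rw [Subgroup.index_top, Nat.dvd_one] at hd2
  obtain ⟨μ, hμ⟩ := exists_linearIrr_eq ξ₀ (by rw [hd1, hd2, Nat.cast_one])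
  refine ⟨μ, fun ξ hξ y => ?_⟩
  have h := hind.2.2 ξ₀ hξ₀ ξ hξ y
  rwa [← hμ] at h

/-- The value of a linear character of `C(S)` on the class of a field element. -/
theorem induced_at_fldC
    (μ : Subgroup.centralizer (sylC E : Set (Subgroup.centralizer ({E.t} : Set G))) →* ℂˣ)
    (σ : R.Γ) :
    ∃ hσ : fldC R σ ∈
        Subgroup.centralizer (sylC E : Set (Subgroup.centralizer ({E.t} : Set G))),
      inducedCentralChar (Subgroup.centralizer (sylC E : Set (Subgroup.centralizer ({E.t} : Set G))))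
        (fun h => (μ h : ℂ)) (fldC R σ) = (μ ⟨fldC R σ, hσ⟩ : ℂ) := by
  have hσ : fldC R σ ∈
      Subgroup.centralizer (sylC E : Set (Subgroup.centralizer ({E.t} : Set G))) :=
    Subgroup.mem_centralizer_iff.2 fun s hs => fldC_commute_sylC R σ s hs
  refine ⟨hσ, ?_⟩
  rw [inducedCentralChar, finsum_mem_eq_sum_of_inter_support_eq _ (t := {⟨fldC R σ, hσ⟩})]
  · simp
  ext h
  simp only [Set.mem_inter_iff, Set.mem_ofPred_eq, Function.mem_support, Finset.coe_singleton,
    Set.mem_singleton_iff, and_congr_left_iff]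
  intro _
  refine ⟨fun hc => ?_, fun e => by rw [e]⟩
  obtain ⟨c, hc'⟩ := isConj_iff.1 hc
  have ho : Odd (orderOf ((h : Subgroup.centralizer ({E.t} : Set G)) : G)) := by
    rw [Subgroup.orderOf_coe, ← hc', ← MulAut.conj_apply, MulEquiv.orderOf_eq,
      ← Subgroup.orderOf_coe, show ((fldC R σ : Subgroup.centralizer ({E.t} : Set G)) : G) = R.fld σ from rfl,
      orderOf_injective R.fld R.fld_inj]
    exact R.Γ_odd.of_dvd_nat (orderOf_dvd_natCard σ)
  obtain ⟨τ, hτ⟩ := centralizes_S_odd R (h : Subgroup.centralizer ({E.t} : Set G)).2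
    (fun s hs => (congrArg Subtype.val
      (Subgroup.mem_centralizer_iff.1 h.2 ⟨s, E.sylow_le_H hs⟩ hs)).symm) ho
  have hτ' : (h : Subgroup.centralizer ({E.t} : Set G)) = fldC R τ := Subtype.ext hτ
  have h2 := congrArg (fpC R) hc'
  rw [hτ', map_mul, map_mul, map_inv, fpC_fldC, fpC_fldC,
    show fpC R c * σ = σ * fpC R c from
      Subtype.ext (CfsgLib.FieldGalois.commute_ringAut ((fpC R c : R.Γ) : R.F ≃+* R.F) _).eq,
    mul_inv_cancel_right] at h2
  exact Subtype.ext (hτ'.trans (congrArg (fldC R) h2.symm))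

/-- A block with full defect group is the block of a linear character of the field part. -/
theorem exists_linC_mem (hM : IsPModular 2 M)
    {b : Set (IrrCharacter (Subgroup.centralizer ({E.t} : Set G)))} (hb : IsPBlock M b)
    (hd : blockDefect 2 b = 3) : ∃ lam : R.Γ →* ℂˣ, linC R lam ∈ b := by
  haveI := Fact.mk Nat.prime_two
  set H₀ := Subgroup.centralizer (sylC E : Set (CT))
  let fH : R.Γ →* H₀ := (fldC R).codRestrict H₀ fun σ =>
    Subgroup.mem_centralizer_iff.2 fun s hs => fldC_commute_sylC R σ s hs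
  obtain ⟨μ, hμ⟩ := exists_inducing_linear R hM hb hd
  set lam : R.Γ →* ℂˣ := μ.comp fH with hlam
  obtain ⟨μ', hμ'⟩ := exists_inducing_linear R hM (isPBlock_blockOf (linC R lam))
    (blockDefect_linC R hM lam)
  obtain ⟨ξ, hξ⟩ := IsPBlock.nonempty hM hb
  refine ⟨lam, (IsPBlock.mem_iff hM hb hξ _).2 fun y => ?_⟩
  have hfld : ∀ σ, MemLocalIdeal M ((μ (fH σ) : ℂ) - (μ' (fH σ) : ℂ)) := by
    intro σ
    obtain ⟨_, h2⟩ := induced_at_fldC R μ' σ
    have h3 := hμ' (linC R lam) (mem_blockOf_self hM _) (fldC R σ)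
    rw [h2] at h3
    have h4 := MemLocalIdeal.neg hM (MemLocalIdeal.add hM h3 (centralChar_linC_fldC R hM lam σ))
    rw [sub_add_sub_cancel, neg_sub] at h4
    exact h4
  have hpt : ∀ h : H₀, MemLocalIdeal M ((μ h : ℂ) - (μ' h : ℂ)) := by
    intro h
    have hS' : ∀ s ∈ (E.S : Subgroup G), Commute ((h : (CT)) : G) s := fun s hs =>
      (congrArg Subtype.val (Subgroup.mem_centralizer_iff.1 h.2 ⟨s, E.sylow_le_H hs⟩ hs)).symm
    obtain ⟨s, hs, σ, hh⟩ := centralizes_S R (h : (CT)).2 hS'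
    let s' : H₀ := ⟨⟨s, E.sylow_le_H hs⟩, Subgroup.mem_centralizer_iff.2 fun y hy =>
      sylC_comm y hy ⟨s, E.sylow_le_H hs⟩ hs⟩
    have he : h = s' * fH σ := Subtype.ext (Subtype.ext hh)
    have hs2 : s' * s' = 1 := Subtype.ext (Subtype.ext (E.sq s hs))
    have hroot : ∀ ν : H₀ →* ℂˣ, MemLocalIdeal M ((ν s' : ℂ) - 1) := fun ν =>
      root_memLocalIdeal hM (by rw [pow_two, ← Units.val_mul, ← map_mul, hs2, map_one, Units.val_one])
    have hring : ∀ ν : H₀ →* ℂˣ, MemLocalRing M (ν (fH σ) : ℂ) := fun ν =>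
      CfsgLib.BlockCover.irr_memLocalRing hM (linearIrr ν) (fH σ)
    rw [he, map_mul, map_mul, Units.val_mul, Units.val_mul,
      show (μ s' : ℂ) * (μ (fH σ) : ℂ) - (μ' s' : ℂ) * (μ' (fH σ) : ℂ) =
        ((μ s' : ℂ) - 1) * (μ (fH σ) : ℂ) - ((μ' s' : ℂ) - 1) * (μ' (fH σ) : ℂ) +
          ((μ (fH σ) : ℂ) - (μ' (fH σ) : ℂ)) by ring]
    exact MemLocalIdeal.add hM (MemLocalIdeal.sub hM
      (MemLocalIdeal.mul_right hM (hroot μ) (hring μ))
      (MemLocalIdeal.mul_right hM (hroot μ') (hring μ'))) (hfld σ)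
  have hsum : MemLocalIdeal M (inducedCentralChar H₀ (fun h => (μ h : ℂ)) y -
      inducedCentralChar H₀ (fun h => (μ' h : ℂ)) y) := by
    let _ : Fintype H₀ := Fintype.ofFinite _
    rw [CfsgLib.BlockCover.inducedCentralChar_eq_sum, CfsgLib.BlockCover.inducedCentralChar_eq_sum]
    simp only [map_one, Units.val_one, div_one, ← Finset.sum_sub_distrib, ← mul_sub]
    refine MemLocalIdeal.sum hM _ fun h _ => MemLocalIdeal.mul_left hM ?_ (hpt h)
    split_ifs
    · exact (lRing hM).one_mem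
    · exact (lRing hM).zero_mem
  have h := MemLocalIdeal.add hM (MemLocalIdeal.sub hM hsum (hμ ξ hξ y))
    (hμ' (linC R lam) (mem_blockOf_self hM _) y)
  convert h using 1
  ring

/-- The induced central character of a linear character at a field element. -/
theorem induced_linC_fld (hM : IsPModular 2 M) (hR : CaseD R) (lam : R.Γ →* ℂˣ) (σ : R.Γ) :
    MemLocalIdeal M (inducedCentralChar (Subgroup.centralizer ({E.t} : Set G))
      (linC R lam : Subgroup.centralizer ({E.t} : Set G) → ℂ) (R.fld σ) - (lam σ : ℂ)) := by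
  set ξ := linC R lam
  let _ : Fintype (ConjClasses (CT)) := Fintype.ofFinite _
  have h0 : inducedCentralChar (CT) (ξ : (CT) → ℂ) (R.fld σ) = ∑ c : ConjClasses (CT),
      (if IsConj (R.fld σ) ((c.out : (CT)) : G) then 1 else 0) * centralChar (ξ : (CT) → ℂ) c.out := by
    rw [← omega_classPart, omega_eq_sum_classes ξ (classPart_mem_center ℂ (CT) (R.fld σ))]
    refine Finset.sum_congr (by ext; simp) fun c _ => ?_
    simp [classPart]
  set c₀ := ConjClasses.mk (fldC R σ)
  have hout : IsConj c₀.out (fldC R σ) :=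
    ConjClasses.mk_eq_mk_iff_isConj.1 (Quotient.out_eq c₀)
  have hmain : MemLocalIdeal M (centralChar (ξ : (CT) → ℂ) c₀.out - (lam σ : ℂ)) := by
    have hc : centralChar (ξ : (CT) → ℂ) c₀.out = centralChar (ξ : (CT) → ℂ) (fldC R σ) := by
      rw [centralChar_linC, centralChar_linC, fpC_isConj R hout]
      obtain ⟨d, hd⟩ := isConj_iff.1 hout
      congr 2
      rw [← hd, ← CfsgLib.BrauerPairs.index_centralizer_equiv (MulAut.conj d)]
      rfl
    rw [hc]
    exact centralChar_linC_fldC R hM lam σ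
  have hG₀ : IsConj (R.fld σ) ((c₀.out : CT) : G) := (MonoidHom.map_isConj (CT).subtype hout).symm
  rw [h0, ← Finset.add_sum_erase _ _ (Finset.mem_univ c₀)]
  simp only [if_pos hG₀, one_mul]
  rw [add_sub_right_comm]
  refine MemLocalIdeal.add hM hmain (MemLocalIdeal.sum hM _ fun c hc => ?_)
  split_ifs with hG
  · rw [one_mul, centralChar_linC]
    refine MemLocalIdeal.mul_right hM ((memLocalIdeal_natCast_iff hM _).2 ?_)
      (linC_memLocalRing R hM lam _)
    by_contra hodd
    have ho : Odd (orderOf c.out) := by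
      obtain ⟨g, hg⟩ := isConj_iff.1 hG
      rw [← Subgroup.orderOf_coe, ← hg, ← MulAut.conj_apply, MulEquiv.orderOf_eq,
        orderOf_injective R.fld R.fld_inj]
      exact R.Γ_odd.of_dvd_nat (orderOf_dvd_natCard σ)
    have hy := exists_fld_of_odd_index R ho
      (Nat.not_even_iff_odd.1 fun e => hodd (even_iff_two_dvd.1 e))
    obtain ⟨g, hg⟩ := isConj_iff.1 (hG.trans (MonoidHom.map_isConj (CT).subtype hy))
    have hστ := hR.fld_fusion σ _ g hg
    refine (Finset.mem_erase.1 hc).1 ((Quotient.out_eq c).symm.trans ?_)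
    exact ConjClasses.mk_eq_mk_iff_isConj.2 (by rwa [← hστ] at hy)
  · rw [zero_mul]; exact memLocalIdeal_zero hM

/-- Linear characters of the field part congruent modulo `M` are equal. -/
theorem lam_eq_of_congr (hM : IsPModular 2 M) {lam lam' : R.Γ →* ℂˣ}
    (h : ∀ σ, MemLocalIdeal M ((lam σ : ℂ) - (lam' σ : ℂ))) : lam = lam' := by
  refine MonoidHom.ext fun σ => Units.ext ?_
  have h2 := h σ
  have hroot : ∀ ν : R.Γ →* ℂˣ, (ν σ : ℂ) ^ Nat.card R.Γ = 1 := fun ν => by
    rw [← Units.val_pow_eq_pow_val, ← map_pow, pow_card_eq_one', map_one, Units.val_one]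
  set z : ℂ := (lam σ : ℂ) * ((lam' σ : ℂ))⁻¹ with hz
  have hzN : z ^ Nat.card R.Γ = 1 := by rw [hz, mul_pow, inv_pow, hroot, hroot, inv_one, one_mul]
  have hint : IsIntegral ℤ z :=
    IsIntegral.of_pow Nat.card_pos (by rw [hzN]; exact isIntegral_one)
  have hz1 : (⟨z, hint⟩ : AlgInt) = 1 := by
    refine rootOfUnity_eq_one_of_mem hM
      (fun h2 => Nat.not_even_iff_odd.2 R.Γ_odd (even_iff_two_dvd.2 h2))
      (Subtype.ext (by push_cast; exact hzN)) ((memLocalIdeal_coe_iff hM _).1 ?_)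
    have hlr : MemLocalRing M ((lam' σ : ℂ))⁻¹ := by
      have := linC_memLocalRing R hM lam'⁻¹ σ
      rwa [MonoidHom.inv_apply, Units.val_inv_eq_inv_val] at this
    have h3 := MemLocalIdeal.mul_right hM h2 hlr
    rw [sub_mul, mul_inv_cancel₀ (lam' σ).ne_zero] at h3
    push_cast
    exact h3
  have h4 : z = 1 := congrArg Subtype.val hz1
  rw [hz, mul_inv_eq_one₀ (lam' σ).ne_zero] at h4
  exact h4

/-- Different linear characters induce different blocks. -/
theorem linC_injective (hM : IsPModular 2 M) (hR : CaseD R) {lam lam' : R.Γ →* ℂˣ}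
    {B : Set (IrrCharacter G)}
    (h : IsInducedBlock M (Subgroup.centralizer ({E.t} : Set G))
      (blockOf M (linC R lam : Subgroup.centralizer ({E.t} : Set G) → ℂ)) B)
    (h' : IsInducedBlock M (Subgroup.centralizer ({E.t} : Set G))
      (blockOf M (linC R lam' : Subgroup.centralizer ({E.t} : Set G) → ℂ)) B) : lam = lam' := by
  obtain ⟨χ, hχ⟩ := IsPBlock.nonempty hM h.2.1
  refine MonoidHom.ext fun σ => Units.ext ?_
  have heq : lam = lam' := lam_eq_of_congr R hM fun τ => ?_
  · rw [heq]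
  set g := R.fld τ
  have h1 := MemLocalIdeal.sub hM (h.2.2 _ (mem_blockOf_self hM _) χ hχ g)
    (h'.2.2 _ (mem_blockOf_self hM _) χ hχ g)
  rw [sub_sub_sub_cancel_right] at h1
  have h2 := MemLocalIdeal.sub hM h1
    (MemLocalIdeal.sub hM (induced_linC_fld R hM hR lam τ) (induced_linC_fld R hM hR lam' τ))
  rwa [sub_sub_sub_comm, sub_sub_cancel, sub_sub_cancel] at h2

/-- Only the block of the same linear character induces the same block. -/
theorem mem_linC_block (hM : IsPModular 2 M) (hR : CaseD R) {lam : R.Γ →* ℂˣ}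
    {B : Set (IrrCharacter G)}
    {b : Set (IrrCharacter (Subgroup.centralizer ({E.t} : Set G)))}
    (h : IsInducedBlock M (Subgroup.centralizer ({E.t} : Set G))
      (blockOf M (linC R lam : Subgroup.centralizer ({E.t} : Set G) → ℂ)) B)
    (hb : IsInducedBlock M (Subgroup.centralizer ({E.t} : Set G)) b B) :
    b = blockOf M (linC R lam : Subgroup.centralizer ({E.t} : Set G) → ℂ) := by
  haveI := Fact.mk Nat.prime_two
  have ht : ∃ k : ℕ, orderOf E.t = 2 ^ k := ⟨1, by rw [E.orderOf_t, pow_one]⟩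
  have h3 : blockDefect 2 b = 3 := by
    rw [blockDefect_eq_of_abelian hM (two_comm E) ht hb,
      ← blockDefect_eq_of_abelian hM (two_comm E) ht h, blockDefect_linC R hM lam]
  obtain ⟨lam', hlam'⟩ := exists_linC_mem R hM hb.1 h3
  have hbeq := IsPBlock.eq_blockOf hM hb.1 hlam'
  rw [hbeq] at hb ⊢
  rw [linC_injective R hM hR h hb]

end CfsgLib.Walter.Twist.CaseX
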