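import Cfsg.Agent.Lib.Walter.Twist.RowsDefs
import Cfsg.Agent.Lib.Walter.FieldRows
import Cfsg.Agent.Lib.ReeOrder.Block.Sign

/-!
Walter, the field part, case D, piece X for the trivial character of the field part: in the seven-row
pattern of the principal block complex conjugation exchanges the two rows of value `(q + 1) / 2`, the
Frobenius–Schur indicators give the sign, and the second column gives the second equation.
Everything is stated for an arbitrary projection of `C(t)` and its three functions.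
-/

set_option autoImplicit false
set_option linter.unusedSectionVars false
set_option linter.style.haveILetI false

namespace CfsgLib.Walter.Twist.Principal

open Cfsg CfsgLib.Characters CfsgLib.JankoThompson CfsgLib.FrobSchur
open CfsgLib.ReeOrder.Block (galChar)
open CfsgLib.Walter.FieldRows (cnt canon sgn)
open scoped ComplexConjugate Classical

universe u v

section Section2

variable {G : Type u} [Group G] [Fintype G] {t : G} {Y : Type v} [Group Y] [Fintype Y] (P : Proj t Y)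

theorem sec_map (σ : ℂ ≃+* ℂ) (f : Y → ℂ) (g : G) :
    σ (P.sec f g) = P.sec (fun k => σ (f k)) g := by
  rw [Proj.sec, Proj.sec, CfsgLib.Induction.indFun_apply, CfsgLib.Induction.indFun_apply, map_mul,
    map_inv₀, map_natCast, map_sum]
  congr 1
  refine Finset.sum_congr rfl fun x _ => ?_
  by_cases hm : x⁻¹ * g * x ∈ Subgroup.centralizer ({t} : Set G)
  · rw [CfsgLib.Induction.extendByZero_mem _ _ hm, CfsgLib.Induction.extendByZero_mem _ _ hm]
    simp only [Proj.phi]
    rcases P.sg_cases ⟨x⁻¹ * g * x, hm⟩ with ⟨-, e⟩ | ⟨-, e⟩ <;> simp [e]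
  · rw [CfsgLib.Induction.extendByZero_notMem _ _ hm, CfsgLib.Induction.extendByZero_notMem _ _ hm,
      map_zero]

/-- Automorphisms act on the coefficients through the functions on the section. -/
theorem inner_map (σ : ℂ ≃+* ℂ) {f f' : Y → ℂ} (hf : ∀ k, σ (f k) = f' k) (χ : IrrCharacter G) :
    classInner (P.sec f') (galChar σ χ : G → ℂ) = σ (classInner (P.sec f) (χ : G → ℂ)) := by
  have e : f' = fun k => σ (f k) := funext fun k => (hf k).symm
  rw [classInner, classInner, map_mul, map_inv₀, map_natCast, map_sum]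
  congr 1
  refine Finset.sum_congr rfl fun g _ => ?_
  rw [map_mul, sec_map P σ f g, ← e, ← irr_apply_inv, ← irr_apply_inv]
  rfl

/-- No square lies in the section of `t`. -/
theorem sec_square {f : Y → ℂ} (hs : OddSupport f) (s : G) : P.sec f (s * s) = 0 := by
  rw [Proj.sec, CfsgLib.Induction.indFun_apply, Finset.sum_eq_zero, mul_zero]
  intro x _
  by_cases hm : x⁻¹ * (s * s) * x ∈ Subgroup.centralizer ({t} : Set G)
  swap
  · exact CfsgLib.Induction.extendByZero_notMem _ _ hm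
  rw [CfsgLib.Induction.extendByZero_mem _ _ hm]
  by_contra hne
  obtain ⟨hsg, ho, -⟩ := P.phi_ne hs hne
  set N := orderOf (P.proj ⟨x⁻¹ * (s * s) * x, hm⟩) * Nat.card (P.sg.prod P.proj).ker
  have h1 := P.pow_eq_t hsg (ho.mul P.ker_odd) (dvd_refl N)
  set y := x⁻¹ * s * x with hy
  have hz : y ^ N * y ^ N = t := by
    rw [← (Commute.refl y).mul_pow, ← h1]
    congr 1
    simp only [hy]; group
  have hzc : y ^ N ∈ Subgroup.centralizer ({t} : Set G) :=
    Subgroup.mem_centralizer_singleton_iff.2 (by rw [← hz, mul_assoc])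
  have h3 : (⟨y ^ N, hzc⟩ : Subgroup.centralizer ({t} : Set G)) * ⟨y ^ N, hzc⟩ = P.tC := Subtype.ext hz
  have h4 := congrArg P.sg h3
  rw [map_mul, P.sg_t] at h4
  have key : ∀ w : Multiplicative (ZMod 2), w * w ≠ Multiplicative.ofAdd 1 := by decide
  exact key _ h4

/-- The indicators are orthogonal to the columns. -/
theorem sum_indicator {f : Y → ℂ} (hs : OddSupport f) :
    ∑ χ : IrrCharacter G, classInner (P.sec f) (χ : G → ℂ) * fsInd (χ : G → ℂ) = 0 := by
  have h1 : ∑ s : G, P.sec f (s * s) = 0 := Finset.sum_eq_zero fun s _ => sec_square P hs s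
  rw [classFunction_eq_sum (P.sec_class f)] at h1
  simp only [Finset.sum_apply, Pi.smul_apply, smul_eq_mul] at h1
  rw [Finset.sum_comm] at h1
  simp only [← Finset.mul_sum] at h1
  simp only [fsInd_eq_sum, ← mul_assoc, mul_comm _ ((Nat.card G : ℂ)⁻¹)]
  simp only [mul_assoc, ← Finset.mul_sum]
  rw [h1, mul_zero]

/-- The degrees are orthogonal to the columns. -/
theorem sum_degree {f : Y → ℂ} (hs : OddSupport f) :
    ∑ χ : IrrCharacter G, classInner (P.sec f) (χ : G → ℂ) * (χ : G → ℂ) 1 = 0 := by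
  have h1 : P.sec f 1 = 0 := by simpa using sec_square P hs 1
  rw [classFunction_eq_sum (P.sec_class f)] at h1
  simpa only [Finset.sum_apply, Pi.smul_apply, smul_eq_mul] using h1

/-- A real character of odd degree has indicator one. -/
theorem fsInd_real_odd {χ : IrrCharacter G} (hreal : ∀ g, ((χ : G → ℂ) g).im = 0)
    (hodd : Odd (charDegree (χ : G → ℂ))) : fsInd (χ : G → ℂ) = 1 := by
  rcases fsInd_cases χ.2 with ⟨-, h | h⟩ | ⟨hnr, -⟩
  · exact h
  · exfalso
    obtain ⟨n, ρ, hρ, he⟩ := χ.2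
    haveI := hρ
    rw [← he] at h hreal
    obtain ⟨B, hB0, hB⟩ := (exists_invForm_iff_real ρ hρ).2 hreal
    have hT := transpose_eq_fsInd_smul ρ hρ hB
    rw [h, neg_one_smul] at hT
    have heven := even_card_of_skew hT (isUnit_det_of_invForm ρ hρ hB hB0).ne_zero
    rw [Fintype.card_fin] at heven
    have hnd : n = charDegree (χ : G → ℂ) := by
      have h2 := CfsgLib.LinearTwist.apply_one_eq_charDegree (irr_isCharacter χ)
      rw [← he, Representation.char_one, Module.finrank_fin_fun] at h2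
      rw [← he]
      exact_mod_cast h2
    exact Nat.not_even_iff_odd.2 hodd (hnd ▸ heven)
  · exact absurd hreal hnr

end Section2

/-- A column of norm four on four places with unit entries lives there. -/
theorem eq_zero_outside {ι : Type*} [Fintype ι] (c : ι → ℤ) (a : Fin 4 → ι)
    (ha : Function.Injective a) (h4 : ∑ i, c i * c i = 4) (hu : ∀ j, c (a j) * c (a j) = 1) {i : ι}
    (hi : ∀ j, a j ≠ i) : c i = 0 := by
  have hni : i ∉ Finset.univ.image a := by simpa using hi
  have h := Finset.sum_le_univ_sum_of_nonneg (f := fun k => c k * c k)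
    (s := insert i (Finset.univ.image a)) (fun k => mul_self_nonneg _)
  rw [Finset.sum_insert hni, Finset.sum_image fun x _ y _ e => ha e, h4,
    Finset.sum_congr rfl (fun j _ => hu j)] at h
  simp at h
  exact mul_self_eq_zero.1 (le_antisymm (by linarith) (mul_self_nonneg _))

theorem expand {ι : Type*} [Fintype ι] (c : ι → ℤ) (a : Fin 4 → ι)
    (ha : Function.Injective a) (h4 : ∑ i, c i * c i = 4) (hu : ∀ j, c (a j) * c (a j) = 1)
    (Fc : ι → ℂ) : ∑ i, (c i : ℂ) * Fc i = ∑ j, (c (a j) : ℂ) * Fc (a j) := by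
  rw [← Finset.sum_image (f := fun i => (c i : ℂ) * Fc i) fun x _ y _ e => ha e]
  refine (Finset.sum_subset (Finset.subset_univ _) fun i _ hi => ?_).symm
  rw [eq_zero_outside c a ha h4 hu (by simpa using hi), Int.cast_zero, zero_mul]

variable {G : Type u} [Group G] [Fintype G] {t : G} {Y : Type v} [Group Y] [Fintype Y] (P : Proj t Y)

/-- The principal block in the seven-row pattern. -/
theorem sevenPrincipal {q I : ℕ} {h : ℤ} (hh : (q : ℤ) = 2 * h + 1) (h4 : h % 4 = 1)
    {f0 g1 g2 : Y → ℂ} (hs0 : OddSupport f0) (hs1 : OddSupport g1) (hs2 : OddSupport g2)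
    (cf0 : ∀ k, conj (f0 k) = f0 k) (cg1 : ∀ k, conj (g1 k) = g2 k) (cg2 : ∀ k, conj (g2 k) = g1 k)
    (c : IrrCharacter G → Fin 3 → ℤ)
    (hc : ∀ χ : IrrCharacter G, classInner (P.sec f0) (χ : G → ℂ) = (c χ 0 : ℂ) ∧
      classInner (P.sec g1) (χ : G → ℂ) = (c χ 1 : ℂ) ∧
      classInner (P.sec g2) (χ : G → ℂ) = (c χ 2 : ℂ))
    (g00 : ∑ χ, c χ 0 * c χ 0 = 4) (g11 : ∑ χ, c χ 1 * c χ 1 = 4) (g22 : ∑ χ, c χ 2 * c χ 2 = 4)
    (g01 : ∑ χ, c χ 0 * c χ 1 = 2) (g02 : ∑ χ, c χ 0 * c χ 2 = 2) (g12 : ∑ χ, c χ 1 * c χ 2 = 2)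
    (value : ∀ χ : IrrCharacter G, c χ ≠ 0 →
      (χ : G → ℂ) t = ((c χ 0 + h * (c χ 1 + c χ 2) : ℤ) : ℂ))
    (cong : ∀ χ : IrrCharacter G, c χ ≠ 0 →
      (8 : ℤ) ∣ (charDegree (χ : G → ℂ) : ℤ) - (c χ 0 + h * (c χ 1 + c χ 2)))
    (hone : c (principalIrr G) 0 = 1 ∧ c (principalIrr G) 1 = 0 ∧ c (principalIrr G) 2 = 0)
    (heq : ∑ χ : IrrCharacter G, classInner (P.sec g1) (χ : G → ℂ) * (χ : G → ℂ) t ^ 2 /
      (χ : G → ℂ) 1 = ((CfsgLib.ReeOrder.ratio₂ q * CfsgLib.ReeOrder.ratio q I : ℚ) : ℂ))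
    {a : IrrCharacter G} (ha0 : c a 0 ≠ 0)
    (hav : c a 0 * (c a 0 + h * (c a 1 + c a 2)) = h + 1) :
    SevenPrincipal q I (c a 0 * (charDegree (a : G → ℂ) : ℤ)) := by
  have hdeg : ∀ χ : IrrCharacter G, (χ : G → ℂ) 1 = ((charDegree (χ : G → ℂ) : ℤ) : ℂ) := fun χ => by
    rw [CfsgLib.LinearTwist.apply_one_eq_charDegree (irr_isCharacter χ), Int.cast_natCast]
  have hd0 : ∀ χ : IrrCharacter G, (0 : ℤ) < charDegree (χ : G → ℂ) := fun χ => by
    have := CfsgLib.PrincipalSq.charDegree_pos χ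
    omega
  set d : IrrCharacter G → ℤ := fun χ => (charDegree (χ : G → ℂ) : ℤ) with hd
  have orth : ∀ (f : Y → ℂ) (i : Fin 3), OddSupport f →
      (∀ χ : IrrCharacter G, classInner (P.sec f) (χ : G → ℂ) = (c χ i : ℂ)) →
      ∑ χ, c χ i * d χ = 0 := by
    intro f i hs hf
    have e := sum_degree P hs
    simp only [hf, hdeg] at e
    exact_mod_cast e
  have o0 := orth f0 0 hs0 fun χ => (hc χ).1
  have o1 := orth g1 1 hs1 fun χ => (hc χ).2.1
  have o2 := orth g2 2 hs2 fun χ => (hc χ).2.2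
  -- the classification on the rows which are not zero
  let ι := {χ : IrrCharacter G // c χ ≠ 0}
  let w : ι → FieldRows.Row := fun χ => (c χ.1 0, c χ.1 1, c χ.1 2)
  have tr : ∀ F : IrrCharacter G → ℤ, (∀ χ, c χ = 0 → F χ = 0) → ∑ χ : ι, F χ.1 = ∑ χ, F χ := by
    intro F hF
    rw [← Finset.sum_subtype (Finset.univ.filter fun χ => c χ ≠ 0) (by simp) F]
    exact Finset.sum_subset (Finset.subset_univ _) fun χ _ hχ => hF χ (by simpa using hχ)
  have hcase := FieldRows.classify w (fun χ : ι => d χ.1) h4 (fun χ => (hd0 χ.1).ne')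
    (fun χ => cong χ.1 χ.2)
    ((tr (fun χ => c χ 0 * c χ 0) fun χ e => by simp [e]).trans g00)
    ((tr (fun χ => c χ 1 * c χ 1) fun χ e => by simp [e]).trans g11)
    ((tr (fun χ => c χ 2 * c χ 2) fun χ e => by simp [e]).trans g22)
    ((tr (fun χ => c χ 0 * c χ 1) fun χ e => by simp [e]).trans g01)
    ((tr (fun χ => c χ 0 * c χ 2) fun χ e => by simp [e]).trans g02)
    ((tr (fun χ => c χ 1 * c χ 2) fun χ e => by simp [e]).trans g12)
    ((tr (fun χ => c χ 0 * d χ) fun χ e => by simp [e]).trans o0)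
    ((tr (fun χ => c χ 1 * d χ) fun χ e => by simp [e]).trans o1)
    ((tr (fun χ => c χ 2 * d χ) fun χ e => by simp [e]).trans o2)
  -- the row of `a`
  have small : ∀ (f : IrrCharacter G → ℤ), ∑ χ, f χ * f χ = 4 → ∑ χ, f χ * d χ = 0 →
      ∀ χ, f χ ∈ Finset.Icc (-1 : ℤ) 1 := fun f h1 h2 χ =>
    FieldRows.small_of_col d f h1 h2 (fun χ => (hd0 χ).ne') χ
  have ta : canon (c a 0, c a 1, c a 2) = (1, 1, 0) ∨ canon (c a 0, c a 1, c a 2) = (1, 0, 1) := by
    have b0 := Finset.mem_Icc.1 (small _ g00 o0 a)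
    have b1 := Finset.mem_Icc.1 (small _ g11 o1 a)
    have b2 := Finset.mem_Icc.1 (small _ g22 o2 a)
    revert ha0 hav
    obtain ⟨b0, b0'⟩ := b0
    obtain ⟨b1, b1'⟩ := b1
    obtain ⟨b2, b2'⟩ := b2
    generalize c a 0 = x at *
    generalize c a 1 = y at *
    generalize c a 2 = z at *
    intro ha0 hav
    interval_cases x <;> interval_cases y <;> interval_cases z <;>
      first | omega | (left; decide) | (right; decide)
  have han : c a ≠ 0 := fun e => ha0 (by rw [e]; rfl)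
  have hS : FieldRows.Seven w := by
    refine hcase.resolve_left fun hstd => ?_
    obtain ⟨-, -, -, -, h0⟩ := hstd
    have hmem : ∀ τ, canon (c a 0, c a 1, c a 2) = τ → (cnt w τ).card ≠ 0 := fun τ e =>
      (Finset.card_pos.2 ⟨(⟨a, han⟩ : ι), Finset.mem_filter.2 ⟨Finset.mem_univ _, e⟩⟩).ne'
    rcases ta with e | e
    · exact hmem _ e (h0 _ (by decide) (by decide) (by decide) (by decide) (by decide) (by decide))
    · exact hmem _ e (h0 _ (by decide) (by decide) (by decide) (by decide) (by decide) (by decide))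
  obtain ⟨k100, k010, -, k110, k101, k011, k111, -⟩ := hS
  have pick : ∀ τ : FieldRows.Row, (cnt w τ).card = 1 →
      ∃ (χ : IrrCharacter G) (s : ℤ), (s = 1 ∨ s = -1) ∧ c χ ≠ 0 ∧
        (c χ 0 = s * τ.1 ∧ c χ 1 = s * τ.2.1 ∧ c χ 2 = s * τ.2.2) ∧
        ∀ η : IrrCharacter G, c η ≠ 0 → canon (c η 0, c η 1, c η 2) = τ → η = χ := by
    intro τ hτ
    obtain ⟨i, hi⟩ := Finset.card_eq_one.1 hτ
    have hiτ : canon (w i) = τ :=
      (Finset.mem_filter.1 (show i ∈ cnt w τ by rw [hi]; exact Finset.mem_singleton_self i)).2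
    refine ⟨i.1, sgn (w i), by unfold sgn; split_ifs <;> simp, i.2, ?_, fun η hη e => ?_⟩
    · rw [← hiτ]
      simp only [canon, ← mul_assoc, FieldRows.sgn_sq, one_mul, w]
      exact ⟨trivial, trivial, trivial⟩
    · have : (⟨η, hη⟩ : ι) ∈ cnt w τ := Finset.mem_filter.2 ⟨Finset.mem_univ _, e⟩
      rw [hi, Finset.mem_singleton] at this
      exact congrArg Subtype.val this
  obtain ⟨o, so, hso, hon, hoc, hou⟩ := pick _ k100
  obtain ⟨A, sA, hsA, hAn, hAc, hAu⟩ := pick _ k110
  obtain ⟨B, sB, hsB, hBn, hBc, hBu⟩ := pick _ k101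
  obtain ⟨T, sT, hsT, hTn, hTc, hTu⟩ := pick _ k111
  obtain ⟨R3, s3, hs3, h3n, h3c, h3u⟩ := pick _ k011
  obtain ⟨R4, s4, hs4, h4n, h4c, h4u⟩ := pick _ k010
  simp only [mul_one, mul_zero] at hoc hAc hBc hTc h3c h4c
  obtain rfl : principalIrr G = o := hou _ (fun e => by simpa [e] using hone.1) (by
    rw [hone.1, hone.2.1, hone.2.2]; decide)
  obtain rfl : so = 1 := by rw [← hoc.1]; exact hone.1
  -- the places are distinct
  have dist : ∀ {x y : IrrCharacter G}, (∃ i, c x i ≠ c y i) → x ≠ y :=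
    fun ⟨i, hi⟩ e => hi (by rw [e])
  have iA : Function.Injective ![principalIrr G, A, B, T] := by
    intro i j hij
    fin_cases i <;> fin_cases j <;> simp only [Matrix.cons_val_zero, Matrix.cons_val_one,
      Matrix.cons_val, Fin.zero_eta, Fin.mk_one, Fin.reduceFinMk] at hij ⊢ <;>
      first
        | rfl
        | exact absurd hij (dist ⟨1, by omega⟩)
        | exact absurd hij (dist ⟨2, by omega⟩)
  have iC : Function.Injective ![A, T, R3, R4] := by
    intro i j hij
    fin_cases i <;> fin_cases j <;> simp only [Matrix.cons_val_zero, Matrix.cons_val_one,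
      Matrix.cons_val, Fin.zero_eta, Fin.mk_one, Fin.reduceFinMk] at hij ⊢ <;>
      first
        | rfl
        | exact absurd hij (dist ⟨0, by omega⟩)
        | exact absurd hij (dist ⟨2, by omega⟩)
  have uA : ∀ j, c (![principalIrr G, A, B, T] j) 0 * c (![principalIrr G, A, B, T] j) 0 = 1 := by
    intro j
    fin_cases j <;> simp only [Matrix.cons_val_zero, Matrix.cons_val_one, Matrix.cons_val,
      Fin.zero_eta, Fin.mk_one, Fin.reduceFinMk, hoc.1, hAc.1, hBc.1, hTc.1]
    · rfl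
    · rcases hsA with e | e <;> rw [e] <;> rfl
    · rcases hsB with e | e <;> rw [e] <;> rfl
    · rcases hsT with e | e <;> rw [e] <;> rfl
  have uC : ∀ j, c (![A, T, R3, R4] j) 1 * c (![A, T, R3, R4] j) 1 = 1 := by
    intro j
    fin_cases j <;> simp only [Matrix.cons_val_zero, Matrix.cons_val_one, Matrix.cons_val,
      Fin.zero_eta, Fin.mk_one, Fin.reduceFinMk, hAc.2.1, hTc.2.1, h3c.2.1, h4c.2.1]
    · rcases hsA with e | e <;> rw [e] <;> rfl
    · rcases hsT with e | e <;> rw [e] <;> rfl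
    · rcases hs3 with e | e <;> rw [e] <;> rfl
    · rcases hs4 with e | e <;> rw [e] <;> rfl
  have exp0 := expand (fun χ => c χ 0) _ iA g00 uA
  have exp1 := expand (fun χ => c χ 1) _ iC g11 uC
  simp only [Fin.sum_univ_four, Matrix.cons_val_zero, Matrix.cons_val_one, Matrix.cons_val,
    hoc.1, hAc.1, hBc.1, hTc.1, hAc.2.1, hTc.2.1, h3c.2.1, h4c.2.1] at exp0 exp1
  -- complex conjugation
  set cj : ℂ ≃+* ℂ := Complex.conjAe.toRingEquiv
  have swap : ∀ χ : IrrCharacter G, c (galChar cj χ) 0 = c χ 0 ∧ c (galChar cj χ) 1 = c χ 2 ∧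
      c (galChar cj χ) 2 = c χ 1 := by
    intro χ
    have e0 := inner_map P cj (f := f0) (f' := f0) cf0 χ
    have e1 := inner_map P cj (f := g2) (f' := g1) cg2 χ
    have e2 := inner_map P cj (f := g1) (f' := g2) cg1 χ
    simp only [(hc _).1, (hc _).2.1, (hc _).2.2, map_intCast, Int.cast_inj] at e0 e1 e2
    exact ⟨e0, e1, e2⟩
  have hnz : ∀ χ : IrrCharacter G, c χ 0 ≠ 0 → c (galChar cj χ) ≠ 0 := fun χ h0 e =>
    h0 (by rw [← (swap χ).1, e]; rfl)
  have sne : ∀ {s : ℤ}, s = 1 ∨ s = -1 → s ≠ 0 := fun hs => by omega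
  have hAB : galChar cj A = B := hBu _ (hnz A (by rw [hAc.1]; exact sne hsA)) (by
    obtain ⟨a0, a1, a2⟩ := swap A
    rw [a0, a1, a2, hAc.1, hAc.2.1, hAc.2.2]
    rcases hsA with e | e <;> rw [e] <;> decide)
  have hBA : galChar cj B = A := hAu _ (hnz B (by rw [hBc.1]; exact sne hsB)) (by
    obtain ⟨a0, a1, a2⟩ := swap B
    rw [a0, a1, a2, hBc.1, hBc.2.1, hBc.2.2]
    rcases hsB with e | e <;> rw [e] <;> decide)
  have hTT : galChar cj T = T := hTu _ (hnz T (by rw [hTc.1]; exact sne hsT)) (by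
    obtain ⟨a0, a1, a2⟩ := swap T
    rw [a0, a1, a2, hTc.1, hTc.2.1, hTc.2.2]
    rcases hsT with e | e <;> rw [e] <;> decide)
  have hsAB : sA = sB := by
    have := (swap A).1
    rw [hAB, hAc.1, hBc.1] at this
    exact this.symm
  have hdAB : d B = d A := by
    have h1 := congrFun (congrArg Subtype.val hAB) 1
    simp only [galChar] at h1
    rw [hdeg A, map_intCast, hdeg B] at h1
    exact (Int.cast_injective h1).symm
  have nAB : A ≠ B := dist ⟨1, by rw [hAc.2.1, hBc.2.1]; exact sne hsA⟩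
  have nr : ∀ x y : IrrCharacter G, galChar cj x = y → x ≠ y → fsInd (x : G → ℂ) = 0 := by
    intro x y hxy hne
    rw [fsInd_eq_zero_iff x.2]
    intro hr
    exact hne ((Subtype.ext (funext fun g => (Complex.conj_eq_iff_im.2 (hr g)).symm)).trans hxy)
  have hTreal : ∀ g, ((T : G → ℂ) g).im = 0 := fun g =>
    Complex.conj_eq_iff_im.1 (congrFun (congrArg Subtype.val hTT) g)
  have hTodd : Odd (charDegree (T : G → ℂ)) := by
    obtain ⟨k, hk⟩ := cong T hTn
    rw [hTc.1, hTc.2.1, hTc.2.2] at hk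
    rw [Nat.odd_iff]
    rcases hsT with e | e <;> rw [e] at hk <;> omega
  -- the sign
  obtain rfl : sT = -1 := by
    have e := sum_indicator P hs0
    simp only [(hc _).1] at e
    rw [exp0, fsInd_real_odd hTreal hTodd, nr _ _ hAB nAB, nr _ _ hBA nAB.symm,
      CfsgLib.Indicator.fsInd_principal] at e
    simp only [mul_zero, add_zero, mul_one, Int.cast_one] at e
    have : 1 + sT = 0 := by exact_mod_cast e
    omega
  set f := sA * d A with hf
  have hd1 : d (principalIrr G) = 1 := by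
    have h1 := hdeg (principalIrr G)
    refine Int.cast_injective (α := ℂ) ?_
    rw [Int.cast_one]
    exact h1.symm
  have hsum0 : 1 + f + f + -1 * d T = 0 := by
    have e := congrArg (fun z : ℤ => (z : ℂ)) o0
    simp only [Int.cast_sum, Int.cast_mul, Int.cast_zero] at e
    rw [exp0, hd1] at e
    have : 1 * 1 + sA * d A + sB * d B + -1 * d T = 0 := by exact_mod_cast e
    rw [← hsAB, hdAB] at this
    linarith
  set Pp := s3 * d R3 with hP
  set Rr := s4 * d R4 with hR
  have hsum1 : f + -1 * d T + Pp + Rr = 0 := by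
    have e := congrArg (fun z : ℤ => (z : ℂ)) o1
    simp only [Int.cast_sum, Int.cast_mul, Int.cast_zero] at e
    rw [exp1] at e
    exact_mod_cast e
  have hfne : f ≠ 0 := mul_ne_zero (sne hsA) (hd0 A).ne'
  have hTpos : 0 < d T := hd0 T
  -- the row of `a` has this signed degree
  have hfa : c a 0 * (charDegree (a : G → ℂ) : ℤ) = f := by
    rcases ta with e | e
    · rw [hAu a han e, hAc.1]
    · rw [hBu a han e, hBc.1, ← hsAB]
      show sA * d B = f
      rw [hdAB]
  rw [hfa]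
  refine ⟨by omega, Pp, Rr, mul_ne_zero (sne hs3) (hd0 R3).ne', mul_ne_zero (sne hs4) (hd0 R4).ne',
    by omega, ?_⟩
  -- the second equation
  have term : ∀ (χ : IrrCharacter G) {s z : ℤ}, (s = 1 ∨ s = -1) → (χ : G → ℂ) t = ((s * z : ℤ) : ℂ) →
      (s : ℂ) * ((χ : G → ℂ) t ^ 2 / (χ : G → ℂ) 1) =
        ((((z : ℚ) ^ 2) / ((s * d χ : ℤ) : ℚ) : ℚ) : ℂ) := by
    intro χ s z hs hv
    rw [hv, hdeg]
    rcases hs with rfl | rfl <;> simp [hd, div_neg]
  have vA : (A : G → ℂ) t = ((sA * (h + 1) : ℤ) : ℂ) := by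
    rw [value A hAn, hAc.1, hAc.2.1, hAc.2.2]; congr 1; ring
  have vT : (T : G → ℂ) t = ((-1 * (2 * h + 1) : ℤ) : ℂ) := by
    rw [value T hTn, hTc.1, hTc.2.1, hTc.2.2]; congr 1; ring
  have v3 : (R3 : G → ℂ) t = ((s3 * (2 * h) : ℤ) : ℂ) := by
    rw [value R3 h3n, h3c.1, h3c.2.1, h3c.2.2]; congr 1; ring
  have v4 : (R4 : G → ℂ) t = ((s4 * h : ℤ) : ℂ) := by
    rw [value R4 h4n, h4c.1, h4c.2.1, h4c.2.2]; congr 1; ring
  simp only [(hc _).2.1, mul_div_assoc] at heq
  rw [exp1, term A hsA vA, term T (Or.inr rfl) vT, term R3 hs3 v3, term R4 hs4 v4] at heq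
  simp only [← Rat.cast_add] at heq
  rw [← Rat.cast_injective heq]
  have hm : (((q : ℤ) + 1) / 2) = h + 1 := by omega
  have hq : (q : ℚ) = 2 * (h : ℚ) + 1 := by exact_mod_cast hh
  have hT2 : (-1 : ℤ) * d T = -(2 * f + 1) := by omega
  rw [hm, hq, hT2, ← hf, ← hP, ← hR]
  push_cast
  ring

end CfsgLib.Walter.Twist.Principal
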