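import Cfsg.Agent.Lib.Walter.Twist.Defs
import Cfsg.Agent.Lib.Walter.FieldTransfer
import Cfsg.Agent.Lib.ReeOrder.PslFacts
import Cfsg.Agent.Lib.AutPSL.FieldGalois
import Cfsg.Agent.Lib.GW.FieldModel

/-!
Walter, rank three, piece T: calculus in a frame and the centraliser of the field part, which contains
the normaliser of `S` and fuses its involutions.
-/

set_option autoImplicit false
set_option linter.unusedSectionVars false
set_option linter.style.haveILetI false

namespace CfsgLib.Walter.Twist.FixedT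

open Subgroup Matrix CfsgLib.AutPSL CfsgLib.ReeOrder

universe u

variable {G : Type u} [Group G] [Finite G] {E : Setup G} (R : Frame E)

local notation "PSLF" => ProjectiveSpecialLinearGroup (Fin 2) R.F

/-- The centraliser of the field part. -/
def cfld : Subgroup G := centralizer ((R.fld.range : Subgroup G) : Set G)

theorem mem_cfld {g : G} : g ∈ cfld R ↔ ∀ σ : R.Γ, Commute g (R.fld σ) := by
  rw [cfld, mem_centralizer_iff]
  constructor
  · exact fun h σ => (h _ ⟨σ, rfl⟩).symm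
  · rintro h _ ⟨σ, rfl⟩
    exact (h σ).eq.symm

theorem commute_t {h : G} (hh : h ∈ E.H) : Commute h E.t := mem_centralizer_singleton_iff.1 hh

theorem mem_H {h : G} (hh : Commute h E.t) : h ∈ E.H := mem_centralizer_singleton_iff.2 hh.eq

theorem t_mem_H : E.t ∈ E.H := mem_H (Commute.refl _)

theorem t_sq : E.t * E.t = 1 := E.sq _ E.mem

theorem fld_comm (σ τ : R.Γ) : Commute (R.fld σ) (R.fld τ) := by
  refine (show Commute σ τ from Subtype.ext ?_).map R.fld
  exact (FieldGalois.commute_ringAut (σ : R.F ≃+* R.F) τ).eq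

theorem fld_mem_cfld (σ : R.Γ) : R.fld σ ∈ cfld R := (mem_cfld R).2 fun τ => fld_comm R σ τ

theorem t_mem_cfld : E.t ∈ cfld R := (mem_cfld R).2 fun τ => (commute_t (R.fld_mem τ)).symm

theorem psl_fld (σ : R.Γ) (x : PSLF) :
    R.fld σ * R.psl x = R.psl (fieldAut (σ : R.F ≃+* R.F) x) * R.fld σ := by
  rw [← R.fld_psl, inv_mul_cancel_right]

theorem comb_mul (x x' : PSLF) (σ τ : R.Γ) :
    R.psl x * R.fld σ * (R.psl x' * R.fld τ) =
      R.psl (x * fieldAut (σ : R.F ≃+* R.F) x') * R.fld (σ * τ) := by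
  rw [map_mul, map_mul, mul_assoc (R.psl x), ← mul_assoc (R.fld σ), psl_fld]
  simp only [mul_assoc]

theorem comb_unique {x x' : PSLF} {σ τ : R.Γ} (h : R.psl x * R.fld σ = R.psl x' * R.fld τ) :
    x = x' ∧ σ = τ := by
  have h1 : R.psl (x'⁻¹ * x) * R.fld (σ * τ⁻¹) = 1 := by
    rw [map_mul, map_mul, map_inv, map_inv, mul_assoc, ← mul_assoc (R.psl x) (R.fld σ), h]
    group
  exact ⟨(inv_mul_eq_one.1 (R.eq_one _ _ h1).1).symm, mul_inv_eq_one.1 (R.eq_one _ _ h1).2⟩

theorem comb_pow (x : PSLF) (σ : R.Γ) (n : ℕ) :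
    ∃ y : PSLF, (R.psl x * R.fld σ) ^ n = R.psl y * R.fld (σ ^ n) := by
  induction n with
  | zero => exact ⟨1, by simp⟩
  | succ n ih =>
    obtain ⟨y, hy⟩ := ih
    exact ⟨_, by rw [pow_succ, hy, comb_mul, ← pow_succ]⟩

theorem odd_form {z : G} (hz : z ∈ E.H) (ho : Odd (orderOf z)) :
    ∃ x σ, z = R.psl x * R.fld σ := by
  obtain ⟨x, σ, h | h⟩ := R.exists_eq z hz
  · exact ⟨x, σ, h⟩
  exfalso
  obtain ⟨k, hk⟩ := ho
  have h1 : z ^ orderOf z = 1 := pow_orderOf_eq_one z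
  have hc : Commute E.t (R.psl x * R.fld σ) :=
    ((commute_t (R.psl_mem x)).mul_left (commute_t (R.fld_mem σ))).symm
  obtain ⟨y, hy⟩ := comb_pow R x σ (2 * k + 1)
  rw [hk, h, hc.mul_pow, pow_succ E.t, pow_mul, pow_two, t_sq, one_pow, one_mul, hy] at h1
  exact R.ne_t y (σ ^ (2 * k + 1)) ((eq_inv_of_mul_eq_one_right h1).trans
    (inv_eq_of_mul_eq_one_right t_sq))

theorem orderOf_psl (x : PSLF) : orderOf (R.psl x) = orderOf x := orderOf_injective R.psl R.psl_inj x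

theorem sigma_eq_one {σ : R.Γ} (h : σ * σ = 1) : σ = 1 := by
  have ho : Odd (orderOf σ) := R.Γ_odd.of_dvd_nat (orderOf_dvd_natCard σ)
  exact orderOf_eq_one_iff.1 (Nat.eq_one_of_dvd_coprimes (Nat.coprime_two_right.2 ho) dvd_rfl
    (orderOf_dvd_of_pow_eq_one (by rw [pow_two, h])))

/-- Conjugation by an element of `H` respects the simple part and fixes the field part modulo it. -/
theorem conj_comb {h : G} (hh : h ∈ E.H) (x : PSLF) (σ : R.Γ) :
    ∃ y, h * (R.psl x * R.fld σ) * h⁻¹ = R.psl y * R.fld σ := by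
  obtain ⟨a, τ, rfl | rfl⟩ := R.exists_eq h hh
  all_goals
    refine ⟨a * fieldAut (τ : R.F ≃+* R.F) x * (fieldAut (σ : R.F ≃+* R.F) a)⁻¹, ?_⟩
  swap
  · have hc : Commute E.t (R.psl a * R.fld τ * (R.psl x * R.fld σ) * (R.psl a * R.fld τ)⁻¹) :=
      ((((commute_t (R.psl_mem a)).mul_left (commute_t (R.fld_mem τ))).mul_left
        ((commute_t (R.psl_mem x)).mul_left (commute_t (R.fld_mem σ)))).mul_left
        ((commute_t (R.psl_mem a)).mul_left (commute_t (R.fld_mem τ))).inv_left).symm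
    rw [show E.t * (R.psl a * R.fld τ) * (R.psl x * R.fld σ) * (E.t * (R.psl a * R.fld τ))⁻¹ =
      E.t * (R.psl a * R.fld τ * (R.psl x * R.fld σ) * (R.psl a * R.fld τ)⁻¹) * E.t⁻¹ by group,
      hc.eq, mul_inv_cancel_right]
    rw [comb_mul, mul_inv_eq_iff_eq_mul, comb_mul, mul_comm_fld σ τ]
    group
  · rw [comb_mul, mul_inv_eq_iff_eq_mul, comb_mul, mul_comm_fld σ τ]
    group
where
  mul_comm_fld (σ τ : R.Γ) : σ * τ = τ * σ :=
    Subtype.ext (FieldGalois.commute_ringAut (σ : R.F ≃+* R.F) τ).eq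

theorem conj_psl {h : G} (hh : h ∈ E.H) (x : PSLF) : ∃ y, h * R.psl x * h⁻¹ = R.psl y := by
  obtain ⟨y, hy⟩ := conj_comb R hh x 1
  exact ⟨y, by simpa using hy⟩

/-- An odd element of `H` inverted in `H` lies in the simple part. -/
theorem psl_of_inverted {z v : G} (hz : z ∈ E.H) (ho : Odd (orderOf z)) (hv : v ∈ E.H)
    (hinv : v * z * v⁻¹ = z⁻¹) : ∃ x, z = R.psl x := by
  obtain ⟨x, σ, rfl⟩ := odd_form R hz ho
  obtain ⟨y, hy⟩ := conj_comb R hv x σ
  rw [hy, eq_inv_iff_mul_eq_one, comb_mul] at hinv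
  exact ⟨x, by rw [sigma_eq_one R (R.eq_one _ _ hinv).2, map_one, mul_one]⟩

theorem commute_fld_psl {σ : R.Γ} {x : PSLF} :
    Commute (R.fld σ) (R.psl x) ↔ fieldAut (σ : R.F ≃+* R.F) x = x := by
  constructor
  · intro h
    have e := psl_fld R σ x
    rw [h.eq] at e
    exact (R.psl_inj (mul_right_cancel e)).symm
  · intro h
    exact (psl_fld R σ x).trans (by rw [h])

theorem psl_mem_cfld {x : PSLF} :
    R.psl x ∈ cfld R ↔ ∀ σ : R.Γ, fieldAut (σ : R.F ≃+* R.F) x = x := by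
  rw [mem_cfld]
  exact ⟨fun h σ => (commute_fld_psl R).1 (h σ).symm, fun h σ => ((commute_fld_psl R).2 (h σ)).symm⟩

theorem psl_t_mul_ne (x y : PSLF) : E.t * R.psl x ≠ R.psl y := fun e =>
  R.ne_t (y * x⁻¹) 1 (by rw [map_one, mul_one, map_mul, map_inv, ← e, mul_inv_cancel_right])

/-- Involutions of `H` other than `t`. -/
theorem invol_form {v : G} (hv : v ∈ E.H) (h2 : orderOf v = 2) (hne : v ≠ E.t) :
    ∃ j : PSLF, orderOf j = 2 ∧ (v = R.psl j ∨ v = E.t * R.psl j) := by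
  have hv2 : v * v = 1 := by rw [← pow_two, ← h2, pow_orderOf_eq_one]
  obtain ⟨x, σ, hvx⟩ := R.exists_eq v hv
  have hc : Commute E.t (R.psl x * R.fld σ) :=
    ((commute_t (R.psl_mem x)).mul_left (commute_t (R.fld_mem σ))).symm
  have hsq : R.psl x * R.fld σ * (R.psl x * R.fld σ) = 1 := by
    rcases hvx with rfl | rfl
    · exact hv2
    · rw [← hv2]
      calc R.psl x * R.fld σ * (R.psl x * R.fld σ)
          = E.t * E.t * (R.psl x * R.fld σ * (R.psl x * R.fld σ)) := by rw [t_sq, one_mul]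
        _ = E.t * (E.t * (R.psl x * R.fld σ)) * (R.psl x * R.fld σ) := by group
        _ = E.t * (R.psl x * R.fld σ * E.t) * (R.psl x * R.fld σ) := by rw [hc.eq]
        _ = _ := by group
  rw [comb_mul] at hsq
  have hσ := sigma_eq_one R (R.eq_one _ _ hsq).2
  have hx2 := (R.eq_one _ _ hsq).1
  subst hσ
  simp only [map_one, mul_one] at hvx hx2
  refine ⟨x, orderOf_eq_prime (by rw [pow_two]; simpa using hx2) fun e => ?_, hvx⟩
  subst e
  rcases hvx with rfl | rfl
  · rw [map_one, orderOf_one] at h2; omega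
  · exact hne (by rw [map_one, mul_one])

theorem commute_psl_iff {v : G} {j : PSLF} (h : v = R.psl j ∨ v = E.t * R.psl j) (x : PSLF) :
    Commute v (R.psl x) ↔ Commute j x := by
  have hj : Commute v (R.psl x) ↔ Commute (R.psl j) (R.psl x) := by
    rcases h with rfl | rfl
    · rfl
    · have ht : Commute E.t (R.psl x) := (commute_t (R.psl_mem x)).symm
      refine ⟨fun h => ?_, fun h => ht.mul_left h⟩
      have := (Commute.inv_left ht).mul_left h
      rwa [inv_mul_cancel_left] at this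
  rw [hj]
  exact ⟨fun h => R.psl_inj (by rw [map_mul, map_mul, h.eq]), fun h => h.map R.psl⟩

theorem conj_psl_invol {v : G} {j : PSLF} (h : v = R.psl j ∨ v = E.t * R.psl j) (x : PSLF) :
    v * R.psl x * v⁻¹ = R.psl (j * x * j⁻¹) := by
  rw [map_mul, map_mul, map_inv]
  rcases h with rfl | rfl
  · rfl
  · have hc : Commute E.t (R.psl j * R.psl x * (R.psl j)⁻¹) :=
      (((commute_t (R.psl_mem j)).mul_left (commute_t (R.psl_mem x))).mul_left
        (commute_t (R.psl_mem j)).inv_left).symm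
    rw [show E.t * R.psl j * R.psl x * (E.t * R.psl j)⁻¹ =
      E.t * (R.psl j * R.psl x * (R.psl j)⁻¹) * E.t⁻¹ by group, hc.eq, mul_inv_cancel_right]

theorem fixed_of_invol {v : G} {j : PSLF} (h : v = R.psl j ∨ v = E.t * R.psl j)
    (hv : v ∈ cfld R) (σ : R.Γ) : fieldAut (σ : R.F ≃+* R.F) j = j := by
  refine (commute_fld_psl R).1 ?_
  have hc := ((mem_cfld R).1 hv σ).symm
  rcases h with rfl | rfl
  · exact hc
  · have := ((commute_t (R.fld_mem σ)).inv_right).mul_right hc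
    rwa [inv_mul_cancel_left] at this

/-! ### The centraliser of `S` and its normaliser -/

/-- The field size in characteristic three. -/
theorem q_mod_three [CharP R.F 3] : Fintype.card R.F % 8 = 3 ∧ 11 ≤ Fintype.card R.F := by
  haveI : Fact (Nat.Prime 3) := ⟨Nat.prime_three⟩
  obtain ⟨n, -, hn⟩ := FiniteField.card R.F 3
  have h1 : ∀ m : ℕ, 3 ^ m % 8 = 1 ∨ 3 ^ m % 8 = 3 := by
    intro m
    induction m with
    | zero => exact Or.inl rfl
    | succ m ih => rw [pow_succ]; omega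
  have h8 := R.q_mod
  have h3 := R.three
  rw [hn] at h8 h3 ⊢
  have := h1 n
  omega

theorem psl_two_ne : (2 : R.F) ≠ 0 := by
  refine CfsgLib.PSL2.two_ne_zero_of_odd (Nat.odd_iff.2 ?_)
  have := R.q_mod
  omega

theorem odd_q : Odd (Fintype.card R.F) := by
  have := R.q_mod
  rw [Nat.odd_iff]
  omega

/-- Two projections of `S` spanning the four group, fixed by the field part. -/
theorem exists_S_pair : ∃ (s₁ s₂ : G) (x₁ x₂ : PSLF), s₁ ∈ (E.S : Subgroup G) ∧ s₂ ∈ (E.S : Subgroup G) ∧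
    (s₁ = R.psl x₁ ∨ s₁ = E.t * R.psl x₁) ∧ (s₂ = R.psl x₂ ∨ s₂ = E.t * R.psl x₂) ∧
    orderOf x₁ = 2 ∧ orderOf x₂ = 2 ∧ Commute x₁ x₂ ∧ x₁ ≠ x₂ ∧
    (∀ σ : R.Γ, fieldAut (σ : R.F ≃+* R.F) x₁ = x₁) ∧ (∀ σ : R.Γ, fieldAut (σ : R.F ≃+* R.F) x₂ = x₂) := by
  classical
  have hproj : ∀ s ∈ (E.S : Subgroup G), s ≠ 1 → s ≠ E.t → ∃ x : PSLF, orderOf x = 2 ∧
      (s = R.psl x ∨ s = E.t * R.psl x) := fun s hs h1 ht =>
    invol_form R (E.sylow_le_H hs) (E.orderOf_eq_two hs h1) ht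
  have hfix : ∀ s ∈ (E.S : Subgroup G), s ∈ cfld R := fun s hs =>
    (mem_cfld R).2 fun σ => (R.S_fld σ s hs).symm
  obtain ⟨s₁, hs₁, h11⟩ : ∃ s ∈ (E.S : Subgroup G), s ∉ ({1, E.t} : Set G) := by
    by_contra! hall
    have : ((E.S : Subgroup G) : Set G).ncard ≤ ({1, E.t} : Set G).ncard :=
      Set.ncard_le_ncard hall (Set.toFinite _)
    have h2 : ({1, E.t} : Set G).ncard ≤ 2 := by
      refine le_trans (Set.ncard_insert_le _ _) ?_
      simp
    have := E.card_S
    rw [← SetLike.coe_sort_coe, Nat.card_coe_set_eq] at this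
    omega
  obtain ⟨s₂, hs₂, h21⟩ : ∃ s ∈ (E.S : Subgroup G), s ∉ ({1, E.t, s₁, E.t * s₁} : Set G) := by
    by_contra! hall
    have : ((E.S : Subgroup G) : Set G).ncard ≤ ({1, E.t, s₁, E.t * s₁} : Set G).ncard :=
      Set.ncard_le_ncard hall (Set.toFinite _)
    have h2 : ({1, E.t, s₁, E.t * s₁} : Set G).ncard ≤ 4 := by
      refine le_trans (Set.ncard_insert_le _ _) (Nat.succ_le_succ ?_)
      refine le_trans (Set.ncard_insert_le _ _) (Nat.succ_le_succ ?_)
      refine le_trans (Set.ncard_insert_le _ _) (Nat.succ_le_succ ?_)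
      simp
    have := E.card_S
    rw [← SetLike.coe_sort_coe, Nat.card_coe_set_eq] at this
    omega
  simp only [Set.mem_insert_iff, Set.mem_singleton_iff, not_or] at h11 h21
  obtain ⟨x₁, ho₁, e₁⟩ := hproj s₁ hs₁ h11.1 h11.2
  obtain ⟨x₂, ho₂, e₂⟩ := hproj s₂ hs₂ h21.1 h21.2.1
  have hne : x₁ ≠ x₂ := by
    rintro rfl
    rcases e₁ with e₁ | e₁ <;> rcases e₂ with e₂ | e₂
    · exact h21.2.2.1 (e₂.trans e₁.symm)
    · exact h21.2.2.2 (e₂.trans (by rw [e₁]))
    · exact h21.2.2.2 (e₂.trans (by rw [e₁, ← mul_assoc, t_sq, one_mul]))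
    · exact h21.2.2.1 (e₂.trans e₁.symm)
  have hcomm : Commute x₁ x₂ := by
    have h := (commute_psl_iff R e₁ x₂).1 ?_
    · exact h
    rcases e₂ with rfl | rfl
    · exact E.comm hs₁ hs₂
    · have h : Commute s₁ (E.t * (E.t * R.psl x₂)) :=
        Commute.mul_right (E.comm hs₁ E.mem) (E.comm hs₁ hs₂)
      rwa [← mul_assoc, t_sq, one_mul] at h
  exact ⟨s₁, s₂, x₁, x₂, hs₁, hs₂, e₁, e₂, ho₁, ho₂, hcomm, hne,
    fixed_of_invol R e₁ (hfix s₁ hs₁), fixed_of_invol R e₂ (hfix s₂ hs₂)⟩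

/-- A rotation of the four group of `S`, centralising the field part. -/
theorem exists_rotation [CharP R.F 3] :
    ∃ ρ : G, ρ ∈ E.H ∧ ρ ∈ cfld R ∧ ρ ∈ normalizer ((E.S : Subgroup G) : Set G) ∧
      ρ ∉ centralizer ((E.S : Subgroup G) : Set G) ∧
      ∀ s ∈ (E.S : Subgroup G), Commute ρ s → s = 1 ∨ s = E.t := by
  obtain ⟨h3, h11⟩ := q_mod_three R
  obtain ⟨s₁, s₂, x₁, x₂, hs₁, hs₂, e₁, e₂, ho₁, ho₂, hc, hne, hf₁, hf₂⟩ := exists_S_pair R
  obtain ⟨g, hg₁, hg₂⟩ := CfsgLib.GW.FieldModel.exists_rotation (psl_two_ne R) ho₁ ho₂ hc hne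
  have hfour : ∀ a : PSLF, Commute a x₁ → Commute a x₂ → a = 1 ∨ a = x₁ ∨ a = x₂ ∨ a = x₁ * x₂ :=
    fun a ha hb => Psl.four_centralizer R.q_mod h11 ho₁ ho₂ hc hne ha hb
  have hfixg : ∀ σ : R.Γ, fieldAut (σ : R.F ≃+* R.F) g = g := by
    intro σ
    set α := fieldAut (n := 2) (σ : R.F ≃+* R.F) with hα
    set c := g⁻¹ * α g with hc'
    have hag₁ : α g * x₁ * (α g)⁻¹ = x₂ := by
      have := congrArg α hg₁
      rw [map_mul, map_mul, map_inv, hf₁ σ, hf₂ σ] at this
      exact this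
    have hag₂ : α g * x₂ * (α g)⁻¹ = x₁ * x₂ := by
      have := congrArg α hg₂
      rw [map_mul, map_mul, map_inv, map_mul, hf₁ σ, hf₂ σ] at this
      exact this
    have hcc : Commute c x₁ ∧ Commute c x₂ := by
      constructor
      · refine mul_inv_eq_iff_eq_mul.1 ?_
        rw [show c * x₁ * c⁻¹ = g⁻¹ * (α g * x₁ * (α g)⁻¹) * g by rw [hc']; group, hag₁, ← hg₁]
        group
      · refine mul_inv_eq_iff_eq_mul.1 ?_
        rw [show c * x₂ * c⁻¹ = g⁻¹ * (α g * x₂ * (α g)⁻¹) * g by rw [hc']; group, hag₂, ← hg₂]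
        group
    have hcfix : α c = c ∧ c * c = 1 := by
      rcases hfour c hcc.1 hcc.2 with h | h | h | h <;> rw [h]
      · exact ⟨map_one _, one_mul 1⟩
      · exact ⟨hf₁ σ, Psl.involution_mul_self ho₁⟩
      · exact ⟨hf₂ σ, Psl.involution_mul_self ho₂⟩
      · refine ⟨by rw [map_mul, hf₁ σ, hf₂ σ], ?_⟩
        rw [← pow_two, hc.mul_pow, pow_two, pow_two, Psl.involution_mul_self ho₁, Psl.involution_mul_self ho₂, one_mul]
    have hit : ∀ k : ℕ, (α ^ k) g = g * c ^ k := by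
      intro k
      induction k with
      | zero => simp
      | succ k ih =>
        rw [pow_succ', MulAut.mul_apply, ih, map_mul, map_pow, hcfix.1, pow_succ' c,
          show α g = g * c by rw [hc', mul_inv_cancel_left], mul_assoc]
    have ho : Odd (orderOf σ) := R.Γ_odd.of_dvd_nat (orderOf_dvd_natCard σ)
    have h1 : α ^ orderOf σ = 1 := by
      rw [hα, ← map_pow, ← SubmonoidClass.coe_pow, pow_orderOf_eq_one, OneMemClass.coe_one, map_one]
    have h2 := hit (orderOf σ)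
    obtain ⟨k, hk⟩ := ho
    rw [h1, MulAut.one_apply, hk, pow_succ c, pow_mul, pow_two c, hcfix.2, one_pow, one_mul] at h2
    rw [show α g = g * c by rw [hc', mul_inv_cancel_left]]
    exact h2.symm
  refine ⟨R.psl g, R.psl_mem g, (psl_mem_cfld R).2 hfixg, ?_, ?_, ?_⟩
  · refine mem_normalizer_of_forall fun s hs => ?_
    by_cases hs1 : s = 1
    · subst hs1; simp
    by_cases hst : s = E.t
    · subst hst
      rw [(commute_t (R.psl_mem g)).eq, mul_inv_cancel_right]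
      exact hs
    obtain ⟨x, hx, e⟩ := invol_form R (E.sylow_le_H hs) (E.orderOf_eq_two hs hs1) hst
    have hxc : ∀ s' y, s' ∈ (E.S : Subgroup G) → (s' = R.psl y ∨ s' = E.t * R.psl y) → Commute x y := by
      intro s' y hs' e'
      refine (commute_psl_iff R e y).1 ?_
      rcases e' with rfl | rfl
      · exact E.comm hs hs'
      · have h : Commute s (E.t * (E.t * R.psl y)) := Commute.mul_right (E.comm hs E.mem) (E.comm hs hs')
        rwa [← mul_assoc, t_sq, one_mul] at h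
    have hmem : ∀ y : PSLF, (y = x₁ ∨ y = x₂ ∨ y = x₁ * x₂) → R.psl y ∈ (E.S : Subgroup G) ∨
        E.t * R.psl y ∈ (E.S : Subgroup G) := by
      have hone : ∀ s' y, s' ∈ (E.S : Subgroup G) → (s' = R.psl y ∨ s' = E.t * R.psl y) →
          R.psl y ∈ (E.S : Subgroup G) := by
        rintro s' y hs' (rfl | rfl)
        · exact hs'
        · have := mul_mem E.mem hs'
          rwa [← mul_assoc, t_sq, one_mul] at this
      rintro y (rfl | rfl | rfl)
      · exact Or.inl (hone _ _ hs₁ e₁)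
      · exact Or.inl (hone _ _ hs₂ e₂)
      · exact Or.inl (by rw [map_mul]; exact mul_mem (hone _ _ hs₁ e₁) (hone _ _ hs₂ e₂))
    have hgx : g * x * g⁻¹ = x₁ ∨ g * x * g⁻¹ = x₂ ∨ g * x * g⁻¹ = x₁ * x₂ := by
      rcases hfour x (hxc _ _ hs₁ e₁) (hxc _ _ hs₂ e₂) with h | h | h | h
      · rw [h, orderOf_one] at hx; omega
      · exact Or.inr (Or.inl (h ▸ hg₁))
      · exact Or.inr (Or.inr (h ▸ hg₂))
      · refine Or.inl ?_
        rw [h, show g * (x₁ * x₂) * g⁻¹ = g * x₁ * g⁻¹ * (g * x₂ * g⁻¹) by group, hg₁, hg₂,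
          ← mul_assoc, ← hc.eq, mul_assoc, Psl.involution_mul_self ho₂, mul_one]
    have hpm : R.psl (g * x * g⁻¹) ∈ (E.S : Subgroup G) := by
      rcases hmem _ hgx with h | h
      · exact h
      · have := mul_mem E.mem h
        rwa [← mul_assoc, t_sq, one_mul] at this
    rcases e with rfl | rfl
    · rw [← map_inv, ← map_mul, ← map_mul]; exact hpm
    · rw [show R.psl g * (E.t * R.psl x) * (R.psl g)⁻¹ = E.t * (R.psl g * R.psl x * (R.psl g)⁻¹) by
        rw [← mul_assoc, (commute_t (R.psl_mem g)).eq]; group, ← map_inv, ← map_mul, ← map_mul]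
      exact mul_mem E.mem hpm
  · intro hcen
    refine hne ?_
    have h := mem_centralizer_iff.1 hcen s₁ hs₁
    have h' := (commute_psl_iff R e₁ g).1 h
    rw [← hg₁, ← h'.eq, mul_inv_cancel_right]
  · intro s hs hcs
    by_contra hcon
    push Not at hcon
    obtain ⟨x, hx, e⟩ := invol_form R (E.sylow_le_H hs) (E.orderOf_eq_two hs hcon.1) hcon.2
    have hgx : Commute g x := ((commute_psl_iff R e g).1 hcs.symm).symm
    have hxc : Commute x x₁ ∧ Commute x x₂ := by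
      constructor
      · refine (commute_psl_iff R e x₁).1 ?_
        rcases e₁ with rfl | rfl
        · exact E.comm hs hs₁
        · have h : Commute s (E.t * (E.t * R.psl x₁)) := Commute.mul_right (E.comm hs E.mem) (E.comm hs hs₁)
          rwa [← mul_assoc, t_sq, one_mul] at h
      · refine (commute_psl_iff R e x₂).1 ?_
        rcases e₂ with rfl | rfl
        · exact E.comm hs hs₂
        · have h : Commute s (E.t * (E.t * R.psl x₂)) := Commute.mul_right (E.comm hs E.mem) (E.comm hs hs₂)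
          rwa [← mul_assoc, t_sq, one_mul] at h
    have hx1 : x ≠ 1 := fun h => by rw [h, orderOf_one] at hx; omega
    have hgx' : g * x * g⁻¹ = x := by rw [hgx.eq, mul_inv_cancel_right]
    rcases hfour x hxc.1 hxc.2 with h | h | h | h
    · exact hx1 h
    · subst h; exact hne (hgx'.symm.trans hg₁)
    · subst h
      rw [hg₂] at hgx'
      rw [mul_eq_right.1 hgx', orderOf_one] at ho₁
      omega
    · subst h
      rw [show g * (x₁ * x₂) * g⁻¹ = g * x₁ * g⁻¹ * (g * x₂ * g⁻¹) by group, hg₁, hg₂,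
        ← mul_assoc, ← hc.eq, mul_assoc, Psl.involution_mul_self ho₂, mul_one] at hgx'
      rw [left_eq_mul.1 hgx', orderOf_one] at ho₂
      omega

/-- The centraliser of `S` centralises the field part; its odd elements are the field part. -/
theorem centralizer_S_form [CharP R.F 3] {h : G} (hh : h ∈ centralizer ((E.S : Subgroup G) : Set G)) :
    ∃ (a : PSLF) (τ : R.Γ), (∀ σ : R.Γ, fieldAut (σ : R.F ≃+* R.F) a = a) ∧ a * a = 1 ∧
      (h = R.psl a * R.fld τ ∨ h = E.t * (R.psl a * R.fld τ)) := by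
  obtain ⟨h3, h11⟩ := q_mod_three R
  obtain ⟨s₁, s₂, x₁, x₂, hs₁, hs₂, e₁, e₂, ho₁, ho₂, hc, hne, hf₁, hf₂⟩ := exists_S_pair R
  have hH : h ∈ E.H := mem_H (mem_centralizer_iff.1 hh E.t E.mem).symm
  obtain ⟨a, τ, hat⟩ := R.exists_eq h hH
  have key : ∀ s ∈ (E.S : Subgroup G), ∀ x, (s = R.psl x ∨ s = E.t * R.psl x) → Commute a x := by
    intro s hs x e
    have hcs : Commute s (R.psl a * R.fld τ) := by
      have h0 : Commute s h := mem_centralizer_iff.1 hh s hs
      rcases hat with rfl | rfl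
      · exact h0
      · have := Commute.mul_right (show Commute s E.t from E.comm hs E.mem) h0
        rwa [← mul_assoc, t_sq, one_mul] at this
    have h1 : Commute s (R.psl a) := by
      have := hcs.mul_right (R.S_fld τ s hs).symm.inv_right
      rwa [mul_inv_cancel_right] at this
    exact ((commute_psl_iff R e a).1 h1).symm
  refine ⟨a, τ, ?_, ?_, hat⟩ <;>
    rcases Psl.four_centralizer R.q_mod h11 ho₁ ho₂ hc hne (key _ hs₁ _ e₁) (key _ hs₂ _ e₂) with
      h | h | h | h <;> rw [h]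
  · exact fun σ => map_one _
  · exact hf₁
  · exact hf₂
  · exact fun σ => by rw [map_mul, hf₁ σ, hf₂ σ]
  · exact one_mul 1
  · exact Psl.involution_mul_self ho₁
  · exact Psl.involution_mul_self ho₂
  · rw [← pow_two, hc.mul_pow, pow_two, pow_two, Psl.involution_mul_self ho₁, Psl.involution_mul_self ho₂, one_mul]

theorem centralizer_S_le [CharP R.F 3] :
    centralizer ((E.S : Subgroup G) : Set G) ≤ cfld R := fun h hh => by
  obtain ⟨a, τ, ha, -, rfl | rfl⟩ := centralizer_S_form R hh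
  · exact mul_mem ((psl_mem_cfld R).2 ha) (fld_mem_cfld R τ)
  · exact mul_mem (t_mem_cfld R) (mul_mem ((psl_mem_cfld R).2 ha) (fld_mem_cfld R τ))

theorem fld_of_odd_centralizer_S [CharP R.F 3] {h : G}
    (hh : h ∈ centralizer ((E.S : Subgroup G) : Set G)) (ho : Odd (orderOf h)) : ∃ τ, h = R.fld τ := by
  obtain ⟨a, τ, ha, ha2, hat⟩ := centralizer_S_form R hh
  obtain ⟨x, σ, hxσ⟩ := odd_form R (mem_H (mem_centralizer_iff.1 hh E.t E.mem).symm) ho
  have e : h = R.psl a * R.fld τ := by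
    rcases hat with e | e
    · exact e
    exfalso
    refine R.ne_t (x * a⁻¹) 1 ?_
    obtain ⟨hσ, -⟩ : σ = τ ∧ True := by
      refine ⟨?_, trivial⟩
      by_contra hne'
      have h1 : E.t = R.psl x * R.fld σ * (R.psl a * R.fld τ)⁻¹ := by
        rw [← hxσ, e]; group
      rw [_root_.mul_inv_rev, ← map_inv, ← map_inv, psl_fld_inv R x a σ τ] at h1
      exact R.ne_t _ _ h1.symm
    subst hσ
    rw [map_one, mul_one, map_mul, map_inv]
    have : E.t = h * (R.psl a * R.fld σ)⁻¹ := by rw [e]; group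
    rw [this, hxσ]
    group
  refine ⟨τ, ?_⟩
  obtain ⟨k, hk⟩ := ho
  have hcom : Commute (R.psl a) (R.fld τ) := ((commute_fld_psl R).2 (ha τ)).symm
  have h1 := pow_orderOf_eq_one h
  rw [hk, e, hcom.mul_pow, ← map_pow, ← map_pow, pow_succ a, pow_mul, pow_two a, ha2, one_pow,
    one_mul] at h1
  have := (R.eq_one _ _ h1).1
  rw [e, this, map_one, one_mul]
where
  psl_fld_inv (R : Frame E) (x a : ProjectiveSpecialLinearGroup (Fin 2) R.F) (σ τ : R.Γ) :
      R.psl x * R.fld σ * (R.fld τ⁻¹ * R.psl a⁻¹) =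
        R.psl (x * fieldAut (((σ * τ⁻¹ : R.Γ) : R.F ≃+* R.F)) a⁻¹) * R.fld (σ * τ⁻¹) := by
    rw [mul_assoc, ← mul_assoc (R.fld σ), ← map_mul R.fld, psl_fld, map_mul R.psl]
    simp only [mul_assoc]

/-- The normaliser of `S` centralises the field part. -/
theorem normalizer_S_le [CharP R.F 3] (hloc : Local E) :
    normalizer ((E.S : Subgroup G) : Set G) ≤ cfld R := by
  obtain ⟨ρ, hρH, hρM, hρN, hρC, hρfix⟩ := exists_rotation R
  set N := normalizer ((E.S : Subgroup G) : Set G) with hN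
  set C := centralizer ((E.S : Subgroup G) : Set G) with hC
  set Z := cfld R ⊓ N with hZ
  have hCN : C ≤ N := centralizer_le_normalizer _
  have hCH : C ≤ E.H := fun h hh => mem_H (mem_centralizer_iff.1 hh E.t E.mem).symm
  have hCZ : C ≤ Z := le_inf (centralizer_S_le R) hCN
  have hperm : ∀ n ∈ N, ∀ σ : R.Γ, ∃ τ, n * R.fld σ * n⁻¹ = R.fld τ := by
    intro n hn σ
    refine fld_of_odd_centralizer_S R (mem_centralizer_iff.2 fun s hs => ?_) ?_
    · have hs' : n⁻¹ * s * n ∈ (E.S : Subgroup G) := (mem_normalizer_iff''.1 hn s).1 hs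
      have h := (R.S_fld σ _ hs').eq
      calc s * (n * R.fld σ * n⁻¹) = n * (n⁻¹ * s * n * R.fld σ) * n⁻¹ := by group
        _ = n * (R.fld σ * (n⁻¹ * s * n)) * n⁻¹ := by rw [h]
        _ = _ := by group
    · rw [← MulAut.conj_apply, MulEquiv.orderOf_eq, orderOf_injective R.fld R.fld_inj]
      exact R.Γ_odd.of_dvd_nat (orderOf_dvd_natCard σ)
  have hZn : ∀ n ∈ N, ∀ z ∈ Z, n * z * n⁻¹ ∈ Z := fun n hn z hz => by
    have hz2 : z ∈ N := hz.2
    have hni : n⁻¹ ∈ N := inv_mem hn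
    refine ⟨(mem_cfld R).2 fun σ => ?_, mul_mem (mul_mem hn hz2) hni⟩
    obtain ⟨τ, hτ⟩ := hperm n⁻¹ (inv_mem hn) σ
    rw [inv_inv] at hτ
    have h := ((mem_cfld R).1 hz.1 τ).eq
    rw [← hτ] at h
    calc n * z * n⁻¹ * R.fld σ = n * (z * (n⁻¹ * R.fld σ * n)) * n⁻¹ := by group
      _ = n * (n⁻¹ * R.fld σ * n * z) * n⁻¹ := by rw [h]
      _ = _ := by group
  by_contra hle
  have hN21 : C.relIndex N = 21 := hloc.auto
  have h7 : (E.H ⊓ N).relIndex N = 7 := relIndex_normalizer_inf E.card_S E.sq E.mem E.orderOf_t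
    fun x hx hx2 => hloc.fuse E.t E.mem x hx E.ne ((E.orderOf_two_iff hx).1 hx2)
  have hNH3 : C.relIndex (E.H ⊓ N) = 3 := by
    have := relIndex_mul_relIndex C (E.H ⊓ N) N (le_inf hCH hCN) inf_le_right
    rw [h7, hN21] at this
    omega
  have hZH3 : C.relIndex (E.H ⊓ Z) = 3 := by
    have hle' : E.H ⊓ Z ≤ E.H ⊓ N := inf_le_inf_left _ inf_le_right
    have := relIndex_mul_relIndex C (E.H ⊓ Z) (E.H ⊓ N) (le_inf hCH hCZ) hle'
    rw [hNH3] at this
    rcases (Nat.dvd_prime Nat.prime_three).1 ⟨_, this.symm⟩ with h | h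
    · exact absurd (relIndex_eq_one.1 h ⟨hρH, hρM, hρN⟩) hρC
    · exact h
  have hmul := relIndex_mul_relIndex C (E.H ⊓ Z) Z (le_inf hCH hCZ) inf_le_right
  have hmul' := relIndex_mul_relIndex C Z N hCZ inf_le_right
  rw [hN21] at hmul'
  rw [hZH3] at hmul
  have hZN : Z.relIndex N ≠ 1 := fun h => hle fun n hn => (relIndex_eq_one.1 h hn).1
  have hZH : Z ≤ E.H := by
    intro z hz
    have hdvd : C.relIndex Z ∣ 21 := ⟨_, hmul'.symm⟩
    have h1 : (E.H ⊓ Z).relIndex Z = 1 := by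
      have h3d : 3 ∣ C.relIndex Z := ⟨_, hmul.symm⟩
      have hle21 := Nat.le_of_dvd (by norm_num) hdvd
      interval_cases hc : C.relIndex Z <;> omega
    exact (relIndex_eq_one.1 h1 hz).1
  obtain ⟨s, hs, hs1, hst⟩ : ∃ s ∈ (E.S : Subgroup G), s ≠ 1 ∧ s ≠ E.t := by
    obtain ⟨s₁, -, x₁, -, hs₁, -, e₁, -, ho₁, -⟩ := exists_S_pair R
    refine ⟨s₁, hs₁, ?_, ?_⟩
    · rintro rfl
      rcases e₁ with e | e
      · rw [← orderOf_psl R, ← e, orderOf_one] at ho₁; omega
      · exact psl_t_mul_ne R x₁ 1 (by rw [← e, map_one])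
    · rintro rfl
      rcases e₁ with e | e
      · exact R.ne_t x₁ 1 (by rw [map_one, mul_one]; exact e.symm)
      · have : R.psl x₁ = 1 := (mul_eq_left.1 e.symm)
        rw [← orderOf_psl R, this, orderOf_one] at ho₁; omega
  obtain ⟨n, hn, hnt⟩ := hloc.fuse E.t E.mem s hs E.ne hs1
  have h1 : n⁻¹ * ρ * n⁻¹⁻¹ ∈ Z := hZn n⁻¹ (inv_mem hn) ρ ⟨hρM, hρN⟩
  have h2 := commute_t (hZH h1)
  have h3 : Commute ρ s := by
    rw [← hnt]
    calc ρ * (n * E.t * n⁻¹) = n * (n⁻¹ * ρ * n⁻¹⁻¹ * E.t) * n⁻¹ := by group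
      _ = n * (E.t * (n⁻¹ * ρ * n⁻¹⁻¹)) * n⁻¹ := by rw [h2.eq]
      _ = _ := by group
  exact (hρfix s hs h3).elim hs1 hst

/-- Involutions centralising the field part are conjugate to `t` there. -/
theorem exists_conj_cfld [CharP R.F 3] (hloc : Local E) {u : G} (hu : u ∈ cfld R) (h2 : orderOf u = 2) :
    ∃ g ∈ cfld R, g * E.t * g⁻¹ = u := by
  haveI : Fact (Nat.Prime 2) := ⟨Nat.prime_two⟩
  have hS : (E.S : Subgroup G) ≤ cfld R := fun s hs =>
    (mem_cfld R).2 fun σ => (R.S_fld σ s hs).symm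
  let SM : Sylow 2 (cfld R) := E.S.subtype hS
  have hp : IsPGroup 2 (zpowers (⟨u, hu⟩ : cfld R)) := by
    refine IsPGroup.of_card (n := 1) ?_
    rw [Nat.card_zpowers, pow_one, ← Subgroup.orderOf_coe]
    exact h2
  obtain ⟨Q, hQ⟩ := hp.exists_le_sylow
  obtain ⟨g, hg⟩ := MulAction.exists_smul_eq (cfld R) SM Q
  have huQ : (⟨u, hu⟩ : cfld R) ∈ (Q : Subgroup (cfld R)) := hQ (mem_zpowers _)
  rw [← hg, Sylow.coe_subgroup_smul] at huQ
  obtain ⟨s, hs, hsu⟩ := huQ
  have hsu' : (g : G) * s * (g : G)⁻¹ = u := congrArg Subtype.val hsu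
  have hs' : (s : G) ∈ (E.S : Subgroup G) := hs
  have hs1 : (s : G) ≠ 1 := fun e => by
    rw [e, mul_one, mul_inv_cancel] at hsu'
    rw [← hsu', orderOf_one] at h2; omega
  obtain ⟨n, hn, hnt⟩ := hloc.fuse E.t E.mem s hs' E.ne hs1
  refine ⟨g * n, mul_mem g.2 (normalizer_S_le R hloc hn), ?_⟩
  rw [← hsu', ← hnt]
  group

end CfsgLib.Walter.Twist.FixedT
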