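import Cfsg.Agent.Lib.Walter.Twist.CaseDefs
import Cfsg.Agent.Lib.Walter.Twist.FixedBasic
import Cfsg.Agent.Lib.JankoThompson.Section
import Mathlib.GroupTheory.SemidirectProduct

/-!
Walter, case D, piece X: the centralizer of the involution as `⟨t⟩ × (PSL₂(q) ⋊ Γ)`.
-/

set_option autoImplicit false
set_option linter.unusedSectionVars false
set_option linter.style.haveILetI false

namespace CfsgLib.Walter.Twist.CaseX

open Subgroup CfsgLib.AutPSL CfsgLib.Walter.Twist.FixedT

universe u

variable {G : Type u} [Group G] [Finite G] {E : Setup G} (R : Frame E)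

local notation "PSLF" => Matrix.ProjectiveSpecialLinearGroup (Fin 2) R.F
set_option quotPrecheck false in
local notation "CT" => Subgroup.centralizer ({Setup.t E} : Set G)

/-- `PSL₂(q) ⋊ Γ`. -/
abbrev YExt : Type :=
  Matrix.ProjectiveSpecialLinearGroup (Fin 2) R.F ⋊[(fieldAut (n := 2) (F := R.F)).comp R.Γ.subtype] R.Γ

/-- The simple part in the centralizer. -/
def pslC : PSLF →* CT := R.psl.codRestrict CT R.psl_mem

/-- The field part in the centralizer. -/
def fldC : R.Γ →* CT := R.fld.codRestrict CT R.fld_mem

/-- The involution in its centralizer. -/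
def tC (E : Setup G) : Subgroup.centralizer ({E.t} : Set G) :=
  ⟨E.t, Subgroup.mem_centralizer_singleton_iff.2 rfl⟩

theorem tC_mul_self : tC E * tC E = 1 := Subtype.ext t_sq

theorem commute_tC (x : CT) : Commute (tC E) x :=
  Subtype.ext (Subgroup.mem_centralizer_singleton_iff.1 x.2).symm

/-- The complement of `⟨t⟩`. -/
noncomputable def up : YExt R →* CT :=
  SemidirectProduct.lift (pslC R) (fldC R) fun σ => by
    refine MonoidHom.ext fun x => Subtype.ext ?_
    exact (R.fld_psl σ x).symm

theorem coe_up (k : YExt R) :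
    ((up R k : CT) : G) = R.psl k.left * R.fld k.right := rfl

theorem up_inl (x : PSLF) : ((up R (SemidirectProduct.inl x) : CT) : G) = R.psl x := by
  rw [coe_up]; simp

theorem up_inr (σ : R.Γ) : ((up R (SemidirectProduct.inr σ) : CT) : G) = R.fld σ := by
  rw [coe_up]; simp

theorem up_injective : Function.Injective (up R) := by
  refine (injective_iff_map_eq_one _).2 fun k hk => ?_
  have h : R.psl k.left * R.fld k.right = 1 := by rw [← coe_up R, hk]; rfl
  obtain ⟨h1, h2⟩ := R.eq_one _ _ h
  exact SemidirectProduct.ext h1 h2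

theorem up_ne_tC (k : YExt R) : up R k ≠ tC E := fun h =>
  R.ne_t k.left k.right (by rw [← coe_up R, h]; rfl)

/-- The powers of the involution. -/
def tpow (E : Setup G) : Multiplicative (ZMod 2) →* Subgroup.centralizer ({E.t} : Set G) where
  toFun z := if z = 1 then 1 else tC E
  map_one' := if_pos rfl
  map_mul' a b := by
    have key : ∀ z : Multiplicative (ZMod 2), z = 1 ∨ z = Multiplicative.ofAdd 1 := by decide
    have hg : Multiplicative.ofAdd (1 : ZMod 2) * Multiplicative.ofAdd 1 = 1 := by decide
    have hn : Multiplicative.ofAdd (1 : ZMod 2) ≠ 1 := by decide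
    rcases key a with rfl | rfl <;> rcases key b with rfl | rfl <;>
      simp [hg, hn, tC_mul_self]

/-- The product map. -/
noncomputable def wHom : Multiplicative (ZMod 2) × YExt R →* CT :=
  (tpow E).noncommCoprod (up R) fun z k => by
    show Commute (if z = 1 then 1 else tC E) (up R k)
    split_ifs
    · exact Commute.one_left _
    · exact commute_tC _

theorem wHom_apply (z : Multiplicative (ZMod 2)) (k : YExt R) :
    wHom R (z, k) = (if z = 1 then 1 else tC E) * up R k := rfl

theorem wHom_bijective : Function.Bijective (wHom R) := by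
  constructor
  · refine (injective_iff_map_eq_one _).2 ?_
    rintro ⟨z, k⟩ hk
    rw [wHom_apply] at hk
    split_ifs at hk with hz
    · rw [one_mul] at hk
      exact Prod.ext hz ((injective_iff_map_eq_one _).1 (up_injective R) k hk)
    · exact absurd ((eq_inv_of_mul_eq_one_right hk).trans (inv_eq_of_mul_eq_one_right tC_mul_self))
        (up_ne_tC R k)
  · intro x
    obtain ⟨a, σ, h | h⟩ := R.exists_eq (x : G) x.2
    · refine ⟨(1, ⟨a, σ⟩), Subtype.ext ?_⟩
      rw [wHom_apply, if_pos rfl, one_mul, coe_up, h]
    · refine ⟨(Multiplicative.ofAdd 1, ⟨a, σ⟩), Subtype.ext ?_⟩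
      rw [wHom_apply, if_neg (by decide), Subgroup.coe_mul, coe_up, h]
      rfl

/-- The coordinates. -/
noncomputable def eqv : Multiplicative (ZMod 2) × YExt R ≃* CT :=
  MulEquiv.ofBijective (wHom R) (wHom_bijective R)

theorem eqv_apply (z : Multiplicative (ZMod 2)) (k : YExt R) :
    eqv R (z, k) = (if z = 1 then 1 else tC E) * up R k := rfl

theorem eqv_symm_up (k : YExt R) : (eqv R).symm (up R k) = (1, k) := by
  rw [MulEquiv.symm_apply_eq, eqv_apply, if_pos rfl, one_mul]

theorem eqv_symm_tC : (eqv R).symm (tC E) = (Multiplicative.ofAdd 1, 1) := by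
  rw [MulEquiv.symm_apply_eq, eqv_apply, if_neg (by decide), map_one, mul_one]

/-- The projection datum of the section. -/
noncomputable def toProj : JankoThompson.Proj E.t (YExt R) where
  sg := (MonoidHom.fst _ _).comp (eqv R).symm.toMonoidHom
  proj := (MonoidHom.snd _ _).comp (eqv R).symm.toMonoidHom
  sg_t := congrArg Prod.fst (eqv_symm_tC R)
  proj_t := congrArg Prod.snd (eqv_symm_tC R)
  surj := fun y => ⟨eqv R y, (eqv R).symm_apply_apply y⟩
  ker_odd := by
    have h : (((MonoidHom.fst _ _).comp (eqv R).symm.toMonoidHom).prod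
        ((MonoidHom.snd _ _).comp (eqv R).symm.toMonoidHom)).ker = ⊥ :=
      (Subgroup.eq_bot_iff_forall _).2 fun x hx =>
        (eqv R).symm.injective ((show (eqv R).symm x = 1 from hx).trans (map_one _).symm)
    rw [h, Subgroup.card_bot]
    exact odd_one
  t_two := E.orderOf_t

theorem proj_up (k : YExt R) : (toProj R).proj (up R k) = k := congrArg Prod.snd (eqv_symm_up R k)

theorem sg_up (k : YExt R) : (toProj R).sg (up R k) = 1 := congrArg Prod.fst (eqv_symm_up R k)

theorem cases_C (x : CT) :
    x = up R ((toProj R).proj x) ∨ x = tC E * up R ((toProj R).proj x) := by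
  obtain ⟨⟨z, k⟩, rfl⟩ := (eqv R).surjective x
  have hk : (toProj R).proj (eqv R (z, k)) = k := congrArg Prod.snd ((eqv R).symm_apply_apply _)
  rw [hk, eqv_apply]
  split_ifs <;> simp

end CfsgLib.Walter.Twist.CaseX
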