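import Cfsg.Agent.Lib.Walter.Twist.CaseProj
import Cfsg.Agent.Lib.ReeOrder.Block.Coeff

/-!
Walter, case D, piece X: what steps 2 and 3 use of the characters of `PSL₂(q) ⋊ Γ` and what they hand
over to step 4.
-/

set_option autoImplicit false
set_option linter.unusedSectionVars false
set_option linter.style.haveILetI false

namespace CfsgLib.Walter.Twist.CaseX

open Cfsg CfsgLib.Characters CfsgLib.JankoThompson
open CfsgLib.ReeOrder.Block (HalfData)
open scoped ComplexConjugate Classical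

universe u

variable {G : Type u} [Group G] [Fintype G] {E : Setup G}

noncomputable instance instFintypeYExt (R : Frame E) : Fintype (YExt R) :=
  haveI : Finite (YExt R) := Finite.of_equiv _ SemidirectProduct.equivProd.symm
  Fintype.ofFinite _

/-- The extensions of the Steinberg character and of the two halves. -/
structure YChars (R : Frame E) where
  /-- the characters of the simple part -/
  D : HalfData R.F
  St : IrrCharacter (YExt R)
  eta : IrrCharacter (YExt R)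
  eta' : IrrCharacter (YExt R)
  res_St : ∀ x, (St : YExt R → ℂ) (SemidirectProduct.inl x) =
    (D.St : Matrix.ProjectiveSpecialLinearGroup (Fin 2) R.F → ℂ) x
  res_eta : ∀ x, (eta : YExt R → ℂ) (SemidirectProduct.inl x) =
    (D.eta : Matrix.ProjectiveSpecialLinearGroup (Fin 2) R.F → ℂ) x
  res_eta' : ∀ x, (eta' : YExt R → ℂ) (SemidirectProduct.inl x) =
    (D.eta' : Matrix.ProjectiveSpecialLinearGroup (Fin 2) R.F → ℂ) x
  even : ∀ k, Even (orderOf k) →
    (St : YExt R → ℂ) k = -1 ∧ (eta : YExt R → ℂ) k = 1 ∧ (eta' : YExt R → ℂ) k = 1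
  odd : ∀ k, Odd (orderOf k) →
    (St : YExt R → ℂ) k = 1 + (eta : YExt R → ℂ) k + (eta' : YExt R → ℂ) k
  fld_St : ∀ σ, ∃ z : ℤ, Odd z ∧ (St : YExt R → ℂ) (SemidirectProduct.inr σ) = (z : ℂ)
  fld_eta : ∀ σ, ∃ z : ℤ, Odd z ∧ (eta : YExt R → ℂ) (SemidirectProduct.inr σ) = (z : ℂ)
  conj_eta : ∀ k, conj ((eta : YExt R → ℂ) k) = (eta' : YExt R → ℂ) k

variable {R : Frame E}

/-- A function of `PSL₂(q) ⋊ Γ` twisted by a linear character of the field part. -/
noncomputable def lamFun (lam : R.Γ →* ℂˣ) (f : YExt R → ℂ) : YExt R → ℂ :=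
  fun k => (lam k.right : ℂ) * f k

namespace YChars

variable (D : YChars R)

/-- The three functions of the section. -/
noncomputable def fn : Fin 3 → YExt R → ℂ :=
  ![(fun _ => 1) + (D.St : YExt R → ℂ), (D.St : YExt R → ℂ) + (D.eta : YExt R → ℂ),
    (D.St : YExt R → ℂ) + (D.eta' : YExt R → ℂ)]

/-- The combination of the three values. -/
noncomputable def comb (c : Fin 3 → ℤ) : YExt R → ℂ := fun k =>
  (c 0 : ℂ) + (c 1 : ℂ) * (D.eta : YExt R → ℂ) k + (c 2 : ℂ) * (D.eta' : YExt R → ℂ) k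

end YChars

/-- The value `(q - 1) / 2` of the two halves at `1`. -/
def hf (R : Frame E) : ℤ := ((R.q : ℤ) - 1) / 2

/-- The coefficients of the three functions of a linear character of the field part. -/
structure Cols (R : Frame E) (D : YChars R) (lam : R.Γ →* ℂˣ)
    (c : IrrCharacter G → Fin 3 → ℤ) : Prop where
  inner : ∀ (χ : IrrCharacter G) (i : Fin 3),
    classInner ((toProj R).sec (lamFun lam (D.fn i))) (χ : G → ℂ) = (c χ i : ℂ)
  value : ∀ χ : IrrCharacter G, c χ ≠ 0 → ∀ k, Odd (orderOf k) →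
    (χ : G → ℂ) (E.t * ((up R k : Subgroup.centralizer ({E.t} : Set G)) : G)) =
      (lam k.right : ℂ) * D.comb (c χ) k
  value_t : ∀ χ : IrrCharacter G, c χ ≠ 0 →
    (χ : G → ℂ) E.t = ((c χ 0 + hf R * (c χ 1 + c χ 2) : ℤ) : ℂ)

/-- The four rows of a twisted block, in an unspecified order. -/
structure Four (R : Frame E) (D : YChars R) (lam : R.Γ →* ℂˣ) where
  /-- the coefficients -/
  c : IrrCharacter G → Fin 3 → ℤ
  hc : Cols R D lam c
  /-- the characters -/
  a : Fin 4 → IrrCharacter G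
  /-- their coefficients of the first function -/
  s : Fin 4 → ℤ
  /-- the signed values at the involution -/
  v : Fin 4 → ℤ
  a_inj : Function.Injective a
  s_cases : ∀ i, s i = 1 ∨ s i = -1
  s_eq : ∀ i, c (a i) 0 = s i
  cover : ∀ χ : IrrCharacter G, c χ 0 ≠ 0 → ∃ i, a i = χ
  v_eq : ∀ i, (a i : G → ℂ) E.t = ((s i * v i : ℤ) : ℂ)
  cong : ∀ i, (8 : ℤ) ∣ s i * (charDegree (a i : G → ℂ) : ℤ) - v i
  sum_x : ∑ i, s i * (charDegree (a i : G → ℂ) : ℤ) = 0
  eq_K : ∑ i, (v i : ℚ) ^ 2 / ((s i * (charDegree (a i : G → ℂ) : ℤ) : ℤ) : ℚ) =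
    CfsgLib.ReeOrder.ratio R.q R.I
  shape : (∃ e : Equiv.Perm (Fin 4), v ∘ e = ![1, (R.q : ℤ), 1, (R.q : ℤ)]) ∨
    (∃ e : Equiv.Perm (Fin 4),
      v ∘ e = ![1, ((R.q : ℤ) + 1) / 2, ((R.q : ℤ) + 1) / 2, (R.q : ℤ)])
  one : ∀ i, s i * (charDegree (a i : G → ℂ) : ℤ) = 1 → lam = 1
  principal : lam = 1 → ∃ i, a i = principalIrr G ∧ s i = 1 ∧ v i = 1
  seven : lam = 1 → ∀ i, v i = ((R.q : ℤ) + 1) / 2 →
    SevenPrincipal R.q R.I (s i * (charDegree (a i : G → ℂ) : ℤ))

end CfsgLib.Walter.Twist.CaseX
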