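import Cfsg.Agent.Lib.Walter.Twist.RowsDefs
import Mathlib.Data.Complex.Basic
import Mathlib.Algebra.BigOperators.Fin

/-!
Walter, the field part, case D: the norm count of the two exceptional functions.

Two orthogonal integral vectors of norm three whose difference is a sign on each of four rows: each takes
two rows and one further entry; the equations give the relations of `Rows`.
-/

set_option autoImplicit false

namespace CfsgLib.Walter.Twist.NormCount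

open Finset
open scoped Classical

variable {ι : Type*} [Fintype ι]

/-- A small square. -/
theorem unit_cases {z : ℤ} (h : z ^ 2 ≤ 3) : z = 0 ∨ z = 1 ∨ z = -1 := by
  have h1 : z ≤ 1 := by nlinarith
  have h2 : -1 ≤ z := by nlinarith
  omega

/-- A sum over the rows and the rest. -/
theorem sum_split {M : Type*} [AddCommMonoid M] {a : Fin 4 → ι} (ha : Function.Injective a)
    (f : ι → M) : ∑ χ, f χ = (∑ i, f (a i)) + ∑ χ ∈ (univ.image a)ᶜ, f χ := by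
  rw [← Finset.sum_add_sum_compl (univ.image a) f, Finset.sum_image ha.injOn]

/-- The supports are disjoint and split the rows. -/
theorem disjoint {a : Fin 4 → ι} (ha : Function.Injective a) {s : Fin 4 → ℤ}
    (hs : ∀ i, s i = 1 ∨ s i = -1) {p m : ι → ℤ} (hp : ∑ χ, p χ ^ 2 = 3) (hm : ∑ χ, m χ ^ 2 = 3)
    (hpm : ∑ χ, p χ * m χ = 0) (hdiff : ∀ i, p (a i) - m (a i) = s i) :
    ∀ i, (p (a i) = s i ∧ m (a i) = 0) ∨ (p (a i) = 0 ∧ m (a i) = -s i) := by
  have h6 : ∑ χ, (p χ - m χ) ^ 2 = 6 := by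
    simp only [sub_sq, Finset.sum_add_distrib, Finset.sum_sub_distrib, hp, hm, mul_assoc,
      ← Finset.mul_sum, hpm]
    norm_num
  rw [sum_split ha] at h6
  have h4 : ∑ i, (p (a i) - m (a i)) ^ 2 = 4 := by
    rw [Finset.sum_congr rfl (fun i _ => show (p (a i) - m (a i)) ^ 2 = 1 by
      rw [hdiff]; rcases hs i with h | h <;> rw [h] <;> norm_num)]
    simp
  have hnn : ∀ χ, 0 ≤ p χ * m χ := by
    intro χ
    by_contra hc
    have hge : 4 ≤ (p χ - m χ) ^ 2 := by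
      have h1 : p χ * m χ ≤ -1 := by omega
      nlinarith [sq_nonneg (p χ + m χ)]
    by_cases hmem : χ ∈ univ.image a
    · obtain ⟨i, -, rfl⟩ := Finset.mem_image.1 hmem
      rw [hdiff] at hge
      rcases hs i with h | h <;> rw [h] at hge <;> norm_num at hge
    · have := Finset.single_le_sum (fun j _ => sq_nonneg (p j - m j))
        (Finset.mem_compl.2 hmem)
      omega
  intro i
  have h0 : p (a i) * m (a i) = 0 :=
    (Finset.sum_eq_zero_iff_of_nonneg fun χ _ => hnn χ).1 hpm _ (Finset.mem_univ _)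
  have := hdiff i
  rcases mul_eq_zero.1 h0 with h | h
  · exact Or.inr ⟨h, by omega⟩
  · exact Or.inl ⟨by omega, h⟩

/-- A vector of norm three orthogonal to the degrees has at most two rows. -/
theorem card_le_two {a : Fin 4 → ι} (ha : Function.Injective a) {s : Fin 4 → ℤ}
    (hs : ∀ i, s i = 1 ∨ s i = -1) {d u : ι → ℤ} (hd : ∀ χ, d χ ≠ 0)
    (hsum : ∑ i, s i * d (a i) = 0) (hu2 : ∑ χ, u χ ^ 2 = 3) (hud : ∑ χ, u χ * d χ = 0)
    (T : Finset (Fin 4)) (hin : ∀ i ∈ T, u (a i) = s i) (hout : ∀ i ∉ T, u (a i) = 0) :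
    T.card ≤ 2 ∧ (∑ χ ∈ (univ.image a)ᶜ, u χ ^ 2) = 3 - (T.card : ℤ) := by
  have hrow : ∑ i, u (a i) ^ 2 = (T.card : ℤ) := by
    rw [← Finset.sum_subset (Finset.subset_univ T) fun i _ hi => by rw [hout i hi]; norm_num]
    rw [Finset.sum_congr rfl fun i hi => show u (a i) ^ 2 = 1 by
      rw [hin i hi]; rcases hs i with h | h <;> rw [h] <;> norm_num]
    simp
  rw [sum_split ha, hrow] at hu2
  have hnn : 0 ≤ ∑ χ ∈ (univ.image a)ᶜ, u χ ^ 2 := Finset.sum_nonneg fun χ _ => sq_nonneg _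
  refine ⟨?_, by omega⟩
  by_contra hc
  have hT : T.card = 3 := by omega
  have hzero : ∀ χ ∈ (univ.image a)ᶜ, u χ = 0 := fun χ hχ =>
    pow_eq_zero_iff two_ne_zero |>.1
      ((Finset.sum_eq_zero_iff_of_nonneg fun j _ => sq_nonneg (u j)).1 (by omega) χ hχ)
  rw [sum_split ha, Finset.sum_eq_zero (s := (univ.image a)ᶜ) fun χ hχ => by rw [hzero χ hχ, zero_mul],
    add_zero, ← Finset.sum_subset (Finset.subset_univ T) fun i _ hi => by rw [hout i hi, zero_mul],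
    Finset.sum_congr rfl fun i hi => by rw [hin i hi]] at hud
  obtain ⟨k, hk⟩ := Finset.card_eq_one.1 (show Tᶜ.card = 1 by
    rw [Finset.card_compl, hT, Fintype.card_fin])
  rw [← Finset.sum_add_sum_compl T, hud, hk, Finset.sum_singleton, zero_add] at hsum
  exact mul_ne_zero (by rcases hs k with h | h <;> rw [h] <;> norm_num) (hd _) hsum

/-- Exactly one further entry, a sign. -/
theorem exists_extra {a : Fin 4 → ι} {u : ι → ℤ}
    (h : ∑ χ ∈ (univ.image a)ᶜ, u χ ^ 2 = 1) :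
    ∃ χ ∈ (univ.image a)ᶜ, (u χ = 1 ∨ u χ = -1) ∧ ∀ j ∈ (univ.image a)ᶜ, j ≠ χ → u j = 0 := by
  obtain ⟨χ, hχ, hne⟩ := Finset.exists_ne_zero_of_sum_ne_zero (by rw [h]; norm_num : _ ≠ (0 : ℤ))
  have hle := Finset.single_le_sum (fun j _ => sq_nonneg (u j)) hχ
  have hu : u χ ≠ 0 := fun e => hne (by rw [e]; norm_num)
  refine ⟨χ, hχ, (unit_cases (by omega)).resolve_left hu, fun j hj hjne => ?_⟩
  have hsplit := Finset.add_sum_erase _ (fun j => u j ^ 2) hχ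
  have h1 : u χ ^ 2 = 1 := by
    rcases (unit_cases (z := u χ) (by omega)).resolve_left hu with e | e <;> rw [e] <;> norm_num
  have h2 := (Finset.sum_eq_zero_iff_of_nonneg fun k _ => sq_nonneg (u k)).1 (by omega) j
    (Finset.mem_erase.2 ⟨hjne, hj⟩)
  exact pow_eq_zero_iff two_ne_zero |>.1 h2

/-- A vector with two rows and one further entry. -/
theorem sum_three {a : Fin 4 → ι} (ha : Function.Injective a) {s : Fin 4 → ℤ} {u : ι → ℤ}
    {i j : Fin 4} (hij : i ≠ j) (hi : u (a i) = s i) (hj : u (a j) = s j)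
    (hout : ∀ k, k ≠ i → k ≠ j → u (a k) = 0) {χ : ι} (hχ : χ ∈ (univ.image a)ᶜ)
    (hoth : ∀ k ∈ (univ.image a)ᶜ, k ≠ χ → u k = 0) {M : Type*} [Ring M] (f : ι → M) :
    ∑ k, (u k : M) * f k = (s i : M) * f (a i) + (s j : M) * f (a j) + (u χ : M) * f χ := by
  rw [sum_split ha, Finset.sum_eq_single_of_mem χ hχ fun k hk hne => by rw [hoth k hk hne]; simp,
    ← Finset.sum_subset (Finset.subset_univ {i, j}) fun k _ hk => by
      simp only [Finset.mem_insert, Finset.mem_singleton, not_or] at hk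
      rw [hout k hk.1 hk.2]; simp,
    Finset.sum_pair hij, hi, hj]

/-- Complementary pairs give an ordering. -/
theorem exists_perm (T : Finset (Fin 4)) (hT : T.card = 2) (i0 : Fin 4) :
    ∃ e : Equiv.Perm (Fin 4), e 0 ∈ T ∧ e 1 ∈ T ∧ e 2 ∉ T ∧ e 3 ∉ T ∧ (i0 ∈ T → e 0 = i0) := by
  revert i0 T
  decide

/-- The norm count. -/
theorem exists_rows {q : ℕ} {K : ℚ} {d : ι → ℤ} (hd : ∀ χ, d χ ≠ 0) {w : ι → ℂ}
    {a : Fin 4 → ι} (ha : Function.Injective a) {s v : Fin 4 → ℤ} (hs : ∀ i, s i = 1 ∨ s i = -1)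
    (hw : ∀ i, w (a i) = ((s i * v i : ℤ) : ℂ)) (hcong : ∀ i, (8 : ℤ) ∣ s i * d (a i) - v i)
    (hsum : ∑ i, s i * d (a i) = 0)
    (hK : ∑ i, (v i : ℚ) ^ 2 / ((s i * d (a i) : ℤ) : ℚ) = K)
    (hshape : (∃ e : Equiv.Perm (Fin 4), v ∘ e = ![1, (q : ℤ), 1, (q : ℤ)]) ∨
      (∃ e : Equiv.Perm (Fin 4),
        v ∘ e = ![1, ((q : ℤ) + 1) / 2, ((q : ℤ) + 1) / 2, (q : ℤ)]))
    {p m : ι → ℤ} (hp : ∑ χ, p χ ^ 2 = 3) (hm : ∑ χ, m χ ^ 2 = 3) (hpm : ∑ χ, p χ * m χ = 0)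
    (hdiff : ∀ i, p (a i) - m (a i) = s i)
    (hpd : ∑ χ, p χ * d χ = 0) (hmd : ∑ χ, m χ * d χ = 0)
    (hpw : ∑ χ, (p χ : ℂ) * w χ = 0) (hmw : ∑ χ, (m χ : ℂ) * w χ = 0)
    (hpK : ∑ χ, (p χ : ℂ) * (w χ ^ 2 / (d χ : ℂ)) = (K : ℂ))
    (hmK : ∑ χ, (m χ : ℂ) * (w χ ^ 2 / (d χ : ℂ)) = 0) (i0 : Fin 4) :
    ∃ (W : Rows q K) (e : Equiv.Perm (Fin 4)), (∀ i, W.x i = s (e i) * d (a (e i))) ∧
      (∀ i, W.v i = v (e i)) ∧ (p (a i0) ≠ 0 → e 0 = i0) := by
  have hs0 : ∀ i, s i ≠ 0 := fun i => by rcases hs i with h | h <;> rw [h] <;> norm_num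
  have hdis := disjoint ha hs hp hm hpm hdiff
  set T : Finset (Fin 4) := univ.filter fun i => p (a i) ≠ 0 with hT
  have hin : ∀ i ∈ T, p (a i) = s i ∧ m (a i) = 0 := fun i hi =>
    (hdis i).resolve_right fun h => (Finset.mem_filter.1 hi).2 h.1
  have hout : ∀ i ∉ T, p (a i) = 0 ∧ m (a i) = -s i := fun i hi =>
    (hdis i).resolve_left fun h => hi (Finset.mem_filter.2 ⟨Finset.mem_univ _, by rw [h.1]; exact hs0 i⟩)
  obtain ⟨hp2, hpe⟩ := card_le_two ha hs hd hsum hp hpd T (fun i hi => (hin i hi).1)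
    (fun i hi => (hout i hi).1)
  obtain ⟨hm2, hme⟩ := card_le_two ha hs hd hsum (u := fun χ => -m χ) (by simpa using hm)
    (by simpa using hmd) Tᶜ (fun i hi => by simp [(hout i (Finset.mem_compl.1 hi)).2])
    (fun i hi => by simp [(hin i (by simpa using hi)).2])
  have hcard := Finset.card_compl T
  rw [Fintype.card_fin] at hcard
  have hT2 : T.card = 2 := by omega
  obtain ⟨A, hA, hAu, hAo⟩ := exists_extra (a := a) (u := p) (by omega)
  obtain ⟨B, hB, hBu, hBo⟩ := exists_extra (a := a) (u := fun χ => -m χ) (by omega)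
  obtain ⟨e, h0, h1, h2, h3, h00⟩ := exists_perm T hT2 i0
  have hne : ∀ i j : Fin 4, i ≠ j → e i ≠ e j := fun i j h h' => h (e.injective h')
  have hother : ∀ k, k = e 0 ∨ k = e 1 ∨ k = e 2 ∨ k = e 3 := fun k => by
    obtain ⟨j, rfl⟩ := e.surjective k
    fin_cases j <;> simp
  have hP : ∀ f : ι → ℂ, ∑ k, (p k : ℂ) * f k =
      (s (e 0) : ℂ) * f (a (e 0)) + (s (e 1) : ℂ) * f (a (e 1)) + (p A : ℂ) * f A := fun f =>
    sum_three ha (hne 0 1 (by decide)) (hin _ h0).1 (hin _ h1).1 (fun k k0 k1 => by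
      rcases hother k with rfl | rfl | rfl | rfl
      exacts [absurd rfl k0, absurd rfl k1, (hout _ h2).1, (hout _ h3).1]) hA hAo f
  have hM : ∀ f : ι → ℂ, ∑ k, (m k : ℂ) * f k =
      -((s (e 2) : ℂ) * f (a (e 2)) + (s (e 3) : ℂ) * f (a (e 3)) + ((-m B : ℤ) : ℂ) * f B) := fun f => by
    rw [← sum_three ha (u := fun χ => -m χ) (hne 2 3 (by decide)) (by simp [(hout _ h2).2])
      (by simp [(hout _ h3).2]) (fun k k2 k3 => by
        rcases hother k with rfl | rfl | rfl | rfl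
        exacts [by simp [(hin _ h0).2], by simp [(hin _ h1).2], absurd rfl k2, absurd rfl k3])
      hB hBo f, ← Finset.sum_neg_distrib]
    exact Finset.sum_congr rfl fun k _ => by push_cast; ring
  set x : Fin 4 → ℤ := fun i => s (e i) * d (a (e i)) with hx
  have hx0 : ∀ i, x i ≠ 0 := fun i => mul_ne_zero (hs0 _) (hd _)
  have hxC : ∀ i, (x i : ℂ) ≠ 0 := fun i => Int.cast_ne_zero.2 (hx0 i)
  have hsum' : x 0 + x 1 + x 2 + x 3 = 0 := by
    rw [← Equiv.sum_comp e, Fin.sum_univ_four] at hsum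
    exact hsum
  have hK' : (v (e 0) : ℚ) ^ 2 / x 0 + (v (e 1) : ℚ) ^ 2 / x 1 + (v (e 2) : ℚ) ^ 2 / x 2 +
      (v (e 3) : ℚ) ^ 2 / x 3 = K := by
    rw [← Equiv.sum_comp e, Fin.sum_univ_four] at hK
    exact hK
  -- a single term
  have hrow : ∀ i : Fin 4, (s (e i) : ℂ) * w (a (e i)) = (v (e i) : ℂ) := fun i => by
    rw [hw]; rcases hs (e i) with h | h <;> rw [h] <;> push_cast <;> ring
  have hrow2 : ∀ i : Fin 4, (s (e i) : ℂ) * (w (a (e i)) ^ 2 / (d (a (e i)) : ℂ)) =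
      (v (e i) : ℂ) ^ 2 / (x i : ℂ) := fun i => by
    rw [hw, hx]; rcases hs (e i) with h | h <;> simp [h, div_neg]
  have hrowd : ∀ i : Fin 4, (s (e i) : ℂ) * (d (a (e i)) : ℂ) = (x i : ℂ) := fun i => by
    rw [hx]; push_cast; rfl
  have hextra : ∀ (ε : ℤ) (χ : ι), (ε = 1 ∨ ε = -1) → (ε : ℂ) * (w χ ^ 2 / (d χ : ℂ)) =
      ((ε : ℂ) * w χ) ^ 2 / ((ε : ℂ) * (d χ : ℂ)) := fun ε χ h => by
    rcases h with h | h <;> simp [h, div_neg]
  -- the three equations of each function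
  have hd' : ((∑ k, (p k : ℂ) * (d k : ℂ)) = 0) ∧ (∑ k, (m k : ℂ) * (d k : ℂ)) = 0 := by
    constructor <;> exact_mod_cast (by assumption : (∑ k, _ * d k) = (0 : ℤ))
  have pD := hd'.1
  have mD := hd'.2
  rw [hP, hrowd, hrowd] at pD
  rw [hM, hrowd, hrowd, neg_eq_zero] at mD
  rw [hP, hrow, hrow] at hpw
  rw [hM, hrow, hrow, neg_eq_zero] at hmw
  rw [hP, hrow2, hrow2, hextra _ _ hAu] at hpK
  rw [hM, hrow2, hrow2, hextra _ _ hBu, neg_eq_zero] at hmK
  rw [show (p A : ℂ) * (d A : ℂ) = -((x 0 : ℂ) + x 1) by linear_combination pD,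
    show (p A : ℂ) * w A = -((v (e 0) : ℂ) + v (e 1)) by linear_combination hpw] at hpK
  have hBne : ((-m B : ℤ) : ℂ) * (d B : ℂ) ≠ 0 :=
    mul_ne_zero (Int.cast_ne_zero.2 (by rcases hBu with h | h <;> omega)) (Int.cast_ne_zero.2 (hd B))
  have hx23 : (x 2 : ℂ) + x 3 ≠ 0 := fun h => hBne (by linear_combination mD - h)
  rw [show ((-m B : ℤ) : ℂ) * (d B : ℂ) = -((x 2 : ℂ) + x 3) by linear_combination mD,
    show ((-m B : ℤ) : ℂ) * w B = -((v (e 2) : ℂ) + v (e 3)) by linear_combination hmw,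
    neg_sq, div_neg, ← sub_eq_add_neg, sub_eq_zero] at hmK
  have hprop : ((v (e 2) : ℂ) * x 3 - (v (e 3) : ℂ) * x 2) ^ 2 = 0 := by
    have := hxC 2; have := hxC 3
    field_simp at hmK
    linear_combination hmK
  have hKc : (v (e 0) : ℂ) ^ 2 / x 0 + (v (e 1) : ℂ) ^ 2 / x 1 + (v (e 2) : ℂ) ^ 2 / x 2 +
      (v (e 3) : ℂ) ^ 2 / x 3 = (K : ℂ) := by
    rw [← hK']; push_cast; rfl
  have hs4 : (x 2 : ℂ) + x 3 = -((x 0 : ℂ) + x 1) := by
    have : ((x 0 + x 1 + x 2 + x 3 : ℤ) : ℂ) = 0 := by rw [hsum']; norm_num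
    push_cast at this; linear_combination this
  have hsq : ((v (e 0) : ℂ) + v (e 1)) ^ 2 = ((v (e 2) : ℂ) + v (e 3)) ^ 2 := by
    have h01 : -((x 0 : ℂ) + x 1) ≠ 0 := hs4 ▸ hx23
    have h : (-((v (e 0) : ℂ) + v (e 1))) ^ 2 / -((x 0 : ℂ) + x 1) =
        ((v (e 2) : ℂ) + v (e 3)) ^ 2 / -((x 0 : ℂ) + x 1) := by
      rw [← hs4] at hpK ⊢
      linear_combination hpK - hKc + hmK
    rw [div_left_inj' h01, neg_sq] at h
    exact h
  refine ⟨⟨x, v ∘ e, hx0, fun i => hcong _, hsum', hK', ?_, ?_, ?_, ?_⟩, e, fun i => rfl,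
    fun i => rfl, fun h => h00 (Finset.mem_filter.2 ⟨Finset.mem_univ _, h⟩)⟩
  · rcases hshape with ⟨σ, hσ⟩ | ⟨σ, hσ⟩
    · exact Or.inl ⟨σ.trans e.symm, by rw [← hσ]; funext i; simp⟩
    · exact Or.inr ⟨σ.trans e.symm, by rw [← hσ]; funext i; simp⟩
  · exact_mod_cast hx23
  · have := sub_eq_zero.1 (pow_eq_zero_iff two_ne_zero |>.1 hprop)
    exact_mod_cast this
  · exact_mod_cast hsq

end CfsgLib.Walter.Twist.NormCount
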