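import Cfsg.Agent.Lib.Walter.Twist.RowsDefs
import Cfsg.Agent.Lib.ReeOrder.Arith

/-!
Walter, the field part, case D: the equation of a twisted block in integers.
-/

set_option autoImplicit false

namespace CfsgLib.Walter.Twist.RowsNum

/-- An odd power of three is `3` modulo `8`. -/
theorem q_mod_eight {q n : ℕ} (hqn : q = 3 ^ n) (hn : Odd n) : q % 8 = 3 := by
  obtain ⟨k, rfl⟩ := hn
  rw [hqn, pow_succ, pow_mul, Nat.mul_mod, Nat.pow_mod]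
  simp

/-- The basic facts on `q = 3 ^ n`. -/
theorem q_facts {q n : ℕ} (hqn : q = 3 ^ n) (hn : Odd n) (h3 : 3 ≤ n) :
    q % 8 = 3 ∧ 27 ≤ q ∧ 3 ∣ q := by
  refine ⟨q_mod_eight hqn hn, ?_, ?_⟩
  · rw [hqn]; exact le_trans (by norm_num : 27 ≤ 3 ^ 3) (Nat.pow_le_pow_right (show 0 < 3 by norm_num) h3)
  · rw [hqn]; exact dvd_pow_self 3 (by omega)

variable {q : ℕ} {K : ℚ}

/-- The second exceptional function adds one fraction. -/
theorem pair_sum (W : Rows q K) :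
    (W.v 2 : ℚ) ^ 2 / W.x 2 + (W.v 3 : ℚ) ^ 2 / W.x 3 =
      ((W.v 2 : ℚ) + W.v 3) ^ 2 / ((W.x 2 : ℚ) + W.x 3) := by
  have h2 : (W.x 2 : ℚ) ≠ 0 := Int.cast_ne_zero.2 (W.x_ne 2)
  have h3 : (W.x 3 : ℚ) ≠ 0 := Int.cast_ne_zero.2 (W.x_ne 3)
  have h23 : (W.x 2 : ℚ) + W.x 3 ≠ 0 := by exact_mod_cast W.pair_ne
  have hp : (W.v 2 : ℚ) * W.x 3 = (W.v 3 : ℚ) * W.x 2 := by exact_mod_cast W.pair_prop
  field_simp
  linear_combination ((W.v 2 : ℚ) * W.x 3 - (W.v 3 : ℚ) * W.x 2) * hp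

/-- The right side is a square over the degrees of the first exceptional function. -/
theorem eq_sq (W : Rows q K) :
    K * ((W.x 0 : ℚ) * W.x 1 * ((W.x 0 : ℚ) + W.x 1)) =
      ((W.v 0 : ℚ) * W.x 1 - (W.v 1 : ℚ) * W.x 0) ^ 2 := by
  have h0 : (W.x 0 : ℚ) ≠ 0 := Int.cast_ne_zero.2 (W.x_ne 0)
  have h1 : (W.x 1 : ℚ) ≠ 0 := Int.cast_ne_zero.2 (W.x_ne 1)
  have h01 : (W.x 0 : ℚ) + W.x 1 ≠ 0 := by
    have : W.x 0 + W.x 1 ≠ 0 := fun h => W.pair_ne (by linarith [W.sum_x])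
    exact_mod_cast this
  have hs : (W.x 2 : ℚ) + W.x 3 = -((W.x 0 : ℚ) + W.x 1) := by
    have := congrArg (fun z : ℤ => (z : ℚ)) W.sum_x
    push_cast at this; linarith
  have hv : ((W.v 2 : ℚ) + W.v 3) ^ 2 = ((W.v 0 : ℚ) + W.v 1) ^ 2 := by
    exact_mod_cast W.pair_sq.symm
  have hK := W.eq_K
  rw [add_assoc, pair_sum, hs, hv] at hK
  refine (congrArg (· * _) hK.symm).trans ?_
  field_simp
  ring

/-- The same in integers. -/
theorem int_eq {I : ℕ} (W : Rows q (CfsgLib.ReeOrder.ratio q I)) (h8 : q % 8 = 3) (hI : 0 < I) :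
    (I : ℤ) * (W.v 0 * W.x 1 - W.v 1 * W.x 0) ^ 2 =
      (q : ℤ) * ((q : ℤ) - 1) ^ 2 * ((q : ℤ) + 1) * (W.x 0 * W.x 1 * (W.x 0 + W.x 1)) := by
  have h := CfsgLib.ReeOrder.Arith.ratio_mul (I := I) (Or.inl h8) hI
  rw [show CfsgLib.ReeOrder.sq q = (q : ℤ) by simp [CfsgLib.ReeOrder.sq, h8]] at h
  have e := eq_sq W
  apply (Int.cast_injective (α := ℚ))
  push_cast at h ⊢
  rw [← e]
  linear_combination ((W.x 0 : ℚ) * W.x 1 * ((W.x 0 : ℚ) + W.x 1)) * h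

/-- The values at the involution. -/
theorem vals (W : Rows q K) (h8 : q % 8 = 3) :
    (∀ i, W.v i = 1 ∨ 2 * W.v i = (q : ℤ) + 1 ∨ W.v i = q) ∧ W.v 0 + W.v 1 = (q : ℤ) + 1 ∧
      W.v 2 + W.v 3 = (q : ℤ) + 1 ∧ ∃ i, W.v i = 1 := by
  have key : ∀ w : Fin 4 → ℤ, (∀ j, w j = 1 ∨ 2 * w j = (q : ℤ) + 1 ∨ w j = q) →
      w 0 + w 1 + w 2 + w 3 = 2 * ((q : ℤ) + 1) → w 0 = 1 → ∀ e : Equiv.Perm (Fin 4),
      W.v ∘ e = w → (∀ i, W.v i = 1 ∨ 2 * W.v i = (q : ℤ) + 1 ∨ W.v i = q) ∧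
        W.v 0 + W.v 1 = (q : ℤ) + 1 ∧ W.v 2 + W.v 3 = (q : ℤ) + 1 ∧ ∃ i, W.v i = 1 := by
    intro w hw hs h0 e he
    have hv : ∀ i, W.v i = w (e.symm i) := fun i => by
      rw [← he]; simp
    have hall : ∀ i, W.v i = 1 ∨ 2 * W.v i = (q : ℤ) + 1 ∨ W.v i = q := fun i => by
      rw [hv i]; exact hw _
    have hsum : W.v 0 + W.v 1 + W.v 2 + W.v 3 = 2 * ((q : ℤ) + 1) := by
      have := Equiv.sum_comp e W.v
      rw [Fin.sum_univ_four, Fin.sum_univ_four] at this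
      rw [← he] at hs
      simp only [Function.comp_apply] at hs
      linarith
    have hpos : ∀ i, 0 < W.v i := fun i => by rcases hall i with h | h | h <;> omega
    have hp := (sq_eq_sq₀ (by have := hpos 0; have := hpos 1; omega)
      (by have := hpos 2; have := hpos 3; omega)).1 W.pair_sq
    exact ⟨hall, by omega, by omega, e 0, by rw [hv, Equiv.symm_apply_apply, h0]⟩
  rcases W.shape with ⟨e, he⟩ | ⟨e, he⟩
  · refine key _ (fun j => ?_) ?_ rfl e he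
    · fin_cases j <;> simp
    · simp; ring
  · refine key _ (fun j => ?_) ?_ rfl e he
    · fin_cases j <;> simp <;> omega
    · simp; omega

/-- The three possibilities for a pair of values with sum `q + 1`. -/
theorem pair_cases (W : Rows q K) (h8 : q % 8 = 3) {i j : Fin 4}
    (h : W.v i + W.v j = (q : ℤ) + 1) :
    (W.v i = 1 ∧ W.v j = q) ∨ (W.v i = q ∧ W.v j = 1) ∨
      (2 * W.v i = (q : ℤ) + 1 ∧ 2 * W.v j = (q : ℤ) + 1) := by
  have hi := (vals W h8).1 i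
  omega

/-- The second exceptional function with values `1` and `q`. -/
theorem pair_one_q (W : Rows q K)
    (h : (W.v 2 = 1 ∧ W.v 3 = q) ∨ (W.v 2 = q ∧ W.v 3 = 1)) :
    ∃ e : ℤ, W.x 2 + W.x 3 = ((q : ℤ) + 1) * e ∧ e % 8 = 1 := by
  have hp := W.pair_prop
  rcases h with ⟨h2, h3⟩ | ⟨h2, h3⟩
  · refine ⟨W.x 2, ?_, ?_⟩
    · rw [h2, h3, one_mul] at hp; rw [hp]; ring
    · have := W.cong 2; omega
  · refine ⟨W.x 3, ?_, ?_⟩
    · rw [h2, h3, one_mul] at hp; rw [← hp]; ring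
    · have := W.cong 3; omega

/-- The second exceptional function with equal values. -/
theorem pair_eq (W : Rows q K) (h2 : 2 * W.v 2 = (q : ℤ) + 1) (h3 : 2 * W.v 3 = (q : ℤ) + 1) :
    W.x 3 = W.x 2 := by
  have hp := W.pair_prop
  rw [show W.v 3 = W.v 2 by omega] at hp
  exact mul_left_cancel₀ (by omega) hp

end CfsgLib.Walter.Twist.RowsNum
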