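import Cfsg.Agent.Lib.Walter.Twist.ExceptFun
import Cfsg.Agent.Lib.Walter.Twist.NormCount
import Cfsg.Agent.Lib.Walter.Twist.RowsCommon

/-!
Walter, the field part, case D, piece X: from the four rows of a linear character of the field part to
its `Rows`, by the exceptional functions and the norm count.
-/

set_option autoImplicit false
set_option linter.unusedSectionVars false

namespace CfsgLib.Walter.Twist

open Cfsg CfsgLib.Characters
open scoped Classical

universe u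

variable {G : Type u} [Group G] [Fintype G] {E : Setup G} {R : Frame E}

/-- Four classified rows give the numbers of `RowsGoal`. -/
theorem rows_of_four (hloc : Local E) (D : Except.Data R) (lam : R.Γ →* ℂˣ)
    (a : Fin 4 → IrrCharacter G) (ha : Function.Injective a) (s v : Fin 4 → ℤ)
    (hs : ∀ i, s i = 1 ∨ s i = -1)
    (hvt : ∀ i, (a i : G → ℂ) E.t = ((s i * v i : ℤ) : ℂ))
    (hval : ∀ i, ∀ x : Except.torus R D.a, x ≠ 1 → ∀ σ : R.Γ,
      (a i : G → ℂ) (E.t * (R.psl x * R.fld σ)) = (lam σ : ℂ) * (s i : ℂ))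
    (hcong : ∀ i, (8 : ℤ) ∣ s i * (charDegree (a i : G → ℂ) : ℤ) - v i)
    (hsum : ∑ i, s i * (charDegree (a i : G → ℂ) : ℤ) = 0)
    (hK : ∑ i, (v i : ℚ) ^ 2 / ((s i * (charDegree (a i : G → ℂ) : ℤ) : ℤ) : ℚ) =
      CfsgLib.ReeOrder.ratio R.q R.I)
    (hshape : (∃ e : Equiv.Perm (Fin 4), v ∘ e = ![1, (R.q : ℤ), 1, (R.q : ℤ)]) ∨
      (∃ e : Equiv.Perm (Fin 4), v ∘ e = ![1, ((R.q : ℤ) + 1) / 2, ((R.q : ℤ) + 1) / 2, (R.q : ℤ)]))
    (hone : ∀ i, s i * (charDegree (a i : G → ℂ) : ℤ) = 1 → lam = 1)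
    (hprin : lam = 1 → ∃ i, a i = principalIrr G ∧ s i = 1 ∧ v i = 1)
    (hseven : lam = 1 → ∀ i, v i = ((R.q : ℤ) + 1) / 2 →
      SevenPrincipal R.q R.I (s i * (charDegree (a i : G → ℂ) : ℤ))) :
    ∃ W : Rows R.q (CfsgLib.ReeOrder.ratio R.q R.I),
      (lam = 1 → W.x 0 = 1 ∧ W.v 0 = 1 ∧
        (W.v 2 = W.v 3 → SevenPrincipal R.q R.I (W.x 2))) ∧ (∀ i, W.x i = 1 → lam = 1) := by
  obtain ⟨i0, hi0⟩ : ∃ i0 : Fin 4, lam = 1 → a i0 = principalIrr G ∧ s i0 = 1 ∧ v i0 = 1 := by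
    by_cases h : lam = 1
    · obtain ⟨i, hi⟩ := hprin h
      exact ⟨i, fun _ => hi⟩
    · exact ⟨0, fun e => absurd e h⟩
  have hd : ∀ χ : IrrCharacter G, ((charDegree (χ : G → ℂ) : ℤ) : ℂ) = (χ : G → ℂ) 1 := fun χ => by
    rw [Int.cast_natCast, CfsgLib.Chars17.cast_irrDegree]
  have hdne : ∀ χ : IrrCharacter G, (charDegree (χ : G → ℂ) : ℤ) ≠ 0 := fun χ => by
    have := CfsgLib.Chars17.irrDegree_pos χ
    omega
  have heq : ∀ b : Bool, ∑ χ : IrrCharacter G, (D.coef b lam χ : ℂ) *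
      ((χ : G → ℂ) E.t ^ 2 / ((charDegree (χ : G → ℂ) : ℤ) : ℂ)) =
        if b = false then ((CfsgLib.ReeOrder.ratio R.q R.I : ℚ) : ℂ) else 0 := fun b => by
    rw [← D.equation hloc b lam]
    exact Finset.sum_congr rfl fun χ _ => by rw [hd]
  obtain ⟨W, e, hx, hv, he⟩ := NormCount.exists_rows (q := R.q) (K := CfsgLib.ReeOrder.ratio R.q R.I)
    (d := fun χ : IrrCharacter G => (charDegree (χ : G → ℂ) : ℤ)) hdne
    (w := fun χ : IrrCharacter G => (χ : G → ℂ) E.t) (a := a) ha (s := s) (v := v) hs hvt hcong hsum hK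
    hshape (p := fun χ => D.coef false lam χ) (m := fun χ => D.coef true lam χ)
    (D.coef_norm false lam) (D.coef_norm true lam) (D.coef_orth lam)
    (fun i => by rw [D.coef_diff lam lam (s i) (hval i), if_pos rfl])
    (D.coef_deg false lam) (D.coef_deg true lam) (D.coef_t false lam) (D.coef_t true lam)
    (by simpa using heq false) (by simpa using heq true) i0
  refine ⟨W, fun h1 => ?_, fun i hi => hone (e i) ((hx i).symm.trans hi)⟩
  obtain ⟨hp, hs0, hv0⟩ := hi0 h1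
  have he0 : e 0 = i0 := he (by
    rw [hp, D.coef_principal, if_pos ⟨rfl, h1⟩]
    exact one_ne_zero)
  refine ⟨?_, by rw [hv, he0, hv0], fun h23 => ?_⟩
  · rw [hx, he0, hs0, hp, one_mul]
    have : ((charDegree (principalIrr G : G → ℂ) : ℤ) : ℂ) = 1 := by rw [hd, principalIrr_apply]
    exact_mod_cast this
  · rw [hx]
    refine hseven h1 (e 2) ?_
    have h := (RowsNum.vals W D.q8).2.2.1
    rw [← hv]
    omega

end CfsgLib.Walter.Twist
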