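import Cfsg.Agent.Lib.Walter.Twist.CaseFull
import Cfsg.Agent.Lib.Walter.Twist.CaseRowsDefs
import Cfsg.Agent.Lib.BlockCover.PrincipalSquares
import Cfsg.Agent.Lib.Characters.LinearTwist
import Cfsg.Agent.Lib.Involutions.ElementaryOdd

/-!
Walter, case D, piece X, step 2: the characters of a block of a linear character of the field part and
the values of a character of the group on the section of the involution.
-/

set_option autoImplicit false
set_option linter.unusedSectionVars false
set_option linter.style.haveILetI false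

namespace CfsgLib.Walter.Twist.CaseX

open Cfsg CfsgLib.Characters CfsgLib.Blocks CfsgLib.CharCorr CfsgLib.JankoThompson
open CfsgLib.Walter.Twist.FixedT
open CfsgLib.ReeOrder.Block (HalfData Excl)
open scoped ComplexConjugate Classical

universe u

section PSL

variable {F : Type} [Field F] [Fintype F] [DecidableEq F]

/-- The principal block of `PSL₂(q)` only has the four characters. -/
theorem psl_principal_list (D : HalfData F) {M : Ideal AlgInt} (hM : IsPModular 2 M)
    (hq : Fintype.card F % 8 = 3 ∨ Fintype.card F % 8 = 5)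
    {θ : IrrCharacter (Matrix.ProjectiveSpecialLinearGroup (Fin 2) F)}
    (hθ : θ ∈ principalBlock M (Matrix.ProjectiveSpecialLinearGroup (Fin 2) F)) :
    (θ : Matrix.ProjectiveSpecialLinearGroup (Fin 2) F → ℂ) = (fun _ => 1) ∨ θ = D.St ∨
      θ = D.eta ∨ θ = D.eta' := by
  haveI := Fact.mk Nat.prime_two
  rcases D.list θ with h | h | h | h | h
  · exact Or.inl h
  · exact Or.inr (Or.inl h)
  · exact Or.inr (Or.inr (Or.inl h))
  · exact Or.inr (Or.inr (Or.inr h))
  exfalso
  rcases h with ⟨w, hw, h0⟩ | ⟨w, x, hw, hx, hwx, hnorm, hne⟩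
  · obtain ⟨P, hP⟩ := (IsPGroup.of_card (p := 2) (n := 1)
      (G := Subgroup.zpowers w) (by rw [Nat.card_zpowers, hw, pow_one])).exists_le_sylow
    have hK := CfsgLib.ClassicalGroups.SL2.psl_sylow_two_klein rfl hq P
    have hle : (P : Subgroup _) ≤ Subgroup.centralizer
        ({w} : Set (Matrix.ProjectiveSpecialLinearGroup (Fin 2) F)) := fun y hy =>
      Subgroup.mem_centralizer_singleton_iff.2 (congrArg Subtype.val
        (mul_comm_of_exponent_two hK.exponent_two (⟨y, hy⟩ : (P : Subgroup _))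
          ⟨w, hP (Subgroup.mem_zpowers w)⟩))
    have h1 := hθ w
    rw [CfsgLib.PrincipalSq.centralChar_principal, centralChar, h0, mul_zero, zero_div,
      sub_zero, memLocalIdeal_natCast_iff hM] at h1
    exact P.not_dvd_index (h1.trans (Subgroup.index_dvd_of_le hle))
  · set Cw := Subgroup.centralizer ({w} : Set (Matrix.ProjectiveSpecialLinearGroup (Fin 2) F))
    set v : Cw := ⟨x, Subgroup.mem_centralizer_singleton_iff.2 hwx.eq.symm⟩
    haveI : (Subgroup.zpowers v).Normal := by
      refine ⟨fun z hz y => ?_⟩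
      obtain ⟨i, rfl⟩ := Subgroup.mem_zpowers_iff.1 hz
      obtain ⟨j, hj⟩ := Subgroup.mem_zpowers_iff.1
        (hnorm _ (Subgroup.mem_centralizer_singleton_iff.1 y.2))
      refine (conj_zpow (a := y) (b := v) (i := i)) ▸ Subgroup.zpow_mem _
        (Subgroup.mem_zpowers_iff.2 ⟨j, Subtype.ext ?_⟩) i
      rw [Subgroup.coe_mul, Subgroup.coe_mul, Subgroup.coe_inv, Subgroup.coe_zpow]
      exact hj
    have hN : ¬ 2 ∣ Nat.card (Subgroup.zpowers v) := by
      rw [Nat.card_zpowers, Subgroup.orderOf_mk]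
      exact fun h => Nat.not_even_iff_odd.2 hx (even_iff_two_dvd.2 h)
    exact hne (principal_apply_mul hM ⟨1, by rw [hw, pow_one]⟩ hN (Subgroup.mem_zpowers v) hθ)

end PSL

variable {G : Type u} [Group G] [Fintype G] {E : Setup G} {R : Frame E}

local notation "PSLF" => Matrix.ProjectiveSpecialLinearGroup (Fin 2) R.F
set_option quotPrecheck false in
local notation "CT" => Subgroup.centralizer ({Setup.t E} : Set G)

/-- An irreducible character of `PSL₂(q) ⋊ Γ` twisted by a linear one. -/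
noncomputable def lamY (lam : R.Γ →* ℂˣ) (θ : IrrCharacter (YExt R)) : IrrCharacter (YExt R) :=
  ⟨fun k => (θ : YExt R → ℂ) k * ((lam.comp SemidirectProduct.rightHom) k : ℂ),
    CfsgLib.LinearTwist.isIrr_mul_hom θ.2 _⟩

theorem lamY_apply (lam : R.Γ →* ℂˣ) (θ : IrrCharacter (YExt R)) (k : YExt R) :
    (lamY lam θ : YExt R → ℂ) k = (lam k.right : ℂ) * (θ : YExt R → ℂ) k :=
  mul_comm _ _

namespace YChars

variable (D : YChars R)

/-- The four characters. -/
noncomputable def four : Fin 4 → IrrCharacter (YExt R) :=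
  ![principalIrr (YExt R), D.St, D.eta, D.eta']

theorem e_one (h8 : Fintype.card R.F % 8 = 3) : D.D.e = 1 := by
  rcases D.D.q_mod with ⟨e, -⟩ | ⟨-, h⟩
  · exact e
  · omega

theorem St_one : (D.St : YExt R → ℂ) 1 = (R.q : ℂ) := by
  have h := D.res_St 1
  rw [map_one, D.D.St_one] at h
  exact h

theorem eta_one (h8 : Fintype.card R.F % 8 = 3) :
    (D.eta : YExt R → ℂ) 1 = ((hf R : ℤ) : ℂ) ∧ (D.eta' : YExt R → ℂ) 1 = ((hf R : ℤ) : ℂ) := by
  have hq : 2 * (hf R : ℤ) = (R.q : ℤ) - 1 := by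
    have : R.q = Fintype.card R.F := rfl
    simp only [hf]
    omega
  have hq' : (2 : ℂ) * ((hf R : ℤ) : ℂ) = (R.q : ℂ) - 1 := by
    have := congrArg (fun z : ℤ => (z : ℂ)) hq
    push_cast at this
    exact this
  have h := D.res_eta 1
  have h' := D.res_eta' 1
  have e1 := D.D.eta_one
  have e2 := D.D.eta'_one
  rw [map_one] at h h'
  rw [D.e_one h8, Int.cast_one, ← h, show (Fintype.card R.F : ℂ) = (R.q : ℂ) from rfl] at e1
  rw [D.e_one h8, Int.cast_one, ← h', show (Fintype.card R.F : ℂ) = (R.q : ℂ) from rfl] at e2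
  exact ⟨mul_left_cancel₀ two_ne_zero (e1.trans hq'.symm),
    mul_left_cancel₀ two_ne_zero (e2.trans hq'.symm)⟩

theorem odd_hf (h8 : Fintype.card R.F % 8 = 3) : Odd (hf R) := by
  have : R.q = Fintype.card R.F := rfl
  rw [Int.odd_iff]
  simp only [hf]
  omega

/-- Values at the field elements and degrees are odd integers. -/
theorem four_odd (h8 : Fintype.card R.F % 8 = 3) (i : Fin 4) (σ : R.Γ) : ∃ z d : ℤ, Odd z ∧ Odd d ∧
    (D.four i : YExt R → ℂ) (SemidirectProduct.inr σ) = (z : ℂ) ∧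
      (D.four i : YExt R → ℂ) 1 = (d : ℂ) := by
  obtain ⟨z₁, hz₁, e₁⟩ := D.fld_St σ
  obtain ⟨z₂, hz₂, e₂⟩ := D.fld_eta σ
  obtain ⟨d₂, d₂'⟩ := D.eta_one h8
  fin_cases i
  · exact ⟨1, 1, odd_one, odd_one, by simp [four], by simp [four]⟩
  · refine ⟨z₁, R.q, hz₁, ?_, e₁, by rw [Int.cast_natCast]; exact D.St_one⟩
    rw [Int.odd_iff]
    have : R.q = Fintype.card R.F := rfl
    omega
  · exact ⟨z₂, hf R, hz₂, odd_hf h8, e₂, d₂⟩
  · refine ⟨z₂, hf R, hz₂, odd_hf h8, ?_, d₂'⟩
    show (D.eta' : YExt R → ℂ) _ = _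
    rw [← D.conj_eta, e₂, map_intCast]

theorem four_injective (h8 : Fintype.card R.F % 8 = 3) : Function.Injective D.four := by
  have h11 : 11 ≤ R.q := by
    have := R.three
    have : R.q = Fintype.card R.F := rfl
    omega
  have hh : 2 ≤ hf R ∧ hf R < (R.q : ℤ) := by
    simp only [hf]
    omega
  have hne : D.eta ≠ D.eta' := fun e => D.D.ne (Subtype.ext (funext fun x => by
    rw [← D.res_eta, ← D.res_eta', e]))
  let d : Fin 4 → ℤ := ![1, (R.q : ℤ), hf R, hf R]
  have hd : ∀ i, (D.four i : YExt R → ℂ) 1 = (d i : ℂ) := by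
    intro i
    fin_cases i
    · simp [four, d]
    · show (D.St : YExt R → ℂ) 1 = _
      rw [D.St_one]
      simp [d]
    · exact (D.eta_one h8).1
    · exact (D.eta_one h8).2
  intro i j hij
  have hd' : d i = d j := by
    have := hd i
    rw [hij, hd j] at this
    exact_mod_cast this.symm
  fin_cases i <;> fin_cases j <;> simp [d] at hd' ⊢ <;>
    first | omega | exact absurd hij hne | exact absurd hij hne.symm

end YChars

/-- The restriction to the complement of `⟨t⟩`. -/
noncomputable def resY (ξ : Subgroup.centralizer ({E.t} : Set G) → ℂ) : YExt R → ℂ :=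
  fun k => ξ (up R k)

theorem resY_irr (ξ : IrrCharacter (Subgroup.centralizer ({E.t} : Set G))) :
    IsIrrCharacter (YExt R) (resY (R := R) (ξ : Subgroup.centralizer ({E.t} : Set G) → ℂ)) := by
  have hz : tC E ∈ Subgroup.center (Subgroup.centralizer ({E.t} : Set G)) :=
    Subgroup.mem_center_iff.2 fun x => (commute_tC x).eq.symm
  obtain ⟨s, hs, es⟩ := CfsgLib.Involutions.irr_central_involution_sign ξ hz tC_mul_self
  set f := resY (R := R) (ξ : Subgroup.centralizer ({E.t} : Set G) → ℂ) with hf'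
  have hfc : IsCharacter (YExt R) f := CharGalois.isCharacter_comp (irr_isCharacter ξ) (up R)
  refine CfsgLib.Clifford.isIrr_of_norm_one hfc ?_
  have h1 := classInner_irr_self ξ.2
  have key : ∀ x, (ξ : CT → ℂ) x * conj ((ξ : CT → ℂ) x) =
      f ((toProj R).proj x) * conj (f ((toProj R).proj x)) := by
    intro x
    rcases cases_C R x with e | e
    · conv_lhs => rw [e]
      rfl
    · conv_lhs => rw [e, es, map_mul, map_intCast]
      have hss : (s : ℂ) * s = 1 := by rcases hs with rfl | rfl <;> simp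
      show (s : ℂ) * f _ * ((s : ℂ) * conj (f _)) = _
      linear_combination (f ((toProj R).proj x) * conj (f ((toProj R).proj x))) * hss
  rw [classInner, Finset.sum_congr rfl fun x _ => key x,
    (toProj R).avg_pull (fun y => f y.2 * conj (f y.2)), Fintype.sum_prod_type,
    show (Finset.univ : Finset (Multiplicative (ZMod 2))) = {1, Multiplicative.ofAdd 1} by decide,
    Finset.sum_pair (by decide), ← two_mul, mul_inv, ← mul_assoc,
    mul_right_comm ((2 : ℂ)⁻¹) _ 2, inv_mul_cancel₀ (two_ne_zero' ℂ), one_mul] at h1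
  exact h1

theorem sum_hom_eq (σ : R.Γ) [Fintype (R.Γ →* ℂˣ)] :
    ∑ φ : R.Γ →* ℂˣ, (φ σ : ℂ) = if σ = 1 then (Fintype.card (R.Γ →* ℂˣ) : ℂ) else 0 := by
  split_ifs with h
  · subst h; simp
  · haveI : IsMulCommutative R.Γ :=
      ⟨⟨fun a b => Subtype.ext (CfsgLib.FieldGalois.commute_ringAut (a : R.F ≃+* R.F) b).eq⟩⟩
    letI : CommGroup R.Γ := { (inferInstance : Group R.Γ) with
      mul_comm := fun a b => IsMulCommutative.is_comm.comm a b }
    obtain ⟨φ₀, hφ₀⟩ := CommGroup.exists_apply_ne_one_of_hasEnoughRootsOfUnity R.Γ ℂ h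
    have h1 : ∑ φ : R.Γ →* ℂˣ, (φ σ : ℂ) = (φ₀ σ : ℂ) * ∑ φ : R.Γ →* ℂˣ, (φ σ : ℂ) := by
      rw [Finset.mul_sum]
      exact (Fintype.sum_equiv (Equiv.mulLeft φ₀) _ _ fun φ => by
        simp [MonoidHom.mul_apply]).symm
    by_contra hne
    exact hφ₀ (Units.ext (mul_right_cancel₀ hne (h1.symm.trans (one_mul _).symm)))

variable [CharP R.F 3] {M : Ideal AlgInt} (D : YChars R)

/-- A linear twist whose block is the one of `lam` is by `lam`. -/
theorem twist_eq_lam (hM : IsPModular 2 M) {lam φ : R.Γ →* ℂˣ}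
    {ξ : IrrCharacter (Subgroup.centralizer ({E.t} : Set G))} {i : Fin 4}
    (hξ : ∀ k, (ξ : Subgroup.centralizer ({E.t} : Set G) → ℂ) (up R k) =
      (lamY φ (D.four i) : YExt R → ℂ) k)
    (hb : ξ ∈ blockOf M (linC R lam : Subgroup.centralizer ({E.t} : Set G) → ℂ)) : φ = lam := by
  refine lam_eq_of_congr R hM fun σ => ?_
  have h8 := (q_mod_three R).1
  obtain ⟨z, d, hz, hd, ez, ed⟩ := D.four_odd h8 i σ
  have hfld : fldC R σ = up R (SemidirectProduct.inr σ) := Subtype.ext (up_inr R σ).symm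
  have h1 := hξ (SemidirectProduct.inr σ)
  have h2 := hξ 1
  rw [lamY_apply, ez, SemidirectProduct.right_inr, ← hfld] at h1
  rw [map_one, lamY_apply, ed, SemidirectProduct.one_right, map_one, Units.val_one, one_mul] at h2
  have h3 := MemLocalIdeal.add hM (MemLocalIdeal.neg hM (hb (fldC R σ)))
    (centralChar_linC_fldC R hM lam σ)
  rw [neg_sub, sub_add_sub_cancel, centralChar, h1, h2] at h3
  have hd2 : ¬ (2 : ℕ) ∣ d.natAbs := fun h => by
    have := Int.natAbs_odd.2 hd
    exact Nat.not_even_iff_odd.2 this (even_iff_two_dvd.2 h)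
  have hdinv : MemLocalRing M ((d : ℂ))⁻¹ := by
    have h5 := inv_natCast_mem_lRing hM hd2
    rcases Int.natAbs_eq d with e | e <;> rw [e]
    · rw [Int.cast_natCast, ← mem_lRing (hM := hM)]; exact h5
    · rw [Int.cast_neg, Int.cast_natCast, inv_neg, ← mem_lRing (hM := hM)]
      exact Subring.neg_mem _ h5
  have hd0 : (d : ℂ) ≠ 0 := by
    intro h
    have h6 : d = 0 := by exact_mod_cast h
    subst h6
    exact (by decide : ¬ Odd (0 : ℤ)) hd
  set j := (Subgroup.centralizer
    ({fldC R σ} : Set (Subgroup.centralizer ({E.t} : Set G)))).index with hj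
  have hjz : Even ((j : ℤ) * z - d) := by
    have h7 : Odd ((j : ℤ) * z) :=
      ((Int.odd_coe_nat j).2 (odd_index_fldC R σ)).mul hz
    exact h7.sub_odd hd
  obtain ⟨r, hr⟩ := hjz
  have hexp : (j : ℂ) * ((φ σ : ℂ) * (z : ℂ)) / (d : ℂ) - (lam σ : ℂ) =
      ((φ σ : ℂ) - (lam σ : ℂ)) + ((2 : ℕ) : ℂ) * ((r : ℂ) * ((φ σ : ℂ) * (d : ℂ)⁻¹)) := by
    have hr' : (j : ℂ) * (z : ℂ) - d = r + r := by exact_mod_cast congrArg (fun n : ℤ => (n : ℂ)) hr
    field_simp
    linear_combination (φ σ : ℂ) * hr'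
  rw [hexp] at h3
  have h4 : MemLocalIdeal M (((2 : ℕ) : ℂ) * ((r : ℂ) * ((φ σ : ℂ) * (d : ℂ)⁻¹))) := by
    refine MemLocalIdeal.mul_right hM ((memLocalIdeal_natCast_iff hM 2).2 dvd_rfl) ?_
    rw [← mem_lRing (hM := hM)]
    exact Subring.mul_mem _ (intCast_mem _ r) (Subring.mul_mem _
      ((mem_lRing (hM := hM)).2 (linC_memLocalRing R hM φ σ)) ((mem_lRing (hM := hM)).2 hdinv))
  have h5 := MemLocalIdeal.sub hM h3 h4
  rwa [add_sub_cancel_right] at h5

/-- The characters of the block of a linear character. -/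
theorem block_list (hM : IsPModular 2 M) {lam : R.Γ →* ℂˣ}
    {ξ : IrrCharacter (Subgroup.centralizer ({E.t} : Set G))}
    (hb : ξ ∈ blockOf M (linC R lam : Subgroup.centralizer ({E.t} : Set G) → ℂ)) :
    ∃ i : Fin 4, ∀ k, (ξ : Subgroup.centralizer ({E.t} : Set G) → ℂ) (up R k) =
      (lamY lam (D.four i) : YExt R → ℂ) k := by
  obtain ⟨h8, -⟩ := q_mod_three R
  let ξY : IrrCharacter (YExt R) := ⟨_, resY_irr (R := R) ξ⟩
  let ξ' : IrrCharacter CT :=
    ⟨fun x => (ξ : CT → ℂ) x * ((lam⁻¹.comp (fpC R)) x : ℂ),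
      CfsgLib.LinearTwist.isIrr_mul_hom ξ.2 _⟩
  have hξ' : ξ' ∈ principalBlock M CT := by
    intro y
    have hu : MemLocalRing M ((lam⁻¹ (fpC R y) : ℂˣ) : ℂ) := linC_memLocalRing R hM lam⁻¹ _
    have h := MemLocalIdeal.mul_right hM (hb y) hu
    rw [CfsgLib.PrincipalSq.centralChar_principal]
    rw [centralChar_linC, sub_mul, mul_assoc, ← Units.val_mul, MonoidHom.inv_apply,
      mul_inv_cancel, Units.val_one, mul_one] at h
    convert h using 2
    show centralChar (fun x => (ξ : CT → ℂ) x * ((lam⁻¹.comp (fpC R)) x : ℂ)) y = _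
    simp only [centralChar, MonoidHom.comp_apply, map_one, Units.val_one, mul_one,
      MonoidHom.inv_apply]
    ring
  -- a constituent on the simple part
  set N : Subgroup CT := (pslC R).range
  haveI : N.Normal := by
    refine ⟨?_⟩
    rintro _ ⟨x, rfl⟩ g
    obtain ⟨y, hy⟩ := conj_psl R (h := (g : G)) g.2 x
    exact ⟨y, Subtype.ext hy.symm⟩
  have hpi : Function.Injective (pslC R) := fun a b h => R.psl_inj (congrArg Subtype.val h)
  let e : PSLF ≃* N := MonoidHom.ofInjective hpi
  obtain ⟨θ₀, hθ₀⟩ : ∃ θ₀ : IrrCharacter PSLF,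
      classInner (fun x : PSLF => (ξ : CT → ℂ) (pslC R x)) (θ₀ : PSLF → ℂ) ≠ 0 := by
    by_contra! hall
    have hcl : IsClassFunction PSLF (fun x : PSLF => (ξ : CT → ℂ) (pslC R x)) := fun a b => by
      simp only [map_mul, map_inv]
      exact irr_isClassFunction ξ _ _
    have h1 := congrFun (classFunction_eq_sum hcl) 1
    simp only [map_one, Finset.sum_apply, hall, zero_smul, Pi.zero_apply, Finset.sum_const_zero]
      at h1
    exact irr_one_ne_zero ξ h1
  have hθN : twistIrr e.symm θ₀ ∈ principalBlock M N := by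
    refine CfsgLib.BlockCover.constituent_principal N hM hξ' fun h0 => hθ₀ ?_
    rw [← h0, classInner, classInner, Nat.card_congr e.toEquiv]
    congr 1
    refine Fintype.sum_equiv e.toEquiv _ _ fun x => ?_
    show _ = (ξ : CT → ℂ) (e x : CT) * ((lam⁻¹.comp (fpC R)) (e x : CT) : ℂ) *
      conj ((twistIrr e.symm θ₀ : N → ℂ) (e x))
    rw [twistIrr_apply, MulEquiv.symm_apply_apply, show ((e x : N) : CT) = pslC R x from rfl,
      MonoidHom.comp_apply, show fpC R (pslC R x) = 1 by
        rw [show pslC R x = up R (SemidirectProduct.inl x) from Subtype.ext (up_inl R x).symm,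
          fpC_up, SemidirectProduct.right_inl],
      map_one, Units.val_one, mul_one]
  have hθP : θ₀ ∈ principalBlock M PSLF := by
    have h : SameBlock M (fun _ : N => (1 : ℂ)) (fun y => (θ₀ : PSLF → ℂ) (e.symm y)) := by
      intro y
      exact hθN y
    exact (CfsgLib.BrauerPairs.sameBlock_twist_iff M e.symm (fun _ => (1 : ℂ))
      (θ₀ : PSLF → ℂ)).1 h
  obtain ⟨i, hi⟩ : ∃ i : Fin 4, ∀ x, (D.four i : YExt R → ℂ) (SemidirectProduct.inl x) =
      (θ₀ : PSLF → ℂ) x := by
    rcases psl_principal_list D.D hM R.q_mod hθP with h | h | h | h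
    · exact ⟨0, fun x => by rw [h]; simp [YChars.four]⟩
    · exact ⟨1, fun x => by rw [h]; exact D.res_St x⟩
    · exact ⟨2, fun x => by rw [h]; exact D.res_eta x⟩
    · exact ⟨3, fun x => by rw [h]; exact D.res_eta' x⟩
  haveI : Finite (R.Γ →* ℂˣ) := Finite.of_injective _ (linearIrr_injective (G := R.Γ))
  letI : Fintype (R.Γ →* ℂˣ) := Fintype.ofFinite _
  letI : Fintype R.Γ := Fintype.ofFinite _
  obtain ⟨φ, hφ⟩ : ∃ φ : R.Γ →* ℂˣ,
      classInner (ξY : YExt R → ℂ) (lamY φ (D.four i) : YExt R → ℂ) ≠ 0 := by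
    by_contra! hall
    have hsum : ∑ φ : R.Γ →* ℂˣ, classInner (ξY : YExt R → ℂ) (lamY φ (D.four i) : YExt R → ℂ) =
        (Nat.card (YExt R) : ℂ)⁻¹ * ((Fintype.card (R.Γ →* ℂˣ) : ℂ) *
          ∑ x : PSLF, (ξ : CT → ℂ) (pslC R x) * conj ((θ₀ : PSLF → ℂ) x)) := by
      simp only [classInner, ← Finset.mul_sum]
      congr 1
      rw [Finset.sum_comm, ← SemidirectProduct.equivProd.symm.sum_comp, Fintype.sum_prod_type,
        Finset.mul_sum]
      refine Finset.sum_congr rfl fun x _ => ?_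
      rw [Finset.sum_eq_single (1 : R.Γ)]
      · rw [Finset.sum_congr rfl (g := fun _ : R.Γ →* ℂˣ =>
            (ξ : CT → ℂ) (pslC R x) * conj ((θ₀ : PSLF → ℂ) x)) fun φ _ => ?_,
          Finset.sum_const, nsmul_eq_mul, Finset.card_univ]
        have hk : SemidirectProduct.equivProd.symm (x, (1 : R.Γ)) =
            (SemidirectProduct.inl x : YExt R) := rfl
        rw [hk, lamY_apply, SemidirectProduct.right_inl, map_one, Units.val_one, one_mul, hi x,
          show (ξY : YExt R → ℂ) (SemidirectProduct.inl x) =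
            (ξ : CT → ℂ) (up R (SemidirectProduct.inl x)) from rfl,
          show pslC R x = up R (SemidirectProduct.inl x) from Subtype.ext (up_inl R x).symm]
      · intro σ _ hσ
        set k : YExt R := SemidirectProduct.equivProd.symm (x, σ) with hk
        have h0 : ∑ φ : R.Γ →* ℂˣ, conj (φ σ : ℂ) = 0 := by
          rw [← map_sum, sum_hom_eq, if_neg hσ, map_zero]
        rw [Finset.sum_congr rfl (g := fun φ : R.Γ →* ℂˣ =>
          (ξY : YExt R → ℂ) k * conj ((D.four i : YExt R → ℂ) k) * conj (φ σ : ℂ)) fun φ _ => ?_,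
          ← Finset.mul_sum, h0, mul_zero]
        rw [lamY_apply, show k.right = σ from rfl, map_mul]
        ring
      · simp
    rw [Finset.sum_congr rfl (fun φ _ => hall φ), Finset.sum_const_zero] at hsum
    refine hθ₀ ?_
    rw [classInner]
    have h1 : (Nat.card (YExt R) : ℂ)⁻¹ ≠ 0 := inv_ne_zero (Nat.cast_ne_zero.2 Nat.card_pos.ne')
    have h2 : (Fintype.card (R.Γ →* ℂˣ) : ℂ) ≠ 0 := Nat.cast_ne_zero.2 Fintype.card_ne_zero
    rw [(mul_eq_zero.1 ((mul_eq_zero.1 hsum.symm).resolve_left h1)).resolve_left h2, mul_zero]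
  have heq : ∀ k, (ξ : CT → ℂ) (up R k) = (lamY φ (D.four i) : YExt R → ℂ) k := by
    intro k
    have he : (ξY : YExt R → ℂ) = (lamY φ (D.four i) : YExt R → ℂ) := by
      by_contra hne
      exact hφ (classInner_irr_ne ξY.2 (lamY φ (D.four i)).2 hne)
    exact congrFun he k
  exact ⟨i, twist_eq_lam D hM heq hb ▸ heq⟩

/-! ### The section -/

theorem fn_eq (lam : R.Γ →* ℂˣ) (i : Fin 3) :
    ∃ a b : Fin 4, (∀ l : Fin 4, ((if a = l then (1 : ℤ) else 0) + (if b = l then 1 else 0)) =
        (![![1, 1, 0, 0], ![0, 1, 1, 0], ![0, 1, 0, 1]] : Fin 3 → Fin 4 → ℤ) i l) ∧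
      lamFun lam (D.fn i) =
        (lamY lam (D.four a) : YExt R → ℂ) + (lamY lam (D.four b) : YExt R → ℂ) := by
  have key : ∀ a b : Fin 4, D.fn i = (D.four a : YExt R → ℂ) + (D.four b : YExt R → ℂ) →
      lamFun lam (D.fn i) =
        (lamY lam (D.four a) : YExt R → ℂ) + (lamY lam (D.four b) : YExt R → ℂ) := fun a b h => by
    funext k
    simp only [lamFun, h, Pi.add_apply, lamY_apply, mul_add]
  fin_cases i
  · exact ⟨0, 1, by decide, key 0 1 rfl⟩
  · exact ⟨1, 2, by decide, key 1 2 rfl⟩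
  · exact ⟨1, 3, by decide, key 1 3 rfl⟩

theorem inner_fn_four (lam : R.Γ →* ℂˣ) (h8 : Fintype.card R.F % 8 = 3) (i : Fin 3) (l : Fin 4) :
    classInner (lamFun lam (D.fn i)) (lamY lam (D.four l) : YExt R → ℂ) =
      (((![![1, 1, 0, 0], ![0, 1, 1, 0], ![0, 1, 0, 1]] : Fin 3 → Fin 4 → ℤ) i l : ℤ) : ℂ) := by
  obtain ⟨a, b, hab, e⟩ := fn_eq D lam i
  have hinj : ∀ a' : Fin 4, lamY lam (D.four a') = lamY lam (D.four l) ↔ a' = l := fun a' => by
    refine ⟨fun h => D.four_injective h8 (Subtype.ext (funext fun k => ?_)), fun h => by rw [h]⟩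
    have h1 := congrFun (congrArg Subtype.val h) k
    rw [lamY_apply, lamY_apply] at h1
    exact mul_left_cancel₀ (lam k.right).ne_zero h1
  rw [e, classInner_add_left, classInner_irr, classInner_irr, ← hab l]
  simp only [hinj]
  push_cast
  rfl

theorem fn_oddSupport (lam : R.Γ →* ℂˣ) (i : Fin 3) : OddSupport (lamFun lam (D.fn i)) := by
  intro k hk
  obtain ⟨h1, h2, h3⟩ := D.even k hk
  fin_cases i <;> simp [lamFun, YChars.fn, h1, h2, h3]

theorem fn_gen (lam : R.Γ →* ℂˣ) (i : Fin 3) :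
    IsGeneralizedCharacter (YExt R) (lamFun lam (D.fn i)) := by
  obtain ⟨a, b, -, e⟩ := fn_eq D lam i
  rw [e]
  exact isGeneralizedCharacter_of_isCharacter
    (isCharacter_add (irr_isCharacter _) (irr_isCharacter _))

/-- The values on the section from the inducing blocks. -/
theorem sect_eq (hM : IsPModular 2 M) (χ : IrrCharacter G) {k : YExt R} (hk : Odd (orderOf k)) :
    (χ : G → ℂ) (E.t * ((up R k : Subgroup.centralizer ({E.t} : Set G)) : G)) =
      ∑ ξ ∈ Finset.univ.filter (fun ξ : IrrCharacter (Subgroup.centralizer ({E.t} : Set G)) =>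
          IsInducedBlock M (Subgroup.centralizer ({E.t} : Set G))
            (blockOf M (ξ : Subgroup.centralizer ({E.t} : Set G) → ℂ))
            (blockOf M (χ : G → ℂ))),
        classInner (sectionFun E.t (χ : G → ℂ)) (ξ : Subgroup.centralizer ({E.t} : Set G) → ℂ) *
          (ξ : Subgroup.centralizer ({E.t} : Set G) → ℂ) (up R k) := by
  let T : Set (IrrCharacter CT) :=
    {ξ | IsInducedBlock M CT (blockOf M (ξ : CT → ℂ)) (blockOf M (χ : G → ℂ))}
  have hoff : blockPart Tᶜ (sectionFun E.t (χ : G → ℂ)) (up R k) = 0 := by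
    refine blockPart_union_eq_zero (A := Tᶜ) hM (fun ξ η hξ hs hη => hξ ?_) fun ξ hξ =>
      blockPart_sectionFun_eq_zero hM ⟨1, by rw [E.orderOf_t, pow_one]⟩ (isPBlock_blockOf ξ)
        (fun h => hξ h) ?_
    · show IsInducedBlock M CT (blockOf M (ξ : CT → ℂ)) _
      rw [blockOf_eq_of_sameBlock hM hs]
      exact hη
    · rw [orderOf_injective (up R) (up_injective R)]
      exact fun h => Nat.not_even_iff_odd.2 hk (even_iff_two_dvd.2 h)
  show sectionFun E.t (χ : G → ℂ) (up R k) = _
  conv_lhs => rw [classFunction_eq_sum (isClassFunction_sectionFun (irr_isClassFunction χ))]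
  rw [blockPart_eq_sum] at hoff
  simp only [Finset.sum_apply, Pi.smul_apply, smul_eq_mul]
  rw [← Finset.sum_filter_add_sum_filter_not Finset.univ (fun ξ => ξ ∈ T)]
  simp only [Set.mem_compl_iff] at hoff
  rw [hoff, add_zero]
  rfl

/-- The coefficients of the three functions and the values they determine. -/
theorem exists_cols (hM : IsPModular 2 M) (hR : CaseD R) (lam : R.Γ →* ℂˣ) :
    ∃ c : IrrCharacter G → Fin 3 → ℤ, Cols R D lam c := by
  obtain ⟨h8, -⟩ := q_mod_three R
  have hint : ∀ (χ : IrrCharacter G) (i : Fin 3), ∃ n : ℤ,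
      classInner ((toProj R).sec (lamFun lam (D.fn i))) (χ : G → ℂ) = (n : ℂ) := fun χ i =>
    classInner_generalized_int ((toProj R).sec_gen (fn_gen D lam i))
      (isGeneralizedCharacter_of_isCharacter (irr_isCharacter χ))
  choose c hc using hint
  have hval : ∀ (χ : IrrCharacter G) (w : YExt R → ℂ) (i : Fin 3),
      (∀ k, Odd (orderOf k) → (χ : G → ℂ) (E.t * ((up R k : CT) : G)) = w k) →
      (c χ i : ℂ) = classInner (lamFun lam (D.fn i)) w := by
    intro χ w i hw
    rw [← hc]
    refine (toProj R).inner_of_val (irr_isClassFunction χ) fun x hx => ?_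
    obtain ⟨hsg, ho, -⟩ := (toProj R).phi_ne (fn_oddSupport D lam i) hx
    rcases cases_C R x with e | e
    · rw [e, sg_up] at hsg
      exact absurd hsg (by decide)
    · rw [← hw _ ho]
      conv_lhs => rw [e]
      rfl
  have hform : ∀ χ : IrrCharacter G, c χ ≠ 0 → ∀ k, Odd (orderOf k) →
      (χ : G → ℂ) (E.t * ((up R k : CT) : G)) = (lam k.right : ℂ) * D.comb (c χ) k := by
    intro χ hne
    set T := Finset.univ.filter (fun ξ : IrrCharacter CT =>
      IsInducedBlock M CT (blockOf M (ξ : CT → ℂ)) (blockOf M (χ : G → ℂ))) with hT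
    set cf : IrrCharacter CT → ℂ := fun ξ =>
      classInner (sectionFun E.t (χ : G → ℂ)) (ξ : CT → ℂ) with hcf
    by_cases hex : ∃ ξ ∈ T, ξ ∈ blockOf M (linC R lam : CT → ℂ)
    · obtain ⟨ξ₁, hξ₁, hb₁⟩ := hex
      have hlin : IsInducedBlock M CT (blockOf M (linC R lam : CT → ℂ))
          (blockOf M (χ : G → ℂ)) := by
        rw [blockOf_eq_of_sameBlock hM hb₁]
        exact (Finset.mem_filter.1 hξ₁).2
      have hmem : ∀ ξ ∈ T, ∃ u : Fin 4, ∀ k, (ξ : CT → ℂ) (up R k) =
          (lamY lam (D.four u) : YExt R → ℂ) k := fun ξ hξ => block_list D hM (by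
        rw [← mem_linC_block R hM hR hlin (Finset.mem_filter.1 hξ).2]
        exact mem_blockOf_self hM ξ)
      choose! u hu using hmem
      set β : Fin 4 → ℂ := fun l => ∑ ξ ∈ T.filter (fun ξ => u ξ = l), cf ξ with hβ
      -- on odd elements the Steinberg character is the sum of the other three
      set γ : Fin 3 → ℂ := ![β 0 + β 1, β 2 + β 1, β 3 + β 1] with hγ
      set w : YExt R → ℂ := γ 0 • (lamY lam (D.four 0) : YExt R → ℂ) +
        γ 1 • (lamY lam (D.four 2) : YExt R → ℂ) + γ 2 • (lamY lam (D.four 3) : YExt R → ℂ) with hw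
      have hw' : ∀ k, Odd (orderOf k) → (χ : G → ℂ) (E.t * ((up R k : CT) : G)) = w k := by
        intro k hk
        rw [sect_eq hM χ hk, ← hT, ← Finset.sum_fiberwise T u]
        have h1 : ∀ l : Fin 4, ∑ ξ ∈ T.filter (fun ξ => u ξ = l),
            classInner (sectionFun E.t (χ : G → ℂ)) (ξ : CT → ℂ) * (ξ : CT → ℂ) (up R k) =
              β l * ((lam k.right : ℂ) * (D.four l : YExt R → ℂ) k) := by
          intro l
          rw [hβ, Finset.sum_mul]
          refine Finset.sum_congr rfl fun ξ hξ => ?_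
          rw [hu ξ (Finset.mem_filter.1 hξ).1, (Finset.mem_filter.1 hξ).2, lamY_apply]
        simp only [h1, Fin.sum_univ_four]
        have h4 : ∀ k, (D.four 0 : YExt R → ℂ) k = 1 ∧
            (D.four 1 : YExt R → ℂ) k = (D.St : YExt R → ℂ) k ∧
            (D.four 2 : YExt R → ℂ) k = (D.eta : YExt R → ℂ) k ∧
            (D.four 3 : YExt R → ℂ) k = (D.eta' : YExt R → ℂ) k := fun k => ⟨rfl, rfl, rfl, rfl⟩
        obtain ⟨e0, e1, e2, e3⟩ := h4 k
        simp only [hw, hγ, Pi.add_apply, Pi.smul_apply, smul_eq_mul, lamY_apply, e0, e1, e2, e3,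
          D.odd k hk, Matrix.cons_val_zero, Matrix.cons_val_one, Matrix.cons_val_two,
          Matrix.head_cons, Matrix.tail_cons]
        ring
      have hcγ : ∀ i, γ i = (c χ i : ℂ) := by
        intro i
        have h := hval χ w i hw'
        rw [hw, classInner_add_right, classInner_add_right, classInner_smul_right,
          classInner_smul_right, classInner_smul_right, inner_fn_four D lam h8,
          inner_fn_four D lam h8, inner_fn_four D lam h8] at h
        have h' : (c χ i : ℂ) = conj (γ i) := by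
          rw [h]
          fin_cases i <;> simp
        rw [← Complex.conj_conj (γ i), ← h', map_intCast]
      intro k hk
      rw [hw' k hk, hw]
      simp only [Pi.add_apply, Pi.smul_apply, smul_eq_mul, lamY_apply, hcγ, YChars.comb]
      rw [show (D.four 0 : YExt R → ℂ) k = 1 from rfl,
        show (D.four 2 : YExt R → ℂ) k = (D.eta : YExt R → ℂ) k from rfl,
        show (D.four 3 : YExt R → ℂ) k = (D.eta' : YExt R → ℂ) k from rfl]
      ring
    · exfalso
      push Not at hex
      refine hne (funext fun i => ?_)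
      have h := hval χ (∑ ξ ∈ T, cf ξ • resY (R := R) (ξ : CT → ℂ)) i fun k hk => by
        rw [sect_eq hM χ hk, Finset.sum_apply]
        rfl
      rw [classInner_sum_right, Finset.sum_eq_zero fun ξ hξ => ?_] at h
      · exact_mod_cast h
      rw [classInner_smul_right]
      by_contra hnz
      have h0 : classInner (lamFun lam (D.fn i)) (resY (R := R) (ξ : CT → ℂ)) ≠ 0 :=
        fun h0 => hnz (by rw [h0, mul_zero])
      obtain ⟨a, b, -, e⟩ := fn_eq D lam i
      rw [e, classInner_add_left] at h0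
      obtain ⟨l, hl⟩ : ∃ l : Fin 4,
          ∀ k, (ξ : CT → ℂ) (up R k) = (lamY lam (D.four l) : YExt R → ℂ) k := by
        by_contra! hall
        have h1 : ∀ l : Fin 4, classInner (lamY lam (D.four l) : YExt R → ℂ)
            (resY (R := R) (ξ : CT → ℂ)) = 0 := fun l =>
          classInner_irr_ne (lamY lam (D.four l)).2 (resY_irr ξ) fun he => by
            obtain ⟨k, hk⟩ := hall l
            exact hk (congrFun he k).symm
        exact h0 (by rw [h1, h1, add_zero])
      obtain ⟨z, d, -, hd, -, ed⟩ := D.four_odd h8 l 1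
      have hdeg : (charDegree (ξ : CT → ℂ)).factorization 2 = 0 := by
        have h1 := hl 1
        rw [map_one, lamY_apply, ed, SemidirectProduct.one_right, map_one, Units.val_one,
          one_mul, CfsgLib.LinearTwist.apply_one_eq_charDegree (irr_isCharacter ξ)] at h1
        have h2 : ((charDegree (ξ : CT → ℂ) : ℕ) : ℤ) = d := by exact_mod_cast h1
        refine Nat.factorization_eq_zero_of_not_dvd fun h3 => ?_
        rw [← h2, Int.odd_coe_nat] at hd
        exact Nat.not_even_iff_odd.2 hd (even_iff_two_dvd.2 h3)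
      have hdef : blockDefect 2 (blockOf M (ξ : CT → ℂ)) = 3 := by
        rw [blockDefect, factorization_C]
        suffices h0 : sInf ((fun χ : IrrCharacter CT =>
            (charDegree (χ : CT → ℂ)).factorization 2) '' blockOf M (ξ : CT → ℂ)) = 0 by omega
        exact Nat.sInf_eq_zero.2 (Or.inl ⟨ξ, mem_blockOf_self hM ξ, hdeg⟩)
      obtain ⟨lam', hlam'⟩ := exists_linC_mem R hM (isPBlock_blockOf ξ) hdef
      have hb : ξ ∈ blockOf M (linC R lam' : CT → ℂ) := SameBlock.symm hM hlam'
      exact hex ξ hξ (twist_eq_lam D hM hl hb ▸ hb)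
  refine ⟨c, ⟨hc, hform, fun χ hne => ?_⟩⟩
  have h := hform χ hne 1 (by rw [orderOf_one]; exact odd_one)
  rw [map_one, OneMemClass.coe_one, mul_one, SemidirectProduct.one_right, map_one,
    Units.val_one, one_mul, YChars.comb, (D.eta_one h8).1, (D.eta_one h8).2] at h
  rw [h]
  push_cast
  ring

end CfsgLib.Walter.Twist.CaseX
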