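import Cfsg.Agent.Lib.Walter.Twist.FixedBasic
import Cfsg.Agent.Lib.SL2Tori.Sylow
import Cfsg.Agent.Lib.PSL2.Involution
import Mathlib.GroupTheory.SpecificGroups.Cyclic

/-!
Walter, the field part, case D: how the classes of field elements and of torus elements meet `C(t)`.

The classes of `C(t)` inside the class of `x` correspond to the classes of involutions of `C(x)`.  A field
element has `S` in its centralizer, hence one class of odd size; an element of a split torus commutes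
with no involution of `C(t)` but `t`; an element of the other torus belongs to a four group with `t`, which
is rotated by an element inducing an automorphism on the torus, so there are one or three classes, all
of even size.
-/

set_option autoImplicit false
set_option linter.unusedSectionVars false
set_option linter.style.haveILetI false
set_option linter.deprecated false

namespace CfsgLib.Walter.Twist.Meet

open Subgroup Matrix CfsgLib.AutPSL CfsgLib.ReeOrder CfsgLib.Walter.Twist.FixedT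

universe u

variable {G : Type u} [Group G] [Finite G] {E : Setup G}

/-- Conjugacy under `C(t)`. -/
def HConj (E : Setup G) (x y : G) : Prop := ∃ h ∈ E.H, h * x * h⁻¹ = y

theorem HConj.refl (x : G) : HConj E x x := ⟨1, one_mem _, by group⟩

theorem HConj.symm {x y : G} : HConj E x y → HConj E y x := by
  rintro ⟨h, hh, rfl⟩
  exact ⟨h⁻¹, inv_mem hh, by group⟩

theorem HConj.trans {x y z : G} : HConj E x y → HConj E y z → HConj E x z := by
  rintro ⟨h, hh, rfl⟩ ⟨k, hk, rfl⟩
  exact ⟨k * h, mul_mem hk hh, by group⟩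

theorem isPGroup_zpowers_of_sq {v : G} (hv : v * v = 1) : IsPGroup 2 (zpowers v) := by
  haveI : Fact (Nat.Prime 2) := ⟨Nat.prime_two⟩
  obtain ⟨j, -, hj⟩ := (Nat.dvd_prime_pow Nat.prime_two (m := 1)).1
    (orderOf_dvd_of_pow_eq_one (show v ^ 2 = 1 by rw [pow_two, hv]) |>.trans (by norm_num))
  exact IsPGroup.of_card (n := j) (by rw [Nat.card_zpowers, hj])

/-- The 2-subgroups are elementary abelian. -/
theorem two_group {Q : Subgroup G} (hQ : IsPGroup 2 Q) (E : Setup G) {a b : G} (ha : a ∈ Q) (hb : b ∈ Q) :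
    a * a = 1 ∧ Commute a b := by
  haveI : Fact (Nat.Prime 2) := ⟨Nat.prime_two⟩
  obtain ⟨g, hg⟩ := CfsgLib.SL2Tori.exists_conj_mem_of_index hQ E.S.not_dvd_index
  constructor
  · have h := E.sq _ (hg a ha)
    calc a * a = g * ((g⁻¹ * a * g) * (g⁻¹ * a * g)) * g⁻¹ := by group
      _ = 1 := by rw [h]; group
  · show a * b = b * a
    have h := E.comm (hg a ha) (hg b hb)
    calc a * b = g * ((g⁻¹ * a * g) * (g⁻¹ * b * g)) * g⁻¹ := by group
      _ = g * ((g⁻¹ * b * g) * (g⁻¹ * a * g)) * g⁻¹ := by rw [h]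
      _ = b * a := by group

/-- If `W` contains the involutions of `C(x) ∩ C(t)`, every involution of `C(x)` is conjugate there
into `W`. -/
theorem invol_into {x : G} (hx : Commute x E.t) (W : Set G)
    (hW : ∀ v : G, orderOf v = 2 → Commute v E.t → Commute v x → v ∈ W) {u : G} (hu : orderOf u = 2)
    (hux : Commute u x) : ∃ c : G, Commute c x ∧ c * u * c⁻¹ ∈ W := by
  haveI : Fact (Nat.Prime 2) := ⟨Nat.prime_two⟩
  set C := centralizer ({x} : Set G)
  set T : C := ⟨E.t, mem_centralizer_singleton_iff.2 hx.symm.eq⟩ with hT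
  set U : C := ⟨u, mem_centralizer_singleton_iff.2 hux.eq⟩ with hU
  have hu2 : u * u = 1 := by rw [← pow_two, ← hu, pow_orderOf_eq_one]
  have hp : ∀ z : C, (z : G) * z = 1 → IsPGroup 2 (zpowers z) := fun z hz => by
    refine ((isPGroup_zpowers_of_sq hz).of_injective
      ((Subgroup.subtype C).comp (zpowers z).subtype |>.codRestrict (zpowers (z : G)) fun w => ?_)
      fun a b h => ?_)
    · obtain ⟨i, hi⟩ := mem_zpowers_iff.1 w.2
      exact mem_zpowers_iff.2 ⟨i, by rw [← SubgroupClass.coe_zpow, hi]; rfl⟩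
    · exact Subtype.ext (Subtype.ext (congrArg (fun w : zpowers (z : G) => (w : G)) h))
  obtain ⟨P, hP⟩ := (hp T t_sq).exists_le_sylow
  obtain ⟨Q, hQ⟩ := (hp U hu2).exists_le_sylow
  obtain ⟨c, hc⟩ := MulAction.exists_smul_eq C Q P
  have hcu : c * U * c⁻¹ ∈ (P : Subgroup C) := by
    rw [← hc, Sylow.coe_subgroup_smul]
    exact ⟨U, hQ (mem_zpowers U), rfl⟩
  refine ⟨c, mem_centralizer_singleton_iff.1 c.2, hW _ ?_ ?_ ?_⟩
  · rw [← MulAut.conj_apply, MulEquiv.orderOf_eq, hu]
  · exact (two_group (P.isPGroup'.map C.subtype) E (a := (c : G) * u * (c : G)⁻¹) (b := E.t)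
      ⟨_, hcu, rfl⟩ ⟨T, hP (mem_zpowers T), rfl⟩).2
  · exact mem_centralizer_singleton_iff.1 (C.mul_mem (C.mul_mem c.2 U.2) (C.inv_mem c.2))

/-- If `C(x) ∩ C(t)` has fewer involutions than `S`, the class of `x` under `C(t)` has even size. -/
theorem class_even {x : G} (W : Set G) (hW4 : W.ncard ≤ 4)
    (hW : ∀ v : G, v * v = 1 → Commute v E.t → Commute v x → v ∈ W) :
    Even ((centralizer ({x} : Set G)).relIndex E.H) := by
  by_contra hodd
  haveI : Fact (Nat.Prime 2) := ⟨Nat.prime_two⟩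
  rw [Nat.not_even_iff_odd] at hodd
  obtain ⟨g, hg⟩ := CfsgLib.SL2Tori.exists_conj_mem_of_index
    (P := (E.S : Subgroup G).subgroupOf E.H) (H := (centralizer ({x} : Set G)).subgroupOf E.H)
    (E.S.isPGroup'.comap_subtype) fun h => Nat.not_even_iff_odd.2 hodd (even_iff_two_dvd.2 h)
  have hsub : (fun s : G => (g : G)⁻¹ * s * g) '' ((E.S : Subgroup G) : Set G) ⊆ W := by
    rintro _ ⟨s, hs, rfl⟩
    have h1 : (g : G)⁻¹ * s * g ∈ centralizer ({x} : Set G) :=
      mem_subgroupOf.1 (hg ⟨s, E.sylow_le_H hs⟩ (mem_subgroupOf.2 hs))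
    refine hW _ ?_ ?_ (mem_centralizer_singleton_iff.1 h1)
    · calc (g : G)⁻¹ * s * g * ((g : G)⁻¹ * s * g) = (g : G)⁻¹ * (s * s) * g := by group
        _ = 1 := by rw [E.sq s hs]; group
    · exact commute_t (E.H.mul_mem (E.H.mul_mem (E.H.inv_mem g.2) (E.sylow_le_H hs)) g.2)
  have h1 := (Set.ncard_le_ncard hsub (Set.toFinite _)).trans hW4
  rw [Set.ncard_image_of_injective _ (fun a b h => by simpa using h), ← Nat.card_coe_set_eq] at h1
  have h8 := E.card_S
  rw [← SetLike.coe_sort_coe] at h8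
  omega

variable (R : Frame E)

local notation "PSLF" => ProjectiveSpecialLinearGroup (Fin 2) R.F

/-- The class of a field element meets `C(t)` in one class. -/
theorem fld_meet [CharP R.F 3] (hloc : Local E) (σ : R.Γ) {g : G} (hg : g * R.fld σ * g⁻¹ ∈ E.H) :
    HConj E (R.fld σ) (g * R.fld σ * g⁻¹) := by
  haveI : Fact (Nat.Prime 2) := ⟨Nat.prime_two⟩
  set C := centralizer ({R.fld σ} : Set G)
  have hS : (E.S : Subgroup G) ≤ C := fun s hs => mem_centralizer_singleton_iff.2 (R.S_fld σ s hs).symm.eq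
  set u := g⁻¹ * E.t * g with hu
  have hu2 : u * u = 1 := by
    rw [hu]
    calc g⁻¹ * E.t * g * (g⁻¹ * E.t * g) = g⁻¹ * (E.t * E.t) * g := by group
      _ = 1 := by rw [t_sq]; group
  have hu1 : u ≠ 1 := fun e => E.ne (by
    calc E.t = g * u * g⁻¹ := by rw [hu]; group
      _ = 1 := by rw [e]; group)
  have huC : Commute u (R.fld σ) := by
    have h := (commute_t hg).eq
    show _ = _
    rw [hu]
    calc g⁻¹ * E.t * g * R.fld σ = g⁻¹ * (E.t * (g * R.fld σ * g⁻¹)) * g := by group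
      _ = g⁻¹ * (g * R.fld σ * g⁻¹ * E.t) * g := by rw [h]
      _ = _ := by group
  obtain ⟨c, hc⟩ := CfsgLib.SL2Tori.exists_conj_mem_of_index
    (P := (zpowers u).subgroupOf C) (H := (E.S : Subgroup G).subgroupOf C)
    (isPGroup_zpowers_of_sq hu2).comap_subtype fun h =>
      E.S.not_dvd_index (h.trans (relIndex_dvd_index_of_le hS))
  have hs : (c : G)⁻¹ * u * c ∈ (E.S : Subgroup G) := mem_subgroupOf.1
    (hc ⟨u, mem_centralizer_singleton_iff.2 huC.eq⟩ (mem_subgroupOf.2 (mem_zpowers u)))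
  obtain ⟨n, hn, hnt⟩ := hloc.fuse E.t E.mem _ hs E.ne fun e => hu1 (by
    calc u = c * ((c : G)⁻¹ * u * c) * (c : G)⁻¹ := by group
      _ = 1 := by rw [e]; group)
  have hnσ : Commute n (R.fld σ) := (mem_cfld R).1 (normalizer_S_le R hloc hn) σ
  refine ⟨g * c * n, mem_centralizer_singleton_iff.2 ?_, ?_⟩
  · have e : (g * c * n) * E.t * (g * c * n)⁻¹ = E.t := by
      calc (g * c * n) * E.t * (g * c * n)⁻¹ = g * c * (n * E.t * n⁻¹) * (c : G)⁻¹ * g⁻¹ := by group
        _ = g * u * g⁻¹ := by rw [hnt]; group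
        _ = E.t := by rw [hu]; group
    exact mul_inv_eq_iff_eq_mul.1 e
  · have hcσ : Commute (c : G) (R.fld σ) := mem_centralizer_singleton_iff.1 c.2
    calc g * c * n * R.fld σ * (g * c * n)⁻¹ = g * (c * (n * R.fld σ * n⁻¹) * (c : G)⁻¹) * g⁻¹ := by group
      _ = g * R.fld σ * g⁻¹ := by rw [hnσ.eq, mul_inv_cancel_right, hcσ.eq, mul_inv_cancel_right]

/-- The class of a field element under `C(t)` has odd size. -/
theorem fld_class_odd (σ : R.Γ) : Odd ((centralizer ({R.fld σ} : Set G)).relIndex E.H) := by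
  haveI : Fact (Nat.Prime 2) := ⟨Nat.prime_two⟩
  refine Nat.not_even_iff_odd.1 fun he => E.S.not_dvd_index ?_
  refine (even_iff_two_dvd.1 he).trans ?_
  rw [← inf_relIndex_right]
  exact ((relIndex_dvd_index_of_le inf_le_right).trans (index_dvd_of_le
    (le_inf (fun s hs => mem_centralizer_singleton_iff.2 (R.S_fld σ s hs).symm.eq) E.sylow_le_H)))

theorem oddTorus_eq [CharP R.F 3] : oddTorus (Fintype.card R.F) = (R.q - 1) / 2 ∧
    coTorus (Fintype.card R.F) = (R.q + 1) / 4 := by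
  obtain ⟨h3, h11⟩ := q_mod_three R
  constructor
  · rw [oddTorus, CfsgLib.ReeOrder.sq, if_pos h3]
    show ((Fintype.card R.F : ℤ) - 1).natAbs / 2 = (Fintype.card R.F - 1) / 2
    omega
  · rw [coTorus, CfsgLib.ReeOrder.sq, if_pos h3]
    show ((Fintype.card R.F : ℤ) + 1).natAbs / 4 = (Fintype.card R.F + 1) / 4
    omega

/-- An element of a split torus commutes with no involution of `C(t)` other than `t`. -/
theorem split_invol [CharP R.F 3] {x : PSLF} (hx : x ≠ 1) (hd : orderOf x ∣ (R.q - 1) / 2) {v : G}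
    (hv : v * v = 1) (hvt : Commute v E.t) (hvx : Commute v (R.psl x)) : v = 1 ∨ v = E.t := by
  by_contra hcon
  push Not at hcon
  obtain ⟨h3, h11⟩ := q_mod_three R
  have hv2 : orderOf v = 2 := orderOf_eq_prime (by rw [pow_two, hv]) hcon.1
  obtain ⟨j, hj, e⟩ := invol_form R (mem_H hvt) hv2 hcon.2
  obtain ⟨C, -, -, hcard, hcent⟩ :=
    Psl.exists_torus_odd R.q_mod h11 hx (by rw [(oddTorus_eq R).1]; exact hd)
  have hjC := hcent j ((commute_psl_iff R e x).1 hvx)
  have := Subgroup.orderOf_dvd_natCard C hjC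
  rw [hj, hcard] at this
  exact Nat.not_even_iff_odd.2 (odd_oddTorus R.q_mod) (even_iff_two_dvd.2 this)

/-- The class of an element of a split torus meets `C(t)` in one class. -/
theorem split_meet [CharP R.F 3] {x : PSLF} (hx : x ≠ 1) (hd : orderOf x ∣ (R.q - 1) / 2) {g : G}
    (hg : g * R.psl x * g⁻¹ ∈ E.H) : HConj E (R.psl x) (g * R.psl x * g⁻¹) := by
  set u := g⁻¹ * E.t * g with hu
  have hu2 : orderOf u = 2 := by
    rw [hu, show g⁻¹ * E.t * g = MulAut.conj g⁻¹ E.t by simp, MulEquiv.orderOf_eq, E.orderOf_t]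
  have hux : Commute u (R.psl x) := by
    have h := (commute_t hg).eq
    show _ = _
    rw [hu]
    calc g⁻¹ * E.t * g * R.psl x = g⁻¹ * (E.t * (g * R.psl x * g⁻¹)) * g := by group
      _ = g⁻¹ * (g * R.psl x * g⁻¹ * E.t) * g := by rw [h]
      _ = _ := by group
  obtain ⟨c, hc, hcu⟩ := invol_into (commute_t (R.psl_mem x)) {E.t} (fun v h2 hvt hvx =>
    (split_invol R hx hd (by rw [← pow_two, ← h2, pow_orderOf_eq_one]) hvt hvx).resolve_left
      fun e => by rw [e, orderOf_one] at h2; omega) hu2 hux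
  have hcu' : c * u * c⁻¹ = E.t := hcu
  refine ⟨g * c⁻¹, mem_centralizer_singleton_iff.2 (mul_inv_eq_iff_eq_mul.1 ?_), ?_⟩
  · conv_lhs => enter [1, 2]; rw [← hcu']
    rw [hu]; group
  · calc g * c⁻¹ * R.psl x * (g * c⁻¹)⁻¹ = g * (c⁻¹ * (R.psl x * c)) * g⁻¹ := by group
      _ = g * R.psl x * g⁻¹ := by rw [← hc.eq, inv_mul_cancel_left]

/-- The class of an element of a split torus under `C(t)` has even size. -/
theorem split_class_even [CharP R.F 3] {x : PSLF} (hx : x ≠ 1) (hd : orderOf x ∣ (R.q - 1) / 2) :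
    Even ((centralizer ({R.psl x} : Set G)).relIndex E.H) := by
  refine class_even ({1, E.t} : Set G) ((Set.ncard_insert_le _ _).trans (by simp)) fun v hv hvt hvx => ?_
  simpa using split_invol R hx hd hv hvt hvx

/-- The rotation of the odd part `A` of the centralizer of `i` in the simple part. -/
structure Rotation (i : PSLF) (A : Subgroup PSLF) (p : MulAut A) : Prop where
  mem : ∀ a, a ∈ A ↔ Commute a i ∧ Odd (orderOf a)
  cyclic : IsCyclic A
  card : Nat.card A = (R.q + 1) / 4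
  conj : ∀ a : A, ∃ g : G, g * R.psl a * g⁻¹ = R.psl (p a : PSLF)
  meet : ∀ (a : A), a ≠ 1 → ∀ g : G, g * R.psl a * g⁻¹ ∈ E.H →
    ∃ k < 3, HConj E (R.psl ((p ^ k) a : PSLF)) (g * R.psl a * g⁻¹)
  one_or_three : ∀ (a : A), a ≠ 1 →
    (∀ k : ℕ, HConj E (R.psl a) (R.psl ((p ^ k) a : PSLF))) ∨
      (∀ j < 3, ∀ k < 3, HConj E (R.psl ((p ^ j) a : PSLF)) (R.psl ((p ^ k) a : PSLF)) → j = k)
  even : ∀ (a : A), a ≠ 1 → Even ((centralizer ({R.psl a} : Set G)).relIndex E.H)

/-- The odd part of the centralizer of an involution of the simple part. -/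
theorem exists_A [CharP R.F 3] {i : PSLF} (hi : orderOf i = 2) :
    ∃ (A : Subgroup PSLF) (r : PSLF), (∀ a, a ∈ A ↔ Commute a i ∧ Odd (orderOf a)) ∧ IsCyclic A ∧
      Nat.card A = (R.q + 1) / 4 ∧ Commute r i ∧ ∀ a ∈ A, r * a * r⁻¹ = a⁻¹ := by
  obtain ⟨h3, h11⟩ := q_mod_three R
  obtain ⟨c, r, hco, hr2, hci, hri, -, hinv, hall⟩ := Psl.invol_centralizer R.q_mod h11 hi
  have hcodd : Odd (orderOf c) := hco ▸ odd_coTorus R.q_mod
  have hii : i * i = 1 := Psl.involution_mul_self hi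
  refine ⟨zpowers c, r, fun a => ⟨fun ha => ?_, fun ⟨hai, hao⟩ => ?_⟩, inferInstance,
    by rw [Nat.card_zpowers, hco, (oddTorus_eq R).2], hri, fun a ha => ?_⟩
  · obtain ⟨z, rfl⟩ := mem_zpowers_iff.1 ha
    exact ⟨hci.zpow_left z, hcodd.of_dvd_nat
      ((Nat.card_zpowers c) ▸ Subgroup.orderOf_dvd_natCard _ ha)⟩
  · obtain ⟨j, e, f, rfl⟩ := hall a hai
    -- no reflection has odd order
    have hji : Commute (c ^ j) i := hci.pow_left j
    fin_cases f
    · fin_cases e
      · simp only [pow_zero, mul_one]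
        exact npow_mem_zpowers c j
      · exfalso
        simp only [pow_one, pow_zero, mul_one] at hao
        obtain ⟨k, hk⟩ := hao
        have h1 := pow_orderOf_eq_one (c ^ j * i)
        rw [hk, hji.mul_pow, pow_succ i, pow_mul i, pow_two i, hii, one_pow, one_mul] at h1
        have h2 : orderOf i ∣ orderOf c := by
          rw [eq_inv_of_mul_eq_one_right h1, orderOf_inv, ← pow_mul]
          exact orderOf_pow_dvd _
        rw [hi] at h2
        exact Nat.not_even_iff_odd.2 hcodd (even_iff_two_dvd.2 h2)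
    · exfalso
      simp only [pow_one] at hao
      set b := c ^ j * i ^ (e : ℕ) with hb
      have hbinv : r * b * r⁻¹ = b⁻¹ := by
        have hie : (i ^ (e : ℕ))⁻¹ = i ^ (e : ℕ) := by
          rw [← inv_pow, inv_eq_of_mul_eq_one_right hii]
        rw [hb, show r * (c ^ j * i ^ (e : ℕ)) * r⁻¹ = (r * c ^ j * r⁻¹) * (r * i ^ (e : ℕ) * r⁻¹) by group,
          ← conj_pow, hinv, (hri.pow_right (e : ℕ)).eq, mul_inv_cancel_right, _root_.mul_inv_rev, hie, inv_pow]
        exact ((hji.pow_right (e : ℕ)).inv_left).eq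
      have hsq : (b * r) ^ 2 = 1 := by
        rw [pow_two]
        calc b * r * (b * r) = b * (r * b * r⁻¹) * (r * r) := by group
          _ = 1 := by rw [hbinv, mul_inv_cancel, Psl.involution_mul_self hr2, one_mul]
      have hbr : b * r = 1 := orderOf_eq_one_iff.1 (Nat.eq_one_of_dvd_coprimes
        (Nat.coprime_two_right.2 hao) dvd_rfl (orderOf_dvd_of_pow_eq_one hsq))
      -- then `r` would centralize `c`
      have hrb : r = b⁻¹ := eq_inv_of_mul_eq_one_right hbr
      have hcb : Commute c r := by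
        rw [hrb]
        exact ((Commute.self_pow c j).mul_right (hci.pow_right (e : ℕ))).inv_right
      rw [← hcb.eq, mul_inv_cancel_right] at hinv
      have h2 : c ^ 2 = 1 := by rw [pow_two]; nth_rw 2 [hinv]; exact mul_inv_cancel c
      have := Nat.eq_one_of_dvd_coprimes (Nat.coprime_two_right.2 hcodd) dvd_rfl
        (orderOf_dvd_of_pow_eq_one h2)
      rw [hco] at this
      have := three_le_coTorus R.q_mod h11
      omega
  · obtain ⟨z, rfl⟩ := mem_zpowers_iff.1 ha
    rw [← conj_zpow, hinv, _root_.inv_zpow]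

/-- The involutions of `C(t)` centralizing an element of `A`. -/
theorem co_invol [CharP R.F 3] {i a : PSLF} (hi : orderOf i = 2) (hai : Commute a i)
    (hao : Odd (orderOf a)) (ha1 : a ≠ 1) {v : G} (hv : v * v = 1) (hvt : Commute v E.t)
    (hva : Commute v (R.psl a)) :
    v ∈ ({1, E.t, R.psl i, E.t * R.psl i} : Set G) := by
  by_cases h1 : v = 1
  · exact Or.inl h1
  by_cases ht : v = E.t
  · exact Or.inr (Or.inl ht)
  obtain ⟨h3, h11⟩ := q_mod_three R
  have hv2 : orderOf v = 2 := orderOf_eq_prime (by rw [pow_two, hv]) h1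
  obtain ⟨j, hj, e⟩ := invol_form R (mem_H hvt) hv2 ht
  obtain ⟨A, -, hA, -, hcard, -⟩ := exists_A R hi
  have hda : orderOf a ∣ coTorus (Fintype.card R.F) := by
    rw [(oddTorus_eq R).2, ← hcard]
    exact Subgroup.orderOf_dvd_natCard A ((hA a).2 ⟨hai, hao⟩)
  obtain ⟨C, hC, -, -, hcent⟩ := Psl.exists_torus_co R.q_mod h11 ha1 hda
  haveI := hC.cyclic
  have := CfsgLib.PSL2.eq_of_orderOf_two (a := (⟨j, hcent j ((commute_psl_iff R e a).1 hva)⟩ : C))
    (b := ⟨i, hcent i hai.symm⟩) (by rw [Subgroup.orderOf_mk]; exact hj)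
    (by rw [Subgroup.orderOf_mk]; exact hi)
  have hji : j = i := congrArg Subtype.val this
  subst hji
  rcases e with e | e
  · exact Or.inr (Or.inr (Or.inl e))
  · exact Or.inr (Or.inr (Or.inr e))

theorem psl_of_S [CharP R.F 3] {s : G} {x : PSLF} (hs : s ∈ (E.S : Subgroup G))
    (e : s = R.psl x ∨ s = E.t * R.psl x) : R.psl x ∈ (E.S : Subgroup G) := by
  rcases e with rfl | rfl
  · exact hs
  · have := mul_mem E.mem hs
    rwa [← mul_assoc, t_sq, one_mul] at this

/-- An element rotating the four group of `t` and a given involution of the simple part. -/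
theorem exists_rot [CharP R.F 3] (hloc : Local E) {i : PSLF} (hi : orderOf i = 2) :
    ∃ g v : G, (v = R.psl i ∨ v = E.t * R.psl i) ∧ g * E.t * g⁻¹ = v ∧ g * v * g⁻¹ = E.t * v ∧
      g * (E.t * v) * g⁻¹ = E.t := by
  obtain ⟨s₁, s₂, x₁, x₂, hs₁, hs₂, e₁, e₂, ho₁, ho₂, hc, hne, -, -⟩ := exists_S_pair R
  obtain ⟨ρ, hρ₁, hρ₂⟩ := CfsgLib.GW.FieldModel.exists_rotation (psl_two_ne R) ho₁ ho₂ hc hne
  have hm₁ := psl_of_S R hs₁ e₁
  have hm₂ := psl_of_S R hs₂ e₂
  have hn1 : ∀ x : PSLF, orderOf x = 2 → R.psl x ≠ 1 := fun x hx e => by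
    rw [← orderOf_psl R, e, orderOf_one] at hx; omega
  obtain ⟨n, hn, hnt⟩ := hloc.fuse _ hm₁ E.t E.mem (hn1 x₁ ho₁) E.ne
  set w := n * R.psl x₂ * n⁻¹ with hw
  have hwS : w ∈ (E.S : Subgroup G) := (mem_normalizer_iff.1 hn _).1 hm₂
  have hw1 : w ≠ 1 := fun e => hn1 x₂ ho₂ (conj_eq_one_iff.1 e)
  have hwt : w ≠ E.t := fun e => hne (R.psl_inj (by
    rw [hw, ← hnt] at e
    exact (mul_left_cancel (mul_right_cancel e)).symm))
  obtain ⟨j, hj, ej⟩ := invol_form R (E.sylow_le_H hwS) (E.orderOf_eq_two hwS hw1) hwt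
  obtain ⟨k, hk⟩ := isConj_iff.1 (CfsgLib.PSL2.isConj_of_orderOf_two (psl_two_ne R) hj hi)
  set g₀ := n * R.psl ρ * n⁻¹ with hg₀
  have r1 : g₀ * E.t * g₀⁻¹ = w := by
    rw [hg₀, hw, ← hnt, ← hρ₁, map_mul, map_mul, map_inv]; group
  have r2 : g₀ * w * g₀⁻¹ = E.t * w := by
    have h := congrArg R.psl hρ₂
    rw [map_mul, map_mul, map_inv, map_mul] at h
    rw [hg₀, hw, ← hnt]
    calc n * R.psl ρ * n⁻¹ * (n * R.psl x₂ * n⁻¹) * (n * R.psl ρ * n⁻¹)⁻¹
        = n * (R.psl ρ * R.psl x₂ * (R.psl ρ)⁻¹) * n⁻¹ := by group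
      _ = _ := by rw [h]; group
  have r3 : g₀ * (E.t * w) * g₀⁻¹ = E.t := by
    calc g₀ * (E.t * w) * g₀⁻¹ = g₀ * E.t * g₀⁻¹ * (g₀ * w * g₀⁻¹) := by group
      _ = w * (E.t * w) := by rw [r1, r2]
      _ = E.t := by
        rw [← mul_assoc, E.comm hwS E.mem, mul_assoc, E.sq w hwS, mul_one]
  set K := R.psl k with hK
  have hKt : K * E.t * K⁻¹ = E.t := by rw [(commute_t (R.psl_mem k)).eq, mul_inv_cancel_right]
  refine ⟨K * g₀ * K⁻¹, K * w * K⁻¹, ?_, ?_, ?_, ?_⟩
  · rcases ej with ej | ej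
    · left; rw [ej, hK, ← hk, map_mul, map_mul, map_inv]
    · right
      rw [ej, show K * (E.t * R.psl j) * K⁻¹ = K * E.t * K⁻¹ * (K * R.psl j * K⁻¹) by group, hKt, hK,
        ← hk, map_mul, map_mul, map_inv]
  · conv_lhs => enter [1, 2]; rw [← hKt]
    rw [← r1]; group
  · conv_rhs => enter [1]; rw [← hKt]
    calc K * g₀ * K⁻¹ * (K * w * K⁻¹) * (K * g₀ * K⁻¹)⁻¹ = K * (g₀ * w * g₀⁻¹) * K⁻¹ := by group
      _ = K * E.t * K⁻¹ * (K * w * K⁻¹) := by rw [r2]; group
  · conv_rhs => rw [← hKt]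
    conv_lhs => enter [1, 2, 1]; rw [← hKt]
    calc K * g₀ * K⁻¹ * (K * E.t * K⁻¹ * (K * w * K⁻¹)) * (K * g₀ * K⁻¹)⁻¹
        = K * (g₀ * (E.t * w) * g₀⁻¹) * K⁻¹ := by group
      _ = K * E.t * K⁻¹ := by rw [r3]

/-- The rotation of `A`. -/
theorem exists_rotation_A [CharP R.F 3] (hloc : Local E) {i : PSLF} (hi : orderOf i = 2) :
    ∃ (A : Subgroup PSLF) (p : MulAut A), Rotation R i A p := by
  classical
  obtain ⟨A, r, hA, hcyc, hcard, hri, hrinv⟩ := exists_A R hi
  obtain ⟨g, v, hv, g1, g2, g3⟩ := exists_rot R hloc hi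
  haveI := hcyc
  have hvt : Commute v E.t := by
    rcases hv with rfl | rfl
    · exact commute_t (R.psl_mem i)
    · exact commute_t (mul_mem t_mem_H (R.psl_mem i))
  have hva : ∀ a : PSLF, Commute a i → Commute v (R.psl a) := fun a ha => (commute_psl_iff R hv a).2 ha.symm
  have hta : ∀ a : PSLF, Commute E.t (R.psl a) := fun a => (commute_t (R.psl_mem a)).symm
  -- conjugation by `g` preserves the centralizer of `⟨t, v⟩`
  have hpres : ∀ y : G, Commute E.t y → Commute v y →
      Commute E.t (g * y * g⁻¹) ∧ Commute v (g * y * g⁻¹) := by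
    intro y h1 h2
    refine ⟨?_, ?_⟩
    · rw [← g3]
      exact ((h1.mul_left h2).map (MulAut.conj g).toMonoidHom)
    · rw [← g1]
      exact h1.map (MulAut.conj g).toMonoidHom
  have hmapA : ∀ a ∈ A, ∃ b ∈ A, g * R.psl a * g⁻¹ = R.psl b := by
    intro a ha
    obtain ⟨hai, hao⟩ := (hA a).1 ha
    obtain ⟨h1, h2⟩ := hpres _ (hta a) (hva a hai)
    obtain ⟨h3, -⟩ := hpres _ (hta r) (hva r hri)
    have ho : Odd (orderOf (g * R.psl a * g⁻¹)) := by
      rwa [← MulAut.conj_apply, MulEquiv.orderOf_eq, orderOf_psl R]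
    have hinv : g * R.psl r * g⁻¹ * (g * R.psl a * g⁻¹) * (g * R.psl r * g⁻¹)⁻¹ =
        (g * R.psl a * g⁻¹)⁻¹ := by
      have h := congrArg R.psl (hrinv a ha)
      rw [map_mul, map_mul, map_inv, map_inv] at h
      calc g * R.psl r * g⁻¹ * (g * R.psl a * g⁻¹) * (g * R.psl r * g⁻¹)⁻¹
          = g * (R.psl r * R.psl a * (R.psl r)⁻¹) * g⁻¹ := by group
        _ = _ := by rw [h]; group
    obtain ⟨b, hb⟩ := psl_of_inverted R (mem_H h1.symm) ho (mem_H h3.symm) hinv
    refine ⟨b, (hA b).2 ⟨((commute_psl_iff R hv b).1 (hb ▸ h2)).symm, ?_⟩, hb⟩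
    rwa [hb, orderOf_psl R] at ho
  choose f hfA hf using hmapA
  let φ : A →* A :=
    { toFun := fun a => ⟨f a a.2, hfA a a.2⟩
      map_one' := Subtype.ext (R.psl_inj (by rw [← hf]; simp))
      map_mul' := fun a b => Subtype.ext (R.psl_inj (by
        rw [← hf, Subgroup.coe_mul, Subgroup.coe_mul, map_mul, map_mul, ← hf, ← hf]; group)) }
  have hinj : Function.Injective φ := fun a b e => Subtype.ext (R.psl_inj (by
    have h : R.psl (f a a.2) = R.psl (f b b.2) := congrArg (fun z : A => R.psl (z : PSLF)) e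
    rw [← hf, ← hf] at h
    exact mul_left_cancel (mul_right_cancel h)))
  let p : MulAut A := MulEquiv.ofBijective φ (Finite.injective_iff_bijective.1 hinj)
  have hp : ∀ a : A, g * R.psl a * g⁻¹ = R.psl (p a : PSLF) := fun a => hf a a.2
  have hpk : ∀ (k : ℕ) (a : A), g ^ k * R.psl a * (g ^ k)⁻¹ = R.psl ((p ^ k) a : PSLF) := by
    intro k
    induction k with
    | zero => intro a; simp
    | succ k ih =>
      intro a
      rw [pow_succ' g, pow_succ' p, MulAut.mul_apply, ← hp, ← ih]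
      group
  have hg3 : g ^ 3 ∈ E.H := by
    refine mem_H (mul_inv_eq_iff_eq_mul.1 ?_)
    calc g ^ 3 * E.t * (g ^ 3)⁻¹ = g * (g * (g * E.t * g⁻¹) * g⁻¹) * g⁻¹ := by
          simp only [pow_succ, pow_zero, one_mul, _root_.mul_inv_rev, mul_assoc]
      _ = E.t := by rw [g1, g2, g3]
  have hcube : ∀ a : A, HConj E (R.psl a) (R.psl ((p ^ 3) a : PSLF)) := fun a => ⟨_, hg3, hpk 3 a⟩
  -- `C(t)`-conjugacy on `A` is compatible with `p`
  have hcompat : ∀ (k : ℕ) (a b : A), a ≠ 1 → HConj E (R.psl a) (R.psl b) →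
      HConj E (R.psl ((p ^ k) a : PSLF)) (R.psl ((p ^ k) b : PSLF)) := by
    rintro k a b ha1 ⟨h, hh, hab⟩
    obtain ⟨hai, hao⟩ := (hA a).1 a.2
    obtain ⟨hbi, hbo⟩ := (hA b).1 b.2
    have hb1 : (b : PSLF) ≠ 1 := fun e => ha1 (Subtype.ext (R.psl_inj (by
      rw [e, map_one] at hab
      rw [conj_eq_one_iff.1 hab, Subgroup.coe_one, map_one])))
    obtain ⟨i', hi'⟩ := conj_psl R hh i
    have hii : i' = i := by
      have h2 : orderOf i' = 2 := by
        rw [← orderOf_psl R, ← hi', ← MulAut.conj_apply, MulEquiv.orderOf_eq, orderOf_psl R, hi]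
      have hc : Commute (R.psl i') (R.psl b) := by
        rw [← hi', ← hab]
        exact ((hai.symm).map R.psl).map (MulAut.conj h).toMonoidHom
      have hmem := co_invol R hi hbi hbo hb1
        (v := R.psl i') (by rw [← map_mul, Psl.involution_mul_self h2, map_one]) (hta i').symm hc
      rcases hmem with e | e | e | e
      · rw [← orderOf_psl R, e, orderOf_one] at h2; omega
      · exact absurd (show R.psl i' * R.fld 1 = E.t by rw [map_one, mul_one]; exact e) (R.ne_t i' 1)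
      · exact R.psl_inj e
      · exact absurd e.symm (psl_t_mul_ne R i i')
    subst hii
    have hA' : ∀ c : A, ∃ d : A, h * R.psl c * h⁻¹ = R.psl d := fun c => by
      obtain ⟨hci, hco⟩ := (hA c).1 c.2
      obtain ⟨d, hd⟩ := conj_psl R hh c
      refine ⟨⟨d, (hA d).2 ⟨?_, ?_⟩⟩, hd⟩
      · refine ((commute_psl_iff R (Or.inl rfl) d).1 ?_).symm
        rw [← hd, ← hi']
        exact ((hci.symm).map R.psl).map (MulAut.conj h).toMonoidHom
      · rwa [← orderOf_psl R, ← hd, ← MulAut.conj_apply, MulEquiv.orderOf_eq, orderOf_psl R]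
    choose β hβ using hA'
    let β' : A →* A :=
      { toFun := β
        map_one' := Subtype.ext (R.psl_inj (by rw [← hβ]; simp))
        map_mul' := fun x y => Subtype.ext (R.psl_inj (by
          rw [← hβ, Subgroup.coe_mul, map_mul, Subgroup.coe_mul, map_mul, ← hβ, ← hβ]; group)) }
    have hβinj : Function.Injective β' := fun x y e => Subtype.ext (R.psl_inj (by
      have h' : R.psl (β x : PSLF) = R.psl (β y : PSLF) := congrArg (fun z : A => R.psl (z : PSLF)) e
      rw [← hβ, ← hβ] at h'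
      exact mul_left_cancel (mul_right_cancel h')))
    let B : MulAut A := MulEquiv.ofBijective β' (Finite.injective_iff_bijective.1 hβinj)
    have hcomm : B * p ^ k = p ^ k * B := (IsCyclic.mulAutMulEquiv A).injective (by
      rw [map_mul, map_mul, mul_comm])
    have hBa : B a = b := Subtype.ext (R.psl_inj (by rw [← hab]; exact (hβ a).symm))
    refine ⟨h, hh, ?_⟩
    rw [hβ]
    show R.psl ((B ((p ^ k) a) : A) : PSLF) = _
    rw [show B ((p ^ k) a) = (p ^ k) b from by rw [← MulAut.mul_apply, hcomm, MulAut.mul_apply, hBa]]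
  have hstep : ∀ (a : A), a ≠ 1 → ∀ j k : ℕ, j < 3 → k < 3 → j ≠ k →
      HConj E (R.psl ((p ^ j) a : PSLF)) (R.psl ((p ^ k) a : PSLF)) →
      HConj E (R.psl a) (R.psl (p a : PSLF)) := by
    intro a ha1 j k hj hk hjk hjkc
    wlog hlt : j < k generalizing j k
    · exact this k j hk hj (Ne.symm hjk) hjkc.symm (by omega)
    have hne : ∀ m : ℕ, (p ^ m) a ≠ 1 := fun m e => ha1 ((map_eq_one_iff _ (p ^ m).injective).1 e)
    have h1 := hcompat (3 - j) _ _ (hne j) hjkc
    rw [← MulAut.mul_apply, ← pow_add, ← MulAut.mul_apply, ← pow_add,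
      show 3 - j + j = 3 by omega, show 3 - j + k = (k - j) + 3 by omega, pow_add, MulAut.mul_apply] at h1
    have hd := ((hcube a).trans h1).trans (hcompat (k - j) _ _ ha1 (hcube a)).symm
    rcases (show k - j = 1 ∨ k - j = 2 by omega) with e | e <;> rw [e] at hd
    · simpa using hd
    · -- from two steps to one
      have h2 := hcompat 1 _ _ ha1 hd
      rw [← MulAut.mul_apply, ← pow_add] at h2
      exact ((hcube a).trans h2.symm).trans (by simpa using HConj.refl (E := E) (R.psl (p a : PSLF)))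
  refine ⟨A, p, hA, hcyc, hcard, fun a => ⟨g, hp a⟩, fun a ha1 y hy => ?_, fun a ha1 => ?_,
    fun a ha1 => ?_⟩
  · obtain ⟨hai, hao⟩ := (hA a).1 a.2
    have ha1' : (a : PSLF) ≠ 1 := fun e => ha1 (Subtype.ext e)
    set u := y⁻¹ * E.t * y with hu
    have hu2 : orderOf u = 2 := by
      rw [hu, show y⁻¹ * E.t * y = MulAut.conj y⁻¹ E.t by simp, MulEquiv.orderOf_eq, E.orderOf_t]
    have hux : Commute u (R.psl a) := by
      have h := (commute_t hy).eq
      show _ = _
      rw [hu]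
      calc y⁻¹ * E.t * y * R.psl a = y⁻¹ * (E.t * (y * R.psl a * y⁻¹)) * y := by group
        _ = y⁻¹ * (y * R.psl a * y⁻¹ * E.t) * y := by rw [h]
        _ = _ := by group
    obtain ⟨c, hc, hcu⟩ := invol_into (commute_t (R.psl_mem a))
      ({E.t, g * E.t * g⁻¹, g ^ 2 * E.t * (g ^ 2)⁻¹} : Set G) (fun w h2 hwt hwa => by
        have hmem := co_invol R hi hai hao ha1' (by rw [← pow_two, ← h2, pow_orderOf_eq_one]) hwt hwa
        have g22 : g ^ 2 * E.t * (g ^ 2)⁻¹ = E.t * v := by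
          rw [← g2, ← g1]; simp only [pow_two, _root_.mul_inv_rev, mul_assoc]
        rw [g1, g22]
        have htv : E.t * (E.t * R.psl i) = R.psl i := by rw [← mul_assoc, t_sq, one_mul]
        rcases hmem with e | e | e | e
        · rw [e, orderOf_one] at h2; omega
        · exact Or.inl e
        · rcases hv with rfl | rfl
          · exact Or.inr (Or.inl e)
          · exact Or.inr (Or.inr (show w = _ by rw [htv]; exact e))
        · rcases hv with rfl | rfl
          · exact Or.inr (Or.inr e)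
          · exact Or.inr (Or.inl e)) hu2 hux
    obtain ⟨m, hm, e⟩ : ∃ m < 3, c * u * c⁻¹ = g ^ m * E.t * (g ^ m)⁻¹ := by
      rcases hcu with e | e | e
      · exact ⟨0, by omega, by rw [e]; simp⟩
      · exact ⟨1, by omega, by rw [e, pow_one]⟩
      · exact ⟨2, by omega, e⟩
    obtain ⟨k, hk, hk3⟩ : ∃ k < 3, m + k = 0 ∨ m + k = 3 := by
      rcases Nat.eq_zero_or_pos m with rfl | h
      · exact ⟨0, by omega, Or.inl rfl⟩
      · exact ⟨3 - m, by omega, Or.inr (by omega)⟩
    refine ⟨k, hk, ?_⟩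
    have hh : y * c⁻¹ * g ^ m ∈ E.H := by
      refine mem_centralizer_singleton_iff.2 (mul_inv_eq_iff_eq_mul.1 ?_)
      calc y * c⁻¹ * g ^ m * E.t * (y * c⁻¹ * g ^ m)⁻¹
          = y * c⁻¹ * (g ^ m * E.t * (g ^ m)⁻¹) * c * y⁻¹ := by group
        _ = y * u * y⁻¹ := by rw [← e]; group
        _ = E.t := by rw [hu]; group
    have hgH : g ^ (m + k) ∈ E.H := by
      rcases hk3 with e | e <;> rw [e]
      · rw [pow_zero]; exact one_mem _
      · exact hg3
    refine ⟨y * c⁻¹ * g ^ m * (g ^ (m + k))⁻¹, mul_mem hh (inv_mem hgH), ?_⟩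
    calc y * c⁻¹ * g ^ m * (g ^ (m + k))⁻¹ * R.psl ((p ^ k) a : PSLF) *
          (y * c⁻¹ * g ^ m * (g ^ (m + k))⁻¹)⁻¹
        = y * (c⁻¹ * ((g ^ k)⁻¹ * R.psl ((p ^ k) a : PSLF) * g ^ k) * c) * y⁻¹ := by
          rw [pow_add]; group
      _ = y * (c⁻¹ * (R.psl a * c)) * y⁻¹ := by rw [← hpk k a]; group
      _ = y * R.psl a * y⁻¹ := by rw [← hc.eq, inv_mul_cancel_left]
  · by_cases h : HConj E (R.psl a) (R.psl (p a : PSLF))
    · refine Or.inl fun k => ?_
      induction k with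
      | zero => simpa using HConj.refl (E := E) (R.psl (a : PSLF))
      | succ k ih =>
        have h1 := hcompat k _ _ ha1 h
        rw [show (p ^ k) (p a) = (p ^ (k + 1)) a by rw [pow_succ, MulAut.mul_apply]] at h1
        exact ih.trans h1
    · refine Or.inr fun j hj k hk hc => ?_
      by_contra hjk
      exact h (hstep a ha1 j k hj hk hjk hc)
  · obtain ⟨hai, hao⟩ := (hA a).1 a.2
    refine class_even ({1, E.t, R.psl i, E.t * R.psl i} : Set G) ?_ fun w hw hwt hwa =>
      co_invol R hi hai hao (fun e => ha1 (Subtype.ext e)) hw hwt hwa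
    refine le_trans (Set.ncard_insert_le _ _) (Nat.succ_le_succ ?_)
    refine le_trans (Set.ncard_insert_le _ _) (Nat.succ_le_succ ?_)
    refine le_trans (Set.ncard_insert_le _ _) (Nat.succ_le_succ ?_)
    simp

end CfsgLib.Walter.Twist.Meet
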