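import Cfsg.Agent.Lib.Walter.CoreGoal
import Cfsg.Agent.Lib.AutPSL.Basic

/-!
Walter, rank three, `FieldFree`: interfaces of the pieces (see `coord/notes/Walter_fieldfree_helper6.md`).

The centraliser of the involution is `⟨t⟩ × (PSL₂(q) ⋊ Γ)` with a group `Γ` of field automorphisms of odd
order, embedded so that `Γ` centralises the Sylow 2-subgroup.
-/

set_option autoImplicit false
set_option linter.unusedSectionVars false

namespace CfsgLib.Walter.Twist

open Subgroup CfsgLib.AutPSL

universe u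

/-- The coordinates of `C(t)`. -/
structure Frame {G : Type u} [Group G] [Finite G] (E : Setup G) where
  /-- the field -/
  F : Type
  [field : Field F]
  [fintype : Fintype F]
  [decEq : DecidableEq F]
  q_mod : Fintype.card F % 8 = 3 ∨ Fintype.card F % 8 = 5
  three : 3 < Fintype.card F
  /-- the field automorphisms -/
  Γ : Subgroup (F ≃+* F)
  Γ_odd : Odd (Nat.card Γ)
  /-- the simple part -/
  psl : Matrix.ProjectiveSpecialLinearGroup (Fin 2) F →* G
  /-- the field part -/
  fld : Γ →* G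
  psl_inj : Function.Injective psl
  fld_inj : Function.Injective fld
  psl_mem : ∀ x, psl x ∈ E.H
  fld_mem : ∀ σ, fld σ ∈ E.H
  fld_psl : ∀ (σ : Γ) (x : Matrix.ProjectiveSpecialLinearGroup (Fin 2) F),
    fld σ * psl x * (fld σ)⁻¹ = psl (fieldAut (σ : F ≃+* F) x)
  exists_eq : ∀ h ∈ E.H, ∃ x σ, h = psl x * fld σ ∨ h = E.t * (psl x * fld σ)
  eq_one : ∀ x σ, psl x * fld σ = 1 → x = 1 ∧ σ = 1
  ne_t : ∀ x σ, psl x * fld σ ≠ E.t
  S_psl : ∀ s ∈ (E.S : Subgroup G), ∃ x, s = psl x ∨ s = E.t * psl x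
  S_fld : ∀ (σ : Γ), ∀ s ∈ (E.S : Subgroup G), Commute (fld σ) s

attribute [instance] Frame.field Frame.fintype Frame.decEq

variable {G : Type u} [Group G] [Finite G] {E : Setup G}

/-- The field size. -/
def Frame.q (R : Frame E) : ℕ := Fintype.card R.F

/-- The order of the field part. -/
noncomputable def Frame.f (R : Frame E) : ℕ := Nat.card R.Γ

/-- A prime dividing `q - 1` but no `p ^ m - 1` for a proper exponent `m`. -/
def Frame.Primitive (R : Frame E) (p s : ℕ) : Prop :=
  s.Prime ∧ s ∣ R.q - 1 ∧ ∀ m, 0 < m → p ^ m < R.q → ¬ s ∣ p ^ m - 1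

/-- No element of order `s` inverted by `t` commutes with an element of order `s` of `C(t)`. -/
def Frame.GoodTorus (R : Frame E) (s : ℕ) : Prop :=
  ∀ y ∈ E.H, orderOf y = s → ∀ z : G, orderOf z = s → Commute z y → E.t * z * E.t = z⁻¹ → False

/-- Piece G: primitive torus primes are good, characteristic three with field part of order divisible
by three. -/
def GoodGoal : Prop :=
  ∀ (G : Type u) [Group G] [Finite G] (E : Setup G), Local E → E.W = ⊥ → ∀ R : Frame E,
    R.q % 8 = 3 → CharP R.F 3 → 3 ∣ R.f → ∀ s, R.Primitive 3 s → R.GoodTorus s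

/-- Piece B: no field automorphism of order three in characteristic three. -/
def BorelGoal : Prop :=
  ∀ (G : Type u) [Group G] [Finite G] (E : Setup G), Local E → E.W = ⊥ → ∀ R : Frame E,
    CharP R.F 3 → ¬ 3 ∣ R.f

/-- Smaller configurations satisfy the theorem. -/
def SmallField (G : Type u) [Group G] : Prop :=
  ∀ (X : Type u) [Group X] [Finite X] (E : Setup X), Nat.card X < Nat.card G →
    ∃ (F : Type) (_ : Field F) (_ : Fintype F), 3 ≤ Fintype.card F ∧
      Nonempty (centralizer ({E.t} : Set X) ≃*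
        Multiplicative (ZMod 2) × Matrix.ProjectiveSpecialLinearGroup (Fin 2) F) ∧
      ((∃ m : ℕ, 1 ≤ m ∧ Fintype.card F = 3 ^ (2 * m + 1) ∧
          Nat.card X = (3 ^ (2 * m + 1)) ^ 3 * ((3 ^ (2 * m + 1)) ^ 3 + 1) * (3 ^ (2 * m + 1) - 1)) ∨
        ((Fintype.card F = 4 ∨ Fintype.card F = 5) ∧ Cfsg.IsJ1 X))

/-- The theorem, with the induction hypothesis. -/
def Goal : Prop :=
  ∀ (G : Type u) [Group G] [Finite G] (E : Setup G), Local E → E.W = ⊥ → SmallField G →
    ∀ R : Frame E, R.f = 1

end CfsgLib.Walter.Twist
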