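import Cfsg.Agent.Lib.Characters.Basic
import Mathlib.GroupTheory.FiniteAbelian.Duality
import Mathlib.LinearAlgebra.Trace
import Mathlib.Analysis.Complex.Polynomial.Basic
import Mathlib.RingTheory.RootsOfUnity.AlgebraicallyClosed

/-!
Walter, rank three, case D: Fourier coefficients of a character on a coset of an abelian subgroup, and
the case of multiplicity at most one.
-/

set_option autoImplicit false
set_option linter.unusedSectionVars false

namespace CfsgLib.Walter.Twist.YB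

open Cfsg CfsgLib.Characters
open scoped ComplexConjugate

variable {Y : Type*} [Group Y] {A : Type*} [CommGroup A] [Fintype A]

/-- The Fourier coefficient of `χ` on the coset of `g`. -/
noncomputable def coef (χ : Y → ℂ) (ι : A →* Y) (θ : A →* ℂˣ) (g : Y) : ℂ :=
  (Fintype.card A : ℂ)⁻¹ * ∑ a, ((θ a⁻¹ : ℂˣ) : ℂ) * χ (ι a * g)

theorem dual_sum_eq_zero {θ : A →* ℂˣ} (h : θ ≠ 1) : ∑ a, ((θ a : ℂˣ) : ℂ) = 0 := by
  obtain ⟨b, hb⟩ : ∃ b, θ b ≠ 1 := by
    by_contra h'
    push Not at h'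
    exact h (MonoidHom.ext h')
  have h1 : ((θ b : ℂˣ) : ℂ) * ∑ a, ((θ a : ℂˣ) : ℂ) = ∑ a, ((θ a : ℂˣ) : ℂ) := by
    rw [Finset.mul_sum]
    conv_rhs => rw [← Equiv.sum_comp (Equiv.mulLeft b)]
    simp
  exact eq_zero_of_mul_eq_self_left (fun e => hb (Units.ext e)) h1

instance : Finite (A →* ℂˣ) := Nat.finite_of_card_ne_zero (by
  rw [CommGroup.card_monoidHom_of_hasEnoughRootsOfUnity]; exact Nat.card_pos.ne')

theorem sum_dual [Fintype (A →* ℂˣ)] [DecidableEq A] (x : A) :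
    ∑ θ : A →* ℂˣ, ((θ x : ℂˣ) : ℂ) = if x = 1 then (Fintype.card A : ℂ) else 0 := by
  split_ifs with hx
  · subst hx
    simp only [map_one, Units.val_one, Finset.sum_const, Finset.card_univ, nsmul_eq_mul, mul_one]
    rw [← Nat.card_eq_fintype_card, CommGroup.card_monoidHom_of_hasEnoughRootsOfUnity,
      Nat.card_eq_fintype_card]
  · obtain ⟨φ, hφ⟩ := CommGroup.exists_apply_ne_one_of_hasEnoughRootsOfUnity A ℂ hx
    have h1 : ((φ x : ℂˣ) : ℂ) * ∑ θ : A →* ℂˣ, ((θ x : ℂˣ) : ℂ) = ∑ θ : A →* ℂˣ, ((θ x : ℂˣ) : ℂ) := by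
      rw [Finset.mul_sum]
      conv_rhs => rw [← Equiv.sum_comp (Equiv.mulLeft φ)]
      simp
    exact eq_zero_of_mul_eq_self_left (fun e => hφ (Units.ext e)) h1

/-- Fourier inversion. -/
theorem sum_coef [Fintype (A →* ℂˣ)] (χ : Y → ℂ) (ι : A →* Y) (b : A) (g : Y) :
    ∑ θ : A →* ℂˣ, ((θ b : ℂˣ) : ℂ) * coef χ ι θ g = χ (ι b * g) := by
  classical
  have hc : (Fintype.card A : ℂ) ≠ 0 := Nat.cast_ne_zero.2 Fintype.card_ne_zero
  simp only [coef, Finset.mul_sum]
  rw [Finset.sum_comm, Finset.sum_eq_single b]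
  · rw [Finset.sum_congr rfl fun θ _ => show _ = (Fintype.card A : ℂ)⁻¹ * χ (ι b * g) by
      rw [map_inv, Units.val_inv_eq_inv_val]; field_simp]
    rw [Finset.sum_const, Finset.card_univ, nsmul_eq_mul, ← Nat.card_eq_fintype_card,
      CommGroup.card_monoidHom_of_hasEnoughRootsOfUnity, Nat.card_eq_fintype_card, ← mul_assoc,
      mul_inv_cancel₀ hc, one_mul]
  · intro a _ ha
    rw [Finset.sum_congr rfl fun θ _ => show _ = ((θ (b * a⁻¹) : ℂˣ) : ℂ) *
      ((Fintype.card A : ℂ)⁻¹ * χ (ι a * g)) by rw [map_mul, Units.val_mul]; ring,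
      ← Finset.sum_mul, sum_dual, if_neg (fun e => ha (mul_inv_eq_one.1 e).symm), zero_mul]
  · simp

/-- A coefficient vanishes unless the linear character is fixed. -/
theorem coef_eq_zero_of_moved {χ : Y → ℂ} (hχ : IsClassFunction Y χ) {ι : A →* Y}
    {θ : A →* ℂˣ} {g : Y} {τ : A →* A} (hg : ∀ a, g * ι a * g⁻¹ = ι (τ a))
    (h : ∃ a, θ (τ a) ≠ θ a) : coef χ ι θ g = 0 := by
  obtain ⟨b, hb⟩ := h
  set k := b * (τ b)⁻¹ with hk
  have hstep : ∀ a, χ (ι (a * k) * g) = χ (ι a * g) := fun a => by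
    rw [← hχ (ι a * g) (ι b)]
    congr 1
    rw [hk, show a * (b * (τ b)⁻¹) = b * a * τ b⁻¹ by rw [map_inv]; group; rw [mul_comm a b],
      map_mul, map_mul, ← hg, map_inv]
    group
  have h1 : coef χ ι θ g = ((θ k⁻¹ : ℂˣ) : ℂ) * coef χ ι θ g := by
    unfold coef
    conv_lhs => rw [← Equiv.sum_comp (Equiv.mulRight k)]
    rw [mul_left_comm, Finset.mul_sum (a := ((θ k⁻¹ : ℂˣ) : ℂ))]
    refine congrArg _ (Finset.sum_congr rfl fun a _ => ?_)
    simp only [Equiv.coe_mulRight]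
    rw [hstep]
    simp only [mul_inv_rev, map_mul, Units.val_mul]
    ring
  refine eq_zero_of_mul_eq_self_left (fun e => hb ?_) h1.symm
  have e' : θ k⁻¹ = 1 := Units.ext e
  rw [hk, mul_inv_rev, inv_inv, map_mul, map_inv, mul_inv_eq_one] at e'
  exact e'

section Rep

variable [Finite Y] {n : ℕ} (ρ : Representation ℂ Y (Fin n → ℂ)) (ι : A →* Y) (θ : A →* ℂˣ)

/-- The projection onto the `θ`-part. -/
noncomputable def part : Module.End ℂ (Fin n → ℂ) :=
  (Fintype.card A : ℂ)⁻¹ • ∑ a, ((θ a⁻¹ : ℂˣ) : ℂ) • ρ (ι a)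

theorem trace_part (g : Y) :
    LinearMap.trace ℂ _ (part ρ ι θ * ρ g) = coef ρ.character ι θ g := by
  simp [part, coef, Representation.character, Finset.sum_mul, map_mul, Algebra.smul_mul_assoc]

theorem mul_part (b : A) : ρ (ι b) * part ρ ι θ = ((θ b : ℂˣ) : ℂ) • part ρ ι θ := by
  rw [part, mul_smul_comm, smul_comm]
  congr 1
  rw [Finset.mul_sum, Finset.smul_sum]
  conv_rhs => rw [← Equiv.sum_comp (Equiv.mulLeft b)]
  refine Finset.sum_congr rfl fun a _ => ?_
  rw [mul_smul_comm, ← map_mul, ← map_mul, smul_smul, ← Units.val_mul, ← map_mul]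
  simp

theorem part_idem : part ρ ι θ * part ρ ι θ = part ρ ι θ := by
  conv_lhs => arg 1; unfold part
  rw [smul_mul_assoc, Finset.sum_mul, Finset.sum_congr rfl fun a _ => show _ = part ρ ι θ by
    rw [smul_mul_assoc, mul_part, smul_smul, ← Units.val_mul, ← map_mul, inv_mul_cancel, map_one,
      Units.val_one, one_smul],
    Finset.sum_const, Finset.card_univ, ← Nat.cast_smul_eq_nsmul ℂ, smul_smul,
    inv_mul_cancel₀ (Nat.cast_ne_zero.2 Fintype.card_ne_zero), one_smul]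

theorem part_commute {g : Y} (hι : Function.Injective ι) {τ : A → A}
    (hg : ∀ a, g * ι a * g⁻¹ = ι (τ a)) (hθ : ∀ a, θ (τ a) = θ a) :
    ρ g * part ρ ι θ = part ρ ι θ * ρ g := by
  have hτ : Function.Bijective τ := Finite.injective_iff_bijective.1 fun a b e => hι (by
    have h1 := (hg a).trans ((congrArg ι e).trans (hg b).symm)
    exact mul_left_cancel (mul_right_cancel h1))
  rw [part, mul_smul_comm, smul_mul_assoc, Finset.mul_sum, Finset.sum_mul]
  congr 1
  refine Fintype.sum_bijective τ hτ _ _ fun a => ?_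
  rw [mul_smul_comm, smul_mul_assoc, map_inv θ (τ a), hθ, ← map_inv θ, ← map_mul, ← map_mul, ← hg a,
    inv_mul_cancel_right]

/-- For multiplicity one an element fixing `θ` acts on its part by a scalar. -/
theorem part_mul_eq_smul {g : Y} (hι : Function.Injective ι) {τ : A → A}
    (hg : ∀ a, g * ι a * g⁻¹ = ι (τ a)) (hθ : ∀ a, θ (τ a) = θ a)
    (h1 : coef ρ.character ι θ 1 = 1) :
    part ρ ι θ * ρ g = coef ρ.character ι θ g • part ρ ι θ := by
  set e := part ρ ι θ with he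
  have hidem : IsIdempotentElem e := part_idem ρ ι θ
  have hp : LinearMap.IsProj (LinearMap.range e) e :=
    LinearMap.isProj_range_iff_isIdempotentElem e |>.2 hidem
  have htr : LinearMap.trace ℂ _ e = 1 := by
    rw [← h1, ← trace_part ρ ι θ 1, map_one, mul_one]
  have hd : Module.finrank ℂ (LinearMap.range e) = 1 := by
    have := hp.trace
    rw [htr] at this
    exact_mod_cast this.symm
  obtain ⟨⟨v, hvm⟩, hv0, hv⟩ := finrank_eq_one_iff'.1 hd
  have hev : e v = v := hp.map_id v hvm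
  have hspan : ∀ x, ∃ c : ℂ, e x = c • v := fun x => by
    obtain ⟨c, hc⟩ := hv ⟨e x, LinearMap.mem_range_self e x⟩
    exact ⟨c, (congrArg Subtype.val hc).symm⟩
  obtain ⟨c, hc⟩ := hspan (ρ g v)
  have hcomm : ∀ x, ρ g (e x) = e (ρ g x) := fun x =>
    LinearMap.congr_fun (part_commute ρ ι θ hι hg hθ) x
  have hgv : ρ g v = c • v := by
    rw [← hc, ← hcomm, hev]
  have key : e * ρ g = c • e := by
    refine LinearMap.ext fun x => ?_
    obtain ⟨k, hk⟩ := hspan x
    show e (ρ g x) = c • e x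
    rw [← hcomm, hk, map_smul, hgv, smul_comm]
  have : coef ρ.character ι θ g = c := by
    rw [← trace_part ρ ι θ g, ← he, key, map_smul, htr, smul_eq_mul, mul_one]
  rw [this, key]

end Rep

variable [Finite Y] {χ : Y → ℂ} {ι : A →* Y} {θ : A →* ℂˣ}

/-- No multiplicity, no coefficient. -/
theorem coef_eq_zero_of_one (hχ : IsCharacter Y χ) (h : coef χ ι θ 1 = 0) (g : Y) :
    coef χ ι θ g = 0 := by
  obtain ⟨n, ρ, rfl⟩ := hχ
  have he : part ρ ι θ = 0 := (LinearMap.IsIdempotentElem.trace_eq_zero_iff (part_idem ρ ι θ)).1 (by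
    rw [← mul_one (part ρ ι θ), ← map_one ρ, trace_part, h])
  rw [← trace_part ρ ι θ g, he, zero_mul, map_zero]

/-- Multiplicity one: the coefficient is multiplicative. -/
theorem coef_mul (hχ : IsCharacter Y χ) (hι : Function.Injective ι) (h1 : coef χ ι θ 1 = 1)
    {g : Y} {τ : A → A} (hg : ∀ a, g * ι a * g⁻¹ = ι (τ a)) (hθ : ∀ a, θ (τ a) = θ a) (h : Y) :
    coef χ ι θ (g * h) = coef χ ι θ g * coef χ ι θ h := by
  obtain ⟨n, ρ, rfl⟩ := hχ
  rw [← trace_part ρ ι θ (g * h), map_mul ρ, ← mul_assoc, part_mul_eq_smul ρ ι θ hι hg hθ h1,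
    smul_mul_assoc, map_smul, trace_part, smul_eq_mul]

theorem coef_pow (hχ : IsCharacter Y χ) (hι : Function.Injective ι) (h1 : coef χ ι θ 1 = 1)
    {g : Y} {τ : A → A} (hg : ∀ a, g * ι a * g⁻¹ = ι (τ a)) (hθ : ∀ a, θ (τ a) = θ a) :
    ∀ m : ℕ, coef χ ι θ (g ^ m) = coef χ ι θ g ^ m
  | 0 => by rw [pow_zero, pow_zero, h1]
  | m + 1 => by
    rw [pow_succ', coef_mul hχ hι h1 hg hθ, coef_pow hχ hι h1 hg hθ m, pow_succ']

/-- Multiplicity one: the coefficient is a root of unity. -/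
theorem norm_coef (hχ : IsCharacter Y χ) (hι : Function.Injective ι) (h1 : coef χ ι θ 1 = 1)
    {g : Y} {τ : A → A} (hg : ∀ a, g * ι a * g⁻¹ = ι (τ a)) (hθ : ∀ a, θ (τ a) = θ a) :
    ‖coef χ ι θ g‖ = 1 := by
  refine Complex.norm_eq_one_of_pow_eq_one ?_ (orderOf_pos g).ne'
  rw [← coef_pow hχ hι h1 hg hθ, pow_orderOf_eq_one, h1]

/-- As many fixed linear characters as fixed elements. -/
theorem card_fixed_dual (τ : A →* A) :
    Nat.card {θ : A →* ℂˣ // ∀ a, θ (τ a) = θ a} = Nat.card {a : A // τ a = a} := by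
  let d : A →* A :=
    { toFun := fun a => a * (τ a)⁻¹
      map_one' := by simp
      map_mul' := fun a b => by rw [map_mul, mul_inv, mul_mul_mul_comm] }
  have e1 : {a : A // τ a = a} ≃ d.ker := Equiv.subtypeEquivRight fun a => by
    rw [MonoidHom.mem_ker]
    show _ ↔ a * (τ a)⁻¹ = 1
    rw [mul_inv_eq_one, eq_comm]
  have e2 : {θ : A →* ℂˣ // ∀ a, θ (τ a) = θ a} ≃ ((A ⧸ d.range) →* ℂˣ) :=
    { toFun := fun θ => QuotientGroup.lift d.range θ.1 (by
        rintro _ ⟨a, rfl⟩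
        show θ.1 (a * (τ a)⁻¹) = 1
        rw [map_mul, map_inv, θ.2 a, mul_inv_cancel])
      invFun := fun φ => ⟨φ.comp (QuotientGroup.mk' d.range), fun a => by
        show φ (QuotientGroup.mk (τ a)) = φ (QuotientGroup.mk a)
        congr 1
        rw [QuotientGroup.eq]
        exact ⟨a, mul_comm _ _⟩⟩
      left_inv := fun θ => Subtype.ext (MonoidHom.ext fun a => rfl)
      right_inv := fun φ => QuotientGroup.monoidHom_ext _ (MonoidHom.ext fun a => rfl) }
  rw [Nat.card_congr e2, CommGroup.card_monoidHom_of_hasEnoughRootsOfUnity, Nat.card_congr e1]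
  have h1 := d.range.card_eq_card_quotient_mul_card_subgroup
  have h2 := d.ker.card_eq_card_quotient_mul_card_subgroup
  rw [Nat.card_congr (QuotientGroup.quotientKerEquivRange d).toEquiv, h1,
    mul_comm (Nat.card d.range)] at h2
  exact Nat.eq_of_mul_eq_mul_right Nat.card_pos h2

end CfsgLib.Walter.Twist.YB
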