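import Cfsg.Agent.Lib.Walter.Twist.CaseDefs
import Cfsg.Agent.Lib.Walter.Twist.FixedBasic
import Cfsg.Agent.Lib.ReeOrder.PslFacts
import Mathlib.GroupTheory.FiniteAbelian.Duality

/-!
Walter, the field part, case D, exceptional functions: the split torus fixed by the field part, its
centraliser `⟨t⟩ × T Γ` in the group, the inverting involution and an invariant linear character.
-/

set_option autoImplicit false
set_option linter.unusedSectionVars false
set_option linter.style.haveILetI false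

namespace CfsgLib.Walter.Twist.Except

open Subgroup CfsgLib.AutPSL

universe u

variable {G : Type u} [Group G] [Finite G] {E : Setup G} (R : Frame E)

local notation "PSLF" => Matrix.ProjectiveSpecialLinearGroup (Fin 2) R.F

/-- The torus of `a`. -/
abbrev torus (a : PSLF) : Subgroup PSLF := centralizer ({a} : Set PSLF)

/-- A torus element fixed by the field part, its inverter, and an invariant linear character. -/
structure Data where
  /-- the torus element -/
  a : PSLF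
  /-- the inverter -/
  w : PSLF
  /-- the linear character of the torus -/
  μ : torus R a →* ℂˣ
  q8 : R.q % 8 = 3
  prime : (orderOf a).Prime
  two_lt : 2 < orderOf a
  coprime : (orderOf a).Coprime (2 * R.f)
  fix : ∀ σ : R.Γ, fieldAut (σ : R.F ≃+* R.F) a = a
  cent_le : centralizer ({R.psl a} : Set G) ≤ E.H
  card_torus : Nat.card (torus R a) = (R.q - 1) / 2
  cyclic : IsCyclic (torus R a)
  w_two : w * w = 1
  w_inv : ∀ x ∈ torus R a, w * x * w⁻¹ = x⁻¹
  norm : ∀ n : PSLF, n * a * n⁻¹ ∈ zpowers a → n ∈ torus R a ∨ w * n ∈ torus R a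
  μ_a : μ ⟨a, mem_centralizer_singleton_iff.2 rfl⟩ ≠ 1
  μ_fix : ∀ (σ : R.Γ) (x x' : torus R a), (x' : PSLF) = fieldAut (σ : R.F ≃+* R.F) x → μ x' = μ x
  μ_pow : ∀ x, ∃ k : ℕ, μ x ^ (orderOf a ^ k) = 1

theorem exists_inverter {a : PSLF} {C : Subgroup PSLF} (hC : CfsgLib.ReeOrder.Psl.IsTorus C)
    (hmem : ∀ h, Commute h a → h ∈ C) (haC : a ∈ C) (ha2 : a * a ≠ 1) (h2 : 2 < Nat.card C) :
    torus R a = C ∧ ∃ w : PSLF, w * w = 1 ∧ (∀ x ∈ C, w * x * w⁻¹ = x⁻¹) ∧
      ∀ n : PSLF, n * a * n⁻¹ ∈ zpowers a → n ∈ C ∨ w * n ∈ C := by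
  haveI := hC.cyclic
  have hcomm : ∀ x ∈ C, ∀ y ∈ C, Commute x y := fun x hx y hy =>
    congrArg Subtype.val (mul_comm' (⟨x, hx⟩ : C) ⟨y, hy⟩)
  obtain ⟨w, hw, -, hinv⟩ := hC.inverter
  refine ⟨le_antisymm (fun x hx => hmem x (mem_centralizer_singleton_iff.1 hx))
    (fun x hx => mem_centralizer_singleton_iff.2 (hcomm x hx a haC).eq),
    w, CfsgLib.ReeOrder.Psl.involution_mul_self hw, hinv, fun n hn => ?_⟩
  have hb : n * a * n⁻¹ ∈ C := zpowers_le.2 haC hn
  have hb2 : n * a * n⁻¹ * (n * a * n⁻¹) ≠ 1 := fun e => ha2 (by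
    rw [show n * a * n⁻¹ * (n * a * n⁻¹) = n * (a * a) * n⁻¹ by group, conj_eq_one_iff] at e
    exact e)
  have hnorm : ∀ c ∈ C, n * c * n⁻¹ ∈ C := fun c hc => by
    refine hC.cent _ hb hb2 _ ?_
    show n * c * n⁻¹ * (n * a * n⁻¹) = n * a * n⁻¹ * (n * c * n⁻¹)
    rw [show n * c * n⁻¹ * (n * a * n⁻¹) = n * (c * a) * n⁻¹ by group, (hcomm c hc a haC).eq]
    group
  by_cases hnC : n ∈ C
  · exact Or.inl hnC
  · right
    have hn2 := (hC.normalizer n hnorm h2).resolve_left hnC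
    have hinvn : n * a * n⁻¹ = a⁻¹ := by
      have h1 : n * a ∉ C := fun h => hnC (by
        have := mul_mem h (inv_mem haC); rwa [mul_inv_cancel_right] at this)
      have h2' := (hC.normalizer (n * a) (fun d hd => by
        rw [show n * a * d * (n * a)⁻¹ = n * (a * d * a⁻¹) * n⁻¹ by group]
        exact hnorm _ (mul_mem (mul_mem haC hd) (inv_mem haC))) h2).resolve_left h1
      rw [inv_eq_of_mul_eq_one_right hn2]
      exact eq_inv_of_mul_eq_one_left (by rw [mul_assoc (n * a) n a]; exact h2')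
    refine hmem _ (mul_inv_eq_iff_eq_mul.1 ?_)
    rw [show w * n * a * (w * n)⁻¹ = w * (n * a * n⁻¹) * w⁻¹ by group, hinvn,
      show w * a⁻¹ * w⁻¹ = (w * a * w⁻¹)⁻¹ by group, hinv a haC, inv_inv]

/-- An invariant linear character. -/
theorem exists_mu {a : PSLF} (hcyc : IsCyclic (torus R a)) (hs : (orderOf a).Prime)
    (hf : (orderOf a).Coprime R.f) (hfix : ∀ σ : R.Γ, fieldAut (σ : R.F ≃+* R.F) a = a) :
    ∃ μ : torus R a →* ℂˣ, μ ⟨a, mem_centralizer_singleton_iff.2 rfl⟩ ≠ 1 ∧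
      (∀ (σ : R.Γ) (x x' : torus R a), (x' : PSLF) = fieldAut (σ : R.F ≃+* R.F) x → μ x' = μ x) ∧
      ∀ x, ∃ k : ℕ, μ x ^ (orderOf a ^ k) = 1 := by
  classical
  haveI := hcyc
  letI : CommGroup (torus R a) := IsCyclic.commGroup
  set s := orderOf a with hsdef
  let a' : torus R a := ⟨a, mem_centralizer_singleton_iff.2 rfl⟩
  have ha' : orderOf a' = s := Subgroup.orderOf_mk a _
  obtain ⟨k, m, hm, hN⟩ := Nat.exists_eq_pow_mul_and_not_dvd
    (Nat.card_pos (α := torus R a)).ne' s hs.ne_one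
  -- elements of `s`-power order are fixed
  have hone : ∀ c : torus R a, c ^ s = 1 → ∀ σ : R.Γ, fieldAut (σ : R.F ≃+* R.F) (c : PSLF) = c := by
    intro c hc σ
    have hmem : c ∈ zpowers a' := by
      rcases eq_or_ne c 1 with rfl | hne
      · exact one_mem _
      have hle : zpowers a' ≤ (powMonoidHom s : torus R a →* torus R a).ker := zpowers_le.2
        (MonoidHom.mem_ker.2 (show a' ^ s = 1 from ha' ▸ pow_orderOf_eq_one a'))
      have heq := eq_of_le_of_card_ge hle (by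
        rw [IsCyclic.card_powMonoidHom_ker, Nat.card_zpowers, ha']
        exact Nat.le_of_dvd hs.pos (Nat.gcd_dvd_right _ _))
      exact heq ▸ MonoidHom.mem_ker.2 (show c ^ s = 1 from hc)
    obtain ⟨i, rfl⟩ := hmem
    rw [SubgroupClass.coe_zpow, map_zpow, hfix σ]
  have hfixed : ∀ (j : ℕ) (d : torus R a), d ^ s ^ j = 1 →
      ∀ σ : R.Γ, fieldAut (σ : R.F ≃+* R.F) (d : PSLF) = d := by
    intro j
    induction j with
    | zero => intro d hd σ; rw [pow_zero, pow_one] at hd; subst hd; simp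
    | succ j ih =>
      intro d hd σ
      have hds : fieldAut (σ : R.F ≃+* R.F) ((d ^ s : torus R a) : PSLF) = ((d ^ s : torus R a) : PSLF) :=
        ih (d ^ s) (by rw [← pow_mul, ← pow_succ', hd]) σ
      have hσd : fieldAut (σ : R.F ≃+* R.F) (d : PSLF) ∈ torus R a := by
        have h := mem_centralizer_singleton_iff.1 d.2
        refine mem_centralizer_singleton_iff.2 ?_
        calc fieldAut (σ : R.F ≃+* R.F) (d : PSLF) * a
            = fieldAut (σ : R.F ≃+* R.F) ((d : PSLF) * a) := by rw [map_mul, hfix σ]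
          _ = _ := by rw [h, map_mul, hfix σ]
      set c : torus R a := ⟨_, hσd⟩ * d⁻¹ with hc
      have hcs : c ^ s = 1 := by
        have e : (⟨_, hσd⟩ : torus R a) ^ s = d ^ s := Subtype.ext (by
          rw [SubgroupClass.coe_pow, SubgroupClass.coe_pow, ← map_pow, ← SubgroupClass.coe_pow]
          exact hds)
        rw [hc, mul_pow, inv_pow, e, mul_inv_cancel]
      have hcσ := hone c hcs σ
      have hpow : ∀ i : ℕ, fieldAut ((σ : R.F ≃+* R.F) ^ i) (d : PSLF) = (c : PSLF) ^ i * d := by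
        intro i
        induction i with
        | zero => simp
        | succ i ihi =>
          rw [pow_succ', map_mul, MulAut.mul_apply, ihi, map_mul, map_pow, hcσ, pow_succ, mul_assoc]
          congr 1
          rw [hc, Subgroup.coe_mul, Subgroup.coe_inv, inv_mul_cancel_right]
      have h1 := hpow R.f
      rw [show (σ : R.F ≃+* R.F) ^ R.f = 1 by
          rw [← SubgroupClass.coe_pow, show σ ^ R.f = 1 from pow_card_eq_one', OneMemClass.coe_one],
        map_one, MulAut.one_apply] at h1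
      have hcf : c ^ R.f = 1 := Subtype.ext (by
        rw [SubgroupClass.coe_pow, OneMemClass.coe_one]
        exact mul_eq_right.1 h1.symm)
      have hc1 : c = 1 := orderOf_eq_one_iff.1 (Nat.eq_one_of_dvd_coprimes hf
        (orderOf_dvd_of_pow_eq_one hcs) (orderOf_dvd_of_pow_eq_one hcf))
      rw [hc, mul_inv_eq_one] at hc1
      exact congrArg Subtype.val hc1
  have ha1 : a' ^ m ≠ 1 := fun e => hm (ha' ▸ orderOf_dvd_of_pow_eq_one e)
  obtain ⟨χ, hχ⟩ := CommGroup.exists_apply_ne_one_of_hasEnoughRootsOfUnity (torus R a) ℂ ha1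
  refine ⟨χ.comp (powMonoidHom m), hχ, fun σ x x' he => ?_, fun x => ⟨k, ?_⟩⟩
  · show χ (x' ^ m) = χ (x ^ m)
    refine congrArg χ (Subtype.ext ?_)
    rw [SubgroupClass.coe_pow, he, ← map_pow, ← SubgroupClass.coe_pow]
    exact hfixed k _ (by rw [← pow_mul, mul_comm, ← hN, pow_card_eq_one']) σ
  · show χ (x ^ m) ^ s ^ k = 1
    rw [← map_pow, ← pow_mul, mul_comm, ← hN, pow_card_eq_one', map_one]

theorem q_facts (hchar : CharP R.F 3) : R.q % 8 = 3 ∧ 27 ≤ R.q := by
  haveI := hchar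
  obtain ⟨h1, h11⟩ := FixedT.q_mod_three R
  refine ⟨h1, ?_⟩
  obtain ⟨n, -, hn⟩ := FiniteField.card R.F 3
  show 27 ≤ Fintype.card R.F
  rw [hn] at h11 ⊢
  rcases Nat.lt_or_ge (n : ℕ) 3 with h | h
  · interval_cases hh : (n : ℕ) <;> norm_num at h11
  · exact le_trans (by norm_num) (Nat.pow_le_pow_right (by norm_num) h)

/-- Case D supplies the data. -/
theorem exists_data (D : CaseD R) : Nonempty (Data R) := by
  classical
  obtain ⟨h8, h27⟩ := q_facts R D.char_three
  obtain ⟨y, hyH, hs, hs2, hsq, hcom, hcent⟩ := D.fixed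
  set s := orderOf y with hsdef
  have h3 : 2 < s := lt_of_le_of_ne hs.two_le (Ne.symm hs2)
  have hodd : Odd s := hs.odd_of_ne_two hs2
  obtain ⟨a, τ, rfl⟩ := FixedT.odd_form R hyH hodd
  have hnf : ¬ s ∣ R.f := fun h => by
    obtain ⟨-, hR, -⟩ := D.prime_dvd s hs h
    have hq1 : R.q ≡ 1 [MOD s] := ((Nat.modEq_iff_dvd' (by omega)).2 hsq).symm
    have h2 : R.q ^ 2 - R.q + 1 ≡ 1 [MOD s] := by
      have e : R.q ^ 2 - R.q + 1 = R.q * (R.q - 1) + 1 := by rw [pow_two, Nat.mul_sub_one]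
      rw [e]
      simpa using ((Nat.modEq_zero_iff_dvd.2 hsq).mul_left R.q).add_right 1
    exact hs.not_dvd_one ((h2.dvd_iff dvd_rfl).1 hR)
  have hco : s.Coprime R.f := hs.coprime_iff_not_dvd.2 hnf
  have hτ : τ = 1 := by
    obtain ⟨z, hz⟩ := FixedT.comb_pow R a τ s
    rw [show (R.psl a * R.fld τ) ^ s = 1 from pow_orderOf_eq_one _] at hz
    exact orderOf_eq_one_iff.1 (Nat.eq_one_of_dvd_coprimes hco
      (orderOf_dvd_of_pow_eq_one (R.eq_one _ _ hz.symm).2) (orderOf_dvd_natCard τ))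
  subst hτ
  simp only [map_one, mul_one] at hcom hcent hsdef
  rw [FixedT.orderOf_psl] at hsdef
  have hfix : ∀ σ : R.Γ, fieldAut (σ : R.F ≃+* R.F) a = a := fun σ =>
    (FixedT.commute_fld_psl R).1 (hcom σ)
  have h8' : Fintype.card R.F % 8 = 3 ∨ Fintype.card R.F % 8 = 5 := Or.inl h8
  have h11 : 11 ≤ Fintype.card R.F := le_trans (by norm_num) h27
  have ha1 : a ≠ 1 := fun e => by rw [e, orderOf_one] at hsdef; omega
  have hJ : CfsgLib.ReeOrder.oddTorus (Fintype.card R.F) = (R.q - 1) / 2 := by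
    rcases CfsgLib.ReeOrder.torus_orders (q := Fintype.card R.F) h8' with ⟨h, -⟩ | ⟨h, h'⟩
    · exact h.symm
    · exfalso
      have : (R.q - 1) / 2 = 2 * CfsgLib.ReeOrder.coTorus (Fintype.card R.F) := h
      omega
  have hd : orderOf a ∣ CfsgLib.ReeOrder.oddTorus (Fintype.card R.F) := by
    rw [hJ, ← hsdef]
    exact (Nat.coprime_two_right.2 hodd).dvd_of_dvd_mul_left (by
      rwa [show 2 * ((R.q - 1) / 2) = R.q - 1 by omega])
  obtain ⟨C, hC, haC, hcard, hmem⟩ := CfsgLib.ReeOrder.Psl.exists_torus_odd h8' h11 ha1 hd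
  have ha2 : a * a ≠ 1 := fun e => by
    have : orderOf a ∣ 2 := orderOf_dvd_of_pow_eq_one (by rw [pow_two, e])
    have := Nat.le_of_dvd (by norm_num) this
    omega
  obtain ⟨hT, w, hw, hinv, hnorm⟩ := exists_inverter R hC hmem haC ha2 (by rw [hcard, hJ]; omega)
  have hcyc : IsCyclic (torus R a) := by rw [hT]; exact hC.cyclic
  obtain ⟨μ, hμa, hμfix, hμpow⟩ := exists_mu R hcyc (hsdef ▸ hs) (hsdef ▸ hco) hfix
  exact ⟨{
    a := a, w := w, μ := μ, q8 := h8
    prime := hsdef ▸ hs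
    two_lt := hsdef ▸ h3
    coprime := hsdef ▸ Nat.Coprime.mul_right (Nat.coprime_two_right.2 hodd) hco
    fix := hfix
    cent_le := hcent
    card_torus := by rw [hT, hcard, hJ]
    cyclic := hcyc
    w_two := hw
    w_inv := fun x hx => hinv x (hT ▸ hx)
    norm := fun n hn => by rw [hT]; exact hnorm n hn
    μ_a := hμa, μ_fix := hμfix, μ_pow := hμpow }⟩

end CfsgLib.Walter.Twist.Except
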