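import Cfsg.Agent.Lib.Walter.Twist.ExceptGroup
import Cfsg.Agent.Lib.Characters.Induction
import Cfsg.Agent.Lib.Characters.Generalized
import Cfsg.Agent.Lib.Characters.Decomp
import Cfsg.Agent.Lib.InvChar.InvolutionCount
import Cfsg.Agent.Lib.BSW.ClassSum
import Cfsg.Agent.Lib.Chars17.IrrBasic
import Cfsg.Agent.Lib.ReeOrder.Nums

/-!
Walter, the field part, case D, piece X4a: the two exceptional functions of a linear character of the field
part.  For `D : Except.Data R`, `lam : R.Γ →* ℂˣ` and a sign `s` (`false` for `+`), `D.psi s lam` is induced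
from `C(y) = ⟨t⟩ × T Γ`, from `ξ lam (1 - μ)`.
-/

set_option autoImplicit false
set_option linter.unusedSectionVars false
set_option linter.style.haveILetI false

namespace CfsgLib.Walter.Twist.Except.Data

open Cfsg CfsgLib.Characters CfsgLib.Induction CfsgLib.InvChar CfsgLib.Involutions CfsgLib.AutPSL Subgroup
open scoped ComplexConjugate Classical

universe u

variable {G : Type u} [Group G] [Fintype G] {E : Setup G} {R : Frame E} (D : Data R)

/-- The field part as a finite type. -/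
@[reducible] noncomputable def fintypeΓ (R : Frame E) : Fintype R.Γ := Fintype.ofFinite _

attribute [local instance] fintypeΓ

/-- The sign character of `⟨t⟩`. -/
def sgn (s e : Bool) : ℂˣ := if s && e then -1 else 1

theorem sgn_xor (s e e' : Bool) : sgn s (xor e e') = sgn s e * sgn s e' := by
  cases s <;> cases e <;> cases e' <;> simp [sgn]

theorem sgn_false (e : Bool) : sgn false e = 1 := rfl

theorem sgn_at_false (s : Bool) : sgn s false = 1 := by cases s <;> rfl

theorem conj_unit {X : Type*} [Group X] [Finite X] (f : X →* ℂˣ) (x : X) :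
    conj ((f x : ℂˣ) : ℂ) = ((f x : ℂˣ) : ℂ)⁻¹ := by
  refine (Complex.inv_eq_conj ?_).symm
  exact Complex.norm_eq_one_of_pow_eq_one (n := Nat.card X) (by
    rw [← Units.val_pow_eq_pow_val, ← map_pow, pow_card_eq_one', map_one, Units.val_one]) Nat.card_pos.ne'

theorem sum_hom {X : Type*} [Group X] [Fintype X] (f : X →* ℂˣ) :
    ∑ x : X, ((f x : ℂˣ) : ℂ) = if f = 1 then (Nat.card X : ℂ) else 0 := by
  have h := sum_hom_units ((Units.coeHom ℂ).comp f)
  simp only [MonoidHom.coe_comp, Function.comp_apply, Units.coeHom_apply] at h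
  rw [h, Nat.card_eq_fintype_card]
  have hiff : (Units.coeHom ℂ).comp f = 1 ↔ f = 1 := by
    refine ⟨fun e => MonoidHom.ext fun x => Units.ext ?_, fun e => by rw [e]; exact MonoidHom.ext fun _ => rfl⟩
    have := DFunLike.congr_fun e x
    simpa using this
  simp only [hiff]
  split_ifs <;> simp

/-- Coordinates of an element of the centraliser. -/
noncomputable def crd (u : D.W) : Bool × torus R D.a × R.Γ := D.ptEquiv.symm u

theorem crd_pt (p : Bool × torus R D.a × R.Γ) : D.crd (D.pt p) = p := D.ptEquiv.symm_apply_apply p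

theorem sum_W (f : D.W → ℂ) :
    ∑ u : D.W, f u = ∑ e : Bool, ∑ x : torus R D.a, ∑ σ : R.Γ, f (D.pt (e, x, σ)) := by
  rw [← D.ptEquiv.sum_comp, Fintype.sum_prod_type]
  exact Finset.sum_congr rfl fun e _ => by rw [Fintype.sum_prod_type]; rfl

/-- The linear characters of the centraliser. -/
noncomputable def lin (s : Bool) (b : Bool) (lam : R.Γ →* ℂˣ) : D.W →* ℂˣ where
  toFun u := sgn s (D.crd u).1 * (cond b (D.μ (D.crd u).2.1) 1 * lam (D.crd u).2.2)
  map_one' := by
    have h : D.crd 1 = (false, 1, 1) := by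
      rw [show (1 : D.W) = D.pt (false, 1, 1) from Subtype.ext (hel_one (R := R)).symm, crd_pt]
    rw [h]
    cases b <;> simp [sgn_at_false]
  map_mul' u v := by
    obtain ⟨p, rfl⟩ := D.exists_pt u
    obtain ⟨q, rfl⟩ := D.exists_pt v
    rw [pt_mul, crd_pt, crd_pt, crd_pt, sgn_xor, map_mul lam]
    cases b
    · simp [mul_assoc, mul_left_comm]
    · simp [map_mul, D.μ_act, mul_assoc, mul_left_comm]

theorem lin_pt (s b : Bool) (lam : R.Γ →* ℂˣ) (e : Bool) (x : torus R D.a) (σ : R.Γ) :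
    D.lin s b lam (D.pt (e, x, σ)) = sgn s e * (cond b (D.μ x) 1 * lam σ) := by
  show sgn s (D.crd (D.pt (e, x, σ))).1 * _ = _
  rw [crd_pt]

/-- `ξ lam (1 - μ)` on the centraliser. -/
noncomputable def phi (s : Bool) (lam : R.Γ →* ℂˣ) : D.W → ℂ :=
  fun u => (D.lin s false lam u : ℂ) - (D.lin s true lam u : ℂ)

/-- The exceptional function. -/
noncomputable def psi (s : Bool) (lam : R.Γ →* ℂˣ) : G → ℂ := indFun D.W (D.phi s lam)

theorem phi_pt (s : Bool) (lam : R.Γ →* ℂˣ) (e : Bool) (x : torus R D.a) (σ : R.Γ) :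
    D.phi s lam (D.pt (e, x, σ)) = (sgn s e : ℂ) * (lam σ : ℂ) * (1 - (D.μ x : ℂ)) := by
  simp only [phi, lin_pt, cond_true, cond_false, Units.val_mul, Units.val_one]
  ring

theorem psi_class (s : Bool) (lam : R.Γ →* ℂˣ) : IsClassFunction G (D.psi s lam) :=
  isClassFunction_indFun _ _

theorem psi_gen (s : Bool) (lam : R.Γ →* ℂˣ) : IsGeneralizedCharacter G (D.psi s lam) :=
  ⟨indFun D.W (fun u => (D.lin s false lam u : ℂ)), indFun D.W (fun u => (D.lin s true lam u : ℂ)),
    isCharacter_indFun _ (isCharacter_of_irr (isIrrCharacter_of_hom _)),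
    isCharacter_indFun _ (isCharacter_of_irr (isIrrCharacter_of_hom _)),
    by rw [psi, ← indFun_sub]; rfl⟩

theorem phi_conj (s : Bool) (lam : R.Γ →* ℂˣ) (v k : D.W) : D.phi s lam (v⁻¹ * k * v) = D.phi s lam k := by
  simp only [phi, map_mul, map_inv, inv_mul_cancel_comm]

theorem phi_conjW (s : Bool) (lam : R.Γ →* ℂˣ) (e : Bool) (x : torus R D.a) (σ : R.Γ) :
    D.phi s lam (D.conjW (D.pt (e, x, σ))) = (sgn s e : ℂ) * (lam σ : ℂ) * (1 - (D.μ x : ℂ)⁻¹) := by
  obtain ⟨z, hz, h⟩ := D.conjW_pt e x σ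
  let fldW : R.Γ →* D.W :=
    { toFun := fun τ => D.pt (false, 1, τ)
      map_one' := Subtype.ext (hel_one (R := R))
      map_mul' := fun τ τ' => by rw [pt_mul]; simp [D.act_one] }
  let ν : R.Γ →* ℂˣ := (D.lin false true 1).comp (D.conjW.comp fldW)
  have hν : ν σ = D.μ z := by
    show D.lin false true 1 (D.conjW (D.pt (false, 1, σ))) = _
    rw [hz, lin_pt]
    simp [sgn_at_false]
  have hz1 : D.μ z = 1 := by
    obtain ⟨k, hk⟩ := D.μ_pow z
    refine orderOf_eq_one_iff.1 (Nat.eq_one_of_dvd_coprimes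
      ((D.coprime.coprime_dvd_right (dvd_mul_left _ _)).pow_left k) (orderOf_dvd_of_pow_eq_one hk) ?_)
    rw [← hν]
    exact (orderOf_map_dvd ν σ).trans (orderOf_dvd_natCard σ)
  rw [h, phi_pt, map_mul, hz1, mul_one, map_inv, Units.val_inv_eq_inv_val]

theorem phi_eq_zero (s : Bool) (lam : R.Γ →* ℂˣ) (e : Bool) {x : torus R D.a} (σ : R.Γ) (hx : D.μ x = 1) :
    D.phi s lam (D.pt (e, x, σ)) = 0 := by
  rw [phi_pt, hx]; simp

theorem psi_eq_zero (s : Bool) (lam : R.Γ →* ℂˣ) {g : G} (hg : g * g = 1) : D.psi s lam g = 0 := by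
  rw [psi, indFun_apply, Finset.sum_eq_zero fun y _ => ?_, mul_zero]
  by_cases hy : y⁻¹ * g * y ∈ D.W
  · rw [extendByZero_mem _ _ hy]
    obtain ⟨⟨e, x, σ⟩, hp⟩ := D.exists_pt ⟨_, hy⟩
    rw [hp]
    refine D.phi_eq_zero s lam e σ ?_
    obtain ⟨x', hx', hμ⟩ := D.pt_pow_mu (e, x, σ) 2
    have h1 : D.pt (false, 1, 1) = D.pt (false, x', σ ^ 2) := by
      rw [if_pos even_two] at hx'
      rw [← hx', ← hp]
      refine Subtype.ext ?_
      show hel R _ = (y⁻¹ * g * y) ^ 2
      rw [pow_two, show y⁻¹ * g * y * (y⁻¹ * g * y) = y⁻¹ * (g * g) * y by group, hg, mul_one,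
        inv_mul_cancel]
      exact hel_one (R := R)
    obtain ⟨-, hx1, -⟩ : _ ∧ _ ∧ _ := by simpa only [Prod.ext_iff] using D.pt_bijective.1 h1
    rw [← hx1, map_one] at hμ
    exact orderOf_eq_one_iff.1 (Nat.eq_one_of_dvd_coprimes (Nat.coprime_two_left.2 (D.odd_mu x))
      (orderOf_dvd_of_pow_eq_one hμ.symm) dvd_rfl)
  · exact extendByZero_notMem _ _ hy

/-- The induced function at a regular element. -/
theorem psi_pt (s : Bool) (lam : R.Γ →* ℂˣ) (p : Bool × torus R D.a × R.Γ) (hμ : D.μ p.2.1 ≠ 1) :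
    D.psi s lam (D.pt p : G) = D.phi s lam (D.pt p) + D.phi s lam (D.conjW (D.pt p)) := by
  rw [psi, indFun_apply]
  set φ := extendByZero D.W (D.phi s lam)
  have hterm : ∀ y : G, φ (y⁻¹ * (D.pt p : G) * y) =
      (if y ∈ D.W then D.phi s lam (D.pt p) else 0) +
        (if D.wG * y ∈ D.W then D.phi s lam (D.conjW (D.pt p)) else 0) := by
    intro y
    by_cases h1 : y ∈ D.W
    · rw [if_pos h1, if_neg (fun h => D.wG_notMem (by simpa using mul_mem h (inv_mem h1))), add_zero]
      exact (extendByZero_mem _ _ (mul_mem (mul_mem (inv_mem h1) (D.pt p).2) h1)).trans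
        (D.phi_conj s lam ⟨y, h1⟩ (D.pt p))
    · by_cases h2 : D.wG * y ∈ D.W
      · rw [if_neg h1, if_pos h2, zero_add,
          show y⁻¹ * (D.pt p : G) * y =
            (D.wG * y)⁻¹ * (D.wG * (D.pt p : G) * D.wG⁻¹) * (D.wG * y) by group]
        exact (extendByZero_mem _ _ (mul_mem (mul_mem (inv_mem h2) (D.conj_mem (D.pt p).2)) h2)).trans
          (D.phi_conj s lam ⟨_, h2⟩ (D.conjW (D.pt p)))
      · rw [if_neg h1, if_neg h2, add_zero]
        refine extendByZero_notMem _ _ fun hc => ?_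
        rcases D.ti p hμ (g := y⁻¹) (by rwa [inv_inv]) with h | h
        · exact h1 (by simpa using inv_mem h)
        · refine h2 ?_
          have h' : y * D.wG ∈ D.W := by
            have := inv_mem h
            rwa [_root_.mul_inv_rev, inv_inv, inv_eq_of_mul_eq_one_right D.wG_mul_self] at this
          have h'' := D.conj_mem h'
          rwa [show D.wG * (y * D.wG) * D.wG⁻¹ = D.wG * y by group] at h''
  rw [Finset.sum_congr rfl fun y _ => hterm y, Finset.sum_add_distrib, ← Finset.sum_filter,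
    ← Finset.sum_filter, Finset.sum_const, Finset.sum_const]
  have hW : (Finset.univ.filter fun y : G => y ∈ D.W).card = Nat.card D.W := by
    rw [Nat.card_eq_fintype_card, Fintype.card_subtype]
  have hwW : (Finset.univ.filter fun y : G => D.wG * y ∈ D.W).card = Nat.card D.W := by
    rw [← hW]
    exact Finset.card_equiv (Equiv.mulLeft D.wG) (by simp)
  rw [hW, hwW, nsmul_eq_mul, nsmul_eq_mul, ← mul_add, inv_mul_cancel_left₀ natCard_ne_zero']

/-- The Frobenius reciprocity in the coordinates. -/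
theorem inner_ind (s : Bool) (lam : R.Γ →* ℂˣ) {h : G → ℂ} (hh : IsClassFunction G h) :
    classInner (D.psi s lam) h = (Nat.card D.W : ℂ)⁻¹ * ∑ e : Bool, ∑ x : torus R D.a, ∑ σ : R.Γ,
      (sgn s e : ℂ) * (lam σ : ℂ) * (1 - (D.μ x : ℂ)) * conj (h (D.pt (e, x, σ) : G)) := by
  rw [psi, classInner_indFun _ _ hh, classInner, D.sum_W]
  refine congrArg _ (Finset.sum_congr rfl fun e _ => Finset.sum_congr rfl fun x _ =>
    Finset.sum_congr rfl fun σ _ => by rw [phi_pt])

theorem sum_sgn (s s' : Bool) :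
    ∑ e : Bool, (sgn s e : ℂ) * conj (sgn s' e : ℂ) = if s = s' then 2 else 0 := by
  cases s <;> cases s' <;> simp [sgn] <;> norm_num

theorem sum_lam (lam lam' : R.Γ →* ℂˣ) :
    ∑ σ : R.Γ, (lam σ : ℂ) * conj (lam' σ : ℂ) = if lam = lam' then (R.f : ℂ) else 0 := by
  have h := sum_hom (lam * lam'⁻¹)
  simp only [MonoidHom.mul_apply, MonoidHom.inv_apply, Units.val_mul, Units.val_inv_eq_inv_val] at h
  simp only [conj_unit lam']
  rw [h]
  by_cases h1 : lam = lam'
  · rw [if_pos h1, if_pos (mul_inv_eq_one.2 h1)]; rfl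
  · rw [if_neg h1, if_neg (fun e => h1 (mul_inv_eq_one.1 e))]

theorem mu_ne : D.μ ≠ 1 := fun h => D.μ_a (by rw [h]; rfl)

theorem mu_sq_ne : D.μ * D.μ ≠ 1 := fun h => D.μ_a (by
  have h1 := DFunLike.congr_fun h ⟨D.a, D.a_mem⟩
  exact orderOf_eq_one_iff.1 (Nat.eq_one_of_dvd_coprimes (Nat.coprime_two_left.2 (D.odd_mu _))
    (orderOf_dvd_of_pow_eq_one (by rw [pow_two]; exact h1)) dvd_rfl))

theorem mu_inv_ne : D.μ⁻¹ ≠ 1 := fun h => D.mu_ne (MonoidHom.ext fun x => by
  simpa using DFunLike.congr_fun h x)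

theorem sum_mu : ∑ x : torus R D.a, (1 - (D.μ x : ℂ)) = (Nat.card (torus R D.a) : ℂ) := by
  rw [Finset.sum_sub_distrib, sum_hom, if_neg D.mu_ne, Nat.card_eq_fintype_card]
  simp

theorem card_W_cast :
    (Nat.card D.W : ℂ) = 2 * ((Nat.card (torus R D.a) : ℂ) * (R.f : ℂ)) := by
  rw [D.card_W, D.card_torus]; push_cast; rfl

theorem f_ne : (R.f : ℂ) ≠ 0 := Nat.cast_ne_zero.2 Nat.card_pos.ne'

theorem torus_ne : (Nat.card (torus R D.a) : ℂ) ≠ 0 := Nat.cast_ne_zero.2 Nat.card_pos.ne'

/-- The inner products: norm three, orthogonal otherwise. -/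
theorem inner_psi (s s' : Bool) (lam lam' : R.Γ →* ℂˣ) :
    classInner (D.psi s lam) (D.psi s' lam') = if s = s' ∧ lam = lam' then 3 else 0 := by
  rw [D.inner_ind s lam (D.psi_class s' lam')]
  have hv : ∀ (e : Bool) (x : torus R D.a) (σ : R.Γ),
      (sgn s e : ℂ) * (lam σ : ℂ) * (1 - (D.μ x : ℂ)) * conj (D.psi s' lam' (D.pt (e, x, σ) : G)) =
        (sgn s e : ℂ) * conj (sgn s' e : ℂ) *
          ((3 - 3 * (D.μ x : ℂ) - (D.μ⁻¹ x : ℂ) + ((D.μ * D.μ) x : ℂ)) *
            ((lam σ : ℂ) * conj (lam' σ : ℂ))) := by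
    intro e x σ
    simp only [MonoidHom.mul_apply, MonoidHom.inv_apply, Units.val_mul, Units.val_inv_eq_inv_val]
    by_cases hx : D.μ x = 1
    · simp [hx]; try ring
    · rw [D.psi_pt s' lam' (e, x, σ) hx, phi_pt, phi_conjW, map_add, map_mul, map_mul, map_mul,
        map_mul, map_sub, map_sub, map_one, map_inv₀, conj_unit D.μ, inv_inv]
      have hne : (D.μ x : ℂ) ≠ 0 := Units.ne_zero _
      field_simp
      ring
  simp only [hv, ← Finset.mul_sum, ← Finset.sum_mul, sum_lam]
  rw [sum_sgn]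
  simp only [Finset.sum_sub_distrib, Finset.sum_add_distrib, ← Finset.mul_sum, sum_hom, if_neg D.mu_ne,
    if_neg D.mu_sq_ne, if_neg D.mu_inv_ne, Finset.sum_const, Finset.card_univ, nsmul_eq_mul,
    ← Nat.card_eq_fintype_card, D.card_W_cast]
  have := D.torus_ne
  have := f_ne (R := R)
  by_cases h1 : s = s' <;> by_cases h2 : lam = lam' <;> simp [h1, h2]
  field_simp

/-- The principal character. -/
theorem inner_principal (s : Bool) (lam : R.Γ →* ℂˣ) :
    classInner (D.psi s lam) (principalIrr G : G → ℂ) = if s = false ∧ lam = 1 then 1 else 0 := by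
  rw [D.inner_ind s lam (irr_isClassFunction _)]
  simp only [principalIrr_apply, map_one, mul_one, mul_assoc, ← Finset.mul_sum, ← Finset.sum_mul,
    D.sum_mu, sum_hom]
  rw [D.card_W_cast]
  have := D.torus_ne
  have := f_ne (R := R)
  cases s <;> by_cases h2 : lam = 1 <;> simp [h2, sgn]
  field_simp
  rw [Frame.f, Nat.card_eq_fintype_card]

/-- The difference at a character with prescribed values on the regular elements of the outer coset. -/
theorem inner_diff (lam lam' : R.Γ →* ℂˣ) {h : G → ℂ} (hh : IsClassFunction G h) (c : ℂ)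
    (hv : ∀ x : torus R D.a, x ≠ 1 → ∀ σ : R.Γ,
      h (E.t * (R.psl x * R.fld σ)) = (lam' σ : ℂ) * c) :
    classInner (D.psi false lam) h - classInner (D.psi true lam) h =
      if lam = lam' then conj c else 0 := by
  rw [D.inner_ind _ lam hh, D.inner_ind _ lam hh, ← mul_sub, ← Finset.sum_sub_distrib]
  simp only [Fintype.sum_bool, sgn_false, sgn_at_false, show sgn true true = -1 from rfl, Units.val_one,
    Units.val_neg, one_mul, neg_mul, Finset.sum_neg_distrib, sub_self, add_zero, sub_neg_eq_add]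
  have hterm : ∀ (x : torus R D.a) (σ : R.Γ),
      (lam σ : ℂ) * (1 - (D.μ x : ℂ)) * conj (h (D.pt (true, x, σ) : G)) =
        conj c * ((1 - (D.μ x : ℂ)) * ((lam σ : ℂ) * conj (lam' σ : ℂ))) := by
    intro x σ
    by_cases hx : x = 1
    · subst hx; simp
    · rw [show (D.pt (true, x, σ) : G) = E.t * (R.psl x * R.fld σ) by simp [pt, hel], hv x hx σ, map_mul]
      ring
  simp only [hterm, ← Finset.mul_sum, ← Finset.sum_mul, D.sum_mu, sum_lam, D.card_W_cast]
  have := D.torus_ne
  have := f_ne (R := R)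
  split_ifs with h2
  · field_simp; ring
  · simp

/-- The coefficient of an irreducible character. -/
noncomputable def coef (s : Bool) (lam : R.Γ →* ℂˣ) (χ : IrrCharacter G) : ℤ :=
  (classInner_generalized_int (D.psi_gen s lam) (isGeneralizedCharacter_irr χ)).choose

theorem coef_spec (s : Bool) (lam : R.Γ →* ℂˣ) (χ : IrrCharacter G) :
    classInner (D.psi s lam) (χ : G → ℂ) = D.coef s lam χ :=
  (classInner_generalized_int (D.psi_gen s lam) (isGeneralizedCharacter_irr χ)).choose_spec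

theorem expand (s : Bool) (lam : R.Γ →* ℂˣ) (g : G) :
    D.psi s lam g = ∑ χ : IrrCharacter G, (D.coef s lam χ : ℂ) * (χ : G → ℂ) g := by
  conv_lhs => rw [classFunction_eq_sum (D.psi_class s lam)]
  simp [Finset.sum_apply, D.coef_spec]

theorem coef_deg (s : Bool) (lam : R.Γ →* ℂˣ) :
    ∑ χ : IrrCharacter G, D.coef s lam χ * (charDegree (χ : G → ℂ) : ℤ) = 0 := by
  have h := D.expand s lam 1
  rw [D.psi_eq_zero s lam (mul_one 1)] at h
  have : ((∑ χ : IrrCharacter G, D.coef s lam χ * (charDegree (χ : G → ℂ) : ℤ) : ℤ) : ℂ) = 0 := by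
    push_cast
    rw [h]
    exact Finset.sum_congr rfl fun χ _ => by rw [CfsgLib.Chars17.cast_irrDegree]
  exact_mod_cast this

theorem coef_t (s : Bool) (lam : R.Γ →* ℂˣ) :
    ∑ χ : IrrCharacter G, (D.coef s lam χ : ℂ) * (χ : G → ℂ) E.t = 0 := by
  rw [← D.expand, D.psi_eq_zero s lam FixedT.t_sq]

theorem coef_inner (s s' : Bool) (lam lam' : R.Γ →* ℂˣ) :
    ∑ χ : IrrCharacter G, D.coef s lam χ * D.coef s' lam' χ = if s = s' ∧ lam = lam' then 3 else 0 := by
  have h : ((∑ χ : IrrCharacter G, D.coef s lam χ * D.coef s' lam' χ : ℤ) : ℂ) =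
      classInner (D.psi s lam) (D.psi s' lam') := by
    rw [classInner_eq_sum_mul (D.psi_class s' lam')]
    push_cast
    exact Finset.sum_congr rfl fun χ _ => by rw [D.coef_spec, D.coef_spec, map_intCast]
  rw [D.inner_psi] at h
  split_ifs at h ⊢ <;> exact_mod_cast h

theorem coef_norm (s : Bool) (lam : R.Γ →* ℂˣ) :
    ∑ χ : IrrCharacter G, D.coef s lam χ ^ 2 = 3 := by
  simpa [pow_two] using D.coef_inner s s lam lam

theorem coef_orth (lam : R.Γ →* ℂˣ) :
    ∑ χ : IrrCharacter G, D.coef false lam χ * D.coef true lam χ = 0 := by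
  simpa using D.coef_inner false true lam lam

theorem coef_principal (s : Bool) (lam : R.Γ →* ℂˣ) :
    D.coef s lam (principalIrr G) = if s = false ∧ lam = 1 then 1 else 0 := by
  have h := D.inner_principal s lam
  rw [D.coef_spec] at h
  split_ifs at h ⊢ <;> exact_mod_cast h

theorem coef_diff (lam lam' : R.Γ →* ℂˣ) {χ : IrrCharacter G} (c : ℤ)
    (hv : ∀ x : torus R D.a, x ≠ 1 → ∀ σ : R.Γ,
      (χ : G → ℂ) (E.t * (R.psl x * R.fld σ)) = (lam' σ : ℂ) * (c : ℂ)) :
    D.coef false lam χ - D.coef true lam χ = if lam = lam' then c else 0 := by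
  have h := D.inner_diff lam lam' (irr_isClassFunction χ) (c : ℂ) hv
  rw [D.coef_spec, D.coef_spec, map_intCast] at h
  split_ifs at h ⊢ <;> exact_mod_cast h

/-- The involutions inverting a regular element. -/
theorem invPairs_card (p : Bool × torus R D.a × R.Γ) (hμ : D.μ p.2.1 ≠ 1) :
    (invPairs (D.pt p : G)).card = if p.2.2 = 1 then 2 * Nat.card (torus R D.a) else 0 := by
  obtain ⟨e, x, σ⟩ := p
  simp only at hμ ⊢
  have hfwd : ∀ a ∈ invPairs (D.pt (e, x, σ) : G),
      σ = 1 ∧ ∃ e' z, a = D.wG * (D.pt (e', z, 1) : G) := by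
    intro a ha
    obtain ⟨ha2, -, hinv⟩ := mem_invPairs_iff_inverts.1 ha
    have haa : a * a = 1 := by rw [← pow_two, ← ha2, pow_orderOf_eq_one]
    have hW : D.wG * a ∈ D.W := (D.ti (e, x, σ) hμ (g := a) (hinv ▸ inv_mem (D.pt _).2)).resolve_left
      fun haW => by
        rcases D.eq_t haW haa with rfl | rfl
        · rw [orderOf_one] at ha2; omega
        · have hc : Commute E.t (D.pt (e, x, σ) : G) :=
            (FixedT.commute_t (D.cent_le (D.pt (e, x, σ)).2)).symm
          rw [hc.eq, mul_inv_cancel_right, eq_inv_iff_mul_eq_one] at hinv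
          obtain ⟨x', hx', hμ'⟩ := D.pt_pow_mu (e, x, σ) 2
          have h1 : D.pt (false, 1, 1) = D.pt (false, x', σ ^ 2) := by
            rw [if_pos even_two] at hx'
            rw [← hx']
            exact Subtype.ext (by show hel R _ = (D.pt (e, x, σ) : G) ^ 2; rw [pow_two, hinv]; exact hel_one (R := R))
          obtain ⟨-, hx1, -⟩ : _ ∧ _ ∧ _ := by simpa only [Prod.ext_iff] using D.pt_bijective.1 h1
          rw [← hx1, map_one] at hμ'
          exact hμ (orderOf_eq_one_iff.1 (Nat.eq_one_of_dvd_coprimes (Nat.coprime_two_left.2 (D.odd_mu x))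
            (orderOf_dvd_of_pow_eq_one hμ'.symm) dvd_rfl))
    obtain ⟨⟨e', z, τ⟩, hp⟩ := D.exists_pt ⟨_, hW⟩
    have hp' : D.wG * a = hel R (e', (z : _), τ) := congrArg Subtype.val hp
    have ha' : a = hel R (false, D.w, 1) * hel R (e', (z : _), τ) := by
      rw [hel_psl, ← hp', ← mul_assoc, show R.psl D.w * D.wG = 1 from D.wG_mul_self, one_mul]
    rw [hel_mul] at ha'
    have hτ : τ = 1 := by
      rw [ha', hel_mul, ← hel_one (R := R)] at haa
      exact FixedT.sigma_eq_one R (by simpa using congrArg (fun q => q.2.2) (hel_injective R haa))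
    subst hτ
    refine ⟨?_, e', z, by rw [← hp]; show a = D.wG * (D.wG * a); rw [← mul_assoc, D.wG_mul_self, one_mul]⟩
    rw [mul_inv_eq_iff_eq_mul, eq_inv_mul_iff_mul_eq, ha'] at hinv
    rw [show (D.pt (e, x, σ) : G) = hel R (e, (x : _), σ) from rfl, hel_mul, hel_mul] at hinv
    exact FixedT.sigma_eq_one R (by simpa using congrArg (fun q => q.2.2) (hel_injective R hinv))
  split_ifs with hσ
  · subst hσ
    have heq : invPairs (D.pt (e, x, 1) : G) = (Finset.univ : Finset (Bool × torus R D.a)).image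
        fun q => D.wG * (D.pt (q.1, q.2, 1) : G) := by
      ext a
      simp only [Finset.mem_image, Finset.mem_univ, true_and]
      constructor
      · intro ha
        obtain ⟨-, e', z, rfl⟩ := hfwd a ha
        exact ⟨(e', z), rfl⟩
      · rintro ⟨⟨e', z⟩, rfl⟩
        have hform : D.wG * (D.pt (e', z, 1) : G) = hel R (e', D.w * (z : _), 1) := by
          show R.psl D.w * hel R _ = _
          rw [← hel_psl, hel_mul]; simp
        have hz := D.w_inv _ z.2
        rw [inv_eq_of_mul_eq_one_right D.w_two] at hz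
        have haa : D.wG * (D.pt (e', z, 1) : G) * (D.wG * (D.pt (e', z, 1) : G)) = 1 := by
          rw [hform, hel_mul, ← hel_one (R := R)]
          congr 1
          simp [← mul_assoc, hz]
        have hne : D.wG * (D.pt (e', z, 1) : G) ∉ D.W := fun h => D.wG_notMem (by
          simpa using mul_mem h (inv_mem (D.pt (e', z, 1)).2))
        rw [mem_invPairs_iff_inverts]
        refine ⟨orderOf_eq_prime (by rw [pow_two, haa]) fun h => hne (h ▸ one_mem _), fun h => hne ?_, ?_⟩
        · rw [eq_inv_of_mul_eq_one_left h]; exact inv_mem (D.pt _).2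
        · rw [mul_inv_eq_iff_eq_mul, eq_inv_mul_iff_mul_eq, hform,
            show (D.pt (e, x, 1) : G) = hel R (e, (x : _), 1) from rfl, hel_mul, hel_mul]
          congr 1
          have hzx := (D.torus_comm z.2 x.2).eq
          have hxw := D.w_inv _ (mul_mem z.2 x.2)
          rw [inv_eq_of_mul_eq_one_right D.w_two, eq_inv_iff_mul_eq_one] at hxw
          refine Prod.ext (by cases e <;> cases e' <;> rfl) (Prod.ext ?_ (by simp))
          simp only [OneMemClass.coe_one, map_one, MulAut.one_apply]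
          have hwx := D.w_inv _ x.2
          rw [inv_eq_of_mul_eq_one_right D.w_two] at hwx
          calc (x : _) * (D.w * z * x) = x * (D.w * (x * z)) := by rw [mul_assoc D.w, hzx]
            _ = x * (D.w * x * D.w) * (D.w * z) := by
              simp only [mul_assoc]; rw [← mul_assoc D.w D.w, D.w_two, one_mul]
            _ = D.w * z := by rw [hwx, mul_inv_cancel, one_mul]
    rw [heq, Finset.card_image_of_injective _ (fun q q' h => by
        have h' := D.pt_bijective.1 (Subtype.ext (mul_left_cancel h))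
        simp only [Prod.ext_iff] at h'
        exact Prod.ext h'.1 h'.2.1),
      Finset.card_univ, Fintype.card_prod, Fintype.card_bool, Nat.card_eq_fintype_card]
  · rw [Finset.card_eq_zero, Finset.eq_empty_iff_forall_notMem]
    exact fun a ha => hσ (hfwd a ha).1

include D in
theorem card_G :
    (Nat.card G : ℂ) = (R.f : ℂ) * ((R.q : ℂ) * ((R.q : ℂ) ^ 2 - 1)) * (R.I : ℂ) := by
  have hodd : Odd (Fintype.card R.F) := by
    rw [Nat.odd_iff]
    have h := D.q8
    rw [Frame.q] at h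
    omega
  have hpsl := CfsgLib.PSL2.card_psl (F := R.F)
  rw [CfsgLib.PSL2.gcd_eq_two hodd] at hpsl
  have hpslC : 2 * (Nat.card (Matrix.ProjectiveSpecialLinearGroup (Fin 2) R.F) : ℂ) =
      (R.q : ℂ) * ((R.q : ℂ) ^ 2 - 1) := by
    have h1 : 1 ≤ Fintype.card R.F := Fintype.card_pos
    have := congrArg (fun n : ℕ => (n : ℂ)) hpsl
    simp only [Nat.cast_mul, Nat.cast_add, Nat.cast_sub h1, Nat.cast_one, Nat.cast_ofNat] at this
    rw [this, Frame.q]; ring
  rw [← E.H.card_mul_index, card_H R]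
  push_cast
  rw [← hpslC, Frame.I]
  ring

include D in
theorem ratio_eq :
    ((CfsgLib.ReeOrder.ratio R.q R.I : ℚ) : ℂ) =
      ((R.q : ℂ) - 1) * (R.q : ℂ) * ((R.q : ℂ) ^ 2 - 1) / (R.I : ℂ) := by
  have h8 := D.q8
  rw [CfsgLib.ReeOrder.ratio, CfsgLib.ReeOrder.sq, if_pos h8]
  have h1 : (((R.q : ℤ) - 1).natAbs : ℚ) = (R.q : ℚ) - 1 := by
    rw [Nat.cast_natAbs, abs_of_nonneg (by omega)]; push_cast; ring
  rw [h1]
  push_cast
  rfl

/-- The class multiplication equations. -/
theorem equation (hloc : Local E) (s : Bool) (lam : R.Γ →* ℂˣ) :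
    ∑ χ : IrrCharacter G, (D.coef s lam χ : ℂ) * ((χ : G → ℂ) E.t ^ 2 / (χ : G → ℂ) 1) =
      if s = false then ((CfsgLib.ReeOrder.ratio R.q R.I : ℚ) : ℂ) else 0 := by
  have hclass : ∀ g : G, IsConj E.t g ↔ orderOf g = 2 := fun g =>
    ⟨fun h => by
      obtain ⟨c, rfl⟩ := isConj_iff.1 h
      exact (orderOf_injective (MulAut.conj c).toMonoidHom (MulEquiv.injective _) E.t).trans E.orderOf_t,
      fun h => hloc.one_class E.t g E.orderOf_t h⟩
  have hinvs : invs G = Finset.univ.filter (IsConj E.t) := by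
    ext g
    simp only [mem_invs, Finset.mem_filter, Finset.mem_univ, true_and, hclass]
  have hpairs : ∀ χ : IrrCharacter G, ∑ a ∈ invs G, ∑ c ∈ invs G, (χ : G → ℂ) (a * c) =
      (R.I : ℂ) ^ 2 * ((χ : G → ℂ) E.t ^ 2 / (χ : G → ℂ) 1) := fun χ => by
    rw [hinvs, CfsgLib.BSW.sum_class_product, card_isConj_eq_index]
    rfl
  have hexp : ∑ a ∈ invs G, ∑ c ∈ invs G, D.psi s lam (a * c) = (R.I : ℂ) ^ 2 *
      ∑ χ : IrrCharacter G, (D.coef s lam χ : ℂ) * ((χ : G → ℂ) E.t ^ 2 / (χ : G → ℂ) 1) := by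
    conv_rhs => rw [Finset.mul_sum, Finset.sum_congr rfl fun χ _ =>
      (show (R.I : ℂ) ^ 2 * ((D.coef s lam χ : ℂ) * ((χ : G → ℂ) E.t ^ 2 / (χ : G → ℂ) 1)) =
        (D.coef s lam χ : ℂ) * ∑ a ∈ invs G, ∑ c ∈ invs G, (χ : G → ℂ) (a * c) by rw [hpairs]; ring)]
    simp only [D.expand s lam, Finset.mul_sum]
    conv_rhs => rw [Finset.sum_comm]
    exact Finset.sum_congr rfl fun a _ => Finset.sum_comm
  rw [CfsgLib.BSW.sum_pairs_apply] at hexp
  have hG : (Nat.card G : ℂ) ≠ 0 := natCard_ne_zero'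
  have h := sum_indFun_mul D.W (D.phi s lam) (f := fun g => ((invPairs g).card : ℂ)) (fun g y => by
    show ((invPairs (y * g * y⁻¹)).card : ℂ) = ((invPairs g).card : ℂ)
    rw [show (invPairs (y * g * y⁻¹)).card = (invPairs g).card from ?_]
    exact Finset.card_equiv (MulAut.conj y⁻¹).toEquiv fun a => by
      simp only [MulEquiv.toEquiv_eq_coe, EquivLike.coe_coe, mem_invPairs]
      rw [← MulEquiv.orderOf_eq (MulAut.conj y⁻¹) a,
        ← MulEquiv.orderOf_eq (MulAut.conj y⁻¹) (a * (y * g * y⁻¹)), map_mul,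
        show (MulAut.conj y⁻¹) (y * g * y⁻¹) = g by simp only [MulAut.conj_apply]; group])
  have hterm : ∀ (e : Bool) (x : torus R D.a) (σ : R.Γ),
      D.phi s lam (D.pt (e, x, σ)) * ((invPairs (D.pt (e, x, σ) : G)).card : ℂ) =
        2 * (Nat.card (torus R D.a) : ℂ) * ((sgn s e : ℂ) * (1 - (D.μ x : ℂ)) *
          (if σ = 1 then 1 else 0)) := by
    intro e x σ
    by_cases hx : D.μ x = 1
    · rw [D.phi_eq_zero s lam e σ hx, hx]; simp
    · rw [D.invPairs_card (e, x, σ) hx, phi_pt]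
      simp only
      split_ifs with hσ
      · subst hσ; rw [map_one, Units.val_one]; push_cast; ring
      · simp
  rw [inv_mul_eq_iff_eq_mul₀ hG, D.sum_W] at h
  simp only [hterm, ← Finset.mul_sum, ← Finset.sum_mul, D.sum_mu, Finset.sum_ite_eq', Finset.mem_univ,
    if_true, mul_one] at h
  rw [show (∑ g : G, D.psi s lam g * ((invPairs g).card : ℂ)) = _ from h, D.card_W_cast, D.card_G] at hexp
  have hI : (R.I : ℂ) ≠ 0 := Nat.cast_ne_zero.2 Subgroup.index_ne_zero_of_finite
  have hT := D.torus_ne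
  have hf := f_ne (R := R)
  have h8 := D.q8
  have hJ : (2 : ℂ) * (Nat.card (torus R D.a) : ℂ) = (R.q : ℂ) - 1 := by
    rw [D.card_torus, ← Nat.cast_ofNat (R := ℂ), ← Nat.cast_mul, show 2 * ((R.q - 1) / 2) = R.q - 1 by omega,
      Nat.cast_sub (by omega), Nat.cast_one]
  refine mul_left_cancel₀ (pow_ne_zero 2 hI) (hexp.symm.trans ?_)
  rw [D.ratio_eq, ← hJ]
  cases s
  · simp only [Fintype.sum_bool, sgn_false, if_true, Units.val_one]
    field_simp
    ring
  · simp [sgn]

end CfsgLib.Walter.Twist.Except.Data
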