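import Cfsg.Agent.Lib.Walter.Twist.ExceptData

/-!
Walter, the field part, case D, exceptional functions: coordinates on the centraliser of the torus element
and its trivial intersection property.
-/

set_option autoImplicit false
set_option linter.unusedSectionVars false
set_option linter.style.haveILetI false

namespace CfsgLib.Walter.Twist.Except

open Subgroup CfsgLib.AutPSL
open scoped Classical

universe u

variable {G : Type u} [Group G] [Finite G] {E : Setup G} {R : Frame E}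

local notation "PSLF" => Matrix.ProjectiveSpecialLinearGroup (Fin 2) R.F

/-- Coordinates on the centraliser of the involution. -/
def hel (R : Frame E) (p : Bool × Matrix.ProjectiveSpecialLinearGroup (Fin 2) R.F × R.Γ) : G :=
  cond p.1 E.t 1 * (R.psl p.2.1 * R.fld p.2.2)

theorem comm_comb (x : PSLF) (σ : R.Γ) : Commute E.t (R.psl x * R.fld σ) :=
  ((FixedT.commute_t (R.psl_mem x)).mul_left (FixedT.commute_t (R.fld_mem σ))).symm

theorem comm_cond (e : Bool) {g : G} (h : Commute E.t g) : Commute (cond e E.t 1) g := by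
  cases e <;> simp [h]

theorem hel_mul (p p' : Bool × PSLF × R.Γ) :
    hel R p * hel R p' = hel R (xor p.1 p'.1,
      p.2.1 * fieldAut (p.2.2 : R.F ≃+* R.F) p'.2.1, p.2.2 * p'.2.2) := by
  obtain ⟨e, x, σ⟩ := p
  obtain ⟨e', x', σ'⟩ := p'
  have hc := comm_cond e' (comm_comb (R := R) x σ)
  simp only [hel]
  rw [mul_assoc, ← mul_assoc (R.psl x * R.fld σ), ← hc.eq, mul_assoc (cond e' E.t 1), ← mul_assoc,
    FixedT.comb_mul]
  congr 1
  cases e <;> cases e' <;> simp [FixedT.t_sq]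

theorem hel_injective (R : Frame E) : Function.Injective (hel R) := by
  rintro ⟨e, x, σ⟩ ⟨e', x', σ'⟩ h
  simp only [hel] at h
  have hne : ∀ (x x' : Matrix.ProjectiveSpecialLinearGroup (Fin 2) R.F) (σ σ' : R.Γ), E.t * (R.psl x * R.fld σ) ≠ R.psl x' * R.fld σ' := by
    intro x x' σ σ' h
    refine R.ne_t (x' * (fieldAut ((σ' * σ⁻¹ : R.Γ) : R.F ≃+* R.F) x)⁻¹) (σ' * σ⁻¹) ?_
    refine mul_right_cancel (b := R.psl x * R.fld σ) ?_
    rw [FixedT.comb_mul, inv_mul_cancel_right, inv_mul_cancel_right, h]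
  cases e <;> cases e' <;> simp only [cond_true, cond_false, one_mul, mul_right_inj] at h
  · exact by obtain ⟨rfl, rfl⟩ := FixedT.comb_unique R h; rfl
  · exact absurd h.symm (hne _ _ _ _)
  · exact absurd h (hne _ _ _ _)
  · exact by obtain ⟨rfl, rfl⟩ := FixedT.comb_unique R h; rfl

theorem hel_mem (p : Bool × PSLF × R.Γ) : hel R p ∈ E.H :=
  FixedT.mem_H (((comm_cond p.1 (Commute.refl E.t)).mul_left (comm_comb p.2.1 p.2.2).symm))

theorem exists_hel {g : G} (hg : g ∈ E.H) : ∃ p, g = hel R p := by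
  obtain ⟨x, σ, h | h⟩ := R.exists_eq g hg
  · exact ⟨(false, x, σ), by simp [hel, h]⟩
  · exact ⟨(true, x, σ), by simp [hel, h]⟩

theorem hel_psl (x : PSLF) : hel R (false, x, 1) = R.psl x := by simp [hel]

theorem hel_one : hel R ((false, 1, 1) : Bool × PSLF × R.Γ) = 1 := by simp [hel]

theorem hel_t : hel R ((true, 1, 1) : Bool × PSLF × R.Γ) = E.t := by simp [hel]

/-- The order of the centraliser of the involution. -/
theorem card_H (R : Frame E) :
    Nat.card E.H = 2 * (Nat.card (Matrix.ProjectiveSpecialLinearGroup (Fin 2) R.F) * R.f) := by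
  let f : Bool × Matrix.ProjectiveSpecialLinearGroup (Fin 2) R.F × R.Γ → E.H := fun p => ⟨hel R p, hel_mem p⟩
  have hf : Function.Bijective f :=
    ⟨fun p q h => hel_injective R (congrArg Subtype.val h), fun g => by
      obtain ⟨p, hp⟩ := exists_hel (R := R) g.2
      exact ⟨p, Subtype.ext hp.symm⟩⟩
  rw [← Nat.card_eq_of_bijective f hf, Nat.card_prod, Nat.card_prod, Nat.card_eq_fintype_card,
    Fintype.card_bool]
  rfl

/-- The order of a power in coordinates. -/
theorem hel_pow (p : Bool × PSLF × R.Γ) (n : ℕ) :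
    ∃ x, hel R p ^ n = hel R (if Even n then false else p.1, x, p.2.2 ^ n) := by
  induction n with
  | zero => exact ⟨1, by simp [hel_one]⟩
  | succ n ih =>
    obtain ⟨x, hx⟩ := ih
    refine ⟨x * fieldAut ((p.2.2 ^ n : R.Γ) : R.F ≃+* R.F) p.2.1, ?_⟩
    rw [pow_succ, hx, hel_mul]
    congr 1
    refine Prod.ext ?_ (Prod.ext rfl (pow_succ _ _).symm)
    simp only [Nat.even_add_one]
    by_cases h : Even n <;> simp [h]

variable (D : Data R)

namespace Data

/-- The torus element in the group. -/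
def y : G := R.psl D.a

/-- Its centraliser. -/
abbrev W : Subgroup G := centralizer ({D.y} : Set G)

/-- The inverter in the group. -/
def wG : G := R.psl D.w

instance : IsCyclic (torus R D.a) := D.cyclic

theorem torus_comm {x x' : PSLF} (hx : x ∈ torus R D.a) (hx' : x' ∈ torus R D.a) : Commute x x' :=
  congrArg Subtype.val (mul_comm' (⟨x, hx⟩ : torus R D.a) ⟨x', hx'⟩)

theorem a_mem : D.a ∈ torus R D.a := mem_centralizer_singleton_iff.2 rfl

theorem aut_mem {x : PSLF} (σ : R.Γ) (hx : x ∈ torus R D.a) :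
    fieldAut (σ : R.F ≃+* R.F) x ∈ torus R D.a := by
  refine mem_centralizer_singleton_iff.2 ?_
  calc fieldAut (σ : R.F ≃+* R.F) x * D.a = fieldAut (σ : R.F ≃+* R.F) (x * D.a) := by
        rw [map_mul, D.fix σ]
    _ = _ := by rw [mem_centralizer_singleton_iff.1 hx, map_mul, D.fix σ]

/-- The action of the field part on the torus. -/
noncomputable def act (σ : R.Γ) (x : torus R D.a) : torus R D.a :=
  ⟨fieldAut (σ : R.F ≃+* R.F) (x : PSLF), D.aut_mem σ x.2⟩

theorem act_one (σ : R.Γ) : D.act σ 1 = 1 := Subtype.ext (map_one _)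

theorem one_act (x : torus R D.a) : D.act 1 x = x := Subtype.ext (by simp [act])

theorem μ_act (σ : R.Γ) (x : torus R D.a) : D.μ (D.act σ x) = D.μ x := D.μ_fix σ x _ rfl

theorem hel_W_iff {p : Bool × PSLF × R.Γ} : hel R p ∈ D.W ↔ p.2.1 ∈ torus R D.a := by
  obtain ⟨e, x, σ⟩ := p
  have h1 : hel R (e, x, σ) * D.y = hel R (e, x * D.a, σ) := by
    rw [y, ← hel_psl, hel_mul]; simp [D.fix σ]
  have h2 : D.y * hel R (e, x, σ) = hel R (e, D.a * x, σ) := by
    rw [y, ← hel_psl, hel_mul]; simp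
  rw [W, mem_centralizer_singleton_iff, h1, h2, (hel_injective R).eq_iff, mem_centralizer_singleton_iff]
  simp

/-- The coordinates. -/
def pt (p : Bool × torus R D.a × R.Γ) : D.W := ⟨hel R (p.1, p.2.1, p.2.2), D.hel_W_iff.2 p.2.1.2⟩

theorem pt_bijective : Function.Bijective D.pt := by
  refine ⟨fun p q h => ?_, fun u => ?_⟩
  · have h' := hel_injective R (congrArg Subtype.val h)
    simp only [Prod.ext_iff] at h'
    exact Prod.ext h'.1 (Prod.ext (Subtype.ext h'.2.1) h'.2.2)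
  · obtain ⟨⟨e, x, σ⟩, hp⟩ := exists_hel (R := R) (D.cent_le u.2)
    exact ⟨(e, ⟨x, D.hel_W_iff.1 (hp ▸ u.2)⟩, σ), Subtype.ext hp.symm⟩

/-- The coordinates as a bijection. -/
noncomputable def ptEquiv : Bool × torus R D.a × R.Γ ≃ D.W := Equiv.ofBijective D.pt D.pt_bijective

theorem exists_pt (u : D.W) : ∃ p, u = D.pt p :=
  ⟨_, (D.ptEquiv.apply_symm_apply u).symm⟩

theorem pt_mul (p p' : Bool × torus R D.a × R.Γ) :
    D.pt p * D.pt p' = D.pt (xor p.1 p'.1, p.2.1 * D.act p.2.2 p'.2.1, p.2.2 * p'.2.2) :=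
  Subtype.ext (hel_mul (R := R) _ _)

theorem card_W : Nat.card D.W = 2 * ((R.q - 1) / 2 * R.f) := by
  rw [← Nat.card_congr D.ptEquiv, Nat.card_prod, Nat.card_prod, D.card_torus, Nat.card_eq_fintype_card,
    Fintype.card_bool]
  rfl

theorem odd_torus : Odd (Nat.card (torus R D.a)) := by
  rw [D.card_torus, Nat.odd_iff]
  have := D.q8
  omega

theorem odd_mu (x : torus R D.a) : Odd (orderOf (D.μ x)) :=
  D.odd_torus.of_dvd_nat ((orderOf_map_dvd D.μ x).trans (orderOf_dvd_natCard x))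

theorem t_mem_W : E.t ∈ D.W :=
  mem_centralizer_singleton_iff.2 (FixedT.commute_t (R.psl_mem _)).symm.eq

/-- The involution is the only one in the centraliser. -/
theorem eq_t {u : G} (hu : u ∈ D.W) (h2 : u * u = 1) : u = 1 ∨ u = E.t := by
  obtain ⟨⟨e, x, σ⟩, hp⟩ := D.exists_pt ⟨u, hu⟩
  have h := D.pt_mul (e, x, σ) (e, x, σ)
  rw [← hp] at h
  have h1 : D.pt (false, 1, 1) = D.pt (xor e e, x * D.act σ x, σ * σ) := by
    rw [← h]
    exact Subtype.ext (by show hel R _ = u * u; rw [h2]; exact hel_one)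
  obtain ⟨-, hx, hσ⟩ : _ ∧ _ ∧ _ := by simpa only [Prod.ext_iff] using D.pt_bijective.1 h1
  have hσ1 := FixedT.sigma_eq_one R hσ.symm
  subst hσ1
  have hx1 : x = 1 := by
    have e1 : D.act 1 x = x := Subtype.ext (by simp [act])
    rw [e1] at hx
    refine orderOf_eq_one_iff.1 (Nat.eq_one_of_dvd_coprimes (Nat.coprime_two_left.2 D.odd_torus)
      (orderOf_dvd_of_pow_eq_one (show x ^ 2 = 1 by rw [pow_two]; exact hx.symm)) (orderOf_dvd_natCard x))
  subst hx1
  have hu' : u = hel R (e, 1, 1) := congrArg Subtype.val hp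
  cases e
  · exact Or.inl (hu'.trans hel_one)
  · exact Or.inr (hu'.trans hel_t)

theorem wG_mem : D.wG ∈ E.H := R.psl_mem _

theorem wG_mul_self : D.wG * D.wG = 1 := by rw [wG, ← map_mul, D.w_two, map_one]

theorem wG_y : D.wG * D.y * D.wG⁻¹ = D.y⁻¹ := by
  rw [wG, y, ← map_inv, ← map_mul, ← map_mul, D.w_inv _ D.a_mem, map_inv]

theorem wG_notMem : D.wG ∉ D.W := fun h => by
  have e := D.wG_y
  rw [mem_centralizer_singleton_iff.1 h, mul_inv_cancel_right, eq_inv_iff_mul_eq_one, y, ← map_mul,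
    ← map_one R.psl] at e
  have h1 : orderOf D.a ∣ 2 := orderOf_dvd_of_pow_eq_one (by rw [pow_two]; exact R.psl_inj e)
  have := D.two_lt
  have := Nat.le_of_dvd (by norm_num) h1
  omega

theorem conj_mem {u : G} (hu : u ∈ D.W) : D.wG * u * D.wG⁻¹ ∈ D.W := by
  have h := mem_centralizer_singleton_iff.1 hu
  refine mem_centralizer_singleton_iff.2 ?_
  have e : D.wG⁻¹ * D.y * D.wG = D.y⁻¹ := by
    have := D.wG_y
    rwa [inv_eq_of_mul_eq_one_right D.wG_mul_self] at this ⊢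
  have h' : u * D.y⁻¹ = D.y⁻¹ * u := (Commute.inv_right h).eq
  calc D.wG * u * D.wG⁻¹ * D.y = D.wG * (u * (D.wG⁻¹ * D.y * D.wG)) * D.wG⁻¹ := by group
    _ = D.wG * ((D.wG⁻¹ * D.y * D.wG) * u) * D.wG⁻¹ := by rw [e, h']
    _ = D.y * (D.wG * u * D.wG⁻¹) := by group

/-- Conjugation by the inverter. -/
def conjW : D.W →* D.W where
  toFun u := ⟨D.wG * u * D.wG⁻¹, D.conj_mem u.2⟩
  map_one' := Subtype.ext (by simp)
  map_mul' u v := Subtype.ext (by simp [mul_assoc])

theorem conjW_fld (σ : R.Γ) :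
    ∃ z : torus R D.a, D.conjW (D.pt (false, 1, σ)) = D.pt (false, z, σ) := by
  have h : D.wG * hel R (false, 1, σ) * D.wG⁻¹ =
      hel R (false, D.w * (fieldAut (σ : R.F ≃+* R.F) D.w), σ) := by
    rw [inv_eq_of_mul_eq_one_right D.wG_mul_self, wG, ← hel_psl, hel_mul, hel_mul]
    simp
  have hW : hel R (false, D.w * (fieldAut (σ : R.F ≃+* R.F) D.w), σ) ∈ D.W :=
    h ▸ D.conj_mem (D.hel_W_iff.2 (one_mem _))
  refine ⟨⟨_, D.hel_W_iff.1 hW⟩, ?_⟩
  exact Subtype.ext h

theorem conjW_pt (e : Bool) (x : torus R D.a) (σ : R.Γ) :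
    ∃ z : torus R D.a, D.conjW (D.pt (false, 1, σ)) = D.pt (false, z, σ) ∧
      D.conjW (D.pt (e, x, σ)) = D.pt (e, x⁻¹ * z, σ) := by
  obtain ⟨z, hz⟩ := D.conjW_fld σ
  refine ⟨z, hz, ?_⟩
  have e1 : D.pt (e, x, σ) = D.pt (e, x, 1) * D.pt (false, 1, σ) := by
    rw [pt_mul, one_act]; simp
  have e2 : D.conjW (D.pt (e, x, 1)) = D.pt (e, x⁻¹, 1) := Subtype.ext (by
    show D.wG * hel R (e, (x : PSLF), 1) * D.wG⁻¹ = hel R (e, ((x⁻¹ : torus R D.a) : PSLF), 1)
    rw [inv_eq_of_mul_eq_one_right D.wG_mul_self, wG, ← hel_psl, hel_mul, hel_mul]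
    have := D.w_inv _ x.2
    rw [inv_eq_of_mul_eq_one_right D.w_two] at this
    simp [this])
  rw [e1, map_mul, e2, hz, pt_mul]
  rw [one_act]; simp

/-- The torus component of a power. -/
theorem pt_pow_mu (p : Bool × torus R D.a × R.Γ) (n : ℕ) :
    ∃ x, D.pt p ^ n = D.pt (if Even n then false else p.1, x, p.2.2 ^ n) ∧ D.μ x = D.μ p.2.1 ^ n := by
  induction n with
  | zero => exact ⟨1, by simp; exact Subtype.ext (hel_one (R := R)).symm, by simp⟩
  | succ n ih =>
    obtain ⟨x, hx, hμ⟩ := ih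
    refine ⟨x * D.act (p.2.2 ^ n) p.2.1, ?_, by rw [map_mul, D.μ_act, hμ, pow_succ]⟩
    rw [pow_succ, hx, pt_mul]
    congr 1
    refine Prod.ext ?_ (Prod.ext rfl (pow_succ _ _).symm)
    simp only [Nat.even_add_one]
    by_cases h : Even n <;> simp [h]

/-- A regular element has a non-trivial power in `⟨y⟩`. -/
theorem exists_pow (p : Bool × torus R D.a × R.Γ) (hμ : D.μ p.2.1 ≠ 1) :
    ∃ (M : ℕ) (i : ℤ), (D.pt p : G) ^ M = D.y ^ i ∧ D.y ^ i ≠ 1 := by
  obtain ⟨x, hx, hμx⟩ := D.pt_pow_mu p (2 * R.f)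
  have hσ : p.2.2 ^ (2 * R.f) = 1 := by
    rw [mul_comm, pow_mul, show p.2.2 ^ R.f = 1 from pow_card_eq_one', one_pow]
  rw [if_pos (even_two_mul _), hσ] at hx
  obtain ⟨k, hk⟩ := D.μ_pow p.2.1
  have hμ1 : D.μ x ≠ 1 := fun e => hμ (orderOf_eq_one_iff.1 (Nat.eq_one_of_dvd_coprimes
    (D.coprime.pow_left k) (orderOf_dvd_of_pow_eq_one hk) (orderOf_dvd_of_pow_eq_one (hμx ▸ e))))
  have hdvd : orderOf D.a ∣ orderOf x := by
    by_contra hno
    obtain ⟨k', hk'⟩ := D.μ_pow x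
    exact hμ1 (orderOf_eq_one_iff.1 (Nat.eq_one_of_dvd_coprimes
      ((D.prime.coprime_iff_not_dvd.2 hno).pow_left k') (orderOf_dvd_of_pow_eq_one hk') (orderOf_map_dvd _ x)))
  set d := x ^ (orderOf x / orderOf D.a) with hd
  have hds : orderOf d = orderOf D.a := orderOf_pow_orderOf_div (orderOf_pos x).ne' hdvd
  have hdmem : d ∈ zpowers (⟨D.a, D.a_mem⟩ : torus R D.a) := by
    letI : CommGroup (torus R D.a) := IsCyclic.commGroup
    have ha' : orderOf (⟨D.a, D.a_mem⟩ : torus R D.a) = orderOf D.a := Subgroup.orderOf_mk _ _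
    have hle : zpowers (⟨D.a, D.a_mem⟩ : torus R D.a) ≤
        (powMonoidHom (orderOf D.a) : torus R D.a →* torus R D.a).ker :=
      zpowers_le.2 (MonoidHom.mem_ker.2 (show (⟨D.a, D.a_mem⟩ : torus R D.a) ^ orderOf D.a = 1 by rw [← ha']; exact pow_orderOf_eq_one _))
    have heq := eq_of_le_of_card_ge hle (by
      rw [IsCyclic.card_powMonoidHom_ker, Nat.card_zpowers, ha']
      exact Nat.le_of_dvd D.prime.pos (Nat.gcd_dvd_right _ _))
    exact heq ▸ MonoidHom.mem_ker.2 (show d ^ orderOf D.a = 1 by rw [← hds]; exact pow_orderOf_eq_one _)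
  obtain ⟨i, hi⟩ := hdmem
  replace hi : (⟨D.a, D.a_mem⟩ : torus R D.a) ^ i = d := hi
  have hiG : D.y ^ i = R.psl (d : PSLF) := by
    rw [← hi, SubgroupClass.coe_zpow, map_zpow]; rfl
  refine ⟨2 * R.f * (orderOf x / orderOf D.a), i, ?_, ?_⟩
  · rw [hiG, pow_mul, ← SubgroupClass.coe_pow, hx, hd, SubgroupClass.coe_pow, map_pow]
    exact congrArg (· ^ _) (hel_psl (R := R) _)
  · rw [hiG, ← map_one R.psl]
    intro e
    have e' : d = 1 := Subtype.ext (R.psl_inj e)
    rw [e', orderOf_one] at hds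
    exact D.prime.ne_one hds.symm

/-- The normaliser controls conjugacy of regular elements. -/
theorem ti (p : Bool × torus R D.a × R.Γ) (hμ : D.μ p.2.1 ≠ 1) {g : G}
    (hg : g * D.pt p * g⁻¹ ∈ D.W) : g ∈ D.W ∨ D.wG * g ∈ D.W := by
  haveI := Fact.mk D.prime
  obtain ⟨M, i, hM, hne⟩ := D.exists_pow p hμ
  have hmem : g * D.y ^ i * g⁻¹ ∈ D.W := by rw [← hM, ← conj_pow]; exact pow_mem hg M
  -- elements of order `s` of the centraliser lie in `⟨y⟩`
  have hys : orderOf D.y = orderOf D.a := FixedT.orderOf_psl R _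
  have hs : ∀ v ∈ D.W, v ^ orderOf D.a = 1 → v ∈ zpowers D.y := by
    intro v hv hv1
    obtain ⟨⟨e, x, σ⟩, hp⟩ := D.exists_pt ⟨v, hv⟩
    have hodd : ¬ Even (orderOf D.a) := fun h => absurd (D.prime.even_iff.1 h) (by have := D.two_lt; omega)
    obtain ⟨x', hx', -⟩ := D.pt_pow_mu (e, x, σ) (orderOf D.a)
    rw [← hp, if_neg hodd] at hx'
    have h1 : D.pt (false, 1, 1) = D.pt (e, x', σ ^ orderOf D.a) := by
      rw [← hx']; exact Subtype.ext (by show hel R _ = v ^ _; rw [hv1]; exact hel_one)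
    obtain ⟨he, -, hσ⟩ : _ ∧ _ ∧ _ := by simpa only [Prod.ext_iff] using D.pt_bijective.1 h1
    have hσ1 : σ = 1 := orderOf_eq_one_iff.1 (Nat.eq_one_of_dvd_coprimes
      (D.coprime.coprime_dvd_right (dvd_mul_left _ _))
      (orderOf_dvd_of_pow_eq_one hσ.symm) (orderOf_dvd_natCard σ))
    subst hσ1; subst he
    have hv' : v = R.psl (x : PSLF) := (congrArg Subtype.val hp).trans (hel_psl _)
    rw [hv', ← map_pow, ← map_one R.psl] at hv1
    have hxs : x ^ orderOf D.a = 1 := Subtype.ext (R.psl_inj hv1)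
    letI : CommGroup (torus R D.a) := IsCyclic.commGroup
    have ha' : orderOf (⟨D.a, D.a_mem⟩ : torus R D.a) = orderOf D.a := Subgroup.orderOf_mk _ _
    have hle : zpowers (⟨D.a, D.a_mem⟩ : torus R D.a) ≤
        (powMonoidHom (orderOf D.a) : torus R D.a →* torus R D.a).ker :=
      zpowers_le.2 (MonoidHom.mem_ker.2 (show (⟨D.a, D.a_mem⟩ : torus R D.a) ^ orderOf D.a = 1 by rw [← ha']; exact pow_orderOf_eq_one _))
    have heq := eq_of_le_of_card_ge hle (by
      rw [IsCyclic.card_powMonoidHom_ker, Nat.card_zpowers, ha']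
      exact Nat.le_of_dvd D.prime.pos (Nat.gcd_dvd_right _ _))
    obtain ⟨j, hj⟩ := (heq ▸ MonoidHom.mem_ker.2 (show x ^ orderOf D.a = 1 from hxs) :
      x ∈ zpowers (⟨D.a, D.a_mem⟩ : torus R D.a))
    refine ⟨j, ?_⟩
    replace hj : (⟨D.a, D.a_mem⟩ : torus R D.a) ^ j = x := hj
    show D.y ^ j = v
    rw [hv', ← hj, SubgroupClass.coe_zpow, map_zpow]; rfl
  have hgi : g * D.y ^ i * g⁻¹ ∈ zpowers D.y := hs _ hmem (by
    rw [conj_pow, ← zpow_natCast (D.y ^ i), zpow_comm, zpow_natCast, ← hys, pow_orderOf_eq_one]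
    simp)
  have hcop : IsCoprime i (orderOf D.a : ℤ) :=
    (((Nat.prime_iff_prime_int.1 D.prime).coprime_iff_not_dvd).2 fun hdvd => hne (by
      rw [← hys] at hdvd; exact orderOf_dvd_iff_zpow_eq_one.1 hdvd)).symm
  obtain ⟨c, d, hcd⟩ := hcop
  have hy : g * D.y * g⁻¹ ∈ zpowers D.y := by
    have e : D.y = (D.y ^ i) ^ c := by
      conv_lhs => rw [← zpow_one D.y, ← hcd, zpow_add, mul_comm c i, zpow_mul, mul_comm d,
        zpow_mul, zpow_natCast, ← hys, pow_orderOf_eq_one, one_zpow, mul_one]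
    rw [e, ← conj_zpow, ← e]
    exact zpow_mem hgi c
  -- `g` centralises the involution
  have hgH : g ∈ E.H := by
    have htW : g * E.t * g⁻¹ ∈ D.W := by
      obtain ⟨j, hj⟩ := hy
      replace hj : D.y ^ j = g * D.y * g⁻¹ := hj
      have hct : Commute (g * E.t * g⁻¹) (D.y ^ j) := by
        rw [hj]
        have := (FixedT.commute_t (R.psl_mem D.a)).eq
        show g * E.t * g⁻¹ * (g * D.y * g⁻¹) = g * D.y * g⁻¹ * (g * E.t * g⁻¹)
        rw [show g * E.t * g⁻¹ * (g * D.y * g⁻¹) = g * (E.t * D.y) * g⁻¹ by group, y, ← this]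
        group
      refine mem_centralizer_singleton_iff.2 ?_
      have hjne : ¬ (orderOf D.a : ℤ) ∣ j := fun hdvd => by
        rw [← hys] at hdvd
        rw [orderOf_dvd_iff_zpow_eq_one.1 hdvd] at hj
        have h1 : D.y = 1 := conj_eq_one_iff.1 hj.symm
        rw [h1, orderOf_one] at hys
        exact D.prime.ne_one hys.symm
      obtain ⟨c', d', hcd'⟩ : IsCoprime j (orderOf D.a : ℤ) :=
        (((Nat.prime_iff_prime_int.1 D.prime).coprime_iff_not_dvd).2 hjne).symm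
      have e : D.y = (D.y ^ j) ^ c' := by
        conv_lhs => rw [← zpow_one D.y, ← hcd', zpow_add, mul_comm c' j, zpow_mul, mul_comm d',
          zpow_mul, zpow_natCast, ← hys, pow_orderOf_eq_one, one_zpow, mul_one]
      rw [e]
      exact (hct.zpow_right c').eq
    have h2 : g * E.t * g⁻¹ * (g * E.t * g⁻¹) = 1 := by
      rw [show g * E.t * g⁻¹ * (g * E.t * g⁻¹) = g * (E.t * E.t) * g⁻¹ by group, FixedT.t_sq]
      simp
    rcases D.eq_t htW h2 with h | h
    · exact absurd (conj_eq_one_iff.1 h) E.ne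
    · exact FixedT.mem_H (mul_inv_eq_iff_eq_mul.1 h)
  obtain ⟨⟨e, z, σ⟩, hp⟩ := exists_hel (R := R) hgH
  have hconj : g * D.y * g⁻¹ = R.psl (z * D.a * z⁻¹) := by
    refine mul_inv_eq_iff_eq_mul.2 ?_
    rw [hp, y, ← hel_psl, ← hel_psl, hel_mul, hel_mul]
    simp [D.fix σ]
  have hz : z * D.a * z⁻¹ ∈ zpowers D.a := by
    obtain ⟨j, hj⟩ := hy
    refine ⟨j, R.psl_inj ?_⟩
    show R.psl (D.a ^ j) = _
    rw [map_zpow, ← hconj]
    exact hj
  rcases D.norm z hz with h | h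
  · exact Or.inl (hp ▸ D.hel_W_iff.2 h)
  · refine Or.inr ?_
    rw [hp, wG, ← hel_psl, hel_mul]
    exact D.hel_W_iff.2 (by simpa using h)

end Data

end CfsgLib.Walter.Twist.Except
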