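import Cfsg.Agent.Lib.Walter.Twist.Assembly
import Cfsg.Agent.Lib.Walter.Twist.FixedBasic
import Cfsg.Agent.Lib.ReeOrder.Local.Characteristic

/-!
Walter, rank three, piece T: an element of prime order of the split torus fixed by the field part when
the fixed field is larger than `F₃`.
-/

set_option autoImplicit false
set_option linter.unusedSectionVars false
set_option linter.style.haveILetI false

namespace CfsgLib.Walter.Twist.FixedT

open Subgroup Matrix CfsgLib.AutPSL CfsgLib.SL2Tori CfsgLib.ReeType CfsgLib.ReeOrder CfsgLib.FieldGalois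

universe u

variable {G : Type u} [Group G] [Finite G] {E : Setup G}

local notation "PSLK" K => Matrix.ProjectiveSpecialLinearGroup (Fin 2) K

theorem fieldAut_diag {K : Type} [Field K] [Fintype K] [DecidableEq K] (σ : K ≃+* K) (a : Kˣ) :
    fieldAut σ (Char96.diag a : PSLK K) = Char96.diag (Units.map (σ : K →+* K).toMonoidHom a) := by
  show fieldAut σ (QuotientGroup.mk _ : PSLK K) = QuotientGroup.mk _
  rw [fieldAut_mk]
  congr 1
  refine Subtype.ext ?_
  rw [slField_coe]
  ext i j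
  fin_cases i <;> fin_cases j <;> simp [bEl_coe]

/-- A fixed torus element of prime order. -/
theorem exists_fixed_torus (R : Frame E) [CharP R.F 3] (hq : R.q ≠ 3 ^ R.f) :
    ∃ (a : R.Fˣ) (s : ℕ), s.Prime ∧ 5 ≤ s ∧ s ∣ (R.q - 1) / 2 ∧
      orderOf (Char96.diag a : PSLK R.F) = s ∧
      (∀ σ : R.Γ, fieldAut (σ : R.F ≃+* R.F) (Char96.diag a : PSLK R.F) = Char96.diag a) := by
  classical
  obtain ⟨σ, k, -, -, hk, hK, hqk, hfix⟩ := R.exists_generator
  have hk1 : k ≠ 1 := fun e => hq (by rw [hqk, e, pow_one])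
  have hk3 : 3 ≤ k := by obtain ⟨j, rfl⟩ := hk; omega
  obtain ⟨m, hm⟩ : ∃ m, 3 ^ k = 4 * m + 3 := by
    obtain ⟨j, rfl⟩ := hk
    have h4 : ∀ i : ℕ, ∃ m, 3 ^ (2 * i + 1) = 4 * m + 3 := by
      intro i
      induction i with
      | zero => exact ⟨0, rfl⟩
      | succ i ih =>
        obtain ⟨m, hm⟩ := ih
        exact ⟨9 * m + 6, by rw [show 2 * (i + 1) + 1 = 2 * i + 1 + 2 by ring, pow_add, hm]; ring⟩
    exact h4 j
  have hbig : 27 ≤ 3 ^ k :=
    le_trans (by norm_num) (Nat.pow_le_pow_right (show 1 ≤ 3 by norm_num) hk3)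
  obtain ⟨s, hs, hsd⟩ := Nat.exists_prime_and_dvd (show 2 * m + 1 ≠ 1 by omega)
  haveI := Fact.mk hs
  have hs5 : 5 ≤ s := by
    have h2 : s ≠ 2 := fun e => by rw [e] at hsd; omega
    have h3 : s ≠ 3 := fun e => by
      rw [e] at hsd
      have : 3 ∣ 3 ^ k := dvd_pow_self 3 (by omega)
      omega
    have h4 : s ≠ 4 := fun e => by rw [e] at hs; norm_num at hs
    have := hs.two_le
    omega
  set K := fixedSub (σ : R.F ≃+* R.F)
  haveI : Fintype K := Fintype.ofFinite _
  obtain ⟨u, hu⟩ := exists_prime_orderOf_dvd_card' (G := Kˣ) s (by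
    rw [Nat.card_units, hK, hm]
    exact hsd.trans ⟨2, by omega⟩)
  set a : R.Fˣ := Units.map K.subtype.toMonoidHom u
  have ha : orderOf a = s := by
    rw [orderOf_injective _ (Units.map_injective K.subtype_injective), hu]
  refine ⟨a, s, hs, hs5, ?_, ?_, fun τ => ?_⟩
  · refine hsd.trans ?_
    have h1 : 3 ^ k - 1 ∣ R.q - 1 := by rw [hqk]; simpa using Nat.sub_dvd_pow_sub_pow (3 ^ k) 1 R.f
    rw [hm, show 4 * m + 3 - 1 = (2 * m + 1) * 2 by omega] at h1
    exact Nat.dvd_div_of_mul_dvd (by rwa [mul_comm])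
  · refine orderOf_eq_prime ?_ fun e => ?_
    · show Char96.diagHom a ^ s = 1
      rw [← map_pow, ← ha, pow_orderOf_eq_one, map_one]
    · rcases Char96.diag_eq_one e with h | h
      · rw [h, orderOf_one] at ha; omega
      · have h2 : orderOf a ∣ 2 := orderOf_dvd_of_pow_eq_one (by rw [h]; simp)
        have := Nat.le_of_dvd two_pos h2
        omega
  · rw [fieldAut_diag]
    congr 1
    exact Units.ext ((hfix _).1 (SetLike.coe_mem _) τ)

/-- Piece T from the centralisers of fixed torus elements. -/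
theorem fixedGoal_of
    (h : ∀ (G : Type u) [Group G] [Finite G] (E : Setup G), Local E → E.W = ⊥ → SmallField G →
      ∀ R : Frame E, CharP R.F 3 → ¬ 3 ∣ R.f → 1 < R.f →
      ∀ (x : Matrix.ProjectiveSpecialLinearGroup (Fin 2) R.F) (s : ℕ), s.Prime → 5 ≤ s →
        s ∣ (R.q - 1) / 2 → orderOf x = s →
        (∀ σ : R.Γ, fieldAut (σ : R.F ≃+* R.F) x = x) →
        centralizer ({R.psl x} : Set G) ≤ E.H) : FixedGoal.{u} := by
  intro G _ _ E hloc hW hsmall R h3 hn3 hf hq
  haveI := h3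
  obtain ⟨a, s, hs, hs5, hsd, ha, hfix⟩ := exists_fixed_torus R hq
  have ho : orderOf (R.psl (Char96.diag a)) = s := by rw [orderOf_psl, ha]
  refine ⟨R.psl (Char96.diag a), R.psl_mem _, by rw [ho]; exact hs, by rw [ho]; omega,
    ?_, fun σ => (commute_fld_psl R).2 (hfix σ), h G E hloc hW hsmall R h3 hn3 hf _ s hs hs5 hsd ha hfix⟩
  rw [ho]
  exact hsd.trans (Nat.div_dvd_of_dvd (by
    have := odd_q R
    rw [Nat.odd_iff] at this
    have : R.q = Fintype.card R.F := rfl
    omega))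

end CfsgLib.Walter.Twist.FixedT
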