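import Cfsg.Agent.Lib.Walter.Twist.FixedPsl
import Cfsg.Agent.Lib.ReeOrder.Local.KleinAbelian
import Cfsg.Agent.Lib.ReeOrder.Local.PartTools

/-!
Walter, rank three, piece T: no prime order element of the centraliser of another involution is inverted
by `t` and centralises a torus element fixed by the field part, given the same inside the centraliser of
the field part.
-/

set_option autoImplicit false
set_option linter.unusedSectionVars false
set_option linter.style.haveILetI false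

namespace CfsgLib.Walter.Twist.FixedT

open Subgroup Matrix CfsgLib.AutPSL CfsgLib.ReeOrder CfsgLib.ReeOrder.Local

universe u

/-- Inside the centraliser of the field part, centralisers of torus elements of order `s` lie in `H`. -/
def TorusFixed {G : Type u} [Group G] [Finite G] {E : Setup G} (R : Frame E) (s : ℕ) : Prop :=
  ∀ x : ProjectiveSpecialLinearGroup (Fin 2) R.F, orderOf x = s → R.psl x ∈ cfld R →
    ∀ w ∈ cfld R, Commute w (R.psl x) → w ∈ E.H

section Psl

variable {F : Type} [Field F] [Fintype F]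

local notation "PSLK" => ProjectiveSpecialLinearGroup (Fin 2) F

/-- An element conjugating a torus element into the torus normalises it. -/
theorem torus_normalizes {C : Subgroup PSLK} (hC : Psl.IsTorus C) {x n : PSLK} (hx : x ∈ C)
    (hx2 : x * x ≠ 1) (hn : n * x * n⁻¹ ∈ C) : ∀ c ∈ C, n * c * n⁻¹ ∈ C := by
  intro c hc
  haveI := hC.cyclic
  refine hC.cent _ hn (fun e => hx2 ?_) _ (commute_conj ?_)
  · calc x * x = n⁻¹ * (n * x * n⁻¹ * (n * x * n⁻¹)) * n := by group
      _ = 1 := by rw [e]; group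
  · exact congrArg Subtype.val (mul_comm' (⟨c, hc⟩ : C) ⟨x, hx⟩)

/-- Outside the torus its normaliser inverts it. -/
theorem torus_inverts {C : Subgroup PSLK} (hC : Psl.IsTorus C) (h2 : 2 < Nat.card C) {n : PSLK}
    (hn : ∀ c ∈ C, n * c * n⁻¹ ∈ C) (hnC : n ∉ C) : n * n = 1 ∧ ∀ c ∈ C, n * c * n⁻¹ = c⁻¹ := by
  have hn2 := (hC.normalizer n hn h2).resolve_left hnC
  refine ⟨hn2, fun c hc => ?_⟩
  have hncC : n * c ∉ C := fun h => hnC (by simpa using mul_mem h (inv_mem hc))
  have hnc : ∀ d ∈ C, n * c * d * (n * c)⁻¹ ∈ C := fun d hd => by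
    have := hn _ (mul_mem (mul_mem hc hd) (inv_mem hc))
    rwa [show n * c * d * (n * c)⁻¹ = n * (c * d * c⁻¹) * n⁻¹ by group]
  have h := (hC.normalizer _ hnc h2).resolve_left hncC
  rw [inv_eq_of_mul_eq_one_right hn2]
  exact eq_inv_of_mul_eq_one_left (by rw [← h]; group)

/-- An involution is outside a torus of odd order. -/
theorem not_mem_of_odd {C : Subgroup PSLK} (hC : Odd (Nat.card C)) {j : PSLK} (hj : orderOf j = 2) :
    j ∉ C := fun h => by
  have h2 := hj ▸ Subgroup.orderOf_dvd_natCard C h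
  exact Nat.not_even_iff_odd.2 hC (even_iff_two_dvd.2 h2)

end Psl

variable {G : Type u} [Group G] [Finite G] {E : Setup G} {R : Frame E}

local notation "PSLF" => ProjectiveSpecialLinearGroup (Fin 2) R.F

theorem fieldAut_odd (σ : R.Γ) : Odd (orderOf (fieldAut (n := 2) (σ : R.F ≃+* R.F))) := by
  rw [orderOf_injective _ (fieldAut_injective (n := 2) (F := R.F) le_rfl), Subgroup.orderOf_coe]
  exact R.Γ_odd.of_dvd_nat (orderOf_dvd_natCard σ)

/-- The field part respects a torus whose element it moves inside. -/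
theorem field_torus {C : Subgroup PSLF} (hC : Psl.IsTorus C) {x : PSLF} (hx : x ∈ C)
    (hx2 : x * x ≠ 1) {σ : R.Γ} (hσ : Commute (fieldAut (σ : R.F ≃+* R.F) x) x) :
    ∀ c ∈ C, fieldAut (σ : R.F ≃+* R.F) c ∈ C := by
  intro c hc
  haveI := hC.cyclic
  set α := fieldAut (n := 2) (σ : R.F ≃+* R.F) with hα
  refine hC.cent _ (hC.cent x hx hx2 _ hσ) (fun e => hx2 (α.injective (by rw [map_mul, e, map_one]))) _ ?_
  exact (show Commute c x from congrArg Subtype.val (mul_comm' (⟨c, hc⟩ : C) ⟨x, hx⟩)).map α.toMonoidHom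

/-- The involution of a torus is centralised by the centraliser in `H` of its elements. -/
theorem commute_torus_invol {C : Subgroup PSLF} (hC : Psl.IsTorus C) {x k : PSLF} (hx : x ∈ C)
    (hx2 : x * x ≠ 1) (hk : k ∈ C) (hk2 : orderOf k = 2) {h : G} (hh : h ∈ E.H)
    (hc : Commute h (R.psl x)) : Commute h (R.psl k) := by
  obtain ⟨y, hy⟩ := conj_psl R hh k
  haveI := hC.cyclic
  have hkx : Commute k x := congrArg Subtype.val (mul_comm' (⟨k, hk⟩ : C) ⟨x, hx⟩)
  have hyx : Commute y x := by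
    have h1 := commute_conj (g := h) (hkx.map R.psl)
    rw [hy, show h * R.psl x * h⁻¹ = R.psl x by rw [hc.eq, mul_inv_cancel_right]] at h1
    exact R.psl_inj (by rw [map_mul, map_mul, h1.eq])
  have hyC : y ∈ C := hC.cent x hx hx2 y hyx
  have hy2 : orderOf y = 2 := by rw [← orderOf_psl R, ← hy, orderOf_conj', orderOf_psl R, hk2]
  have he : (⟨y, hyC⟩ : C) = ⟨k, hk⟩ := CfsgLib.PSL2.eq_of_orderOf_two
    (by rw [Subgroup.orderOf_mk, hy2]) (by rw [Subgroup.orderOf_mk, hk2])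
  rw [show y = k from congrArg Subtype.val he] at hy
  exact (mul_inv_eq_iff_eq_mul.1 hy)

/-- Odd elements of `PSL₂` inverted by involutions, by their orders. -/
theorem inverted_cases [CharP R.F 3] {x j : PSLF} (hx : Odd (orderOf x)) (x1 : x ≠ 1)
    (hj : orderOf j = 2) (hinv : j * x * j⁻¹ = x⁻¹) :
    orderOf x ∣ oddTorus (Fintype.card R.F) ∨ orderOf x ∣ coTorus (Fintype.card R.F) := by
  haveI : Fact (Nat.Prime 3) := ⟨Nat.prime_three⟩
  obtain ⟨h3, h11⟩ := q_mod_three R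
  rcases Psl.odd_order_cases R.q_mod h11 3 hx with h | h | h
  · exact absurd hinv (Psl.unipotent_not_inverted R.q_mod h11 3 h3 x1 h hj)
  · exact Or.inl h
  · exact Or.inr h

variable [CharP R.F 3] (hloc : Local E) {s : ℕ}

/-- The odd torus case. -/
theorem false_of_odd_torus [Fact s.Prime] (hs2 : s ≠ 2) (hM : TorusFixed R s) {x₀ : PSLF}
    (hx₀ : orderOf x₀ = s) (hsb : s ∣ oddTorus (Fintype.card R.F))
    (hfix₀ : ∀ σ : R.Γ, fieldAut (σ : R.F ≃+* R.F) x₀ = x₀) (hloc : Local E)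
    {x j : PSLF} {t' y : G} (hxodd : Odd (orderOf x)) (x1 : x ≠ 1)
    (hxb : orderOf x ∣ oddTorus (Fintype.card R.F))
    (ht'H : t' ∈ E.H) (ht'M : t' ∈ cfld R) (ht'2 : orderOf t' = 2) (hne : t' ≠ E.t)
    (hj : orderOf j = 2) (hjt : t' = R.psl j ∨ t' = E.t * R.psl j) (hinv : j * x * j⁻¹ = x⁻¹)
    (hfix : ∀ σ : R.Γ, Commute (fieldAut (σ : R.F ≃+* R.F) x) x)
    (hyM : y ∈ cfld R) (hys : orderOf y = s) (hyt' : Commute y t') (hyz : Commute y (R.psl x))
    (hyinv : E.t * y * E.t⁻¹ = y⁻¹) : False := by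
  obtain ⟨h3, h11⟩ := q_mod_three R
  haveI : Fact (Nat.Prime 2) := ⟨Nat.prime_two⟩
  have h8 := R.q_mod
  have hb5 := five_le_oddTorus h8 h11
  have hs : s.Prime := Fact.out
  have hsodd : Odd s := hs.odd_of_ne_two hs2
  obtain ⟨C, hC, hxC, hcC, hcent⟩ := Psl.exists_torus_odd h8 h11 x1 hxb
  haveI := hC.cyclic
  have hx2 := sq_ne_one hxodd x1
  have hCodd : Odd (Nat.card C) := hcC ▸ odd_oddTorus h8
  have hC2 : 2 < Nat.card C := by omega
  have hxyC : ∀ c ∈ C, ∀ d ∈ C, Commute c d := fun c hc d hd =>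
    congrArg Subtype.val (mul_comm' (⟨c, hc⟩ : C) ⟨d, hd⟩)
  -- `j` inverts the torus
  have hjn := torus_normalizes hC hxC hx2 (n := j) (by rw [hinv]; exact inv_mem hxC)
  obtain ⟨-, hjinv⟩ := torus_inverts hC hC2 hjn (not_mem_of_odd hCodd hj)
  -- a fixed element of order `s` in the torus
  have hx₀1 : x₀ ≠ 1 := fun e => hs.ne_one (by rw [← hx₀, e, orderOf_one])
  obtain ⟨k, hk⟩ := Psl.conj_odd h8 h11 hx₀1 (hx₀ ▸ hsb) x1 hxb
  set u₀ := k * x₀ * k⁻¹ with hu₀
  have hu₀C : u₀ ∈ C := hcent u₀ (hk x₀ (Commute.refl _))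
  have hu₀s : orderOf u₀ = s := by rw [hu₀, orderOf_conj', hx₀]
  have hu₀2 : u₀ * u₀ ≠ 1 := sq_ne_one (hu₀s ▸ hsodd) fun e => hs.ne_one (by rw [← hu₀s, e, orderOf_one])
  have hu₀fix : ∀ σ : R.Γ, fieldAut (σ : R.F ≃+* R.F) u₀ = u₀ := by
    intro σ
    have hαC := field_torus hC hxC hx2 (hfix σ) u₀ hu₀C
    set α := fieldAut (n := 2) (σ : R.F ≃+* R.F) with hα
    set n := α k * k⁻¹ with hn
    have e : α u₀ = n * u₀ * n⁻¹ := by
      rw [hn, hu₀, map_mul, map_mul, map_inv, hfix₀ σ]; group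
    refine fixed_of_odd (fieldAut_odd σ) ?_
    have hnn := torus_normalizes hC hu₀C hu₀2 (n := n) (e ▸ hαC)
    rw [← hα, e]
    by_cases hnC : n ∈ C
    · exact Or.inl (by rw [(hxyC n hnC u₀ hu₀C).eq, mul_inv_cancel_right])
    · exact Or.inr ((torus_inverts hC hC2 hnn hnC).2 u₀ hu₀C)
  set v := R.psl u₀ with hv
  have hvM : v ∈ cfld R := (psl_mem_cfld R).2 hu₀fix
  have hvt : Commute v E.t := commute_t (R.psl_mem u₀)
  have hvinv : t' * v * t'⁻¹ = v⁻¹ := by
    rw [hv, conj_psl_invol R hjt, hjinv u₀ hu₀C, map_inv]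
  -- the centraliser of `x` in the centraliser of the field part
  set X := centralizer ({R.psl x} : Set G) ⊓ cfld R with hX
  have hmemX : ∀ {g : G}, g ∈ X ↔ Commute g (R.psl x) ∧ g ∈ cfld R := fun {g} => by
    rw [hX, Subgroup.mem_inf, mem_centralizer_singleton_iff]; rfl
  have htX : E.t ∈ X := hmemX.2 ⟨(commute_t (R.psl_mem x)).symm, t_mem_cfld R⟩
  obtain ⟨P₀, hP₀⟩ := (IsPGroup.of_card (n := 1) (by
    rw [Nat.card_zpowers, pow_one, ← Subgroup.orderOf_coe]; exact E.orderOf_t) :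
      IsPGroup 2 (zpowers (⟨E.t, htX⟩ : X))).exists_le_sylow
  have htP₀ : (⟨E.t, htX⟩ : X) ∈ P₀ := hP₀ (mem_zpowers _)
  have hP₀card : Nat.card (P₀ : Subgroup X) = 2 := by
    obtain ⟨Q, hQ⟩ := (P₀.isPGroup'.map X.subtype).exists_le_sylow
    obtain ⟨g, hg⟩ := MulAction.exists_smul_eq G Q E.S
    have hQS : ∀ q ∈ Q, g * q * g⁻¹ ∈ (E.S : Subgroup G) := fun q hq => by
      rw [← hg, Sylow.coe_subgroup_smul]; exact ⟨q, hq, rfl⟩
    have hin : ∀ p : X, p ∈ P₀ → p = 1 ∨ p = ⟨E.t, htX⟩ := by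
      intro p hp
      by_contra hcon
      push Not at hcon
      have hpQ : (p : G) ∈ Q := hQ ⟨p, hp, rfl⟩
      have htQ : E.t ∈ Q := hQ ⟨_, htP₀, rfl⟩
      have hpt : Commute (p : G) E.t := by
        have h := commute_conj (g := g⁻¹) (E.comm (hQS _ hpQ) (hQS _ htQ) : Commute _ _)
        simpa [mul_assoc] using h
      have hpp : (p : G) * p = 1 := by
        have h := E.sq _ (hQS _ hpQ)
        calc (p : G) * p = g⁻¹ * (g * p * g⁻¹ * (g * p * g⁻¹)) * g := by group
          _ = 1 := by rw [h]; group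
      have hp2 : orderOf (p : G) = 2 :=
        orderOf_eq_prime (by rw [pow_two, hpp]) fun e => hcon.1 (Subtype.ext e)
      obtain ⟨i, hi, hpi⟩ := invol_form R (mem_H hpt) hp2 fun e => hcon.2 (Subtype.ext e)
      exact not_mem_of_odd hCodd hi (hcent i ((commute_psl_iff R hpi x).1 (hmemX.1 p.2).1))
    have hne1 : (⟨E.t, htX⟩ : X) ≠ 1 := fun e => E.ne (congrArg Subtype.val e)
    rw [Nat.card_eq_two_iff]
    refine ⟨⟨1, one_mem _⟩, ⟨_, htP₀⟩, fun e => hne1 (congrArg Subtype.val e).symm, ?_⟩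
    refine Set.eq_univ_of_forall fun p => ?_
    rcases hin p p.2 with h | h
    · exact Or.inl (Subtype.ext h)
    · exact Or.inr (Subtype.ext h)
  obtain ⟨O, -, -, hO⟩ := ReeOrder.Conf.exists_odd_kernel P₀ hP₀card htP₀
    fun e => E.ne (congrArg Subtype.val e)
  set Y := O.map X.subtype with hY
  have hmemY : ∀ {g : G}, g ∈ Y ↔ g ∈ X ∧ Odd (orderOf g) := fun {g} => by
    constructor
    · rintro ⟨o, ho, rfl⟩
      refine ⟨o.2, ?_⟩
      show Odd (orderOf (o : G))
      rw [Subgroup.orderOf_coe]; exact (hO o).1 ho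
    · rintro ⟨hg, hodd⟩
      exact ⟨⟨g, hg⟩, (hO _).2 (by rwa [Subgroup.orderOf_mk]), rfl⟩
  have hYodd : Odd (Nat.card Y) := by
    refine Nat.not_even_iff_odd.1 fun he => ?_
    obtain ⟨⟨g, hg⟩, hg2⟩ := exists_prime_orderOf_dvd_card' (G := Y) 2 he.two_dvd
    rw [Subgroup.orderOf_mk] at hg2
    have := (hmemY.1 hg).2
    rw [hg2] at this
    exact absurd this (by decide)
  have htt' : Commute E.t t' := (commute_t ht'H).symm
  have ht'sq : t' * t' = 1 := Psl.involution_mul_self ht'2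
  have hnormX : ∀ e, e * e = 1 → (∀ g ∈ X, e * g * e⁻¹ ∈ X) → e ∈ normalizer (Y : Set G) := fun e he hX' =>
    mem_normalizer_of_forall fun g hg =>
      hmemY.2 ⟨hX' g (hmemY.1 hg).1, by rw [orderOf_conj']; exact (hmemY.1 hg).2⟩
  have htY : E.t ∈ normalizer (Y : Set G) :=
    hnormX _ t_sq fun g hg => mul_mem (mul_mem htX hg) (inv_mem htX)
  have ht'Y : t' ∈ normalizer (Y : Set G) := hnormX _ ht'sq fun g hg => by
    obtain ⟨hg1, hg2⟩ := hmemX.1 hg
    refine hmemX.2 ⟨?_, mul_mem (mul_mem ht'M hg2) (inv_mem ht'M)⟩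
    have h := commute_conj (g := t') hg1
    rw [conj_psl_invol R hjt, hinv, map_inv] at h
    simpa using h.inv_right
  have hvY : v ∈ Y :=
    hmemY.2 ⟨hmemX.2 ⟨(hxyC u₀ hu₀C x hxC).map R.psl, hvM⟩, by rw [hv, orderOf_psl R, hu₀s]; exact hsodd⟩
  have hyY : y ∈ Y := hmemY.2 ⟨hmemX.2 ⟨hyz, hyM⟩, by rw [hys]; exact hsodd⟩
  obtain ⟨E₄, hE₄, hE4, htE, ht'E, hmem⟩ := PartTools.exists_four E.orderOf_t ht'2 htt' (Ne.symm hne)
  have hEY : E₄ ≤ normalizer (Y : Set G) := by
    intro e he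
    rcases hmem e he with rfl | rfl | rfl | rfl
    exacts [one_mem _, htY, ht'Y, mul_mem htY ht'Y]
  have hcop : (Nat.card E₄).Coprime (Nat.card Y) := by
    rw [hE4, show (4 : ℕ) = 2 ^ 2 by norm_num]
    exact (Nat.coprime_two_left.2 hYodd).pow_left 2
  haveI := hE₄.1
  have hsol : Group.IsSolvable E₄ ∨ Group.IsSolvable Y :=
    Or.inl (isSolvable_of_comm fun a b => IsMulCommutative.is_comm.comm a b)
  have hU : ∀ g : G, orderOf g = s → E.t * g * E.t⁻¹ ∈ zpowers g → t' * g * t'⁻¹ ∈ zpowers g →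
      IsPGroup s (zpowers g) ∧ E₄ ≤ normalizer (zpowers g : Set G) := by
    intro g hg h1 h2
    refine ⟨IsPGroup.of_card (n := 1) (by rw [Nat.card_zpowers, hg, pow_one]), ?_⟩
    have key : ∀ e, e * g * e⁻¹ ∈ zpowers g → e ∈ normalizer (zpowers g : Set G) := fun e he =>
      mem_normalizer_of_forall fun z hz => by
        obtain ⟨m, rfl⟩ := mem_zpowers_iff.1 hz
        rw [← conj_zpow]
        exact zpow_mem he m
    intro e he
    rcases hmem e he with rfl | rfl | rfl | rfl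
    exacts [one_mem _, key _ h1, key _ h2, mul_mem (key _ h1) (key _ h2)]
  obtain ⟨hvp, hvn⟩ := hU v (by rw [hv, orderOf_psl R, hu₀s])
    (by rw [hvt.symm.eq, mul_inv_cancel_right]; exact mem_zpowers v)
    (by rw [hvinv]; exact inv_mem (mem_zpowers v))
  obtain ⟨hyp, hyn⟩ := hU y hys (by rw [hyinv]; exact inv_mem (mem_zpowers y))
    (by rw [hyt'.symm.eq, mul_inv_cancel_right]; exact mem_zpowers y)
  obtain ⟨P, hvP, hPE⟩ := Coprime.exists_invariant_sylow_ge E₄ Y hEY hcop hsol s (zpowers v)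
    (zpowers_le.2 hvY) hvp hvn
  obtain ⟨Q, hyQ, hQE⟩ := Coprime.exists_invariant_sylow_ge E₄ Y hEY hcop hsol s (zpowers y)
    (zpowers_le.2 hyY) hyp hyn
  obtain ⟨c, hcE, hcPQ⟩ := Coprime.invariant_sylow_conj E₄ Y hEY hcop hsol s P Q hPE hQE
  set w := (c : G)⁻¹ * y * (c : G) with hw
  have hwP : w ∈ (P : Subgroup Y).map Y.subtype := by
    have h := hyQ (mem_zpowers y)
    rw [← hcPQ] at h
    exact Coprime.mem_map_subtype_smul.1 h
  have hct : ∀ e ∈ E₄, Commute (c : G) e := fun e he => (mem_centralizer_iff.1 hcE e he).symm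
  have hws : orderOf w = s := by
    rw [hw]
    conv_lhs => rw [show (c : G)⁻¹ * y * (c : G) = (c : G)⁻¹ * y * ((c : G)⁻¹)⁻¹ by rw [inv_inv]]
    rw [orderOf_conj', hys]
  have hP : IsPGroup s ((P : Subgroup Y).map Y.subtype) := P.isPGroup'.map _
  have hsub : ∀ g ∈ (P : Subgroup Y).map Y.subtype, g ∈ X ∧ g ∈ cfld R := fun g hg => by
    have h := (hmemY.1 (map_subtype_le _ hg)).1
    exact ⟨h, (hmemX.1 h).2⟩
  have hspow : ∀ g : G, g ∈ (P : Subgroup Y).map Y.subtype → ∃ i : ℕ, orderOf g = s ^ i := fun g hg => by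
    obtain ⟨m, hm⟩ := hP ⟨g, hg⟩
    obtain ⟨i, -, hi⟩ := (Nat.dvd_prime_pow hs (m := m)).1
      (orderOf_dvd_of_pow_eq_one (congrArg Subtype.val hm))
    exact ⟨i, hi⟩
  have hsord : ∀ a : PSLF, ∀ i : ℕ, orderOf a = s ^ i → a ≠ 1 → ∃ m : ℕ, orderOf (a ^ m) = s := by
    intro a i hi ha
    rcases i with _ | i
    · exact absurd (orderOf_eq_one_iff.1 (by rw [hi, pow_zero])) ha
    · exact ⟨s ^ i, by rw [orderOf_pow_of_dvd (pow_ne_zero _ hs.ne_zero) (hi ▸ pow_dvd_pow s (by omega)),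
        hi, pow_succ, Nat.mul_div_cancel_left _ (pow_pos hs.pos i)]⟩
  refine no_two_parts hs2 _ hP t_sq ht'sq htt'
    (fun g hg => (mem_normalizer_iff.1 (hPE htE) g).1 hg)
    (fun g hg => (mem_normalizer_iff.1 (hPE ht'E) g).1 hg) ?_ ?_
    (hvP (mem_zpowers v)) (fun e => hs.ne_one (by rw [← hu₀s, ← orderOf_psl R, ← hv, e, orderOf_one]))
    hvt hvinv hwP (fun e => hs.ne_one (by rw [← hws, e, orderOf_one])) ?_ ?_
  · -- common fixed points are in the field part
    intro g hg hgt hgt' d hd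
    obtain ⟨i, hi⟩ := hspow g hg
    have hgodd : Odd (orderOf g) := hi ▸ hsodd.pow
    obtain ⟨a, σ, hgaσ⟩ := odd_form R (mem_H hgt) hgodd
    have haM : R.psl a ∈ cfld R := by
      have := mul_mem (hsub g hg).2 (inv_mem (fld_mem_cfld R σ))
      rwa [hgaσ, mul_inv_cancel_right] at this
    have hcσ : Commute (R.psl a) (R.fld σ) := (mem_cfld R).1 haM σ
    have haj : Commute j a := by
      refine (commute_psl_iff R hjt a).1 ?_
      have h1 : Commute t' g := hgt'.symm
      rw [hgaσ] at h1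
      have := h1.mul_right ((mem_cfld R).1 ht'M σ).inv_right
      rwa [mul_inv_cancel_right] at this
    have hapow : a ^ (s ^ i) = 1 := by
      have h1 := pow_orderOf_eq_one g
      rw [hi, hgaσ, hcσ.mul_pow, ← map_pow, ← map_pow] at h1
      exact (R.eq_one _ _ h1).1
    have ha1 : a = 1 := by
      by_contra ha
      obtain ⟨i', -, hi'⟩ := (Nat.dvd_prime_pow hs).1 (orderOf_dvd_of_pow_eq_one hapow)
      obtain ⟨m, hm⟩ := hsord a i' hi' ha
      obtain ⟨C', -, -, hcC', hcent'⟩ := Psl.exists_torus_odd h8 h11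
        (fun e => hs.ne_one (by rw [← hm, e, orderOf_one])) (hm ▸ hsb)
      exact not_mem_of_odd (hcC' ▸ odd_oddTorus h8) hj (hcent' j (haj.pow_right m))
    rw [hgaσ, ha1, map_one, one_mul]
    exact ((mem_cfld R).1 (hsub d hd).2 σ).symm
  · -- parts
    intro e e' hee g hg hg1 hge hge' d hd hdg
    have hcases : e * e = 1 ∧ e' * e' = 1 ∧ Commute e e' ∧ e ∈ cfld R ∧ e ≠ 1 := by
      have t'1 : t' ≠ 1 := fun h => by rw [h, orderOf_one] at ht'2; omega
      rcases hee with ⟨rfl, rfl⟩ | ⟨rfl, rfl⟩ | ⟨rfl, rfl⟩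
      · exact ⟨t_sq, ht'sq, htt', t_mem_cfld R, E.ne⟩
      · exact ⟨ht'sq, t_sq, htt'.symm, ht'M, t'1⟩
      · refine ⟨?_, t_sq, (Commute.refl _).mul_left htt'.symm, mul_mem (t_mem_cfld R) ht'M, fun h => hne ?_⟩
        · calc E.t * t' * (E.t * t') = E.t * (t' * E.t) * t' := by group
            _ = E.t * E.t * (t' * t') := by rw [← htt'.eq]; group
            _ = 1 := by rw [t_sq, ht'sq, one_mul]
        · exact (inv_eq_of_mul_eq_one_right h).symm.trans (inv_eq_of_mul_eq_one_right t_sq)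
    obtain ⟨he2, he'2, hee', heM, he1⟩ := hcases
    obtain ⟨m, hmM, hm⟩ := exists_conj_cfld R hloc heM (orderOf_eq_prime (by rw [pow_two, he2]) he1)
    obtain ⟨i, hi⟩ := hspow g hg
    have hgodd : Odd (orderOf g) := hi ▸ hsodd.pow
    set g' := m⁻¹ * g * m⁻¹⁻¹ with hg'
    have htconj : m⁻¹ * e * m⁻¹⁻¹ = E.t := by rw [← hm]; group
    have hg'o : orderOf g' = s ^ i := by rw [hg', orderOf_conj', hi]
    have hg'H : g' ∈ E.H := mem_H (by rw [← htconj]; exact commute_conj hge)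
    obtain ⟨a, ha⟩ := psl_of_inverted R (v := m⁻¹ * e' * m⁻¹⁻¹) hg'H (by rw [hg'o]; exact hsodd.pow)
      (mem_H (by rw [← htconj]; exact commute_conj hee'.symm))
      (by rw [hg', show m⁻¹ * e' * m⁻¹⁻¹ * (m⁻¹ * g * m⁻¹⁻¹) * (m⁻¹ * e' * m⁻¹⁻¹)⁻¹ =
        m⁻¹ * (e' * g * e'⁻¹) * m⁻¹⁻¹ by group, hge']; group)
    have ha1 : a ≠ 1 := fun h => hg1 (by
      have : g' = 1 := by rw [ha, h, map_one]
      rwa [hg', conj_eq_one_iff] at this)
    obtain ⟨k', hk'⟩ := hsord a i (by rw [← orderOf_psl R, ← ha, hg'o]) ha1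
    have haM : R.psl (a ^ k') ∈ cfld R := by
      rw [map_pow, ← ha]
      exact pow_mem (mul_mem (mul_mem (inv_mem hmM) (hsub g hg).2) (inv_mem (inv_mem hmM))) k'
    have hd' : Commute (m⁻¹ * d * m⁻¹⁻¹) (R.psl (a ^ k')) := by
      rw [map_pow, ← ha]
      exact (commute_conj hdg).pow_right k'
    have := commute_t (hM _ hk' haM _ (mul_mem (mul_mem (inv_mem hmM) (hsub d hd).2)
      (inv_mem (inv_mem hmM))) hd')
    rw [← htconj] at this
    have := commute_conj (g := m) this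
    simpa [mul_assoc] using this
  · have hyt'' : Commute y t' := hyt'
    have hc' := hct t' ht'E
    rw [hw]
    exact (hc'.inv_left.mul_left hyt'').mul_left hc'
  · have hc' := hct E.t htE
    have e1 : E.t * (c : G) * E.t⁻¹ = c := by rw [hc'.symm.eq, mul_inv_cancel_right]
    rw [hw, show E.t * ((c : G)⁻¹ * y * c) * E.t⁻¹ =
      (E.t * c * E.t⁻¹)⁻¹ * (E.t * y * E.t⁻¹) * (E.t * c * E.t⁻¹) by group, e1, hyinv]
    group

/-- The other torus case: the centraliser would have a top `A₅`. -/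
theorem false_of_co_torus (hs : s.Prime) (hs2 : s ≠ 2) (hs3 : s ≠ 3) (hs5 : s ≠ 5) (hloc : Local E)
    {x j : PSLF} {t' y : G} (hxodd : Odd (orderOf x)) (x1 : x ≠ 1)
    (hxa : orderOf x ∣ coTorus (Fintype.card R.F))
    (ht'H : t' ∈ E.H) (hj : orderOf j = 2) (hjt : t' = R.psl j ∨ t' = E.t * R.psl j)
    (hinv : j * x * j⁻¹ = x⁻¹)
    (hfix : ∀ σ : R.Γ, Commute (fieldAut (σ : R.F ≃+* R.F) x) x)
    (hyM : y ∈ cfld R) (hys : orderOf y = s) (hyz : Commute y (R.psl x))
    (hyinv : E.t * y * E.t⁻¹ = y⁻¹) : False := by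
  classical
  obtain ⟨h3, h11⟩ := q_mod_three R
  haveI : Fact (Nat.Prime 2) := ⟨Nat.prime_two⟩
  have h8 := R.q_mod
  have ha3 := three_le_coTorus h8 h11
  obtain ⟨C, hC, hxC, hcC, hcent⟩ := Psl.exists_torus_co h8 h11 x1 hxa
  haveI := hC.cyclic
  have hx2 := sq_ne_one hxodd x1
  have hC2 : 2 < Nat.card C := by omega
  obtain ⟨⟨k, hkC⟩, hk⟩ := exists_prime_orderOf_dvd_card' (G := C) 2 (by rw [hcC]; exact dvd_mul_right 2 _)
  rw [Subgroup.orderOf_mk] at hk
  have hk2 : k * k = 1 := Psl.involution_mul_self hk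
  have huniq : ∀ c ∈ C, orderOf c = 2 → c = k := fun c hc hc2 => congrArg Subtype.val
    (CfsgLib.PSL2.eq_of_orderOf_two (a := (⟨c, hc⟩ : C)) (b := ⟨k, hkC⟩)
      (by rw [Subgroup.orderOf_mk, hc2]) (by rw [Subgroup.orderOf_mk, hk]))
  have hxyC : ∀ c ∈ C, ∀ d ∈ C, Commute c d := fun c hc d hd =>
    congrArg Subtype.val (mul_comm' (⟨c, hc⟩ : C) ⟨d, hd⟩)
  have hkfix : ∀ σ : R.Γ, fieldAut (σ : R.F ≃+* R.F) k = k := fun σ =>
    huniq _ (field_torus hC hxC hx2 (hfix σ) k hkC) (by rw [MulEquiv.orderOf_eq, hk])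
  set z := R.psl x with hz
  set ww := R.psl k with hww
  have hwwM : ww ∈ cfld R := (psl_mem_cfld R).2 hkfix
  have hwwt : Commute ww E.t := commute_t (R.psl_mem k)
  have hwwz : Commute ww z := (hxyC k hkC x hxC).map R.psl
  have hwwsq : ww * ww = 1 := by rw [hww, ← map_mul, hk2, map_one]
  have hwwne : ww ≠ 1 := fun e => by
    have := orderOf_psl R k
    rw [← hww, e, orderOf_one, hk] at this
    omega
  have hwwt' : ww ≠ E.t := fun e => R.ne_t k 1 (by rw [map_one, mul_one]; exact e)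
  have ht'w : Commute t' ww := by
    refine (commute_psl_iff R hjt k).2 ?_
    have hn := torus_normalizes hC hxC hx2 (n := j) (by rw [hinv]; exact inv_mem hxC)
    exact (mul_inv_eq_iff_eq_mul.1 (huniq _ (hn k hkC) (by rw [orderOf_conj', hk])))
  -- centralisers of the other two involutions
  have hback : ∀ e : G, Commute e E.t → e * e = 1 → e ≠ 1 → e ≠ E.t → Commute e z → Commute e t' →
      ∀ g : G, Commute g z → Commute g e → Commute g E.t := by
    intro e het he2 he1 hne hez het' g hgz hge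
    obtain ⟨m, hm⟩ := isConj_iff.1 (hloc.one_class E.t e E.orderOf_t
      (orderOf_eq_prime (by rw [pow_two, he2]) he1))
    have hconj : m⁻¹ * e * m⁻¹⁻¹ = E.t := by rw [← hm]; group
    have hmH : ∀ {a : G}, Commute a e → m⁻¹ * a * m⁻¹⁻¹ ∈ E.H := fun {a} ha =>
      mem_H (by rw [← hconj]; exact commute_conj ha)
    obtain ⟨x', hx'⟩ := psl_of_inverted R (z := m⁻¹ * z * m⁻¹⁻¹) (v := m⁻¹ * t' * m⁻¹⁻¹) (hmH hez.symm)
      (by rw [orderOf_conj', hz, orderOf_psl R]; exact hxodd) (hmH het'.symm)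
      (by rw [show m⁻¹ * t' * m⁻¹⁻¹ * (m⁻¹ * z * m⁻¹⁻¹) * (m⁻¹ * t' * m⁻¹⁻¹)⁻¹ =
        m⁻¹ * (t' * z * t'⁻¹) * m⁻¹⁻¹ by group, hz, conj_psl_invol R hjt, hinv, map_inv]; group)
    have hx'o : orderOf x' = orderOf x := by
      rw [← orderOf_psl R, ← hx', orderOf_conj', hz, orderOf_psl R]
    obtain ⟨k', hk', hk't⟩ := invol_form R (v := m⁻¹ * E.t * m⁻¹⁻¹) (hmH het.symm)
      (by rw [orderOf_conj', E.orderOf_t]) (fun h => hne (by
        rw [← hm]
        conv_lhs => arg 1; arg 2; rw [← h]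
        group))
    have hk'x : Commute k' x' := by
      refine (commute_psl_iff R hk't x').1 ?_
      rw [← hx']
      exact commute_conj (commute_t (R.psl_mem x)).symm
    have hx'1 : x' ≠ 1 := fun h => x1 (orderOf_eq_one_iff.1 (by rw [← hx'o, h, orderOf_one]))
    obtain ⟨C', hC', hx'C, -, hcent'⟩ := Psl.exists_torus_co h8 h11 hx'1 (hx'o ▸ hxa)
    have hgk : Commute (m⁻¹ * g * m⁻¹⁻¹) (R.psl k') :=
      commute_torus_invol hC' hx'C (sq_ne_one (hx'o ▸ hxodd) hx'1) (hcent' k' hk'x) hk' (hmH hge)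
        (by rw [← hx']; exact commute_conj hgz)
    have hgt : Commute (m⁻¹ * g * m⁻¹⁻¹) (m⁻¹ * E.t * m⁻¹⁻¹) := by
      rcases hk't with h | h <;> rw [h]
      · exact hgk
      · exact (commute_t (hmH hge)).mul_right hgk
    have := commute_conj (g := m) hgt
    simpa [mul_assoc] using this
  -- the group
  set K := centralizer ({z} : Set G) ⊓ cfld R with hK
  have hmemK : ∀ {g : G}, g ∈ K ↔ Commute g z ∧ g ∈ cfld R := fun {g} => by
    rw [hK, Subgroup.mem_inf, mem_centralizer_singleton_iff]; rfl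
  have htK : E.t ∈ K := hmemK.2 ⟨(commute_t (R.psl_mem x)).symm, t_mem_cfld R⟩
  have hwK : ww ∈ K := hmemK.2 ⟨hwwz, hwwM⟩
  -- the centraliser of `t` in it
  have hform : ∀ g ∈ K, Commute g E.t → ∃ (a : PSLF) (σ : R.Γ), a ∈ C ∧ R.psl a ∈ cfld R ∧
      (g = R.psl a * R.fld σ ∨ g = E.t * (R.psl a * R.fld σ)) ∧ Commute (R.fld σ) z := by
    intro g hg hgt
    obtain ⟨hgz, hgM⟩ := hmemK.1 hg
    obtain ⟨a, σ, hga⟩ := R.exists_eq g (mem_H hgt)
    have haσ : R.psl a * R.fld σ ∈ cfld R ∧ Commute (R.psl a * R.fld σ) z := by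
      rcases hga with rfl | rfl
      · exact ⟨hgM, hgz⟩
      · constructor
        · have := mul_mem (inv_mem (t_mem_cfld R)) hgM
          rwa [inv_mul_cancel_left] at this
        · have := (commute_t (R.psl_mem x)).symm.inv_left.mul_left hgz
          rwa [inv_mul_cancel_left] at this
    have haM : R.psl a ∈ cfld R := by
      have := mul_mem haσ.1 (inv_mem (fld_mem_cfld R σ))
      rwa [mul_inv_cancel_right] at this
    set α := fieldAut (n := 2) (σ : R.F ≃+* R.F) with hα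
    have hax : a * α x * a⁻¹ = x := by
      refine R.psl_inj ?_
      rw [map_mul, map_mul, map_inv, hα, ← R.fld_psl, show R.psl a * (R.fld σ * R.psl x * (R.fld σ)⁻¹) *
        (R.psl a)⁻¹ = R.psl a * R.fld σ * R.psl x * (R.psl a * R.fld σ)⁻¹ by group, ← hz, haσ.2.eq,
        mul_inv_cancel_right]
    have hαC : α x ∈ C := field_torus hC hxC hx2 (hfix σ) x hxC
    have hαx2 : α x * α x ≠ 1 := fun e => hx2 (α.injective (by rw [map_mul, e, map_one]))
    have haC : a ∈ C := by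
      by_contra haC
      have hn := torus_normalizes hC hαC hαx2 (n := a) (by rw [hax]; exact hxC)
      have hinv' := (torus_inverts hC hC2 hn haC).2 (α x) hαC
      rw [hax] at hinv'
      have hαx : α x = x⁻¹ := (inv_inv (α x)).symm.trans (congrArg (·⁻¹) hinv'.symm)
      have := fixed_of_odd (fieldAut_odd σ) (u := x) (Or.inr hαx)
      rw [← hα, hαx] at this
      exact hx2 (by nth_rewrite 1 [← this]; exact inv_mul_cancel x)
    refine ⟨a, σ, haC, haM, hga, ?_⟩
    have hαx : α x = x := by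
      rw [(hxyC a haC _ hαC).eq, mul_inv_cancel_right] at hax
      exact hax
    exact (commute_fld_psl R).2 hαx
  have hDcomm : ∀ g ∈ K, Commute g E.t → ∀ h ∈ K, Commute h E.t → Commute g h := by
    intro g hg hgt h hh hht
    obtain ⟨a, σ, haC, haM, hga, -⟩ := hform g hg hgt
    obtain ⟨b, τ, hbC, hbM, hhb, -⟩ := hform h hh hht
    have c1 : Commute (R.psl a * R.fld σ) (R.psl b * R.fld τ) :=
      (((hxyC a haC b hbC).map R.psl).mul_right ((mem_cfld R).1 haM τ)).mul_left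
        ((((mem_cfld R).1 hbM σ).symm).mul_right (fld_comm R σ τ))
    have ct : ∀ (c : PSLF) (ρ : R.Γ), Commute E.t (R.psl c * R.fld ρ) := fun c ρ =>
      ((commute_t (R.psl_mem c)).symm).mul_right (commute_t (R.fld_mem ρ)).symm
    rcases hga with rfl | rfl <;> rcases hhb with rfl | rfl
    · exact c1
    · exact (ct a σ).symm.mul_right c1
    · exact (ct b τ).mul_left c1
    · exact ((Commute.refl E.t).mul_right (ct b τ)).mul_left ((ct a σ).symm.mul_right c1)
  have hDww : ∀ g ∈ K, Commute g E.t → Commute g ww := fun g hg hgt =>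
    commute_torus_invol hC hxC hx2 hkC hk (mem_H hgt) (hmemK.1 hg).1
  let tK : K := ⟨E.t, htK⟩
  let wK : K := ⟨ww, hwK⟩
  obtain ⟨E₄, hE₄, hE4, htE, hwE, hmem⟩ := PartTools.exists_four (t := tK) (w := wK)
    (by rw [Subgroup.orderOf_mk, E.orderOf_t])
    (by rw [Subgroup.orderOf_mk, hww, orderOf_psl R, hk])
    (Subtype.ext hwwt.symm.eq) (fun e => hwwt' (congrArg Subtype.val e).symm)
  have hEsq : ∀ e ∈ E₄, e * e = 1 := fun e he => by rw [← pow_two]; exact hE₄.2 e he
  let A : Subgroup K :=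
    { carrier := {g | Commute (g : G) E.t ∧ Odd (orderOf g)}
      one_mem' := ⟨Commute.one_left _, by rw [orderOf_one]; exact odd_one⟩
      mul_mem' := by
        rintro g h ⟨hg, hgo⟩ ⟨hh, hho⟩
        refine ⟨hg.mul_left hh, ?_⟩
        have hc : Commute g h := Subtype.ext (hDcomm g g.2 hg h h.2 hh).eq
        exact (hgo.mul hho).of_dvd_nat hc.orderOf_mul_dvd_mul_orderOf
      inv_mem' := by
        rintro g ⟨hg, hgo⟩
        exact ⟨hg.inv_left, by rwa [orderOf_inv]⟩ }
  have hA4 : FourAbelian K E₄ A := by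
    refine ⟨hE4, hEsq, ?_, ?_, ?_, ?_⟩
    · refine Nat.not_even_iff_odd.1 fun he => ?_
      obtain ⟨⟨g, hg⟩, hg2⟩ := exists_prime_orderOf_dvd_card' (G := A) 2 he.two_dvd
      rw [Subgroup.orderOf_mk] at hg2
      have := hg.2
      rw [hg2] at this
      exact absurd this (by decide)
    · intro a ha e he
      refine Subtype.ext ?_
      rcases hmem e he with rfl | rfl | rfl | rfl
      · exact Commute.one_right (a : G)
      · exact ha.1
      · exact hDww a a.2 ha.1
      · exact ha.1.mul_right (hDww a a.2 ha.1)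
    · exact fun a ha b hb => Subtype.ext (hDcomm a a.2 ha.1 b b.2 hb.1).eq
    · intro e he he1 g hge
      have hge' : Commute (g : G) (e : G) := congrArg Subtype.val hge
      have hgt : Commute (g : G) E.t := by
        rcases hmem e he with rfl | rfl | rfl | rfl
        · exact absurd rfl he1
        · exact hge'
        · exact hback ww hwwt hwwsq hwwne hwwt' hwwz ht'w.symm g (hmemK.1 g.2).1 hge'
        · have hzt : Commute E.t z := (commute_t (R.psl_mem x)).symm
          refine hback (E.t * ww) ((Commute.refl _).mul_left hwwt) ?_ ?_ ?_ (hzt.mul_left hwwz)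
            ((commute_t ht'H).symm.mul_left ht'w.symm) g (hmemK.1 g.2).1 hge'
          · calc E.t * ww * (E.t * ww) = E.t * (ww * E.t) * ww := by group
              _ = E.t * E.t * (ww * ww) := by rw [hwwt.eq]; group
              _ = 1 := by rw [t_sq, hwwsq, one_mul]
          · exact fun h => hwwt' ((inv_eq_of_mul_eq_one_right h).symm.trans (inv_eq_of_mul_eq_one_right t_sq))
          · exact fun h => hwwne (mul_eq_left.1 h)
      obtain ⟨a, σ, haC, haM, hga, hσz⟩ := hform g g.2 hgt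
      set n := coTorus (Fintype.card R.F) with hn
      have hac : a ^ (2 * n) = 1 := by
        rw [← hcC]
        exact congrArg Subtype.val (pow_card_eq_one' (x := (⟨a, haC⟩ : C)))
      have hk' : a ^ n = 1 ∨ a ^ n = k := by
        by_cases h : a ^ n = 1
        · exact Or.inl h
        · exact Or.inr (huniq _ (pow_mem haC _)
            (orderOf_eq_prime (by rw [← pow_mul, mul_comm, hac]) h))
      set b := a * a ^ n with hb
      have hab : a = a ^ n * b := by
        rw [hb, ← pow_succ', ← pow_add, show n + (n + 1) = 2 * n + 1 by ring, pow_succ, hac, one_mul]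
      have hbn : b ^ n = 1 := by
        rw [hb, ← pow_succ', ← pow_mul]
        obtain ⟨i, hi⟩ := odd_coTorus h8
        rw [← hn] at hi
        rw [show (n + 1) * n = 2 * n * (i + 1) by rw [hi]; ring, pow_mul, hac, one_pow]
      have hbM : R.psl b ∈ cfld R := by
        rw [hb, map_mul, map_pow]; exact mul_mem haM (pow_mem haM _)
      have hbσ : Commute (R.psl b) (R.fld σ) := (mem_cfld R).1 hbM σ
      have hbz : Commute (R.psl b) z := (hxyC b (mul_mem haC (pow_mem haC _)) x hxC).map R.psl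
      let g₂ : K := ⟨R.psl b * R.fld σ, hmemK.2 ⟨hbz.mul_left hσz, mul_mem hbM (fld_mem_cfld R σ)⟩⟩
      have hg₂A : g₂ ∈ A := by
        refine ⟨(commute_t (R.psl_mem b)).mul_left (commute_t (R.fld_mem σ)), ?_⟩
        rw [Subgroup.orderOf_mk]
        refine ((odd_coTorus h8).mul R.Γ_odd).of_dvd_nat (orderOf_dvd_of_pow_eq_one ?_)
        rw [hbσ.mul_pow, pow_mul, ← map_pow R.psl, ← hn, hbn, map_one, one_pow, mul_comm, pow_mul,
          ← map_pow R.fld, pow_card_eq_one', map_one, one_pow, one_mul]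
      have hcase : ∀ (e₁ : K) (c : PSLF), e₁ ∈ E₄ → (c = 1 ∨ c = k) → a = c * b →
          ((e₁ : G) = R.psl c ∧ (g : G) = R.psl a * R.fld σ ∨
            (e₁ : G) = E.t * R.psl c ∧ (g : G) = E.t * (R.psl a * R.fld σ)) →
          ∃ x' ∈ E₄, ∃ a' ∈ A, g = x' * a' := by
        intro e₁ c he₁ hc hac' h
        refine ⟨e₁, he₁, g₂, hg₂A, Subtype.ext ?_⟩
        rcases h with ⟨h1, h2⟩ | ⟨h1, h2⟩ <;>
          rw [Subgroup.coe_mul, h1, h2, hac', map_mul] <;> simp only [g₂, mul_assoc]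
      rcases hga with h | h <;> rcases hk' with h' | h'
      · exact hcase 1 1 (one_mem _) (Or.inl rfl) (by rw [one_mul]; rwa [h', one_mul] at hab)
          (Or.inl ⟨by simp, h⟩)
      · exact hcase wK k hwE (Or.inr rfl) (h' ▸ hab) (Or.inl ⟨rfl, h⟩)
      · exact hcase tK 1 htE (Or.inl rfl) (by rw [one_mul]; rwa [h', one_mul] at hab)
          (Or.inr ⟨by simp [tK], h⟩)
      · exact hcase (tK * wK) k (mul_mem htE hwE) (Or.inr rfl) (h' ▸ hab) (Or.inr ⟨rfl, h⟩)
  let yK : K := ⟨y, hmemK.2 ⟨hyz, hyM⟩⟩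
  have hyodd : Odd (orderOf y) := hys ▸ hs.odd_of_ne_two hs2
  have hy1 : y ≠ 1 := fun e => hs.ne_one (by rw [← hys, e, orderOf_one])
  have hyinv' : (tK * yK * tK⁻¹ : K) = yK⁻¹ := Subtype.ext hyinv
  obtain ⟨hAn, hN | ⟨D, iD, iD', φ, hφ, hker, h60, -, -⟩⟩ := hA4.structure_thm
  · have h1 : yK * tK * yK⁻¹ ∈ E₄ := hN yK tK htE
    have h2 : yK * yK ∈ E₄ := by
      have h4 := mul_mem h1 htE
      have h5 : tK * yK⁻¹ * tK = yK := by
        have h6 : tK * (tK * yK * tK⁻¹) * tK = yK := by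
          have : tK * tK = 1 := Subtype.ext t_sq
          rw [show tK * (tK * yK * tK⁻¹) * tK = (tK * tK) * yK by group, this, one_mul]
        rwa [hyinv'] at h6
      rw [show yK * tK * yK⁻¹ * tK = yK * (tK * yK⁻¹ * tK) by group, h5] at h4
      exact h4
    have ho2 : Odd (orderOf (yK * yK)) := by
      have hyK : Odd (orderOf yK) := by rwa [Subgroup.orderOf_mk]
      refine hyK.of_dvd_nat ?_
      rw [← pow_two]
      exact orderOf_pow_dvd 2
    have h3 := odd_sq_one ho2 (hEsq _ h2)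
    exact sq_ne_one hyodd hy1 (congrArg Subtype.val h3)
  · by_cases h1 : φ yK = 1
    · have hyA : yK ∈ A := by rw [← hker]; exact h1
      have hyt : Commute y E.t := hyA.1
      rw [hyt.symm.eq, mul_inv_cancel_right] at hyinv
      exact sq_ne_one hyodd hy1 (by nth_rewrite 2 [hyinv]; exact mul_inv_cancel y)
    · have hd : orderOf (φ yK) ∣ s := by
        have := orderOf_map_dvd φ yK
        rwa [Subgroup.orderOf_mk, hys] at this
      have hds : orderOf (φ yK) = s :=
        ((Nat.dvd_prime hs).1 hd).resolve_left fun e => h1 (orderOf_eq_one_iff.1 e)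
      have h60' : s ∣ 60 := h60 ▸ hds ▸ orderOf_dvd_natCard (φ yK)
      have hle := Nat.le_of_dvd (by norm_num) h60'
      revert hs2 hs3 hs5 hs h60' hle
      intro hs hs2 hs3 hs5 h60' hle
      have : s ∣ 2 ^ 2 * 3 * 5 := by norm_num; exact h60'
      rcases (Nat.Prime.dvd_mul hs).1 this with h | h
      · rcases (Nat.Prime.dvd_mul hs).1 h with h | h
        · exact hs2 ((Nat.prime_dvd_prime_iff_eq hs Nat.prime_two).1 (hs.dvd_of_dvd_pow h))
        · exact hs3 ((Nat.prime_dvd_prime_iff_eq hs Nat.prime_three).1 h)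
      · exact hs5 ((Nat.prime_dvd_prime_iff_eq hs (by norm_num)).1 h)

end CfsgLib.Walter.Twist.FixedT
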