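import Cfsg.Agent.Lib.Walter.Twist.FixedBasic

/-!
Walter, rank three, piece T: tori of `PSL₂(q)` under involutions and odd automorphisms, and a lemma on
two parts of an invariant subgroup of prime power order.
-/

set_option autoImplicit false
set_option linter.unusedSectionVars false
set_option linter.style.haveILetI false

namespace CfsgLib.Walter.Twist.FixedT

open Subgroup Matrix CfsgLib.AutPSL CfsgLib.ReeOrder

universe u

section General

variable {G : Type u} [Group G]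

theorem odd_sq_one {x : G} (ho : Odd (orderOf x)) (h : x * x = 1) : x = 1 :=
  orderOf_eq_one_iff.1 (Nat.eq_one_of_dvd_coprimes (Nat.coprime_two_right.2 ho) dvd_rfl
    (orderOf_dvd_of_pow_eq_one (by rw [pow_two, h])))

theorem sq_ne_one {x : G} (ho : Odd (orderOf x)) (h1 : x ≠ 1) : x * x ≠ 1 := fun h => h1 (odd_sq_one ho h)

theorem orderOf_conj' (g x : G) : orderOf (g * x * g⁻¹) = orderOf x := by
  rw [← MulAut.conj_apply, MulEquiv.orderOf_eq]

theorem commute_conj {g a b : G} (h : Commute a b) : Commute (g * a * g⁻¹) (g * b * g⁻¹) := by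
  simpa using h.map (MulAut.conj g).toMonoidHom

/-- An automorphism of odd order mapping an element to itself or its inverse fixes it. -/
theorem fixed_of_odd {α : MulAut G} (hα : Odd (orderOf α)) {u : G} (h : α u = u ∨ α u = u⁻¹) :
    α u = u := by
  rcases h with h | h
  · exact h
  have hit : ∀ k : ℕ, (α ^ (2 * k)) u = u := by
    intro k
    induction k with
    | zero => simp
    | succ k ih =>
      rw [show 2 * (k + 1) = 2 * k + 2 by ring, pow_add, MulAut.mul_apply, pow_two, MulAut.mul_apply,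
        h, map_inv, h, inv_inv, ih]
  obtain ⟨k, hk⟩ := hα
  have h1 := pow_orderOf_eq_one α
  rw [hk, pow_succ] at h1
  have h2 : (α ^ (2 * k) * α) u = u := by rw [h1, MulAut.one_apply]
  rw [MulAut.mul_apply, h, map_inv, hit] at h2
  rw [h, h2]

variable [Finite G]

/-- An `s`-group normalised by two commuting involutions, with central common fixed points and with
the centralisers of parts inside their involution centralisers, has parts in one place only. -/
theorem no_two_parts {s : ℕ} [Fact s.Prime] (hs2 : s ≠ 2) (P : Subgroup G) (hP : IsPGroup s P)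
    {t t' : G} (ht2 : t * t = 1) (ht'2 : t' * t' = 1) (htt : Commute t t')
    (htP : ∀ x ∈ P, t * x * t⁻¹ ∈ P) (ht'P : ∀ x ∈ P, t' * x * t'⁻¹ ∈ P)
    (hC0 : ∀ c ∈ P, Commute c t → Commute c t' → ∀ d ∈ P, Commute c d)
    (hcent : ∀ e e' : G, (e = t ∧ e' = t' ∨ e = t' ∧ e' = t ∨ e = t * t' ∧ e' = t) →
      ∀ u ∈ P, u ≠ 1 → Commute u e → e' * u * e'⁻¹ = u⁻¹ → ∀ d ∈ P, Commute d u → Commute d e)
    {v w : G} (hv : v ∈ P) (hv1 : v ≠ 1) (hvt : Commute v t) (hvt' : t' * v * t'⁻¹ = v⁻¹)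
    (hw : w ∈ P) (hw1 : w ≠ 1) (hwt' : Commute w t') (hwt : t * w * t⁻¹ = w⁻¹) : False := by
  classical
  have hodd : ∀ x ∈ P, Odd (orderOf x) := fun x hx => by
    obtain ⟨k, hk⟩ := hP ⟨x, hx⟩
    obtain ⟨i, -, hi⟩ := (Nat.dvd_prime_pow (Fact.out : s.Prime) (m := k)).1
      (orderOf_dvd_of_pow_eq_one (congrArg Subtype.val hk))
    rw [hi]
    exact ((Fact.out : s.Prime).odd_of_ne_two hs2).pow
  let InC : G → Prop := fun c => c ∈ P ∧ Commute c t ∧ Commute c t'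
  have hcen : ∀ c, InC c → ∀ d ∈ P, Commute c d := fun c hc => hC0 c hc.1 hc.2.1 hc.2.2
  have hCinv : ∀ c, InC c → InC c⁻¹ := fun c hc => ⟨inv_mem hc.1, hc.2.1.inv_left, hc.2.2.inv_left⟩
  have hCmul : ∀ c c', InC c → InC c' → InC (c * c') := fun c c' h h' =>
    ⟨mul_mem h.1 h'.1, h.2.1.mul_left h'.2.1, h.2.2.mul_left h'.2.2⟩
  let InA : G → Prop := fun a => a ∈ P ∧ ∀ g ∈ P, InC (a * g * a⁻¹ * g⁻¹)
  have hAinv : ∀ a, InA a → InA a⁻¹ := by
    rintro a ⟨ha, h⟩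
    refine ⟨inv_mem ha, fun g hg => ?_⟩
    have h1 := hCinv _ (h g hg)
    convert h1 using 1
    have := (hcen _ h1 a ha).eq
    calc a⁻¹ * g * a⁻¹⁻¹ * g⁻¹ = a⁻¹ * ((a * g * a⁻¹ * g⁻¹)⁻¹ * a) := by
          rw [show (a * g * a⁻¹ * g⁻¹)⁻¹ = g * a * g⁻¹ * a⁻¹ by group]; group
      _ = a⁻¹ * (a * (a * g * a⁻¹ * g⁻¹)⁻¹) := by rw [this]
      _ = _ := by group
  have hAmul : ∀ a b, InA a → InA b → InA (a * b) := by
    rintro a b ⟨ha, h⟩ ⟨hb, h'⟩
    refine ⟨mul_mem ha hb, fun g hg => ?_⟩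
    have := (hcen _ (h' g hg) a ha).eq
    have e : a * b * g * (a * b)⁻¹ * g⁻¹ = (b * g * b⁻¹ * g⁻¹) * (a * g * a⁻¹ * g⁻¹) := by
      calc a * b * g * (a * b)⁻¹ * g⁻¹ = a * (b * g * b⁻¹ * g⁻¹) * g * a⁻¹ * g⁻¹ := by group
        _ = b * g * b⁻¹ * g⁻¹ * a * g * a⁻¹ * g⁻¹ := by rw [← this]
        _ = _ := by group
    rw [e]
    exact hCmul _ _ (h' g hg) (h g hg)
  have hAconj : ∀ e, e * e = 1 → (∀ x ∈ P, e * x * e⁻¹ ∈ P) → Commute e t → Commute e t' →
      ∀ a, InA a → InA (e * a * e⁻¹) := by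
    intro e he heP het het' a ha
    refine ⟨heP a ha.1, fun g hg => ?_⟩
    have he' : e⁻¹ = e := inv_eq_of_mul_eq_one_right he
    have hg' : e * g * e⁻¹ ∈ P := heP g hg
    obtain ⟨h1, h2, h3⟩ := ha.2 _ hg'
    set c := a * (e * g * e⁻¹) * a⁻¹ * (e * g * e⁻¹)⁻¹ with hc
    have heq : e * a * e⁻¹ * g * (e * a * e⁻¹)⁻¹ * g⁻¹ = e * c * e⁻¹ := by
      have hsq : ∀ y : G, e * (e * y) = y := fun y => by rw [← mul_assoc, he, one_mul]
      simp only [hc, _root_.mul_inv_rev, inv_inv, he', mul_assoc, hsq]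
      rw [he, mul_one]
    rw [heq]
    refine ⟨heP c h1, ?_, ?_⟩
    · have := commute_conj (g := e) h2
      rwa [show e * t * e⁻¹ = t by rw [het.eq, mul_inv_cancel_right]] at this
    · have := commute_conj (g := e) h3
      rwa [show e * t' * e⁻¹ = t' by rw [het'.eq, mul_inv_cancel_right]] at this
  -- an element of `A` outside the common fixed points
  obtain ⟨d, hdA, hdC⟩ : ∃ d, InA d ∧ ¬ InC d := by
    by_contra! hall
    haveI : Nontrivial P := ⟨⟨⟨v, hv⟩, 1, fun e => hv1 (congrArg Subtype.val e)⟩⟩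
    -- `Z` is inside the fixed points, so `P` is not abelian
    have hZ : ∀ z ∈ center P, InC (z : G) := fun z hz => hall _ ⟨z.2, fun g hg => by
      have hcz : (z : G) * g = g * z := (congrArg Subtype.val (mem_center_iff.1 hz ⟨g, hg⟩)).symm
      rw [hcz, mul_inv_cancel_right, mul_inv_cancel]
      exact ⟨one_mem P, Commute.one_left t, Commute.one_left t'⟩⟩
    haveI hnt : Nontrivial (P ⧸ center P) := by
      rw [← not_subsingleton_iff_nontrivial, QuotientGroup.subsingleton_iff]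
      intro htop
      have hvC := hZ ⟨v, hv⟩ (htop ▸ mem_top _)
      exact hv1 (odd_sq_one (hodd v hv) (mul_eq_one_iff_eq_inv.2 (by
        rw [← hvt', hvC.2.2.symm.eq, mul_inv_cancel_right])))
    haveI := (hP.to_quotient (center P)).center_nontrivial
    obtain ⟨q, hq⟩ := exists_ne (1 : center (P ⧸ center P))
    obtain ⟨d, hd⟩ := QuotientGroup.mk_surjective (q : P ⧸ center P)
    have hdA : InA (d : G) := ⟨d.2, fun g hg => by
      refine hZ (d * ⟨g, hg⟩ * d⁻¹ * ⟨g, hg⟩⁻¹) ?_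
      rw [← QuotientGroup.eq_one_iff, QuotientGroup.mk_mul, QuotientGroup.mk_mul, QuotientGroup.mk_mul,
        QuotientGroup.mk_inv, QuotientGroup.mk_inv, hd,
        ← mem_center_iff.1 q.2 (QuotientGroup.mk (⟨g, hg⟩ : P)), mul_inv_cancel_right, mul_inv_cancel]⟩
    refine hq (Subtype.ext ?_)
    rw [← hd, OneMemClass.coe_one, QuotientGroup.eq_one_iff, mem_center_iff]
    exact fun g => Subtype.ext (hcen _ (hall _ hdA) g g.2).eq.symm
  -- a part
  have hti : t⁻¹ = t := inv_eq_of_mul_eq_one_right ht2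
  have ht'i : t'⁻¹ = t' := inv_eq_of_mul_eq_one_right ht'2
  have hinv : ∀ e a : G, e * e = 1 → e * (a⁻¹ * (e * a * e⁻¹)) * e⁻¹ = (a⁻¹ * (e * a * e⁻¹))⁻¹ := by
    intro e a he
    have he' : e⁻¹ = e := inv_eq_of_mul_eq_one_right he
    simp only [he', _root_.mul_inv_rev, inv_inv, mul_assoc]
    rw [he, mul_one]
  obtain ⟨e, e', u, hee, huA, hu1, hue, hue'⟩ : ∃ e e' u : G,
      (e = t ∧ e' = t' ∨ e = t' ∧ e' = t ∨ e = t * t' ∧ e' = t) ∧
        InA u ∧ u ≠ 1 ∧ Commute u e ∧ e' * u * e'⁻¹ = u⁻¹ := by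
    by_cases hdt : Commute d t
    · have hdt' : ¬ Commute d t' := fun h => hdC ⟨hdA.1, hdt, h⟩
      refine ⟨t, t', d⁻¹ * (t' * d * t'⁻¹), Or.inl ⟨rfl, rfl⟩, hAmul _ _ (hAinv _ hdA)
        (hAconj t' ht'2 ht'P htt.symm (Commute.refl _) d hdA), fun h => hdt' ?_, ?_, hinv t' d ht'2⟩
      · rw [inv_mul_eq_one] at h
        exact mul_inv_eq_iff_eq_mul.1 h.symm |>.symm
      · exact hdt.inv_left.mul_left ((htt.symm.mul_left hdt).mul_left htt.symm.inv_left)
    · set u := d⁻¹ * (t * d * t⁻¹) with hu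
      have huA : InA u := hAmul _ _ (hAinv _ hdA) (hAconj t ht2 htP (Commute.refl _) htt d hdA)
      have hu1 : u ≠ 1 := fun h => hdt (by
        rw [hu, inv_mul_eq_one] at h
        exact (mul_inv_eq_iff_eq_mul.1 h.symm).symm)
      have hut : t * u * t⁻¹ = u⁻¹ := hinv t d ht2
      by_cases hut' : Commute u t'
      · exact ⟨t', t, u, Or.inr (Or.inl ⟨rfl, rfl⟩), huA, hu1, hut', hut⟩
      set u₁ := t' * u * t'⁻¹ with hu₁
      have hu₁A : InA u₁ := hAconj t' ht'2 ht'P htt.symm (Commute.refl _) u huA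
      have hu₁t : t * u₁ * t⁻¹ = u₁⁻¹ := by
        rw [hu₁, show t * (t' * u * t'⁻¹) * t⁻¹ = (t * t') * u * (t * t')⁻¹ by group, htt.eq,
          show t' * t * u * (t' * t)⁻¹ = t' * (t * u * t⁻¹) * t'⁻¹ by group, hut]
        group
      -- `u` and its conjugate commute
      have hcomm : Commute u u₁ := by
        obtain ⟨hc1, -, hc3⟩ := huA.2 _ hu₁A.1
        set c := u * u₁ * u⁻¹ * u₁⁻¹ with hc
        have e1 : c = c⁻¹ := by
          have hfix : t' * c * t'⁻¹ = c := by rw [hc3.symm.eq, mul_inv_cancel_right]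
          have hswap : t' * u₁ * t'⁻¹ = u := by
            rw [hu₁, show t' * (t' * u * t'⁻¹) * t'⁻¹ = t' * t' * u * (t' * t')⁻¹ by group, ht'2]
            group
          conv_lhs => rw [← hfix, hc]
          calc t' * (u * u₁ * u⁻¹ * u₁⁻¹) * t'⁻¹ = t' * u * t'⁻¹ * (t' * u₁ * t'⁻¹) *
                (t' * u * t'⁻¹)⁻¹ * (t' * u₁ * t'⁻¹)⁻¹ := by group
            _ = u₁ * u * u₁⁻¹ * u⁻¹ := by rw [← hu₁, hswap]
            _ = c⁻¹ := by rw [hc]; group
        have e5 : c * c = 1 := by nth_rewrite 2 [e1]; exact mul_inv_cancel c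
        have := odd_sq_one (hodd c hc1) e5
        rw [hc] at this
        exact mul_inv_eq_iff_eq_mul.1 (mul_inv_eq_one.1 this)
      refine ⟨t * t', t, u⁻¹ * u₁, Or.inr (Or.inr ⟨rfl, rfl⟩), hAmul _ _ (hAinv _ huA) hu₁A,
        fun h => hut' ?_, ?_, ?_⟩
      · rw [inv_mul_eq_one, hu₁] at h
        exact (mul_inv_eq_iff_eq_mul.1 h.symm).symm
      · have e6 : t * t' * (u⁻¹ * u₁) * (t * t')⁻¹ = u⁻¹ * u₁ := by
          have hv1' : t * t' * u * (t * t')⁻¹ = u₁⁻¹ := by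
            rw [show t * t' * u * (t * t')⁻¹ = t * (t' * u * t'⁻¹) * t⁻¹ by group, ← hu₁, hu₁t]
          have hv2' : t * t' * u₁ * (t * t')⁻¹ = u⁻¹ := by
            rw [hu₁, show t * t' * (t' * u * t'⁻¹) * (t * t')⁻¹ =
              t * ((t' * t') * u * (t' * t')⁻¹) * t⁻¹ by group, ht'2]
            simpa using hut
          calc t * t' * (u⁻¹ * u₁) * (t * t')⁻¹
              = (t * t' * u * (t * t')⁻¹)⁻¹ * (t * t' * u₁ * (t * t')⁻¹) := by group
            _ = u₁ * u⁻¹ := by rw [hv1', hv2', inv_inv]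
            _ = u⁻¹ * u₁ := (hcomm.symm.inv_right).eq
        exact (mul_inv_eq_iff_eq_mul.1 e6).symm
      · calc t * (u⁻¹ * u₁) * t⁻¹ = (t * u * t⁻¹)⁻¹ * (t * u₁ * t⁻¹) := by group
          _ = u * u₁⁻¹ := by rw [hut, hu₁t, inv_inv]
          _ = u₁⁻¹ * u := hcomm.inv_right.eq
          _ = _ := by group
  -- a part of another involution
  obtain ⟨w', hw', hw'1, hw'e, hw'C⟩ : ∃ w' ∈ P, w' ≠ 1 ∧ e * w' * e⁻¹ = w'⁻¹ ∧ True := by
    rcases hee with ⟨rfl, -⟩ | ⟨rfl, -⟩ | ⟨rfl, -⟩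
    · exact ⟨w, hw, hw1, hwt, trivial⟩
    · exact ⟨v, hv, hv1, hvt', trivial⟩
    · refine ⟨v, hv, hv1, ?_, trivial⟩
      rw [show t * t' * v * (t * t')⁻¹ = t * (t' * v * t'⁻¹) * t⁻¹ by group, hvt',
        hvt.inv_left.symm.eq, mul_inv_cancel_right]
  obtain ⟨hc1, hc2, hc3⟩ := huA.2 w' hw'
  set c := u * w' * u⁻¹ * w'⁻¹ with hc
  have hce : e * c * e⁻¹ = c := by
    have : Commute c e := by
      rcases hee with ⟨rfl, -⟩ | ⟨rfl, -⟩ | ⟨rfl, -⟩
      exacts [hc2, hc3, hc2.mul_right hc3]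
    rw [this.symm.eq, mul_inv_cancel_right]
  have hcc : c = u * w'⁻¹ * u⁻¹ * w' := by
    conv_lhs => rw [← hce, hc]
    calc e * (u * w' * u⁻¹ * w'⁻¹) * e⁻¹
        = e * u * e⁻¹ * (e * w' * e⁻¹) * (e * u * e⁻¹)⁻¹ * (e * w' * e⁻¹)⁻¹ := by group
      _ = _ := by rw [hue.symm.eq, mul_inv_cancel_right, hw'e, inv_inv]
  have hC := hcen _ ⟨hc1, hc2, hc3⟩
  have hsq : c * c = 1 := by
    have h1 : c⁻¹ = u * w'⁻¹ * u⁻¹ * w' := by
      calc c⁻¹ = w'⁻¹ * (c⁻¹ * w') := by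
            rw [((hC w' hw').inv_left).eq, ← mul_assoc, inv_mul_cancel, one_mul]
        _ = _ := by rw [hc]; group
    rw [← hcc] at h1
    nth_rewrite 2 [← h1]
    exact mul_inv_cancel c
  have hc1' := odd_sq_one (hodd c hc1) hsq
  rw [hc] at hc1'
  have hwu : Commute w' u := (mul_inv_eq_iff_eq_mul.1 (mul_inv_eq_one.1 hc1')).symm
  have := hcent e e' hee u huA.1 hu1 hue hue' w' hw' hwu
  rw [this.symm.eq, mul_inv_cancel_right] at hw'e
  exact hw'1 (odd_sq_one (hodd w' hw') (by nth_rewrite 2 [hw'e]; exact mul_inv_cancel w'))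

end General

end CfsgLib.Walter.Twist.FixedT
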