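import Cfsg.Agent.Lib.Walter.Twist.Defs
import Cfsg.Agent.Lib.CentralInter.Split
import Cfsg.Agent.Lib.Walter.FieldTransfer
import Cfsg.Agent.Lib.Walter.Shape
import Cfsg.Agent.Lib.GW.FieldBase
import Cfsg.Agent.Lib.SmallRee.SylowTwo

/-!
Coordinates of the centraliser of the involution: with a trivial core it is `⟨t⟩ × Y`, and in suitable
coordinates `Y = PSL₂(q) ⋊ Γ` with `Γ` centralising the four group.
-/

set_option autoImplicit false
set_option linter.unusedSectionVars false
set_option linter.style.haveILetI false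

namespace CfsgLib.Walter.Twist

open Subgroup CfsgLib.GW CfsgLib.AutPSL CfsgLib.GW.FieldModel CfsgLib.GW.TopModel

universe u v

section Model

variable {Y : Type u} [Group Y] [Finite Y] {F : Type v} [Field F] [Fintype F] {L : Subgroup Y}

local notation "PSL" => Matrix.ProjectiveSpecialLinearGroup (Fin 2) F

/-- An element without field part lies in `L` when the index is odd. -/
theorem mem_of_fp (h : Field.Psl L F) (hidx : Odd L.index) {y : Y} (hy : h.fp y = 1) : y ∈ L := by
  obtain ⟨g, hg⟩ := h.exists_rep hy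
  haveI := h.normal
  obtain ⟨k, hk⟩ := hidx
  have h1 : y ^ L.index ∈ L := L.pow_index_mem y
  have h2 : y ^ (2 * (k + 1)) ∈ L := by
    refine h.mem_of_rep (g := g ^ (2 * (k + 1))) (by rw [map_pow, hg, map_pow]) ?_
    rw [mul_comm, pow_mul, pow_two]
    by_cases hm : g ^ (k + 1) ∈ PSL2.pslImage F
    · exact mul_mem hm hm
    · exact PSL2.mul_mem_pslImage_of_not_mem hm hm
  rw [show 2 * (k + 1) = L.index + 1 by omega, pow_succ] at h2
  exact (L.mul_mem_cancel_left h1).1 h2

/-- `Y = L ⋊ Γ` in coordinates in which `Γ` consists of field automorphisms centralising `V`. -/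
theorem exists_field_complement (h : Field.Psl L F)
    (h8 : Fintype.card F % 8 = 3 ∨ Fintype.card F % 8 = 5) (hidx : Odd L.index) (V : Sylow 2 Y)
    (hV4 : Nat.card (V : Subgroup Y) = 4) (hsq : ∀ x ∈ (V : Subgroup Y), x * x = 1)
    (hVL : (V : Subgroup Y) ≤ L) :
    ∃ (e : PSL ≃* L) (Γ : Subgroup (F ≃+* F)) (g : Γ →* Y), Odd (Nat.card Γ) ∧
      (∀ (σ : Γ) (x : PSL), g σ * (e x : Y) * (g σ)⁻¹ = e (fieldAut (σ : F ≃+* F) x)) ∧
      (∀ y, ∃ x σ, y = (e x : Y) * g σ) ∧
      (∀ x σ, (e x : Y) * g σ = 1 → x = 1 ∧ σ = 1) ∧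
      ∀ σ, ∀ v ∈ (V : Subgroup Y), Commute (g σ) v := by
  classical
  haveI : Fact (Nat.Prime 2) := ⟨Nat.prime_two⟩
  haveI := h.normal
  have h4 : 4 ≤ Fintype.card F := h.three
  have h2 : (2 : F) ≠ 0 := h.two_ne_zero
  set C := centralizer ((V : Subgroup Y) : Set Y) with hCdef
  -- `C ∩ L = V`
  have hVcomm : ∀ x ∈ (V : Subgroup Y), ∀ y ∈ (V : Subgroup Y), x * y = y * x := fun x hx y hy => by
    have h1 : ∀ s ∈ (V : Subgroup Y), s⁻¹ = s := fun s hs => inv_eq_of_mul_eq_one_right (hsq s hs)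
    calc x * y = (x * y)⁻¹ := (h1 _ (mul_mem hx hy)).symm
      _ = y * x := by rw [mul_inv_rev, h1 x hx, h1 y hy]
  let W : Subgroup PSL := ((V : Subgroup Y).subgroupOf L).map h.e.toMonoidHom
  have hW4 : Nat.card W = 4 := by
    rw [card_map_of_injective (K := (V : Subgroup Y).subgroupOf L) h.e.injective,
      Nat.card_congr (subgroupOfEquivOfLe hVL).toEquiv, hV4]
  obtain ⟨P, hWP⟩ := (IsPGroup.of_card (p := 2) (n := 2) (show Nat.card W = 2 ^ 2 from hW4)).exists_le_sylow
  obtain ⟨hcP, -⟩ := CfsgLib.SmallRee.psl_klein_normalizer h4 h8 P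
  have hWeq : W = (P : Subgroup PSL) := eq_of_le_of_card_ge hWP (by
    rw [hW4, (CfsgLib.ClassicalGroups.SL2.psl_sylow_two_klein rfl h8 P).card_four])
  have hCL : ∀ x ∈ L, x ∈ C → x ∈ (V : Subgroup Y) := by
    intro x hx hxC
    have hmem : h.e ⟨x, hx⟩ ∈ W := by
      rw [hWeq, ← hcP, ← hWeq, mem_centralizer_iff]
      rintro _ ⟨v, hv, rfl⟩
      show h.e v * h.e ⟨x, hx⟩ = h.e ⟨x, hx⟩ * h.e v
      rw [← map_mul, ← map_mul]
      exact congrArg h.e (Subtype.ext (mem_centralizer_iff.1 hxC v hv))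
    obtain ⟨v, hv, hve⟩ := hmem
    rw [show (v : L) = ⟨x, hx⟩ from h.e.injective hve] at hv
    exact hv
  -- two generators of `V`
  have hmemV : ∃ a ∈ (V : Subgroup Y), ∃ b ∈ (V : Subgroup Y), a ≠ 1 ∧ b ≠ 1 ∧ b ≠ a ∧
      ∀ c ∈ (V : Subgroup Y), c = 1 ∨ c = a ∨ c = b ∨ c = a * b := by
    let _ : Fintype (V : Subgroup Y) := Fintype.ofFinite _
    obtain ⟨a, ha1⟩ : ∃ a : (V : Subgroup Y), a ≠ 1 := by
      by_contra hn
      push Not at hn
      haveI : Subsingleton (V : Subgroup Y) := ⟨fun x y => (hn x).trans (hn y).symm⟩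
      rw [Nat.card_of_subsingleton (1 : (V : Subgroup Y))] at hV4
      omega
    obtain ⟨b, hb⟩ : ∃ b : (V : Subgroup Y), b ∉ ({1, a} : Finset (V : Subgroup Y)) := by
      by_contra hn
      push Not at hn
      have h1 := (Finset.card_le_card (fun x _ => hn x : (Finset.univ : Finset (V : Subgroup Y)) ⊆ {1, a}))
      rw [Finset.card_univ, ← Nat.card_eq_fintype_card, hV4] at h1
      have := h1.trans Finset.card_le_two
      omega
    simp only [Finset.mem_insert, Finset.mem_singleton, not_or] at hb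
    obtain ⟨hb1, hba⟩ := hb
    have hab1 : a * b ≠ 1 := fun e => hba ((inv_eq_of_mul_eq_one_right e).symm.trans
      (inv_eq_of_mul_eq_one_right (Subtype.ext (hsq a a.2))))
    have hU : ({1, a, b, a * b} : Finset (V : Subgroup Y)).card = 4 := by
      rw [Finset.card_insert_of_notMem, Finset.card_insert_of_notMem, Finset.card_pair]
      · simp [ha1]
      · simp [Ne.symm hba, hb1]
      · simp [Ne.symm ha1, Ne.symm hb1, Ne.symm hab1]
    refine ⟨a, a.2, b, b.2, fun e => ha1 (Subtype.ext e), fun e => hb1 (Subtype.ext e),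
      fun e => hba (Subtype.ext e), fun c hc => ?_⟩
    have hmem : (⟨c, hc⟩ : (V : Subgroup Y)) ∈ ({1, a, b, a * b} : Finset (V : Subgroup Y)) := by
      rw [Finset.eq_univ_of_card _ (hU.trans (by rw [← Nat.card_eq_fintype_card, hV4]))]
      exact Finset.mem_univ _
    simp only [Finset.mem_insert, Finset.mem_singleton] at hmem
    exact hmem.imp (congrArg Subtype.val) (Or.imp (congrArg Subtype.val)
      (Or.imp (congrArg Subtype.val) (congrArg Subtype.val)))
  obtain ⟨a, ha, b, hb, ha1, hb1, hba, hfour⟩ := hmemV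
  have hgen : ∀ m : Y, m * a * m⁻¹ = a → m * b * m⁻¹ = b → m ∈ C := fun m hma hmb => by
    have hc : ∀ c : Y, m * c * m⁻¹ = c → c * m = m * c := fun c hc => by
      conv_lhs => rw [← hc, inv_mul_cancel_right]
    refine mem_centralizer_iff.2 fun c hcV => hc c ?_
    rcases hfour c hcV with rfl | rfl | rfl | rfl
    · simp
    · exact hma
    · exact hmb
    · rw [show m * (a * b) * m⁻¹ = (m * a * m⁻¹) * (m * b * m⁻¹) by group, hma, hmb]
  -- a rotation
  obtain ⟨r, hrL, hra, hrb⟩ : ∃ r ∈ L, r * a * r⁻¹ = b ∧ r * b * r⁻¹ = a * b := by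
    have hord : ∀ x : Y, ∀ hx : x ∈ (V : Subgroup Y), x ≠ 1 → orderOf (h.e ⟨x, hVL hx⟩) = 2 := fun x hx h1 => by
      rw [MulEquiv.orderOf_eq, ← Subgroup.orderOf_coe]
      exact orderOf_eq_prime (by rw [pow_two]; exact hsq x hx) h1
    obtain ⟨g, hg1, hg2⟩ := exists_rotation h2 (hord a ha ha1) (hord b hb hb1)
      (by
        show h.e _ * h.e _ = h.e _ * h.e _
        rw [← map_mul, ← map_mul]
        exact congrArg h.e (Subtype.ext (hVcomm a ha b hb)))
      (fun e => hba (congrArg Subtype.val (h.e.injective e)).symm)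
    obtain ⟨r, rfl⟩ := h.e.surjective g
    rw [← map_inv, ← map_mul, ← map_mul] at hg1 hg2
    rw [← map_mul] at hg2
    exact ⟨r, r.2, congrArg Subtype.val (h.e.injective hg1), congrArg Subtype.val (h.e.injective hg2)⟩
  have hrV : ∀ c ∈ (V : Subgroup Y), r * c * r⁻¹ ∈ (V : Subgroup Y) := fun c hc => by
    rcases hfour c hc with rfl | rfl | rfl | rfl
    · simp
    · rw [hra]; exact hb
    · rw [hrb]; exact mul_mem ha hb
    · rw [show r * (a * b) * r⁻¹ = (r * a * r⁻¹) * (r * b * r⁻¹) by group, hra, hrb]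
      exact mul_mem hb (mul_mem ha hb)
  have hrN : r ∈ normalizer ((V : Subgroup Y) : Set Y) := mem_normalizer_of_forall hrV
  have hfix : ∀ m ∈ normalizer ((V : Subgroup Y) : Set Y), m * a * m⁻¹ = a → m ∈ C := by
    intro m hm hma
    refine hgen m hma ?_
    have hinj : ∀ x y : Y, m * x * m⁻¹ = m * y * m⁻¹ → x = y := fun x y h => by simpa using h
    rcases hfour _ ((mem_normalizer_iff.1 hm b).1 hb) with hmb | hmb | hmb | hmb
    · exact absurd (conj_eq_one_iff.1 hmb) hb1
    · exact absurd (hinj b a (hmb.trans hma.symm)) hba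
    · exact hmb
    exfalso
    obtain ⟨i, o, ho, hio⟩ := Nat.exists_eq_two_pow_mul_odd (orderOf_pos m).ne'
    have hp : IsPGroup 2 (zpowers (m ^ o)) := by
      refine IsPGroup.of_card (n := i) ?_
      rw [Nat.card_zpowers, orderOf_pow_of_dvd (by rintro rfl; simp at ho) ⟨2 ^ i, by rw [hio]; ring⟩,
        hio, Nat.mul_div_cancel _ ho.pos]
    have hoV : m ^ o ∈ (V : Subgroup Y) := by
      have h2 := V.3 (IsPGroup.to_sup_of_normal_right' hp V.2 (zpowers_le.2 (pow_mem hm o))) le_sup_right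
      exact h2 ▸ mem_sup_left (mem_zpowers _)
    have hsq2 : (m * m) * b * (m * m)⁻¹ = b := by
      calc (m * m) * b * (m * m)⁻¹ = m * (m * b * m⁻¹) * m⁻¹ := by group
        _ = m * (a * b) * m⁻¹ := by rw [hmb]
        _ = (m * a * m⁻¹) * (m * b * m⁻¹) := by group
        _ = a * (a * b) := by rw [hma, hmb]
        _ = b := by rw [← mul_assoc, hsq a ha, one_mul]
    obtain ⟨j, rfl⟩ := ho
    have hc := hVcomm _ hoV b hb
    have hmb2 : (m * m) * b = b * (m * m) := by
      conv_rhs => rw [← hsq2]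
      group
    have hcj : (m * m) ^ j * b = b * (m * m) ^ j := ((show Commute (m * m) b from hmb2).pow_left j).eq
    rw [show m ^ (2 * j + 1) = m * (m * m) ^ j by rw [← pow_two, ← pow_mul, ← pow_succ'], mul_assoc,
      hcj, ← mul_assoc, ← mul_assoc, mul_left_inj] at hc
    have : m * b * m⁻¹ = b := by rw [hc, mul_inv_cancel_right]
    rw [hmb] at this
    exact ha1 (mul_eq_right.1 this)
  -- Frattini
  have hfrat : ∀ y : Y, ∃ l ∈ L, ∃ c ∈ C, y = l * c := by
    intro y
    let VL : Sylow 2 L := V.subtype hVL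
    have hVmap : ((VL : Subgroup L).map L.subtype) = (V : Subgroup Y) := by
      show ((V : Subgroup Y).subgroupOf L).map L.subtype = _
      rw [subgroupOf_map_subtype, inf_eq_left.2 hVL]
    have hsup := VL.normalizer_sup_eq_top
    rw [hVmap, sup_comm] at hsup
    have hy : y ∈ L ⊔ normalizer ((V : Subgroup Y) : Set Y) := hsup ▸ mem_top y
    rw [← SetLike.mem_coe, Subgroup.normal_mul] at hy
    obtain ⟨l, hl, n, hn, rfl⟩ := hy
    rcases hfour _ ((mem_normalizer_iff.1 hn a).1 ha) with hna | hna | hna | hna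
    · exact absurd (conj_eq_one_iff.1 hna) ha1
    · exact ⟨l, hl, n, hfix n hn hna, rfl⟩
    · refine ⟨l * r, mul_mem hl hrL, r⁻¹ * n, hfix _ (mul_mem (inv_mem hrN) hn) ?_, by group⟩
      rw [show r⁻¹ * n * a * (r⁻¹ * n)⁻¹ = r⁻¹ * (n * a * n⁻¹) * r by group, hna, ← hra]
      group
    · refine ⟨l * r * r, mul_mem (mul_mem hl hrL) hrL, (r * r)⁻¹ * n,
        hfix _ (mul_mem (inv_mem (mul_mem hrN hrN)) hn) ?_, by group⟩
      rw [show (r * r)⁻¹ * n * a * ((r * r)⁻¹ * n)⁻¹ = r⁻¹ * (r⁻¹ * (n * a * n⁻¹) * r) * r by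
          simp only [mul_inv_rev, inv_inv, mul_assoc],
        hna, ← hrb, show r⁻¹ * (r * b * r⁻¹) * r = b by group, ← hra]
      group
  -- the generator
  haveI := CfsgLib.FieldGalois.isCyclic_ringAut (F := F)
  obtain ⟨g0, hg0⟩ := IsCyclic.exists_generator (α := C.map h.fp)
  obtain ⟨y0, hy0, hy0g⟩ := g0.2
  obtain ⟨k, hk⟩ := hidx
  have hy0V : y0 ^ L.index ∈ (V : Subgroup Y) := hCL _ (L.pow_index_mem y0) (pow_mem hy0 _)
  set y1 := y0 ^ 2 with hy1
  have hy1pow : y1 ^ L.index = 1 := by rw [hy1, ← pow_mul, mul_comm, pow_mul, pow_two, hsq _ hy0V]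
  have hy1odd : Odd (orderOf y1) :=
    (show Odd L.index from ⟨k, hk⟩).of_dvd_nat (orderOf_dvd_of_pow_eq_one hy1pow)
  have hy1C : y1 ∈ C := pow_mem hy0 2
  have hfp0 : h.fp y0 = h.fp y1 ^ (k + 1) := by
    have h1 : h.fp y0 ^ L.index = 1 := by rw [← map_pow]; exact h.fp_of_mem (L.pow_index_mem y0)
    rw [hy1, map_pow, ← pow_mul, show 2 * (k + 1) = L.index + 1 by omega, pow_succ, h1, one_mul]
  -- the coordinates
  obtain ⟨k', σ, -, hτ⟩ := exists_field_form h2 (τ := h.phi y1)
    (a := h.pg ⟨a, hVL ha⟩) (b := h.pg ⟨b, hVL hb⟩)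
    (by rwa [orderOf_injective _ h.phi_injective])
    (by rw [← map_mul, show (⟨a, hVL ha⟩ : L) * ⟨a, hVL ha⟩ = 1 from Subtype.ext (hsq a ha), map_one])
    (fun e => ha1 (congrArg Subtype.val (h.e.injective
      (Matrix.ProjectiveSpecialLinearGroup.toPGL_injective (e.trans (map_one h.pg).symm)))))
    (by rw [← map_mul, show (⟨b, hVL hb⟩ : L) * ⟨b, hVL hb⟩ = 1 from Subtype.ext (hsq b hb), map_one])
    (fun e => hb1 (congrArg Subtype.val (h.e.injective
      (Matrix.ProjectiveSpecialLinearGroup.toPGL_injective (e.trans (map_one h.pg).symm)))))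
    ((show Commute (⟨a, hVL ha⟩ : L) ⟨b, hVL hb⟩ from Subtype.ext (hVcomm a ha b hb)).map h.pg)
    (fun e => hba (congrArg Subtype.val (h.e.injective
      (Matrix.ProjectiveSpecialLinearGroup.toPGL_injective e))).symm)
    (h.phi_coe ⟨a, hVL ha⟩ ▸ (show Commute y1 a from (mem_centralizer_iff.1 hy1C a ha).symm).map h.phi)
    (h.phi_coe ⟨b, hVL hb⟩ ▸ (show Commute y1 b from (mem_centralizer_iff.1 hy1C b hb).symm).map h.phi)
  have hfp1 : h.fp y1 = σ := by
    show partHom (h.phi y1) = σ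
    rw [hτ, part_conj_field]
  set Z := zpowers y1 with hZ
  let Γ : Subgroup (F ≃+* F) := Z.map h.fp
  let φ : Z →* Γ := h.fp.subgroupMap Z
  have hφ : Function.Bijective φ := by
    refine ⟨(injective_iff_map_eq_one φ).2 fun z hz => ?_, h.fp.subgroupMap_surjective Z⟩
    have hzC : (z : Y) ∈ C := (zpowers_le.2 hy1C) z.2
    have hzV := hCL _ (mem_of_fp h ⟨k, hk⟩ (congrArg Subtype.val hz)) hzC
    have hzodd : Odd (orderOf (z : Y)) := hy1odd.of_dvd_nat (by
      rw [← Nat.card_zpowers y1, Subgroup.orderOf_coe]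
      exact orderOf_dvd_natCard z)
    refine Subtype.ext (orderOf_eq_one_iff.1 ?_)
    exact Nat.eq_one_of_dvd_coprimes (Nat.coprime_two_left.2 hzodd)
      (orderOf_dvd_of_pow_eq_one (by rw [pow_two]; exact hsq _ hzV)) dvd_rfl
  let φe : Z ≃* Γ := MulEquiv.ofBijective φ hφ
  let g : Γ →* Y := Z.subtype.comp φe.symm.toMonoidHom
  have hgZ : ∀ s, g s ∈ Z := fun s => (φe.symm s).2
  have hfpg : ∀ s, h.fp (g s) = (s : F ≃+* F) := fun s => congrArg Subtype.val (φe.apply_symm_apply s)
  have hphi : ∀ z ∈ Z, h.phi z =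
      conjAut k' * fieldAut (h.fp z) * (conjAut k' : MulAut PSL)⁻¹ := by
    intro z hz
    obtain ⟨i, rfl⟩ := mem_zpowers_iff.1 hz
    rw [map_zpow, map_zpow, hτ, hfp1, map_zpow, conj_zpow]
  let e : PSL ≃* L := (conjAut k' : MulAut PSL).trans h.e.symm
  have hee : ∀ x, h.e (e x) = (conjAut k' : MulAut PSL) x := fun x => h.e.apply_symm_apply _
  refine ⟨e, Γ, g, ?_, ?_, ?_, ?_, ?_⟩
  · rw [← Nat.card_congr φe.toEquiv, hZ, Nat.card_zpowers]
    exact hy1odd
  · intro s x
    have key : h.e ⟨g s * (e x : Y) * (g s)⁻¹, h.normal.conj_mem _ (e x).2 (g s)⟩ =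
        h.e (e (fieldAut (s : F ≃+* F) x)) := by
      rw [← h.phi_apply, hee, hee, hphi _ (hgZ s), hfpg]
      simp only [MulAut.mul_apply, MulAut.inv_apply_self]
    exact congrArg Subtype.val (h.e.injective key)
  · intro y
    obtain ⟨l, hl, c, hc, rfl⟩ := hfrat y
    obtain ⟨i, hi⟩ := mem_zpowers_iff.1 (hg0 ⟨_, c, hc, rfl⟩)
    have hcΓ : h.fp c ∈ Γ := by
      refine ⟨y1 ^ ((k + 1 : ℕ) * i), zpow_mem (mem_zpowers _) _, ?_⟩
      have h2 := congrArg Subtype.val hi
      simp only [Subgroup.coe_zpow] at h2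
      rw [map_zpow, zpow_mul, zpow_natCast, ← hfp0, hy0g]
      exact h2
    have hL : l * c * (g ⟨_, hcΓ⟩)⁻¹ ∈ L := by
      rw [mul_assoc]
      refine mul_mem hl (mem_of_fp h ⟨k, hk⟩ ?_)
      rw [map_mul, map_inv, hfpg, mul_inv_cancel]
    refine ⟨e.symm ⟨_, hL⟩, ⟨_, hcΓ⟩, ?_⟩
    rw [MulEquiv.apply_symm_apply, inv_mul_cancel_right]
  · intro x s hxs
    have hs : s = 1 := Subtype.ext (by
      rw [← hfpg, ← one_mul (h.fp (g s)), ← h.fp_of_mem (e x).2, ← map_mul, hxs, map_one]; rfl)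
    refine ⟨e.injective ?_, hs⟩
    rw [hs, map_one, mul_one] at hxs
    rw [map_one]
    exact Subtype.ext hxs
  · intro s v hv
    exact (mem_centralizer_iff.1 ((zpowers_le.2 hy1C) (hgZ s)) v hv).symm

end Model

section Frame

variable {G : Type u} [Group G] [Finite G]

/-- A core-free involution centraliser has coordinates. -/
theorem exists_frame (E : Setup G) (hloc : Local E) (hW : E.W = ⊥) : Nonempty (Frame E) := by
  classical
  haveI : Fact (Nat.Prime 2) := ⟨Nat.prime_two⟩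
  obtain ⟨Sh⟩ := hloc.shape E.t E.mem E.ne
  letI := Sh.grp
  letI := Sh.fin
  letI := Sh.field
  letI := Sh.fintype
  set C := centralizer ({E.t} : Set G)
  let T : Sylow 2 C := E.S.subtype (E.sylow_le_centralizer E.mem)
  let t' : C := ⟨E.t, mem_centralizer_singleton_iff.2 rfl⟩
  have htt : t' * t' = 1 := Subtype.ext (E.sq _ E.mem)
  obtain ⟨K₀, htK, hcov⟩ := CentralInter.exists_complement (T : Subgroup C)
    (fun x hx y hy => Subtype.ext (E.comm hx hy)) (fun x hx => Subtype.ext (E.sq _ hx))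
    (by rw [← Nat.not_even_iff_odd, even_iff_two_dvd]; exact T.not_dvd_index)
    (t := t') E.mem (fun e => E.ne (congrArg Subtype.val e))
    (mem_center_iff.2 fun g => Subtype.ext (mem_centralizer_singleton_iff.1 g.2))
  have hker : ∀ x : C, Sh.π x = 1 ↔ x = 1 ∨ x = t' := by
    intro x
    have hc : Setup.W E = GW.coreIn C := rfl
    rw [hW] at hc
    rw [Sh.ker, ← hc, mem_bot, mem_bot]
    constructor
    · rintro (h | h)
      · exact Or.inl (Subtype.ext h)
      · refine Or.inr (Subtype.ext ?_)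
        show (x : G) = E.t
        rw [eq_inv_of_mul_eq_one_left h, inv_eq_of_mul_eq_one_right (E.sq _ E.mem)]
    · rintro (rfl | rfl)
      · exact Or.inl rfl
      · exact Or.inr (E.sq _ E.mem)
  let f : ↥K₀ →* Sh.Y := Sh.π.comp K₀.subtype
  have hπt : Sh.π t' = 1 := (hker t').2 (Or.inr rfl)
  have hf : Function.Bijective f := by
    refine ⟨(injective_iff_map_eq_one f).2 fun x hx => ?_, fun y => ?_⟩
    · rcases (hker x).1 hx with h | h
      · exact Subtype.ext h
      · exact absurd (h ▸ x.2) htK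
    · obtain ⟨x, rfl⟩ := Sh.surj y
      rcases hcov x with h | h
      · exact ⟨⟨x, h⟩, rfl⟩
      · exact ⟨⟨t' * x, h⟩, by show Sh.π (t' * x) = _; rw [map_mul, hπt, one_mul]⟩
  let fe : ↥K₀ ≃* Sh.Y := MulEquiv.ofBijective f hf
  let ψ : Sh.Y →* G := C.subtype.comp (K₀.subtype.comp fe.symm.toMonoidHom)
  have hψinj : Function.Injective ψ :=
    C.subtype_injective.comp (K₀.subtype_injective.comp fe.symm.injective)
  have hψC : ∀ y, ψ y ∈ C := fun y => (fe.symm y : ↥C).2
  have hψt : ∀ y, ψ y ≠ E.t := fun y e => htK ((show ((fe.symm y : ↥K₀) : ↥C) = t' from Subtype.ext e) ▸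
    (fe.symm y).2)
  -- every element of `C`
  have hdec : ∀ h : C, (h : G) = ψ (Sh.π h) ∨ (h : G) = E.t * ψ (Sh.π h) := by
    intro h
    rcases hcov h with hh | hh
    · left
      have : fe.symm (Sh.π h) = ⟨h, hh⟩ := fe.symm_apply_eq.2 rfl
      show (h : G) = ((fe.symm (Sh.π h) : ↥C) : G)
      rw [this]
    · right
      have : fe.symm (Sh.π h) = ⟨t' * h, hh⟩ := fe.symm_apply_eq.2 (by
        show Sh.π h = Sh.π (t' * h)
        rw [map_mul, hπt, one_mul])
      show (h : G) = E.t * ((fe.symm (Sh.π h) : ↥C) : G)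
      rw [this]
      show (h : G) = E.t * (E.t * h)
      rw [← mul_assoc, E.sq _ E.mem, one_mul]
  -- the four group
  let V : Sylow 2 Sh.Y := T.mapSurjective Sh.surj
  have hVmem : ∀ v, v ∈ (V : Subgroup Sh.Y) ↔ ∃ s : C, (s : G) ∈ (E.S : Subgroup G) ∧ Sh.π s = v :=
    fun v => Iff.rfl
  have hVL : (V : Subgroup Sh.Y) ≤ Sh.L := fun v hv => by
    obtain ⟨s, hs, rfl⟩ := (hVmem v).1 hv
    exact Sh.img s hs
  have hVsq : ∀ v ∈ (V : Subgroup Sh.Y), v * v = 1 := fun v hv => by
    obtain ⟨s, hs, rfl⟩ := (hVmem v).1 hv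
    rw [← map_mul, show s * s = 1 from Subtype.ext (E.sq _ hs), map_one]
  have hV4 : Nat.card (V : Subgroup Sh.Y) = 4 := by
    show Nat.card ((T : Subgroup C).map Sh.π) = 4
    rw [← relIndex_ker]
    have hle : Sh.π.ker ≤ (T : Subgroup C) := fun x hx => by
      rcases (hker x).1 hx with rfl | rfl
      · exact one_mem _
      · exact E.mem
    have h := relIndex_mul_relIndex ⊥ Sh.π.ker (T : Subgroup C) bot_le hle
    have hk2 : Sh.π.ker = zpowers t' := le_antisymm (fun x hx => by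
      rcases (hker x).1 hx with rfl | rfl
      · exact one_mem _
      · exact mem_zpowers _) (zpowers_le.2 hπt)
    rw [relIndex_bot_left, relIndex_bot_left] at h
    have hT : Nat.card (T : Subgroup C) = 8 := by
      rw [← E.card_S]
      exact Nat.card_congr (subgroupOfEquivOfLe (E.sylow_le_centralizer E.mem)).toEquiv
    rw [hT, hk2, Nat.card_zpowers,
      show orderOf t' = 2 by rw [← Subgroup.orderOf_coe]; exact E.orderOf_t] at h
    rw [hk2]
    omega
  obtain ⟨e, Γ, g, hodd, hconj, hdecY, hone, hcent⟩ :=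
    exists_field_complement Sh.psl Sh.q_mod Sh.odd_index V hV4 hVsq hVL
  exact ⟨
    { F := Sh.F
      q_mod := Sh.q_mod
      three := Sh.psl.three
      Γ := Γ
      Γ_odd := hodd
      psl := ψ.comp (Sh.L.subtype.comp e.toMonoidHom)
      fld := ψ.comp g
      psl_inj := hψinj.comp (Sh.L.subtype_injective.comp e.injective)
      fld_inj := hψinj.comp ((injective_iff_map_eq_one g).2 fun σ hσ =>
        (hone 1 σ (by rw [hσ, map_one, mul_one]; rfl)).2)
      psl_mem := fun _ => hψC _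
      fld_mem := fun _ => hψC _
      fld_psl := fun σ x => by
        show ψ (g σ) * ψ (e x) * (ψ (g σ))⁻¹ = ψ (e (fieldAut (σ : Sh.F ≃+* Sh.F) x))
        rw [← map_inv, ← map_mul, ← map_mul, hconj]
      exists_eq := fun h hh => by
        obtain ⟨x, σ, hxσ⟩ := hdecY (Sh.π ⟨h, hh⟩)
        refine ⟨x, σ, ?_⟩
        have := hdec ⟨h, hh⟩
        rw [hxσ, map_mul] at this
        exact this
      eq_one := fun x σ hxσ => hone x σ (hψinj (by rw [map_mul, map_one]; exact hxσ))
      ne_t := fun x σ h => hψt ((e x : Sh.Y) * g σ) (by rw [map_mul]; exact h)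
      S_psl := fun s hs => by
        let s' : C := ⟨s, E.sylow_le_centralizer E.mem hs⟩
        refine ⟨e.symm ⟨_, hVL ((hVmem _).2 ⟨s', hs, rfl⟩)⟩, ?_⟩
        show s = ψ (e (e.symm _) : Sh.Y) ∨ s = E.t * ψ (e (e.symm _) : Sh.Y)
        rw [MulEquiv.apply_symm_apply]
        exact hdec s'
      S_fld := fun σ s hs => by
        let s' : C := ⟨s, E.sylow_le_centralizer E.mem hs⟩
        have hc : Commute (ψ (g σ)) (ψ (Sh.π s')) := (hcent σ _ ((hVmem _).2 ⟨s', hs, rfl⟩)).map ψ
        have ht : Commute (ψ (g σ)) E.t := mem_centralizer_singleton_iff.1 (hψC _)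
        show Commute (ψ (g σ)) s
        rcases hdec s' with h | h
        · exact (show s = _ from h) ▸ hc
        · exact (show s = _ from h) ▸ ht.mul_right hc }⟩

/-- `FieldFree` from the triviality of the field part in every frame. -/
theorem fieldFree_of
    (h : ∀ (G : Type u) [Group G] [Finite G] (E : Setup G), Local E → E.W = ⊥ → ∀ R : Frame E, R.f = 1) :
    Walter.FieldFree.{u} := by
  intro G _ _ E hloc hW
  obtain ⟨R⟩ := exists_frame E hloc hW
  refine ⟨R.F, R.field, R.fintype, R.three.le, ?_⟩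
  have hsub : Subsingleton R.Γ := (Nat.card_eq_one_iff_unique.1 (h G E hloc hW R)).1
  set C := centralizer ({E.t} : Set G)
  have htC : E.t ∈ C := mem_centralizer_singleton_iff.2 rfl
  let c : Multiplicative (ZMod 2) →* G :=
    { toFun := fun a => if a = 1 then 1 else E.t
      map_one' := if_pos rfl
      map_mul' := fun a b => by
        have h : ∀ c : Multiplicative (ZMod 2), c = 1 ∨ c = Multiplicative.ofAdd 1 := by decide
        have h1 : (Multiplicative.ofAdd 1 : Multiplicative (ZMod 2)) ≠ 1 := by decide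
        have h2 : (Multiplicative.ofAdd 1 * Multiplicative.ofAdd 1 : Multiplicative (ZMod 2)) = 1 := by decide
        rcases h a with rfl | rfl <;> rcases h b with rfl | rfl
        · simp
        · simp [h1]
        · simp [h1]
        · rw [h2, if_pos rfl, if_neg h1, E.sq _ E.mem] }
  have hcC : ∀ z, c z ∈ C := fun z => by
    show (if z = 1 then 1 else E.t) ∈ C
    split_ifs
    · exact one_mem _
    · exact htC
  have hcomm : ∀ z x, c z * R.psl x = R.psl x * c z := fun z x => by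
    show (if z = 1 then 1 else E.t) * R.psl x = R.psl x * (if z = 1 then 1 else E.t)
    split_ifs
    · rw [one_mul, mul_one]
    · exact (mem_centralizer_singleton_iff.1 (R.psl_mem x)).symm
  let m : Multiplicative (ZMod 2) × Matrix.ProjectiveSpecialLinearGroup (Fin 2) R.F →* C :=
    MonoidHom.mk' (fun p => ⟨c p.1 * R.psl p.2, mul_mem (hcC _) (R.psl_mem _)⟩) (by
      intro p p'
      refine Subtype.ext ?_
      show c (p.1 * p'.1) * R.psl (p.2 * p'.2) = c p.1 * R.psl p.2 * (c p'.1 * R.psl p'.2)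
      rw [map_mul, map_mul, mul_assoc, mul_assoc]
      congr 1
      rw [← mul_assoc, hcomm, mul_assoc])
  refine ⟨(MulEquiv.ofBijective m ⟨(injective_iff_map_eq_one m).2 ?_, ?_⟩).symm⟩
  · rintro ⟨z, x⟩ hzx
    have h1 : c z * R.psl x = 1 := congrArg Subtype.val hzx
    by_cases hz : z = 1
    · rw [show c z = 1 from if_pos hz, one_mul] at h1
      exact Prod.ext hz (R.psl_inj (h1.trans (map_one R.psl).symm))
    · rw [show c z = E.t from if_neg hz] at h1
      refine absurd ?_ (R.ne_t x 1)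
      rw [map_one, mul_one]
      exact (inv_eq_of_mul_eq_one_right h1).symm.trans (inv_eq_of_mul_eq_one_right (E.sq _ E.mem))
  · rintro ⟨x, hx⟩
    obtain ⟨y, σ, hy⟩ := R.exists_eq x hx
    obtain rfl : σ = 1 := Subsingleton.elim _ _
    rw [map_one, mul_one] at hy
    rcases hy with hy | hy
    · refine ⟨(1, y), Subtype.ext ?_⟩
      show c 1 * R.psl y = x
      rw [map_one, one_mul, hy]
    · refine ⟨((Multiplicative.ofAdd 1 : Multiplicative (ZMod 2)), y), Subtype.ext ?_⟩
      show (if (Multiplicative.ofAdd (1 : ZMod 2)) = 1 then (1 : G) else E.t) * R.psl y = x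
      rw [if_neg (by decide), hy]

end Frame

end CfsgLib.Walter.Twist
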