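import Cfsg.Agent.S4273
import Cfsg.Agent.Lib.Sporadic.J1

/-!
# Walter, `FieldFree`: a torus normaliser in Janko's first group

In a simple group of order `175560` an element of order `7`, `11` or `19` is conjugate to one of its powers
other than itself and its inverse.  By uniqueness of the group this is read off from explicit words in the
generators of `Cfsg.Spor.J1`.
-/

set_option autoImplicit false

namespace CfsgLib.Walter.Twist.JankoTorus

open CfsgLib.Sporadic CfsgLib.Sporadic.J1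

universe u

/-- The code of a word in the generators. -/
noncomputable def wordCode (w : List ℕ) : ℕ := genWord mul one gens w

/-- The code of a power. -/
noncomputable def powerCode (c k : ℕ) : ℕ := genWord mul one [c] (List.replicate k 0)

theorem dec_powerCode (c : ℕ) : ∀ k, dec (powerCode c k) = dec c ^ k
  | 0 => by rw [pow_zero]; exact hone
  | k + 1 => by
    rw [powerCode, List.replicate_succ, genWord_cons, hmul, pow_succ']
    exact congrArg (dec c * ·) (dec_powerCode c k)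

theorem exists_word (w : List ℕ) : ∃ g : Cfsg.Spor.J1, emb g.1 = dec (wordCode w) :=
  let ⟨g, hg, e⟩ := codeMem_genWord hmul hone gens_mem w
  ⟨⟨g, hg⟩, e⟩

/-- Two words give an element of order `r` and an element moving it to its `k`th power. -/
theorem exists_of_words {r k : ℕ} [Fact r.Prime] (zw lw : List ℕ)
    (h1 : (powerCode (wordCode zw) r == one) = true)
    (h2 : (mul (wordCode lw) (wordCode zw) == mul (powerCode (wordCode zw) k) (wordCode lw)) = true)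
    (h3 : (canon (wordCode zw) && canon one && !(wordCode zw == one)) = true)
    (hk1 : (k : ZMod r) ≠ 1) (hk2 : (k : ZMod r) ≠ -1) :
    ∃ z l : Cfsg.Spor.J1, orderOf z = r ∧ l * z * l⁻¹ ∈ Subgroup.zpowers z ∧ l * z * l⁻¹ ≠ z ∧
      l * z * l⁻¹ ≠ z⁻¹ := by
  rw [beq_iff_eq] at h1 h2
  simp only [Bool.and_eq_true, Bool.not_eq_true', beq_eq_false_iff_ne] at h3
  obtain ⟨z, hz⟩ := exists_word zw
  obtain ⟨l, hl⟩ := exists_word lw
  have hord : orderOf z = r := by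
    refine orderOf_eq_prime ?_ fun e => ?_
    · refine Subtype.ext (hemb ?_)
      rw [Subgroup.coe_pow, map_pow, hz, ← dec_powerCode, h1, OneMemClass.coe_one, map_one, hone]
    · refine h3.2 (hinj _ _ h3.1.1 h3.1.2 ?_)
      rw [← hz, e, OneMemClass.coe_one, map_one, hone]
  have hlz : l * z = z ^ k * l := by
    refine Subtype.ext (hemb ?_)
    rw [Subgroup.coe_mul, Subgroup.coe_mul, Subgroup.coe_pow, map_mul, map_mul, map_pow, hl, hz, ← dec_powerCode,
      ← hmul, ← hmul, h2]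
  have hc : l * z * l⁻¹ = z ^ k := by rw [hlz, mul_inv_cancel_right]
  refine ⟨z, l, hord, hc ▸ Subgroup.pow_mem _ (Subgroup.mem_zpowers z) k, ?_, ?_⟩
  · intro h
    rw [hc] at h
    apply hk1
    have h' : z ^ k = z ^ 1 := by rw [h, pow_one]
    rw [pow_eq_pow_iff_modEq, hord] at h'
    exact_mod_cast (ZMod.natCast_eq_natCast_iff k 1 r).2 h'
  · intro h
    rw [hc] at h
    apply hk2
    have h' : z ^ (k + 1) = z ^ 0 := by rw [pow_succ, h, inv_mul_cancel, pow_zero]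
    rw [pow_eq_pow_iff_modEq, hord] at h'
    have := (ZMod.natCast_eq_natCast_iff (k + 1) 0 r).2 h'
    push_cast at this
    exact eq_neg_of_add_eq_zero_left this

theorem scalar_facts : ((2 : ℕ) : ZMod 7) ≠ 1 ∧ ((2 : ℕ) : ZMod 7) ≠ -1 ∧ ((2 : ℕ) : ZMod 11) ≠ 1 ∧
    ((2 : ℕ) : ZMod 11) ≠ -1 ∧ ((7 : ℕ) : ZMod 19) ≠ 1 ∧ ((7 : ℕ) : ZMod 19) ≠ -1 := by
  decide

theorem seven : ∃ z l : Cfsg.Spor.J1, orderOf z = 7 ∧ l * z * l⁻¹ ∈ Subgroup.zpowers z ∧ l * z * l⁻¹ ≠ z ∧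
    l * z * l⁻¹ ≠ z⁻¹ :=
  haveI : Fact (Nat.Prime 7) := ⟨by norm_num⟩
  exists_of_words (k := 2) [1,1,0,1,0,0,1,1,1,0,0,1,1,0,1,0,1] [0,1,1,0,1,1,0,0,1,1]
    (by decide +kernel) (by decide +kernel) (by decide +kernel) scalar_facts.1 scalar_facts.2.1

theorem eleven : ∃ z l : Cfsg.Spor.J1, orderOf z = 11 ∧ l * z * l⁻¹ ∈ Subgroup.zpowers z ∧ l * z * l⁻¹ ≠ z ∧
    l * z * l⁻¹ ≠ z⁻¹ :=
  haveI : Fact (Nat.Prime 11) := ⟨by norm_num⟩
  exists_of_words (k := 2)
    [1,0,0,1,1,0,1,1,0,1,1,0,0,0,1,1,1,1,1,1,1,0,1,1,0,0,1,1,1,0,1,0,0,0] [0,1,1,0,1,0,0,0,0,0]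
    (by decide +kernel) (by decide +kernel) (by decide +kernel) scalar_facts.2.2.1 scalar_facts.2.2.2.1

theorem nineteen : ∃ z l : Cfsg.Spor.J1, orderOf z = 19 ∧ l * z * l⁻¹ ∈ Subgroup.zpowers z ∧
    l * z * l⁻¹ ≠ z ∧ l * z * l⁻¹ ≠ z⁻¹ :=
  haveI : Fact (Nat.Prime 19) := ⟨by norm_num⟩
  exists_of_words (k := 7)
    [0,1,0,1,0,1,0,0,1,1,0,0,1,0,0,0,0,1,0,0,1,1,0,0,0] [1,0,0,1,1,1,0,1,1,1,0,0]
    (by decide +kernel) (by decide +kernel) (by decide +kernel) scalar_facts.2.2.2.2.1 scalar_facts.2.2.2.2.2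

/-- **An element of order `7`, `11` or `19` of Janko's group and an element of its normaliser acting neither
trivially nor by inversion.** -/
theorem exists_scalar_of_isJ1 {X : Type u} [Group X] [Finite X] (hX : Cfsg.IsJ1 X) {r : ℕ}
    (hr : r = 7 ∨ r = 11 ∨ r = 19) :
    ∃ z l : X, orderOf z = r ∧ l * z * l⁻¹ ∈ Subgroup.zpowers z ∧ l * z * l⁻¹ ≠ z ∧ l * z * l⁻¹ ≠ z⁻¹ := by
  have := hX.1
  have : IsSimpleGroup Cfsg.Spor.J1 := isSimple_J1
  obtain ⟨e⟩ := Cfsg.Agent.S4273.result (G := Cfsg.Spor.J1) (H := X) card_J1 hX.2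
  obtain ⟨z, l, hz, hm, h1, h2⟩ : ∃ z l : Cfsg.Spor.J1, orderOf z = r ∧
      l * z * l⁻¹ ∈ Subgroup.zpowers z ∧ l * z * l⁻¹ ≠ z ∧ l * z * l⁻¹ ≠ z⁻¹ := by
    rcases hr with rfl | rfl | rfl
    exacts [seven, eleven, nineteen]
  obtain ⟨i, hi⟩ := Subgroup.mem_zpowers_iff.1 hm
  refine ⟨e z, e l, (MulEquiv.orderOf_eq e z).trans hz, Subgroup.mem_zpowers_iff.2 ⟨i, ?_⟩, fun h => h1 ?_,
    fun h => h2 ?_⟩
  · rw [← map_zpow, hi, map_mul, map_mul, map_inv]
  · exact e.injective (by rw [map_mul, map_mul, map_inv, h])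
  · exact e.injective (by rw [map_mul, map_mul, map_inv, h, map_inv])

end CfsgLib.Walter.Twist.JankoTorus
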