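import Mathlib
import Cfsg.Agent.Lib.SylTwoAbel.Tools

/-!
# Walter, the rank one lemma: the transfer at an element of prime order

The transfer into a group of exponent `r`, evaluated at an element `u` of order dividing `r`, only sees the
cosets fixed by an `r`-subgroup `A` centralising `u`: the other orbits of `A` contribute `r`-th powers.
-/

set_option autoImplicit false
set_option linter.unusedSectionVars false

namespace CfsgLib.Walter.Twist.RankOne

open Subgroup MulAction

universe u v

variable {G : Type u} [Group G] [Finite G] {r : ℕ} [hr : Fact r.Prime]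

/-- **The transfer at `u` only sees the cosets fixed by `A`.** -/
theorem transfer_eq_pow_index {P A : Subgroup G} {B : Type v} [CommGroup B] (hB : ∀ b : B, b ^ r = 1)
    (ν : P →* B) {u : G} (hu : u ^ r = 1) (huA : u ∈ A) (hA : IsPGroup r A)
    (hAu : ∀ a ∈ A, a * u = u * a) {b : B}
    (hval : ∀ g : G, (∀ a ∈ A, g⁻¹ * a * g ∈ P) → ∀ h : g⁻¹ * u * g ∈ P, ν ⟨_, h⟩ = b) :
    ν.transfer u = b ^ P.index := by
  classical
  let _ : Fintype (G ⧸ P) := Fintype.ofFinite _
  let _ : Fintype (Quotient (orbitRel (zpowers u) (G ⧸ P))) := Fintype.ofFinite _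
  let _ : Fintype (fixedPoints A (G ⧸ P)) := Fintype.ofFinite _
  let f : G ⧸ P → B := fun q =>
    if h : q.out⁻¹ * u * q.out ∈ P then ν ⟨_, h⟩ else 1
  have hmem : ∀ q : G ⧸ P, u • q = q ↔ q.out⁻¹ * u * q.out ∈ P := fun q => by
    induction q using QuotientGroup.induction_on with
    | H g =>
      set o := ((g : G ⧸ P)).out
      have ho : (o : G ⧸ P) = (g : G ⧸ P) := QuotientGroup.out_eq' _
      rw [← ho, MulAction.Quotient.smul_coe, smul_eq_mul, QuotientGroup.eq]
      rw [show (u * o)⁻¹ * o = (o⁻¹ * u * o)⁻¹ by group, inv_mem_iff]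
  have hfinv : ∀ (a : A) (q : G ⧸ P), f (a • q) = f q := by
    intro a q
    obtain ⟨p, hp⟩ : ∃ p : P, (a • q).out = a * q.out * p := by
      have h : ((a : G) * q.out : G ⧸ P) = ((a • q).out : G ⧸ P) := by
        conv_rhs => rw [QuotientGroup.out_eq']
        conv_rhs => rw [← QuotientGroup.out_eq' q]
        rfl
      exact ⟨⟨_, QuotientGroup.eq.1 h⟩, by simp only [mul_inv_cancel_left]⟩
    have hconj : (a • q).out⁻¹ * u * (a • q).out = (p : G)⁻¹ * (q.out⁻¹ * u * q.out) * p := by
      rw [hp, mul_inv_rev, mul_inv_rev]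
      calc (p : G)⁻¹ * (q.out⁻¹ * (a : G)⁻¹) * u * (a * q.out * p)
          = (p : G)⁻¹ * q.out⁻¹ * ((a : G)⁻¹ * (u * a)) * q.out * p := by group
        _ = _ := by rw [← hAu a a.2, inv_mul_cancel_left]; group
    have hiff : (a • q).out⁻¹ * u * (a • q).out ∈ P ↔ q.out⁻¹ * u * q.out ∈ P := by
      rw [hconj, P.mul_mem_cancel_right p.2, P.mul_mem_cancel_left (P.inv_mem p.2)]
    simp only [f]
    by_cases h : q.out⁻¹ * u * q.out ∈ P
    · rw [dif_pos (hiff.2 h), dif_pos h]
      have e : (⟨_, hiff.2 h⟩ : P) = p⁻¹ * ⟨_, h⟩ * p := Subtype.ext hconj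
      rw [e, map_mul, map_mul, map_inv, mul_comm, ← mul_assoc, mul_inv_cancel, one_mul]
    · rw [dif_neg (fun h' => h (hiff.1 h')), dif_neg h]
  have htrans : ν.transfer u = ∏ q, f q := by
    rw [MonoidHom.transfer_eq_prod_quotient_orbitRel_zpowers_quot,
      ← Finset.prod_fiberwise (g := (Quotient.mk'' : G ⧸ P → Quotient (orbitRel (zpowers u) (G ⧸ P)))) _ f]
    refine Finset.prod_congr rfl fun o _ => ?_
    by_cases hfix : u • o.out = o.out
    · have h1 : Function.minimalPeriod (u • ·) o.out = 1 := Function.minimalPeriod_eq_one_iff_isFixedPt.2 hfix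
      have hsingle : (Finset.univ.filter fun q : G ⧸ P => Quotient.mk'' q = o) = {o.out} := by
        refine Finset.eq_singleton_iff_unique_mem.2 ⟨by simp, fun q hq => ?_⟩
        have hq' : Quotient.mk'' q = o := (Finset.mem_filter.1 hq).2
        have hmem' : q ∈ MulAction.orbit (zpowers u) o.out :=
          Quotient.eq''.1 (hq'.trans o.out_eq'.symm)
        obtain ⟨⟨c, hc⟩, rfl⟩ := hmem'
        have : zpowers u ≤ MulAction.stabilizer G o.out := zpowers_le.2 hfix
        exact this hc
      rw [hsingle, Finset.prod_singleton]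
      have h := (hmem o.out).1 hfix
      simp only [f, dif_pos h, h1, pow_one]
    · have hdvd : Function.minimalPeriod (u • ·) o.out ∣ r := by
        refine Function.IsPeriodicPt.minimalPeriod_dvd ?_
        show (u • ·)^[r] o.out = o.out
        rw [smul_iterate, hu]
        exact one_smul G _
      have hpr : Function.minimalPeriod (u • ·) o.out = r :=
        ((Nat.dvd_prime hr.out).1 hdvd).resolve_left fun h =>
          hfix (Function.minimalPeriod_eq_one_iff_isFixedPt.1 h)
      have hone : ∀ q ∈ (Finset.univ.filter fun q : G ⧸ P => Quotient.mk'' q = o), f q = 1 := by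
        intro q hq
        simp only [f]
        rw [dif_neg]
        intro h
        have hfq := (hmem q).2 h
        have hq' : Quotient.mk'' q = o := (Finset.mem_filter.1 hq).2
        have hmem' : o.out ∈ MulAction.orbit (zpowers u) q :=
          Quotient.eq''.1 (o.out_eq'.trans hq'.symm)
        obtain ⟨⟨c, hc⟩, hce⟩ := hmem'
        have hs : zpowers u ≤ MulAction.stabilizer G q := zpowers_le.2 hfq
        have : c • q = q := hs hc
        exact hfix (by rw [← hce]; show u • c • q = c • q; rw [this]; exact hfq)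
      rw [Finset.prod_eq_one hone]
      have e : ∀ h, (⟨o.out.out⁻¹ * u ^ Function.minimalPeriod (u • ·) o.out * o.out.out, h⟩ : P) = 1 :=
        fun h => Subtype.ext (by simp [hpr, hu])
      rw [e, map_one]
  rw [htrans, CfsgLib.SylTwoAbel.prod_eq_prod_fixedPoints hA f hfinv hB]
  have hall : ∀ q : fixedPoints A (G ⧸ P), f q.1 = b := by
    rintro ⟨q, hq⟩
    have hg : ∀ a ∈ A, q.out⁻¹ * a * q.out ∈ P := fun a ha => by
      have h : (a : G) • q = q := hq ⟨a, ha⟩
      rw [← QuotientGroup.out_eq' q, MulAction.Quotient.smul_coe, smul_eq_mul, QuotientGroup.eq] at h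
      have := P.inv_mem h
      rwa [show ((a * q.out)⁻¹ * q.out)⁻¹ = q.out⁻¹ * a * q.out by group] at this
    simp only [f, dif_pos (hg u huA)]
    exact hval q.out hg (hg u huA)
  rw [Finset.prod_congr rfl (fun q _ => hall q), Finset.prod_const, Finset.card_univ,
    ← Nat.card_eq_fintype_card]
  refine pow_eq_pow_of_modEq ?_ (hB b)
  exact (hA.card_modEq_card_fixedPoints (G ⧸ P)).symm

end CfsgLib.Walter.Twist.RankOne
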