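import Cfsg.Agent.Lib.Walter.Twist.RankOneLinear
import Cfsg.Agent.Lib.Walter.Twist.RankOneTransfer

/-!
# Walter, `FieldFree`: the rank one lemma

`r` is a prime, `φ` and `z` are commuting elements of order `r` spanning a plane `A`, `r³` does not divide
`|C(φ)|`, an element normalising `⟨φ⟩` centralises it, and some `l` centralises `φ` and acts on `⟨z⟩` by a
scalar other than `±1`.  Then some homomorphism onto an `r`-group does not kill `φ`
(`exists_hom`); in particular the group is not simple (`false_of_rank_one`).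

If `A` is a Sylow subgroup, `N(A)` fixes `φ` and the transfer settles it.  Otherwise `z` is central in every
Sylow subgroup over `A`, a conjugate of `A` inside such a subgroup comes from `N⟨z⟩`, the configuration repeats
in `N⟨z⟩/⟨z⟩`, and the transfer at `φ` only sees the cosets fixed by `A`.
-/

set_option autoImplicit false
set_option linter.unusedSectionVars false

namespace CfsgLib.Walter.Twist.RankOne

open Subgroup
open scoped Matrix Pointwise

universe u

/-- The hypotheses. -/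
structure Data (G : Type u) [Group G] (r : ℕ) where
  /-- the element which survives -/
  φ : G
  /-- the second element of the plane -/
  z : G
  /-- the element acting as a scalar on `⟨z⟩` -/
  l : G
  ordφ : orderOf φ = r
  ordz : orderOf z = r
  comm : Commute φ z
  notMem : z ∉ zpowers φ
  cent : ¬ r ^ 3 ∣ Nat.card ↥(centralizer ({φ} : Set G))
  norm : ∀ g : G, g * φ * g⁻¹ ∈ zpowers φ → g * φ * g⁻¹ = φ
  lφ : Commute l φ
  lz : l * z * l⁻¹ ∈ zpowers z
  lne : l * z * l⁻¹ ≠ z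
  linv : l * z * l⁻¹ ≠ z⁻¹

namespace Data

variable {G : Type u} [Group G] [Finite G] {r : ℕ} [hr : Fact r.Prime] (D : Data G r)

theorem pow_eq_of_cast {g : G} (hg : orderOf g = r) {a b : ℕ} (h : (a : ZMod r) = b) : g ^ a = g ^ b :=
  pow_eq_pow_iff_modEq.2 (hg.symm ▸ (ZMod.natCast_eq_natCast_iff a b r).1 h)

theorem cast_eq_of_pow {g : G} (hg : orderOf g = r) {a b : ℕ} (h : g ^ a = g ^ b) : (a : ZMod r) = b :=
  (ZMod.natCast_eq_natCast_iff a b r).2 (hg ▸ pow_eq_pow_iff_modEq.1 h)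

/-- Coordinates of the plane. -/
def pt : Multiplicative (ZMod r × ZMod r) →* G where
  toFun v := D.φ ^ v.toAdd.1.val * D.z ^ v.toAdd.2.val
  map_one' := by simp
  map_mul' v w := by
    have e1 : D.φ ^ (v.toAdd.1 + w.toAdd.1).val = D.φ ^ v.toAdd.1.val * D.φ ^ w.toAdd.1.val := by
      rw [← pow_add]; exact pow_eq_of_cast D.ordφ (by simp)
    have e2 : D.z ^ (v.toAdd.2 + w.toAdd.2).val = D.z ^ v.toAdd.2.val * D.z ^ w.toAdd.2.val := by
      rw [← pow_add]; exact pow_eq_of_cast D.ordz (by simp)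
    rw [toAdd_mul, Prod.fst_add, Prod.snd_add, e1, e2]
    exact (D.comm.pow_pow _ _).mul_mul_mul_comm _ _

/-- The point with given coordinates. -/
def at' (i j : ZMod r) : G := D.pt (Multiplicative.ofAdd (i, j))

theorem at'_def (i j : ZMod r) : D.at' i j = D.φ ^ i.val * D.z ^ j.val := rfl

theorem at'_mul (i j k m : ZMod r) : D.at' i j * D.at' k m = D.at' (i + k) (j + m) :=
  (map_mul D.pt _ _).symm

theorem at'_pow (i j : ZMod r) (n : ℕ) : D.at' i j ^ n = D.at' (n * i) (n * j) := by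
  induction n with
  | zero => rw [pow_zero, at'_def]; simp
  | succ n ih => rw [pow_succ, ih, at'_mul]; congr 1 <;> push_cast <;> ring

theorem val_one_eq : (1 : ZMod r).val = 1 := ZMod.val_one r

theorem at'_one_zero : D.at' 1 0 = D.φ := by rw [at'_def, val_one_eq]; simp

theorem at'_zero_one : D.at' 0 1 = D.z := by rw [at'_def, val_one_eq]; simp

theorem at'_left (i : ZMod r) : D.at' i 0 = D.φ ^ i.val := by rw [at'_def]; simp

theorem at'_right (j : ZMod r) : D.at' 0 j = D.z ^ j.val := by rw [at'_def]; simp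

theorem pt_injective : Function.Injective D.pt := by
  rw [injective_iff_map_eq_one]
  intro v hv
  obtain ⟨⟨i, j⟩, rfl⟩ := Multiplicative.ofAdd.surjective v
  change D.φ ^ i.val * D.z ^ j.val = 1 at hv
  have hj : j = 0 := by
    by_contra hj
    apply D.notMem
    have h1 : D.z = (D.z ^ j.val) ^ (j⁻¹).val := by
      rw [← pow_mul]
      conv_lhs => rw [← pow_one D.z]
      refine pow_eq_of_cast D.ordz ?_
      simp [hj]
    rw [h1, eq_inv_of_mul_eq_one_right hv]
    exact pow_mem (inv_mem (pow_mem (mem_zpowers D.φ) _)) _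
  subst hj
  have hi : i = 0 := by
    have h : D.φ ^ i.val = D.φ ^ 0 := by simpa using hv
    simpa using cast_eq_of_pow D.ordφ h
  subst hi
  rfl

theorem at'_inj {i j k m : ZMod r} (h : D.at' i j = D.at' k m) : i = k ∧ j = m := by
  simpa using congrArg Multiplicative.toAdd (D.pt_injective h)

/-- The plane. -/
def A : Subgroup G := D.pt.range

theorem at'_mem (i j : ZMod r) : D.at' i j ∈ D.A := ⟨_, rfl⟩

theorem φ_mem : D.φ ∈ D.A := D.at'_one_zero ▸ D.at'_mem 1 0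

theorem z_mem : D.z ∈ D.A := D.at'_zero_one ▸ D.at'_mem 0 1

theorem exists_at' {a : G} (ha : a ∈ D.A) : ∃ i j, D.at' i j = a := by
  obtain ⟨v, rfl⟩ := ha
  exact ⟨v.toAdd.1, v.toAdd.2, rfl⟩

theorem A_le_cent : D.A ≤ centralizer ({D.φ} : Set G) := fun a ha => by
  obtain ⟨i, j, rfl⟩ := D.exists_at' ha
  rw [mem_centralizer_singleton_iff, ← D.at'_one_zero, at'_mul, at'_mul, add_comm i, add_comm j]

theorem card_A : Nat.card ↥D.A = r ^ 2 := by
  rw [A, ← Nat.card_congr (MonoidHom.ofInjective D.pt_injective).toEquiv,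
    Nat.card_congr Multiplicative.toAdd, Nat.card_prod, Nat.card_zmod, pow_two]

theorem isPGroup_A : IsPGroup r ↥D.A := IsPGroup.of_card D.card_A

/-- An `r`-subgroup over `A` meets `C(φ)` in `A`. -/
theorem inf_cent {Q : Subgroup G} (hQ : IsPGroup r ↥Q) (hAQ : D.A ≤ Q) :
    Q ⊓ centralizer ({D.φ} : Set G) = D.A := by
  refine ((le_inf hAQ D.A_le_cent).eq_or_lt.resolve_right fun hlt => ?_).symm
  obtain ⟨k, hk⟩ := IsPGroup.iff_card.1 (hQ.to_le (inf_le_left : Q ⊓ centralizer ({D.φ} : Set G) ≤ Q))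
  have hd : Nat.card ↥(Q ⊓ centralizer ({D.φ} : Set G)) ∣ Nat.card ↥(centralizer ({D.φ} : Set G)) :=
    card_dvd_of_le inf_le_right
  have hk3 : 3 ≤ k := by
    by_contra hk3
    refine hlt.not_ge (le_of_eq (eq_of_le_of_card_ge hlt.le ?_).symm)
    rw [hk, D.card_A]
    exact Nat.pow_le_pow_right hr.out.pos (by omega)
  exact D.cent ((pow_dvd_pow r hk3).trans (hk ▸ hd))

theorem mem_A_of_commute {Q : Subgroup G} (hQ : IsPGroup r ↥Q) (hAQ : D.A ≤ Q) {g : G} (hg : g ∈ Q)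
    (hc : Commute g D.φ) : g ∈ D.A :=
  D.inf_cent hQ hAQ ▸ mem_inf.2 ⟨hg, mem_centralizer_singleton_iff.2 hc.eq⟩

/-- The normaliser of the plane. -/
def N : Subgroup G := normalizer (D.A : Set G)

theorem A_le_N : D.A ≤ D.N := le_normalizer

theorem mem_N_of_forall {n : G} (h : ∀ a ∈ D.A, n * a * n⁻¹ ∈ D.A) : n ∈ D.N := by
  have he : D.A.map (MulAut.conj n).toMonoidHom = D.A := by
    refine eq_of_le_of_card_ge ?_ ?_
    · rintro _ ⟨a, ha, rfl⟩
      exact h a ha
    · rw [card_map_of_injective (MulEquiv.injective _)]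
  rw [N, mem_normalizer_iff]
  refine fun a => ⟨h a, fun ha => ?_⟩
  rw [← he] at ha
  obtain ⟨b, hb, hbe⟩ := ha
  have : b = a := MulEquiv.injective (MulAut.conj n) hbe
  exact this ▸ hb

theorem mem_N_of_gens {n : G} (h1 : n * D.φ * n⁻¹ ∈ D.A) (h2 : n * D.z * n⁻¹ ∈ D.A) : n ∈ D.N := by
  refine D.mem_N_of_forall fun a ha => ?_
  obtain ⟨i, j, rfl⟩ := D.exists_at' ha
  rw [at'_def, show n * (D.φ ^ i.val * D.z ^ j.val) * n⁻¹ =
      (n * D.φ * n⁻¹) ^ i.val * (n * D.z * n⁻¹) ^ j.val by rw [conj_pow, conj_pow]; group]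
  exact mul_mem (pow_mem h1 _) (pow_mem h2 _)

theorem conj_mem {n : G} (hn : n ∈ D.N) {a : G} (ha : a ∈ D.A) : n * a * n⁻¹ ∈ D.A :=
  (mem_normalizer_iff.1 hn a).1 ha

/-- The entries of the action of `n` on the plane. -/
noncomputable def colφ (n : D.N) : ZMod r × ZMod r :=
  ((D.exists_at' (D.conj_mem n.2 D.φ_mem)).choose, (D.exists_at' (D.conj_mem n.2 D.φ_mem)).choose_spec.choose)

/-- The entries of the action of `n` on the plane. -/
noncomputable def colz (n : D.N) : ZMod r × ZMod r :=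
  ((D.exists_at' (D.conj_mem n.2 D.z_mem)).choose, (D.exists_at' (D.conj_mem n.2 D.z_mem)).choose_spec.choose)

theorem colφ_spec (n : D.N) : (n : G) * D.φ * (n : G)⁻¹ = D.at' (D.colφ n).1 (D.colφ n).2 :=
  (D.exists_at' (D.conj_mem n.2 D.φ_mem)).choose_spec.choose_spec.symm

theorem colz_spec (n : D.N) : (n : G) * D.z * (n : G)⁻¹ = D.at' (D.colz n).1 (D.colz n).2 :=
  (D.exists_at' (D.conj_mem n.2 D.z_mem)).choose_spec.choose_spec.symm

/-- The matrix of `n`. -/
noncomputable def mat (n : D.N) : Matrix (Fin 2) (Fin 2) (ZMod r) :=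
  !![(D.colφ n).1, (D.colz n).1; (D.colφ n).2, (D.colz n).2]

theorem mat_spec (n : D.N) (i j : ZMod r) :
    (n : G) * D.at' i j * (n : G)⁻¹ =
      D.at' (D.mat n 0 0 * i + D.mat n 0 1 * j) (D.mat n 1 0 * i + D.mat n 1 1 * j) := by
  conv_lhs => rw [at'_def]
  rw [show (n : G) * (D.φ ^ i.val * D.z ^ j.val) * (n : G)⁻¹ =
      ((n : G) * D.φ * (n : G)⁻¹) ^ i.val * ((n : G) * D.z * (n : G)⁻¹) ^ j.val by
        rw [conj_pow, conj_pow]; group, colφ_spec, colz_spec, at'_pow, at'_pow, at'_mul]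
  simp [mat, mul_comm]

theorem mat_eq {n : D.N} {a b c d : ZMod r} (h1 : (n : G) * D.φ * (n : G)⁻¹ = D.at' a c)
    (h2 : (n : G) * D.z * (n : G)⁻¹ = D.at' b d) : D.mat n = !![a, b; c, d] := by
  obtain ⟨e1, e2⟩ := D.at'_inj (h1.symm.trans (D.colφ_spec n))
  obtain ⟨e3, e4⟩ := D.at'_inj (h2.symm.trans (D.colz_spec n))
  rw [mat, e1, e2, e3, e4]

/-- The action on the plane. -/
noncomputable def act : D.N →* GL (Fin 2) (ZMod r) :=
  MonoidHom.toHomUnits
    { toFun := D.mat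
      map_one' := by
        rw [D.mat_eq (n := 1) (a := 1) (b := 0) (c := 0) (d := 1) (by simp [at'_one_zero]) (by simp [at'_zero_one])]
        apply ext_entries <;> simp
      map_mul' := fun m n => by
        have key : ∀ i j : ZMod r, ((m * n : D.N) : G) * D.at' i j * ((m * n : D.N) : G)⁻¹ =
            D.at' ((D.mat m * D.mat n) 0 0 * i + (D.mat m * D.mat n) 0 1 * j)
              ((D.mat m * D.mat n) 1 0 * i + (D.mat m * D.mat n) 1 1 * j) := fun i j => by
          rw [Subgroup.coe_mul, show (m : G) * n * D.at' i j * ((m : G) * n)⁻¹ =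
            (m : G) * ((n : G) * D.at' i j * (n : G)⁻¹) * (m : G)⁻¹ by group, mat_spec, mat_spec]
          congr 1 <;> simp only [mul_entry] <;> ring
        have k1 := key 1 0
        have k2 := key 0 1
        rw [at'_one_zero] at k1
        rw [at'_zero_one] at k2
        simp only [mul_one, mul_zero, add_zero] at k1
        simp only [mul_one, mul_zero, zero_add] at k2
        rw [D.mat_eq k1 k2]
        apply ext_entries <;> simp }

theorem act_val (n : D.N) : (D.act n).1 = D.mat n := rfl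

theorem act_spec (n : D.N) (i j : ZMod r) :
    (n : G) * D.at' i j * (n : G)⁻¹ =
      D.at' ((D.act n).1 0 0 * i + (D.act n).1 0 1 * j) ((D.act n).1 1 0 * i + (D.act n).1 1 1 * j) :=
  D.mat_spec n i j

theorem act_eq {n : D.N} {a b c d : ZMod r} (h1 : (n : G) * D.φ * (n : G)⁻¹ = D.at' a c)
    (h2 : (n : G) * D.z * (n : G)⁻¹ = D.at' b d) : (D.act n).1 = !![a, b; c, d] := D.mat_eq h1 h2

theorem conj_φ (n : D.N) : (n : G) * D.φ * (n : G)⁻¹ = D.at' ((D.act n).1 0 0) ((D.act n).1 1 0) := by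
  have h := D.act_spec n 1 0
  rw [at'_one_zero] at h
  simpa using h

theorem conj_z (n : D.N) : (n : G) * D.z * (n : G)⁻¹ = D.at' ((D.act n).1 0 1) ((D.act n).1 1 1) := by
  have h := D.act_spec n 0 1
  rw [at'_zero_one] at h
  simpa using h

theorem commute_of_act {n : D.N} (h0 : (D.act n).1 0 0 = 1) (h1 : (D.act n).1 1 0 = 0) :
    Commute (n : G) D.φ := by
  have h := D.conj_φ n
  rw [h0, h1, at'_one_zero] at h
  exact mul_inv_eq_iff_eq_mul.1 h

/-- The scalar of `l`. -/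
theorem exists_scalar : ∃ (L : D.N) (a : ZMod r), (L : G) = D.l ∧ a ≠ 0 ∧ a ^ 2 ≠ 1 ∧
    (D.act L).1 = !![1, 0; 0, a] := by
  have : NeZero r := ⟨hr.out.ne_zero⟩
  obtain ⟨k, hk⟩ := Subgroup.mem_zpowers_iff.1 D.lz
  set a : ZMod r := (k : ZMod r) with ha
  have hz : D.l * D.z * D.l⁻¹ = D.at' 0 a := by
    rw [at'_right, ← hk, ← zpow_natCast]
    refine (zpow_eq_zpow_iff_modEq.2 ?_)
    rw [D.ordz, ← ZMod.intCast_eq_intCast_iff]
    simp [ha]
  have hφ : D.l * D.φ * D.l⁻¹ = D.at' 1 0 := by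
    rw [at'_one_zero]
    exact mul_inv_eq_iff_eq_mul.2 D.lφ.eq
  refine ⟨⟨D.l, D.mem_N_of_gens (hφ ▸ D.at'_mem 1 0) (hz ▸ D.at'_mem 0 a)⟩, a, rfl, ?_, ?_, D.act_eq hφ hz⟩
  · intro h0
    rw [h0, at'_right, ZMod.val_zero, pow_zero, conj_eq_one_iff] at hz
    exact hr.out.ne_one (D.ordz ▸ by rw [hz, orderOf_one])
  · intro h2
    rcases sq_eq_one_iff.1 h2 with h | h
    · exact D.lne (by rw [hz, h, at'_zero_one])
    · refine D.linv ?_
      rw [hz, h, eq_inv_iff_mul_eq_one, ← D.at'_zero_one, at'_mul, neg_add_cancel, add_zero, at'_def]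
      simp

theorem act_hfix : ∀ w ∈ D.act.range, w.1 1 0 = 0 → w.1 0 0 = 1 := by
  rintro _ ⟨n, rfl⟩ h
  have hc := D.conj_φ n
  rw [h, at'_left] at hc
  have := D.norm n (hc ▸ pow_mem (mem_zpowers _) _)
  rw [hc, ← at'_left, ← D.at'_one_zero] at this
  exact (D.at'_inj this).1

theorem A_dvd_ker : r ^ 2 ∣ Nat.card ↥D.act.ker := by
  refine D.card_A ▸ ?_
  rw [← Nat.card_congr (Subgroup.subgroupOfEquivOfLe D.A_le_N).toEquiv]
  refine card_dvd_of_le fun n hn => MonoidHom.mem_ker.2 (Units.ext ?_)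
  obtain ⟨i, j, hij⟩ := D.exists_at' (mem_subgroupOf.1 hn)
  rw [D.act_eq (n := n) (a := 1) (b := 0) (c := 0) (d := 1), Units.val_one]
  · apply ext_entries <;> simp
  · rw [← hij, ← D.at'_one_zero, at'_mul, mul_inv_eq_iff_eq_mul, at'_mul, add_comm i, add_comm j]
  · rw [← hij, ← D.at'_zero_one, at'_mul, mul_inv_eq_iff_eq_mul, at'_mul, add_comm i, add_comm j]

theorem act_hu : ∀ w ∈ D.act.range, w.1 0 0 = 1 → w.1 1 0 = 0 → w ^ r = 1 → w = 1 := by
  rintro _ ⟨n, rfl⟩ h0 h1 hw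
  by_contra hne
  refine D.cent ?_
  set S : Subgroup D.N := (centralizer ({D.φ} : Set G)).subgroupOf D.N with hS
  have hnS : n ∈ S := mem_subgroupOf.2 (mem_centralizer_singleton_iff.2 (D.commute_of_act h0 h1).eq)
  have hkS : D.act.ker ≤ S := fun m hm => by
    refine mem_subgroupOf.2 (mem_centralizer_singleton_iff.2 (D.commute_of_act ?_ ?_).eq) <;>
      rw [MonoidHom.mem_ker.1 hm] <;> simp
  set f := D.act.comp S.subtype with hf
  have hr1 : r ∣ Nat.card ↥f.range :=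
    (orderOf_eq_prime hw hne).symm.dvd.trans (Subgroup.orderOf_dvd_natCard _ (MonoidHom.mem_range.2 ⟨⟨n, hnS⟩, rfl⟩))
  have hker : r ^ 2 ∣ Nat.card ↥f.ker := by
    refine D.A_dvd_ker.trans (dvd_of_eq (Nat.card_congr ?_))
    exact
      { toFun := fun m => ⟨⟨m.1, hkS m.2⟩, MonoidHom.mem_ker.1 m.2⟩
        invFun := fun m => ⟨m.1.1, MonoidHom.mem_ker.1 m.2⟩
        left_inv := fun _ => rfl
        right_inv := fun _ => rfl }
  have hcard : Nat.card ↥f.range * Nat.card ↥f.ker = Nat.card ↥S := by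
    rw [← Nat.card_congr (QuotientGroup.quotientKerEquivRange f).toEquiv]
    exact (card_eq_card_quotient_mul_card_subgroup f.ker).symm
  have hS' : Nat.card ↥S ∣ Nat.card ↥(centralizer ({D.φ} : Set G)) := by
    rw [← card_map_of_injective (K := S) D.N.subtype_injective]
    exact card_dvd_of_le (map_le_iff_le_comap.2 le_rfl)
  have := Nat.mul_dvd_mul hr1 hker
  rw [hcard, ← pow_succ'] at this
  exact this.trans hS'

theorem card_range_mul_ker : Nat.card ↥D.act.range * Nat.card ↥D.act.ker = Nat.card ↥D.N := by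
  rw [← Nat.card_congr (QuotientGroup.quotientKerEquivRange D.act).toEquiv]
  exact (card_eq_card_quotient_mul_card_subgroup D.act.ker).symm

/-- **`A` a Sylow subgroup.** -/
theorem exists_hom_small (hG : ¬ r ^ 3 ∣ Nat.card G) :
    ∃ τ : G →* Multiplicative (ZMod r), τ D.φ ≠ 1 := by
  classical
  have : NeZero r := ⟨hr.out.ne_zero⟩
  obtain ⟨L, a, -, ha, ha2, hL⟩ := D.exists_scalar
  have hW : ¬ r ∣ Nat.card ↥D.act.range := fun h => hG (by
    have := Nat.mul_dvd_mul h D.A_dvd_ker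
    rw [D.card_range_mul_ker, ← pow_succ'] at this
    exact this.trans (card_subgroup_dvd_card _))
  have hfixφ : ∀ n ∈ D.N, n * D.φ * n⁻¹ = D.φ := fun n hn => by
    obtain ⟨h0, h1⟩ := fix_of_coprime ha ha2 (L := D.act L) (MonoidHom.mem_range.2 ⟨L, rfl⟩) hL D.act_hfix hW (D.act ⟨n, hn⟩)
      (MonoidHom.mem_range.2 ⟨_, rfl⟩)
    exact mul_inv_eq_iff_eq_mul.2 (D.commute_of_act h0 h1).eq
  obtain ⟨P, hP⟩ := D.isPGroup_A.exists_le_sylow
  have hPA : (P : Subgroup G) = D.A := by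
    refine (eq_of_le_of_card_ge hP ?_).symm
    obtain ⟨k, hk⟩ := IsPGroup.iff_card.1 P.2
    rw [hk, D.card_A]
    refine Nat.pow_le_pow_right hr.out.pos (not_lt.1 fun hk2 => hG ?_)
    exact (pow_dvd_pow r hk2).trans (hk ▸ card_subgroup_dvd_card _)
  let e : ↥(P : Subgroup G) →* Multiplicative (ZMod r × ZMod r) :=
    ((MonoidHom.ofInjective D.pt_injective).symm.toMonoidHom).comp (Subgroup.inclusion (le_of_eq hPA))
  let ν : ↥(P : Subgroup G) →* Multiplicative (ZMod r) :=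
    (AddMonoidHom.toMultiplicative (AddMonoidHom.fst (ZMod r) (ZMod r))).comp e
  have hb : ν ⟨D.φ, hP D.φ_mem⟩ = Multiplicative.ofAdd (1 : ZMod r) := by
    have he : e ⟨D.φ, hP D.φ_mem⟩ = Multiplicative.ofAdd (1, 0) := by
      show (MonoidHom.ofInjective D.pt_injective).symm _ = _
      rw [MulEquiv.symm_apply_eq]
      exact Subtype.ext D.at'_one_zero.symm
    show (AddMonoidHom.toMultiplicative (AddMonoidHom.fst (ZMod r) (ZMod r))) (e _) = _
    rw [he]; rfl
  have hexp : ∀ b : Multiplicative (ZMod r), b ^ r = 1 := fun b => by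
    obtain ⟨c, rfl⟩ := Multiplicative.ofAdd.surjective b
    rw [← ofAdd_nsmul]; simp
  refine ⟨ν.transfer, ?_⟩
  rw [transfer_eq_pow_index hexp ν (orderOf_dvd_iff_pow_eq_one.1 D.ordφ.dvd) D.φ_mem D.isPGroup_A
    (fun a ha => mem_centralizer_singleton_iff.1 (D.A_le_cent ha)) (b := Multiplicative.ofAdd (1 : ZMod r))
    ?_]
  · rw [← ofAdd_nsmul, ne_eq, ofAdd_eq_one, nsmul_eq_mul, mul_one, ZMod.natCast_eq_zero_iff]
    exact P.not_dvd_index
  · intro g hg h
    have hgN : g⁻¹ ∈ D.N := D.mem_N_of_forall fun a ha => by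
      rw [inv_inv]
      exact hPA ▸ hg a ha
    have e1 : g⁻¹ * D.φ * g = D.φ := by simpa using hfixφ _ hgN
    rw [show (⟨_, h⟩ : ↥(P : Subgroup G)) = ⟨D.φ, hP D.φ_mem⟩ from Subtype.ext e1, hb]

theorem isPGroup_zpowers {g : G} {k : ℕ} (h : g ^ r ^ k = 1) : IsPGroup r ↥(zpowers g) := by
  rintro ⟨x, hx⟩
  obtain ⟨i, rfl⟩ := Subgroup.mem_zpowers_iff.1 hx
  refine ⟨k, Subtype.ext ?_⟩
  show (g ^ i) ^ (r ^ k) = 1
  rw [← zpow_natCast, ← zpow_mul, mul_comm, zpow_mul, zpow_natCast, h, one_zpow]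

/-- The entries of elements of `r`-power order in `N(A)`. -/
theorem act_pow_lower {n : D.N} {k : ℕ} (hk : n ^ r ^ k = 1) :
    (D.act n).1 0 1 = 0 ∧ (D.act n).1 0 0 = 1 ∧ (D.act n).1 1 1 = 1 := by
  obtain ⟨L, a, -, ha, ha2, hL⟩ := D.exists_scalar
  exact lower_of_pow ha ha2 (L := D.act L) (MonoidHom.mem_range.2 ⟨L, rfl⟩) hL D.act_hfix D.act_hu
    (MonoidHom.mem_range.2 ⟨n, rfl⟩) (k := k) (by rw [← map_pow, hk, map_one])

theorem exists_pow_eq_one {Q : Subgroup G} (hQ : IsPGroup r ↥Q) (n : D.N) (hn : (n : G) ∈ Q) :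
    ∃ k, n ^ r ^ k = 1 := by
  obtain ⟨k, hk⟩ := hQ ⟨n, hn⟩
  exact ⟨k, Subtype.ext (by simpa using congrArg Subtype.val hk)⟩

theorem commute_z {n : D.N} (h0 : (D.act n).1 0 1 = 0) (h1 : (D.act n).1 1 1 = 1) :
    Commute (n : G) D.z := by
  have h := D.conj_z n
  rw [h0, h1, at'_zero_one] at h
  exact mul_inv_eq_iff_eq_mul.1 h

/-- An element moving `φ` along `⟨z⟩`. -/
theorem act_ne {Q : Subgroup G} (hQ : IsPGroup r ↥Q) (hAQ : D.A ≤ Q) (n : D.N) (hn : (n : G) ∈ Q)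
    (hnA : (n : G) ∉ D.A) : (D.act n).1 1 0 ≠ 0 := fun h => by
  obtain ⟨k, hk⟩ := D.exists_pow_eq_one hQ n hn
  exact hnA (D.mem_A_of_commute hQ hAQ hn (D.commute_of_act (D.act_pow_lower hk).2.1 h))

theorem A_normal : (D.A.subgroupOf D.N).Normal := by
  refine ⟨fun a ha n => ?_⟩
  rw [mem_subgroupOf] at ha ⊢
  exact D.conj_mem n.2 ha

theorem exists_three_le (hG : r ^ 3 ∣ Nat.card G) : r ^ 3 ∣ Nat.card ↥D.N := by
  obtain ⟨P, hP⟩ := D.isPGroup_A.exists_le_sylow
  obtain ⟨k, hk⟩ := IsPGroup.iff_card.1 P.2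
  have hk3 : r ^ 3 ∣ Nat.card ↥(P : Subgroup G) := by
    have h := (P.card_eq_multiplicity ▸ hk)
    rw [P.card_eq_multiplicity]
    exact pow_dvd_pow r ((Nat.Prime.pow_dvd_iff_le_factorization hr.out Nat.card_pos.ne').1 hG)
  have hlt : D.A.subgroupOf (P : Subgroup G) < ⊤ := by
    refine lt_top_iff_ne_top.2 fun h => ?_
    have h' := subgroupOf_eq_top.1 h
    have := card_dvd_of_le h'
    rw [D.card_A] at this
    have := Nat.le_of_dvd (pow_pos hr.out.pos 2) (hk3.trans this)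
    exact absurd this (not_le.2 (Nat.pow_lt_pow_right hr.out.one_lt (by norm_num)))
  have : Group.IsNilpotent ↥(P : Subgroup G) := P.2.isNilpotent
  obtain ⟨y, hy, hyA⟩ := SetLike.exists_of_lt (Group.normalizerCondition_of_isNilpotent _ hlt)
  have hyN : (y : G) ∈ D.N := D.mem_N_of_forall fun a ha => by
    have := (mem_normalizer_iff.1 hy ⟨a, hP ha⟩).1 (mem_subgroupOf.2 ha)
    exact mem_subgroupOf.1 this
  set Q : Subgroup G := (P : Subgroup G) ⊓ D.N
  have hQ : IsPGroup r ↥Q := P.2.to_le inf_le_left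
  obtain ⟨m, hm⟩ := IsPGroup.iff_card.1 hQ
  have hAQ : D.A < Q := lt_of_le_of_ne (le_inf hP D.A_le_N) fun h =>
    hyA (mem_subgroupOf.2 (h ▸ mem_inf.2 ⟨y.2, hyN⟩))
  have hm3 : 3 ≤ m := by
    by_contra h3
    refine hAQ.ne (eq_of_le_of_card_ge hAQ.le ?_)
    rw [hm, D.card_A]
    exact Nat.pow_le_pow_right hr.out.pos (by omega)
  exact (pow_dvd_pow r hm3).trans (hm ▸ card_dvd_of_le (inf_le_right : Q ≤ D.N))

theorem exists_sylow_N : ∃ Q : Sylow r ↥D.N, D.A ≤ (Q : Subgroup D.N).map D.N.subtype := by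
  have := D.A_normal
  have hp : IsPGroup r ↥(D.A.subgroupOf D.N) :=
    D.isPGroup_A.of_equiv (Subgroup.subgroupOfEquivOfLe D.A_le_N).symm
  obtain ⟨Q, hQ⟩ := hp.exists_le_sylow
  exact ⟨Q, fun a ha => ⟨⟨a, D.A_le_N ha⟩, hQ (mem_subgroupOf.2 ha), rfl⟩⟩

/-- An element of the Sylow subgroup of `N(A)` outside `A`. -/
theorem exists_mover (hG : r ^ 3 ∣ Nat.card G) (Q : Sylow r ↥D.N)
    (hQ : D.A ≤ (Q : Subgroup D.N).map D.N.subtype) :
    ∃ x : D.N, x ∈ (Q : Subgroup D.N) ∧ (x : G) ∉ D.A ∧ (D.act x).1 1 0 ≠ 0 := by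
  set Q₀ := (Q : Subgroup D.N).map D.N.subtype with hQ₀
  have h3 : r ^ 3 ∣ Nat.card ↥Q₀ := by
    rw [hQ₀, card_map_of_injective D.N.subtype_injective, Q.card_eq_multiplicity]
    exact pow_dvd_pow r ((Nat.Prime.pow_dvd_iff_le_factorization hr.out Nat.card_pos.ne').1
      (D.exists_three_le hG))
  obtain ⟨w, hw, hwA⟩ : ∃ w ∈ Q₀, w ∉ D.A := by
    by_contra h
    push Not at h
    have := Nat.le_of_dvd Nat.card_pos (h3.trans (card_dvd_of_le (h : Q₀ ≤ D.A)))
    rw [D.card_A] at this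
    exact absurd this (not_le.2 (Nat.pow_lt_pow_right hr.out.one_lt (by norm_num)))
  have hw' := hw
  obtain ⟨x, hx, rfl⟩ := hw'
  exact ⟨x, hx, hwA, D.act_ne (Q.2.map D.N.subtype) hQ x hw hwA⟩

/-- **The structure of `N(A)` when `A` is not a Sylow subgroup.** -/
theorem act_triangular (hG : r ^ 3 ∣ Nat.card G) (n : D.N) :
    (D.act n).1 0 0 = 1 ∧ (D.act n).1 0 1 = 0 := by
  obtain ⟨Q, hQ⟩ := D.exists_sylow_N
  obtain ⟨x, hxQ, -, hc⟩ := D.exists_mover hG Q hQ
  obtain ⟨k, hk'⟩ := Q.2 ⟨x, hxQ⟩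
  have hk : x ^ r ^ k = 1 := by simpa using congrArg Subtype.val hk'
  obtain ⟨hx01, hx00, hx11⟩ := D.act_pow_lower hk
  have hk2 : (n * x * n⁻¹) ^ r ^ k = 1 := by rw [conj_pow, hk, mul_one, mul_inv_cancel]
  obtain ⟨hy01, hy00, hy11⟩ := D.act_pow_lower hk2
  have hmul : D.act (n * x * n⁻¹) * D.act n = D.act n * D.act x := by
    rw [← map_mul, ← map_mul, inv_mul_cancel_right]
  have h00 := congrArg (fun g : GL (Fin 2) (ZMod r) => g.1 0 0) hmul
  simp only [Units.val_mul, mul_entry, hx00, hy00, hy01] at h00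
  have hb : (D.act n).1 0 1 = 0 := by
    have : (D.act n).1 0 1 * (D.act x).1 1 0 = 0 := by linear_combination -h00
    exact (mul_eq_zero.1 this).resolve_right hc
  refine ⟨?_, hb⟩
  set a := (D.act n).1 0 0 with haDef
  set s : ZMod r := -(D.act n).1 1 0 / ((D.act x).1 1 0 * a) with hs
  have ha0 : a ≠ 0 := fun h0 => by
    have hdet : IsUnit ((D.act n).1.det) := (Matrix.isUnit_iff_isUnit_det _).1 (D.act n).isUnit
    rw [Matrix.det_fin_two, ← haDef, h0, hb, zero_mul, zero_mul, sub_zero] at hdet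
    exact not_isUnit_zero hdet
  have hsq : ((D.act x).1 0 0 - 1) * ((D.act x).1 0 0 - 1) + (D.act x).1 0 1 * (D.act x).1 1 0 = 0 := by
    rw [hx00, hx01]; ring
  have hw : (D.act (x ^ s.val * n)).1 = !![1, 0; s * (D.act x).1 1 0, 1] * (D.act n).1 := by
    rw [map_mul, map_pow, Units.val_mul, pow_entries (by rw [hx11, hx00]; ring) hsq, hx00, hx01,
      ZMod.natCast_zmod_val]
    simp
  have h10 : (D.act (x ^ s.val * n)).1 1 0 = 0 := by
    rw [hw, mul_entry]
    simp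
    rw [hs, ← haDef]
    field_simp
    ring
  have h := D.act_hfix _ (MonoidHom.mem_range.2 ⟨_, rfl⟩) h10
  rw [hw, mul_entry] at h
  simpa using h

/-- **`|N(A)|` is not divisible by `r⁴`.** -/
theorem four_not_dvd (hG : r ^ 3 ∣ Nat.card G) : ¬ r ^ 4 ∣ Nat.card ↥D.N := by
  intro h4
  have : NeZero r := ⟨hr.out.ne_zero⟩
  have hrange : Nat.card ↥D.act.range < r ^ 2 := by
    let f : ↥D.act.range → ZMod r × ZMod r := fun w => (w.1.1 1 0, w.1.1 1 1)
    have hf : Function.Injective f := by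
      rintro ⟨v, hv⟩ ⟨w, hw⟩ h
      obtain ⟨m, rfl⟩ := MonoidHom.mem_range.1 hv
      obtain ⟨n, rfl⟩ := MonoidHom.mem_range.1 hw
      obtain ⟨e1, e2⟩ := Prod.mk.inj h
      refine Subtype.ext (Units.ext ?_)
      obtain ⟨m0, m1⟩ := D.act_triangular hG m
      obtain ⟨n0, n1⟩ := D.act_triangular hG n
      exact ext_entries (m0.trans n0.symm) (m1.trans n1.symm) e1 e2
    have hns : ¬ Function.Surjective f := fun hs => by
      obtain ⟨⟨v, hv⟩, h⟩ := hs (0, 0)
      obtain ⟨m, rfl⟩ := MonoidHom.mem_range.1 hv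
      obtain ⟨e1, e2⟩ := Prod.mk.inj h
      have hdet : IsUnit ((D.act m).1.det) := (Matrix.isUnit_iff_isUnit_det _).1 (D.act m).isUnit
      change (D.act m).1 1 0 = 0 at e1
      change (D.act m).1 1 1 = 0 at e2
      rw [Matrix.det_fin_two, e1, e2, mul_zero, mul_zero, sub_zero] at hdet
      exact not_isUnit_zero hdet
    have := Nat.card_le_card_of_injective f hf
    rw [Nat.card_prod, Nat.card_zmod, ← pow_two] at this
    refine lt_of_le_of_ne this fun he => hns ?_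
    exact (Function.Injective.bijective_of_nat_card_le hf
      (by rw [Nat.card_prod, Nat.card_zmod, ← pow_two, he])).2
  have hker : ¬ r ^ 3 ∣ Nat.card ↥D.act.ker := fun h => D.cent (h.trans (by
    rw [← card_map_of_injective (K := D.act.ker) D.N.subtype_injective]
    refine card_dvd_of_le ?_
    rintro _ ⟨m, hm, rfl⟩
    refine mem_centralizer_singleton_iff.2 (D.commute_of_act ?_ ?_).eq <;>
      rw [MonoidHom.mem_ker.1 hm] <;> simp))
  obtain ⟨k, hk⟩ := D.A_dvd_ker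
  have hrk : ¬ r ∣ k := fun ⟨m, hm⟩ => hker ⟨m, by rw [hk, hm]; ring⟩
  rw [← D.card_range_mul_ker, hk, show r ^ 4 = r ^ 2 * r ^ 2 by ring,
    show Nat.card ↥D.act.range * (r ^ 2 * k) = r ^ 2 * (Nat.card ↥D.act.range * k) by ring] at h4
  have h5 := Nat.dvd_of_mul_dvd_mul_left (pow_pos hr.out.pos 2) h4
  have h6 : r ^ 2 ∣ Nat.card ↥D.act.range :=
    ((hr.out.coprime_iff_not_dvd.2 hrk).pow_left 2).dvd_of_dvd_mul_right h5
  exact absurd (Nat.le_of_dvd Nat.card_pos h6) (not_le.2 hrange)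

/-- **`z` is central in every Sylow subgroup over `A`, and the centre lies in `⟨z⟩`.** -/
theorem center_le (hG : r ^ 3 ∣ Nat.card G) (P : Sylow r G) (hP : D.A ≤ P) {w : G} (hw : w ∈ (P : Subgroup G))
    (hc : ∀ p ∈ (P : Subgroup G), p * w = w * p) : w ∈ zpowers D.z := by
  have hwA : w ∈ D.A := D.mem_A_of_commute P.2 hP hw (hc _ (hP D.φ_mem)).symm
  obtain ⟨k, hk⟩ := IsPGroup.iff_card.1 P.2
  have hk3 : r ^ 3 ∣ Nat.card ↥(P : Subgroup G) := by
    rw [P.card_eq_multiplicity]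
    exact pow_dvd_pow r ((Nat.Prime.pow_dvd_iff_le_factorization hr.out Nat.card_pos.ne').1 hG)
  have hlt : D.A.subgroupOf (P : Subgroup G) < ⊤ := by
    refine lt_top_iff_ne_top.2 fun h => ?_
    have := hk3.trans (card_dvd_of_le (subgroupOf_eq_top.1 h))
    rw [D.card_A] at this
    exact absurd (Nat.le_of_dvd (pow_pos hr.out.pos 2) this)
      (not_le.2 (Nat.pow_lt_pow_right hr.out.one_lt (by norm_num)))
  have : Group.IsNilpotent ↥(P : Subgroup G) := P.2.isNilpotent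
  obtain ⟨y, hy, hyA⟩ := SetLike.exists_of_lt (Group.normalizerCondition_of_isNilpotent _ hlt)
  have hyN : (y : G) ∈ D.N := D.mem_N_of_forall fun a ha => by
    have := (mem_normalizer_iff.1 hy ⟨a, hP ha⟩).1 (mem_subgroupOf.2 ha)
    exact mem_subgroupOf.1 this
  have hne := D.act_ne P.2 hP ⟨y, hyN⟩ y.2 (fun h => hyA (mem_subgroupOf.2 h))
  obtain ⟨m, hm⟩ := D.exists_pow_eq_one P.2 ⟨y, hyN⟩ y.2
  obtain ⟨h01, h00, h11⟩ := D.act_pow_lower hm
  obtain ⟨i, j, rfl⟩ := D.exists_at' hwA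
  have h := D.act_spec ⟨y, hyN⟩ i j
  rw [show ((⟨y, hyN⟩ : D.N) : G) * D.at' i j * ((⟨y, hyN⟩ : D.N) : G)⁻¹ = D.at' i j from
    mul_inv_eq_iff_eq_mul.2 (hc _ y.2), h00, h01, h11] at h
  have h2 := (D.at'_inj h).2
  have hi : i = 0 := by
    have : (D.act ⟨y, hyN⟩).1 1 0 * i = 0 := by linear_combination -h2
    exact (mul_eq_zero.1 this).resolve_left hne
  rw [hi, at'_right]
  exact pow_mem (mem_zpowers _) _

theorem eq_pow_of_mem {w : G} (hw : w ∈ zpowers D.z) (h1 : w ≠ 1) : D.z ∈ zpowers w := by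
  have h : zpowers w = zpowers D.z := by
    refine eq_of_le_of_card_ge (zpowers_le.2 hw) ?_
    rw [Nat.card_zpowers, Nat.card_zpowers, D.ordz]
    refine le_of_eq (((Nat.dvd_prime hr.out).1 ?_).resolve_left fun h => h1 (orderOf_eq_one_iff.1 h)).symm
    rw [← D.ordz]
    exact orderOf_dvd_of_mem_zpowers hw
  exact h ▸ mem_zpowers _

theorem z_central (hG : r ^ 3 ∣ Nat.card G) (P : Sylow r G) (hP : D.A ≤ P) {p : G}
    (hp : p ∈ (P : Subgroup G)) : p * D.z = D.z * p := by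
  have : Nontrivial ↥(P : Subgroup G) := ⟨⟨⟨D.φ, hP D.φ_mem⟩, 1, fun h => hr.out.ne_one (by
    rw [← D.ordφ, show D.φ = 1 from congrArg Subtype.val h, orderOf_one])⟩⟩
  have := P.2.center_nontrivial
  obtain ⟨⟨⟨w, hw⟩, hwc⟩, hne⟩ := exists_ne (1 : Subgroup.center ↥(P : Subgroup G))
  have hc : ∀ q ∈ (P : Subgroup G), q * w = w * q := fun q hq =>
    congrArg Subtype.val (Subgroup.mem_center_iff.1 hwc ⟨q, hq⟩)
  obtain ⟨k, hk⟩ := Subgroup.mem_zpowers_iff.1 (D.eq_pow_of_mem (D.center_le hG P hP hw hc)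
    fun h => hne (Subtype.ext (Subtype.ext h)))
  rw [← hk]
  exact (Commute.zpow_right (hc p hp) k).eq

theorem N_le_normalizer (hG : r ^ 3 ∣ Nat.card G) : D.N ≤ normalizer (zpowers D.z : Set G) := by
  intro n hn
  have key : ∀ m ∈ D.N, ∀ x ∈ zpowers D.z, m * x * m⁻¹ ∈ zpowers D.z := fun m hm x hx => by
    obtain ⟨k, rfl⟩ := Subgroup.mem_zpowers_iff.1 hx
    rw [← conj_zpow]
    refine zpow_mem ?_ k
    rw [show m = ((⟨m, hm⟩ : D.N) : G) from rfl, conj_z, (D.act_triangular hG _).2, at'_right]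
    exact pow_mem (mem_zpowers _) _
  refine mem_normalizer_iff.2 fun x => ⟨key n hn x, fun h => ?_⟩
  have := key n⁻¹ (inv_mem hn) _ h
  rwa [inv_inv, show n⁻¹ * (n * x * n⁻¹) * n = x by group] at this

/-- A conjugate of `A` inside a Sylow subgroup over `A` comes from `N⟨z⟩`. -/
theorem mem_normalizer_of_conj (hG : r ^ 3 ∣ Nat.card G) (P : Sylow r G) (hP : D.A ≤ P) {g : G}
    (hg : ∀ a ∈ D.A, g⁻¹ * a * g ∈ (P : Subgroup G)) : g ∈ normalizer (zpowers D.z : Set G) := by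
  have hmem : ∀ x, x ∈ ((g • P : Sylow r G) : Subgroup G) ↔ g⁻¹ * x * g ∈ (P : Subgroup G) := fun x => by
    rw [show ((g • P : Sylow r G) : Subgroup G) = MulAut.conj g • (P : Subgroup G) from rfl,
      Subgroup.mem_pointwise_smul_iff_inv_smul_mem, MulAut.smul_def, MulAut.conj_inv_apply]
  have hgA : D.A ≤ ((g • P : Sylow r G) : Subgroup G) := fun a ha => (hmem a).2 (hg a ha)
  set w := g * D.z * g⁻¹ with hw
  have hwP : w ∈ ((g • P : Sylow r G) : Subgroup G) := (hmem w).2 (by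
    rw [hw, show g⁻¹ * (g * D.z * g⁻¹) * g = D.z by group]
    exact hP D.z_mem)
  have hc : ∀ p ∈ ((g • P : Sylow r G) : Subgroup G), p * w = w * p := fun p hp => by
    have h := D.z_central hG P hP ((hmem p).1 hp)
    calc p * w = g * ((g⁻¹ * p * g) * D.z) * g⁻¹ := by rw [hw]; group
      _ = g * (D.z * (g⁻¹ * p * g)) * g⁻¹ := by rw [h]
      _ = w * p := by rw [hw]; group
  have hwz := D.center_le hG (g • P) hgA hwP hc
  have he : (zpowers D.z).map (MulAut.conj g).toMonoidHom = zpowers D.z := by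
    refine eq_of_le_of_card_ge ?_ ?_
    · rw [MonoidHom.map_zpowers]
      exact zpowers_le.2 hwz
    · rw [card_map_of_injective (MulEquiv.injective _)]
  refine mem_normalizer_iff.2 fun x => ⟨fun hx => he ▸ ⟨x, hx, rfl⟩, fun hx => ?_⟩
  rw [← he] at hx
  obtain ⟨y, hy, hye⟩ := hx
  exact (MulEquiv.injective (MulAut.conj g) hye) ▸ hy

/-- **The data of `N⟨z⟩/⟨z⟩`.** -/
theorem exists_step (hG : r ^ 3 ∣ Nat.card G) (H : Subgroup G) (hH : H = normalizer (zpowers D.z : Set G))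
    [((zpowers D.z).subgroupOf H).Normal] :
    ∃ D' : Data (↥H ⧸ (zpowers D.z).subgroupOf H) r, ∀ h : D.φ ∈ H,
      D'.φ = QuotientGroup.mk' ((zpowers D.z).subgroupOf H) ⟨D.φ, h⟩ := by
  classical
  have : NeZero r := ⟨hr.out.ne_zero⟩
  set π := QuotientGroup.mk' ((zpowers D.z).subgroupOf H) with hπ
  have hNH : D.N ≤ H := hH ▸ D.N_le_normalizer hG
  have hφH : D.φ ∈ H := hNH (D.A_le_N D.φ_mem)
  have hker : ∀ (g h : G) (hg : g ∈ H) (hh : h ∈ H),
      π ⟨g, hg⟩ = π ⟨h, hh⟩ ↔ g⁻¹ * h ∈ zpowers D.z := fun g h hg hh => by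
    rw [hπ, QuotientGroup.mk'_apply, QuotientGroup.mk'_apply, QuotientGroup.eq, mem_subgroupOf]
    rfl
  obtain ⟨Q, hQ⟩ := D.exists_sylow_N
  obtain ⟨x, hxQ, hxA, hxc⟩ := D.exists_mover hG Q hQ
  -- Frattini: an element of `N(A) ∩ N(Q)` with the action of `l` on `z`
  set K : Subgroup D.N := (centralizer ({D.z} : Set G)).subgroupOf D.N with hK
  have hKn : K.Normal := ⟨fun k hk n => by
    rw [hK, mem_subgroupOf, mem_centralizer_singleton_iff] at hk ⊢
    obtain ⟨i, hi⟩ := Subgroup.mem_zpowers_iff.1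
      ((mem_normalizer_iff.1 (D.N_le_normalizer hG (inv_mem n.2)) D.z).1 (mem_zpowers D.z))
    have hki : (k : G) * ((n : G)⁻¹ * D.z * (n : G)) = ((n : G)⁻¹ * D.z * (n : G)) * k := by
      rw [show (n : G)⁻¹ * D.z * (n : G) = D.z ^ i by rw [hi, inv_inv]]
      exact (Commute.zpow_right hk i).eq
    show (n : G) * k * (n : G)⁻¹ * D.z = D.z * ((n : G) * k * (n : G)⁻¹)
    calc (n : G) * k * (n : G)⁻¹ * D.z = (n : G) * (k * ((n : G)⁻¹ * D.z * n)) * (n : G)⁻¹ := by group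
      _ = (n : G) * (((n : G)⁻¹ * D.z * n) * k) * (n : G)⁻¹ := by rw [hki]
      _ = _ := by group⟩
  have hlower : ∀ q : D.N, q ∈ (Q : Subgroup D.N) →
      (D.act q).1 0 1 = 0 ∧ (D.act q).1 0 0 = 1 ∧ (D.act q).1 1 1 = 1 := fun q hq => by
    obtain ⟨k, hk⟩ := Q.2 ⟨q, hq⟩
    exact D.act_pow_lower (k := k) (by simpa using congrArg Subtype.val hk)
  have hQK : (Q : Subgroup D.N) ≤ K := fun q hq =>
    mem_subgroupOf.2 (mem_centralizer_singleton_iff.2 (D.commute_z (hlower q hq).1 (hlower q hq).2.2).eq)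
  obtain ⟨L, a, -, ha, ha2, hL⟩ := D.exists_scalar
  have hmemsup : L ∈ normalizer (Q : Set D.N) ⊔ K := by
    rw [Sylow.normalizer_sup_eq_top' Q hQK]; trivial
  obtain ⟨m, hm, k, hk, hmk⟩ := Subgroup.mem_sup_of_normal_right.1 hmemsup
  have hk01 : (D.act k).1 0 1 = 0 ∧ (D.act k).1 1 1 = 1 := by
    have h := D.conj_z k
    rw [mul_inv_eq_iff_eq_mul.2 (mem_centralizer_singleton_iff.1 (mem_subgroupOf.1 hk))] at h
    conv_lhs at h => rw [← D.at'_zero_one]
    exact ⟨(D.at'_inj h).1.symm, (D.at'_inj h).2.symm⟩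
  obtain ⟨hm00, hm01⟩ := D.act_triangular hG m
  have hm11 : (D.act m).1 1 1 = a := by
    have h := congrArg (fun g : GL (Fin 2) (ZMod r) => g.1 1 1) (congrArg D.act hmk)
    simp only [map_mul, Units.val_mul, mul_entry, hk01.1, hk01.2, hL] at h
    simpa using h
  -- the conjugate of `x`
  set y := m * x * m⁻¹ with hy
  have hyQ : y ∈ (Q : Subgroup D.N) := (mem_normalizer_iff.1 hm x).1 hxQ
  obtain ⟨hx01, hx00, hx11⟩ := hlower x hxQ
  obtain ⟨hy01, hy00, hy11⟩ := hlower y hyQ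
  have hyc : (D.act y).1 1 0 = a * (D.act x).1 1 0 := by
    have h := congrArg (fun g : GL (Fin 2) (ZMod r) => g.1 1 0)
      (show D.act y * D.act m = D.act m * D.act x by rw [← map_mul, ← map_mul, hy, inv_mul_cancel_right])
    simp only [Units.val_mul, mul_entry, hm00, hy11, hx00, hm11] at h
    linear_combination h
  set e : D.N := (x ^ a.val)⁻¹ * y with he
  have heQ : e ∈ (Q : Subgroup D.N) := mul_mem (inv_mem (pow_mem hxQ _)) hyQ
  have hQ0p : IsPGroup r ↥((Q : Subgroup D.N).map D.N.subtype) := Q.2.map D.N.subtype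
  have hec : (D.act e).1 1 0 = 0 := by
    have h := congrArg (fun g : GL (Fin 2) (ZMod r) => g.1 1 0)
      (show D.act (x ^ a.val) * D.act e = D.act y by rw [← map_mul, he, mul_inv_cancel_left])
    have hxp := pow_entries (g := D.act x) (by rw [hx11, hx00]; ring) (by rw [hx00, hx01]; ring) a.val
    simp only [map_pow, Units.val_mul, mul_entry, hxp, ZMod.natCast_zmod_val, hyc, (hlower e heQ).2.1,
      hx00] at h
    simp at h
    linear_combination h
  have heA : (e : G) ∈ D.A :=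
    D.mem_A_of_commute hQ0p hQ ⟨e, heQ, rfl⟩ (D.commute_of_act (hlower e heQ).2.1 hec)
  obtain ⟨ek, em, hekm⟩ := D.exists_at' heA
  have hxr : (x : G) ^ r ∈ D.A := by
    refine D.mem_A_of_commute hQ0p hQ ⟨x ^ r, pow_mem hxQ r, rfl⟩
      (D.commute_of_act (n := x ^ r) ?_ ?_) <;>
    · rw [map_pow, pow_entries (g := D.act x) (by rw [hx11, hx00]; ring) (by rw [hx00, hx01]; ring) r, hx00]
      simp
  obtain ⟨ri, rm, hrim⟩ := D.exists_at' hxr
  -- in the quotient
  set xb := π ⟨x, hNH x.2⟩ with hxb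
  set φb := π ⟨D.φ, hφH⟩ with hφb
  set mb := π ⟨m, hNH m.2⟩ with hmb
  have hpt : ∀ i j (h : D.at' i j ∈ H), π ⟨D.at' i j, h⟩ = φb ^ i.val := fun i j h => by
    rw [hφb, ← map_pow]
    refine (hker _ (D.φ ^ i.val) h (pow_mem hφH _)).2 ?_
    rw [at'_def, mul_inv_rev, mul_assoc, inv_mul_cancel, mul_one]
    exact inv_mem (pow_mem (mem_zpowers _) _)
  have hone : ∀ g (hg : g ∈ H), π ⟨g, hg⟩ = 1 → g ∈ zpowers D.z := fun g hg h => by
    rw [hπ, QuotientGroup.mk'_apply, QuotientGroup.eq_one_iff, mem_subgroupOf] at h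
    exact h
  have hordφ : orderOf φb = r := by
    refine orderOf_eq_prime ?_ fun h => ?_
    · rw [hφb, ← map_pow, show (⟨D.φ, hφH⟩ : H) ^ r = 1 from
        Subtype.ext (orderOf_dvd_iff_pow_eq_one.1 D.ordφ.dvd), map_one]
    · obtain ⟨i, hi⟩ := Subgroup.mem_zpowers_iff.1 (hone _ hφH h)
      refine D.notMem ?_
      have : D.z ∈ zpowers D.φ := D.eq_pow_of_mem ⟨i, hi⟩ fun h1 => hr.out.ne_one (by
        rw [← D.ordφ, h1, orderOf_one])
      exact this
  have hcommb : Commute xb φb := by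
    have h1 : π ⟨(x : G) * D.φ * (x : G)⁻¹, mul_mem (mul_mem (hNH x.2) hφH) (inv_mem (hNH x.2))⟩ = φb := by
      refine (hker _ _ _ hφH).2 ?_
      have e0 : (x : G) * D.φ * (x : G)⁻¹ = D.φ * D.z ^ ((D.act x).1 1 0).val := by
        rw [D.conj_φ x, hx00, at'_def, val_one_eq, pow_one]
      rw [e0, mul_inv_rev, mul_assoc, inv_mul_cancel, mul_one]
      exact inv_mem (pow_mem (mem_zpowers _) _)
    have e1 : xb * φb * xb⁻¹ = φb := by
      rw [hxb, hφb, ← map_inv, ← map_mul, ← map_mul]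
      exact h1
    exact mul_inv_eq_iff_eq_mul.1 e1
  have hordpow : ∀ {g : ↥H ⧸ (zpowers D.z).subgroupOf H}, orderOf g = r → ∀ i j : ZMod r,
      g ^ i.val * g ^ j.val = g ^ (i + j).val := fun {g} hg i j => by
    rw [← pow_add]
    exact pow_eq_of_cast hg (by simp)
  -- `m` fixes `φb` and maps `xb` to `xb ^ a` times a power of `φb`
  have hmφ : mb * φb * mb⁻¹ = φb := by
    have h1 : π ⟨(m : G) * D.φ * (m : G)⁻¹, mul_mem (mul_mem (hNH m.2) hφH) (inv_mem (hNH m.2))⟩ =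
        φb ^ (1 : ZMod r).val := by
      have h0 : (m : G) * D.φ * (m : G)⁻¹ = D.at' 1 ((D.act m).1 1 0) := by rw [D.conj_φ m, hm00]
      rw [← hpt 1 ((D.act m).1 1 0) (hNH (D.A_le_N (D.at'_mem _ _)))]
      exact congrArg π (Subtype.ext h0)
    rw [val_one_eq, pow_one] at h1
    rw [hmb, hφb, ← map_inv, ← map_mul, ← map_mul]
    exact h1
  have hmx : mb * xb * mb⁻¹ = xb ^ a.val * φb ^ ek.val := by
    have h1 : π ⟨(e : G), hNH e.2⟩ = φb ^ ek.val := by
      rw [← hpt ek em (hNH (D.A_le_N (D.at'_mem _ _)))]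
      exact congrArg π (Subtype.ext hekm.symm)
    rw [← h1, hmb, hxb, ← map_inv, ← map_mul, ← map_mul, ← map_pow, ← map_mul]
    refine congrArg π (Subtype.ext ?_)
    show (m : G) * x * (m : G)⁻¹ = (x : G) ^ a.val * e
    rw [he, hy]
    simp
  have hxbr : xb ^ r = φb ^ ri.val := by
    rw [← hpt ri rm (hNH (D.A_le_N (D.at'_mem _ _))), hxb, ← map_pow]
    exact congrArg π (Subtype.ext hrim.symm)
  have hφr : φb ^ r = 1 := orderOf_dvd_iff_pow_eq_one.1 hordφ.dvd
  have hconj : ∀ (g : ↥H ⧸ (zpowers D.z).subgroupOf H) (n : ℕ),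
      mb * g ^ n * mb⁻¹ = (mb * g * mb⁻¹) ^ n := fun g n => conj_pow.symm
  have hri : ri = 0 := by
    have h := hconj xb r
    rw [hxbr, hconj φb, hmφ, hmx, (hcommb.pow_pow _ _).mul_pow, ← pow_mul xb, mul_comm a.val r, pow_mul,
      hxbr, ← pow_mul φb, ← pow_mul φb, mul_comm ek.val r, pow_mul φb r, hφr, one_pow, mul_one] at h
    have h' := cast_eq_of_pow hordφ h
    push_cast at h'
    rw [ZMod.natCast_zmod_val, ZMod.natCast_zmod_val] at h'
    have : ri * (a - 1) = 0 := by linear_combination -h'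
    exact (mul_eq_zero.1 this).resolve_right (fun h => ha2 (by rw [sub_eq_zero.1 h, one_pow]))
  rw [hri, ZMod.val_zero, pow_zero] at hxbr
  have ha1 : a - 1 ≠ 0 := fun h => ha2 (by rw [sub_eq_zero.1 h, one_pow])
  set e' : ZMod r := ek / (a - 1) with he'
  set zb := xb * φb ^ e'.val with hzb
  have hznot : zb ∉ zpowers φb := fun h => by
    have h1 : xb ∈ zpowers φb := by
      have h2 := mul_mem h (inv_mem (pow_mem (mem_zpowers φb) e'.val))
      rwa [hzb, mul_inv_cancel_right] at h2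
    obtain ⟨i, hi⟩ := Subgroup.mem_zpowers_iff.1 h1
    rw [hxb, hφb, ← map_zpow] at hi
    have h3 := (hker _ _ (zpow_mem hφH i) (hNH x.2)).1 hi
    refine hxA ?_
    have h4 : (x : G) = D.φ ^ i * ((D.φ ^ i)⁻¹ * x) := by group
    rw [h4]
    exact mul_mem (zpow_mem D.φ_mem i) ((zpowers_le.2 D.z_mem) h3)
  have hzr : zb ^ r = 1 := by
    rw [hzb, (hcommb.pow_right _).mul_pow, hxbr, one_mul, ← pow_mul, mul_comm, pow_mul, hφr, one_pow]
  have hordz : orderOf zb = r := orderOf_eq_prime hzr fun h => hznot (h ▸ one_mem _)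
  have hmz : mb * zb * mb⁻¹ = zb ^ a.val := by
    have h1 : mb * zb * mb⁻¹ = (mb * xb * mb⁻¹) * (mb * φb ^ e'.val * mb⁻¹) := by
      rw [hzb]; group
    rw [h1, hmx, hconj, hmφ, mul_assoc, hordpow hordφ, hzb, (hcommb.pow_right _).mul_pow]
    congr 1
    rw [← pow_mul]
    refine pow_eq_of_cast hordφ ?_
    push_cast
    rw [ZMod.natCast_zmod_val, ZMod.natCast_zmod_val, ZMod.natCast_zmod_val, he']
    field_simp
    ring
  have hzkey : ∀ g : ↥H ⧸ (zpowers D.z).subgroupOf H, ∀ gH : G, ∀ hg : gH ∈ H, π ⟨gH, hg⟩ = g →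
      ∀ i : ℕ, g * φb * g⁻¹ = φb ^ i → gH ∈ D.N := by
    rintro g gH hg rfl i hi
    rw [hφb, ← map_inv, ← map_mul, ← map_mul, ← map_pow] at hi
    have h2 := (hker _ _ (mul_mem (mul_mem hg hφH) (inv_mem hg)) (pow_mem hφH i)).1 hi
    refine D.mem_N_of_gens ?_ ?_
    · have h3 : gH * D.φ * gH⁻¹ = D.φ ^ i * ((gH * D.φ * gH⁻¹)⁻¹ * D.φ ^ i)⁻¹ := by group
      rw [h3]
      exact mul_mem (pow_mem D.φ_mem i) (inv_mem ((zpowers_le.2 D.z_mem) h2))
    · refine (zpowers_le.2 D.z_mem) ?_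
      exact (mem_normalizer_iff.1 (hH ▸ hg) D.z).1 (mem_zpowers _)
  have hfixN : ∀ (n : G) (hn : n ∈ D.N), π ⟨n, hNH hn⟩ * φb * (π ⟨n, hNH hn⟩)⁻¹ = φb := fun n hn => by
    have h0 : n * D.φ * n⁻¹ = D.at' 1 ((D.act ⟨n, hn⟩).1 1 0) := by
      have h := D.conj_φ ⟨n, hn⟩
      rwa [(D.act_triangular hG _).1] at h
    rw [hφb, ← map_inv, ← map_mul, ← map_mul]
    refine Eq.trans (congrArg π (Subtype.ext (h0.trans rfl) :
      _ = (⟨D.at' 1 ((D.act ⟨n, hn⟩).1 1 0), hNH (D.A_le_N (D.at'_mem _ _))⟩ : H))) ?_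
    rw [hpt, val_one_eq, pow_one, hφb]
  refine ⟨
    { φ := φb
      z := zb
      l := mb
      ordφ := hordφ
      ordz := hordz
      comm := by
        rw [hzb]
        exact (hcommb.symm).mul_right ((Commute.refl φb).pow_right _)
      notMem := hznot
      cent := fun h => D.four_not_dvd hG ?_
      norm := ?_
      lφ := mul_inv_eq_iff_eq_mul.1 hmφ
      lz := hmz ▸ pow_mem (mem_zpowers _) _
      lne := fun h => ?_
      linv := fun h => ?_ }, fun _ => rfl⟩
  · set C := (centralizer ({φb} : Set (↥H ⧸ (zpowers D.z).subgroupOf H))).comap π with hC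
    have hk : π.ker ≤ C := fun g hg => by
      rw [hC, mem_comap, MonoidHom.mem_ker.1 hg]; exact one_mem _
    have hcardC : Nat.card ↥C = Nat.card ↥(centralizer ({φb} : Set (↥H ⧸ (zpowers D.z).subgroupOf H))) * r := by
      have h1 := card_eq_card_quotient_mul_card_subgroup (π.ker.subgroupOf C)
      rw [Nat.card_congr (subgroupOfEquivOfLe hk).toEquiv, ← index_eq_card] at h1
      rw [h1]
      congr 1
      · have h2 : (π.ker.subgroupOf C).index = π.ker.relIndex C := rfl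
        rw [h2, ← MonoidHom.comap_bot, hC, relIndex_comap, map_comap_eq_self_of_surjective
          (QuotientGroup.mk'_surjective _), relIndex_bot_left]
      · rw [hπ, QuotientGroup.ker_mk', Nat.card_congr (subgroupOfEquivOfLe
          (hH ▸ le_normalizer : zpowers D.z ≤ H)).toEquiv, Nat.card_zpowers, D.ordz]
    have hCN : C.map H.subtype ≤ D.N := by
      rintro _ ⟨⟨g, hg⟩, hgC, rfl⟩
      refine hzkey _ g hg rfl 1 ?_
      rw [pow_one]
      exact mul_inv_eq_iff_eq_mul.2 (mem_centralizer_singleton_iff.1 (mem_comap.1 hgC))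
    have h2 := card_dvd_of_le hCN
    rw [card_map_of_injective H.subtype_injective, hcardC] at h2
    exact (pow_succ r 3 ▸ Nat.mul_dvd_mul h dvd_rfl).trans h2
  · intro g hg
    obtain ⟨⟨gH, hgH⟩, rfl⟩ := QuotientGroup.mk'_surjective _ g
    obtain ⟨i, hi⟩ := (IsOfFinOrder.mem_zpowers_iff_mem_range_orderOf (isOfFinOrder_of_finite φb)).1 hg |>
      Finset.mem_image.1
    exact hfixN gH (hzkey _ gH hgH rfl i hi.2.symm)
  · rw [hmz] at h
    have h1 : zb ^ a.val = zb ^ 1 := by rw [h, pow_one]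
    have h2 := cast_eq_of_pow hordz h1
    rw [ZMod.natCast_zmod_val, Nat.cast_one] at h2
    exact ha2 (by rw [h2, one_pow])
  · rw [hmz] at h
    have h1 : zb ^ (a.val + 1) = zb ^ 0 := by rw [pow_succ, h, inv_mul_cancel, pow_zero]
    have h2 := cast_eq_of_pow hordz h1
    push_cast at h2
    rw [ZMod.natCast_zmod_val] at h2
    exact ha2 (by rw [eq_neg_of_add_eq_zero_left h2]; ring)

end Data

/-- **The rank one lemma.** -/
theorem Data.exists_hom {r : ℕ} [hr : Fact r.Prime] :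
    ∀ {G : Type u} [Group G] [Finite G] (D : Data G r), ∃ τ : G →* Multiplicative (ZMod r), τ D.φ ≠ 1 := by
  suffices h : ∀ (n : ℕ) (G : Type u) [Group G] [Finite G] (D : Data G r), Nat.card G ≤ n →
      ∃ τ : G →* Multiplicative (ZMod r), τ D.φ ≠ 1 by
    intro G _ _ D
    exact h _ G D le_rfl
  intro n
  induction n with
  | zero =>
    intro G _ _ D hn
    exact absurd hn (not_le.2 Nat.card_pos)
  | succ n ih =>
    intro G _ _ D hn
    by_cases hG : r ^ 3 ∣ Nat.card G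
    swap
    · exact D.exists_hom_small hG
    set H : Subgroup G := normalizer (zpowers D.z : Set G) with hH
    have hZH : zpowers D.z ≤ H := le_normalizer
    have hZn : ((zpowers D.z).subgroupOf H).Normal := normal_subgroupOf_iff_le_normalizer hZH |>.2 le_rfl
    obtain ⟨D', hD'⟩ := D.exists_step hG H hH
    have hφH : D.φ ∈ H := D.N_le_normalizer hG (D.A_le_N D.φ_mem)
    have hlt : Nat.card (↥H ⧸ (zpowers D.z).subgroupOf H) ≤ n := by
      have h1 := card_eq_card_quotient_mul_card_subgroup ((zpowers D.z).subgroupOf H)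
      rw [Nat.card_congr (subgroupOfEquivOfLe hZH).toEquiv, Nat.card_zpowers, D.ordz] at h1
      have h2 : Nat.card ↥H ≤ Nat.card G := Nat.le_of_dvd Nat.card_pos (card_subgroup_dvd_card H)
      have h3 := hr.out.two_le
      have h4 : 0 < Nat.card (↥H ⧸ (zpowers D.z).subgroupOf H) := Nat.card_pos
      nlinarith
    obtain ⟨τ, hτ⟩ := ih _ D' hlt
    set π := QuotientGroup.mk' ((zpowers D.z).subgroupOf H)
    obtain ⟨P, hP⟩ := D.isPGroup_A.exists_le_sylow
    have hPH : (P : Subgroup G) ≤ H := fun p hp => mem_normalizer_iff.2 fun x => by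
      have hz := D.z_central hG P hP hp
      constructor
      · intro hx
        obtain ⟨k, rfl⟩ := Subgroup.mem_zpowers_iff.1 hx
        rw [mul_inv_eq_iff_eq_mul.2 ((show Commute p D.z from hz).zpow_right k).eq]
        exact zpow_mem (mem_zpowers _) k
      · intro hx
        obtain ⟨k, hk⟩ := Subgroup.mem_zpowers_iff.1 hx
        have e : x = D.z ^ k := by
          have := ((show Commute p D.z from hz).zpow_right k).eq
          rw [show x = p⁻¹ * (p * x * p⁻¹) * p by group, ← hk, mul_assoc, ← this, inv_mul_cancel_left]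
        rw [e]
        exact zpow_mem (mem_zpowers _) k
    let f : ↥H →* Multiplicative (ZMod r) := τ.comp π
    let ν : ↥(P : Subgroup G) →* Multiplicative (ZMod r) := f.comp (Subgroup.inclusion hPH)
    have hb : f ⟨D.φ, hφH⟩ ≠ 1 := by
      show τ (π ⟨D.φ, hφH⟩) ≠ 1
      rw [← hD' hφH]
      exact hτ
    have hexp : ∀ b : Multiplicative (ZMod r), b ^ r = 1 := fun b => by
      obtain ⟨c, rfl⟩ := Multiplicative.ofAdd.surjective b
      rw [← ofAdd_nsmul]; simp
    refine ⟨ν.transfer, ?_⟩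
    rw [transfer_eq_pow_index hexp ν (orderOf_dvd_iff_pow_eq_one.1 D.ordφ.dvd) D.φ_mem D.isPGroup_A
      (fun a ha => mem_centralizer_singleton_iff.1 (D.A_le_cent ha)) (b := f ⟨D.φ, hφH⟩) ?_]
    · intro h
      refine P.not_dvd_index ?_
      exact (orderOf_eq_prime (hexp _) hb).symm.dvd.trans (orderOf_dvd_of_pow_eq_one h)
    · intro g hg h
      have hgH : g ∈ H := D.mem_normalizer_of_conj hG P hP hg
      show f ⟨g⁻¹ * D.φ * g, hPH h⟩ = _
      rw [show (⟨g⁻¹ * D.φ * g, hPH h⟩ : H) = ⟨g, hgH⟩⁻¹ * ⟨D.φ, hφH⟩ * ⟨g, hgH⟩ from rfl, map_mul, map_mul,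
        map_inv, inv_mul_cancel_comm]

/-- **No simple group carries rank one data.** -/
theorem false_of_rank_one {G : Type u} [Group G] [Finite G] [IsSimpleGroup G] (hnc : ¬ IsMulCommutative G)
    {r : ℕ} [hr : Fact r.Prime] {φ z l : G} (ordφ : orderOf φ = r) (ordz : orderOf z = r)
    (comm : Commute φ z) (notMem : z ∉ zpowers φ)
    (cent : ¬ r ^ 3 ∣ Nat.card ↥(centralizer ({φ} : Set G)))
    (norm : ∀ g : G, g * φ * g⁻¹ ∈ zpowers φ → g * φ * g⁻¹ = φ)
    (lφ : Commute l φ) (lz : l * z * l⁻¹ ∈ zpowers z) (lne : l * z * l⁻¹ ≠ z) (linv : l * z * l⁻¹ ≠ z⁻¹) :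
    False := by
  obtain ⟨τ, hτ⟩ := Data.exists_hom (⟨φ, z, l, ordφ, ordz, comm, notMem, cent, norm, lφ, lz, lne, linv⟩ : Data G r)
  rcases τ.normal_ker.eq_bot_or_eq_top with h | h
  · exact hnc ⟨⟨fun a b => (MonoidHom.ker_eq_bot_iff τ).1 h (by rw [map_mul, map_mul, mul_comm])⟩⟩
  · exact hτ (MonoidHom.mem_ker.1 (h ▸ mem_top φ))

end CfsgLib.Walter.Twist.RankOne
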