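import Cfsg.Agent.Lib.Walter.Twist.RankOneHighStep

/-!
Walter, `FieldFree`, piece R for field automorphisms of order `r ^ a`, `a ≥ 2`: the rank one lemma.
-/

set_option autoImplicit false
set_option linter.unusedSectionVars false

open scoped commutatorElement

namespace CfsgLib.Walter.Twist.RankOneHigh

open Subgroup

universe u

variable {G : Type u} [Group G] [Finite G] {r a : ℕ} [hr : Fact r.Prime] (D : Data G r a)

include D in
theorem Data.ne_two : r ≠ 2 := by
  intro h2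
  obtain ⟨k, hk⟩ := D.lz
  rcases Int.even_or_odd k with ⟨c, rfl⟩ | ⟨c, rfl⟩
  · have hz2 : D.z ^ (2 : ℤ) = 1 := by
      have h := D.ordz.trans h2
      rw [show ((2 : ℤ)) = ((2 : ℕ) : ℤ) by rfl, zpow_natCast]
      exact orderOf_dvd_iff_pow_eq_one.1 (dvd_of_eq h)
    replace hk : D.z ^ (c + c) = D.l * D.z * D.l⁻¹ := hk
    rw [← two_mul, zpow_mul, hz2, one_zpow] at hk
    have h1 : D.z = 1 := conj_eq_one_iff.1 hk.symm
    have h := D.ordz
    rw [h1, orderOf_one] at h
    exact hr.out.one_lt.ne h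
  · have hz2 : D.z ^ (2 : ℤ) = 1 := by
      have h := D.ordz.trans h2
      rw [show ((2 : ℤ)) = ((2 : ℕ) : ℤ) by rfl, zpow_natCast]
      exact orderOf_dvd_iff_pow_eq_one.1 (dvd_of_eq h)
    replace hk : D.z ^ (2 * c + 1) = D.l * D.z * D.l⁻¹ := hk
    rw [zpow_add_one, zpow_mul, hz2, one_zpow, one_mul] at hk
    exact D.lne hk.symm

/-- The starting piece: `U = ⟨z⟩`. -/
theorem exists_piece : Nonempty (Piece D) := by
  obtain ⟨k, hk⟩ := D.lz
  obtain ⟨l₁, hl₁, l₂, hl₂, hl, hco, j, hj⟩ := exists_parts (r := r) D.l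
  have hn : zpowers D.l ≤ normalizer (zpowers D.z : Set G) := zpowers_le.2 (mem_normalizer_of_conj fun x hx => by
    obtain ⟨i, rfl⟩ := hx
    refine ⟨k * i, ?_⟩
    show D.z ^ (k * i) = D.l * D.z ^ i * D.l⁻¹
    rw [zpow_mul, show D.z ^ k = D.l * D.z * D.l⁻¹ from hk, conj_zpow])
  have hconj : ∀ g ∈ zpowers D.l, ∃ m : ℕ, g * D.z * g⁻¹ = D.z ^ m := fun g hg => by
    have h := (mem_normalizer_iff.1 (hn hg) D.z).1 (mem_zpowers _)
    obtain ⟨m, hm⟩ := (mem_powers_iff_mem_zpowers (x := D.z)).2 h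
    exact ⟨m, hm.symm⟩
  -- the `r`-part of `l` centralises `z`
  have h2z : l₂ * D.z * l₂⁻¹ = D.z := by
    obtain ⟨m, hm⟩ := hconj l₂ hl₂
    have hpow : ∀ n : ℕ, l₂ ^ n * D.z * (l₂ ^ n)⁻¹ = D.z ^ (m ^ n) := by
      intro n
      induction n with
      | zero => simp
      | succ n ih =>
        calc l₂ ^ (n + 1) * D.z * (l₂ ^ (n + 1))⁻¹ = l₂ * (l₂ ^ n * D.z * (l₂ ^ n)⁻¹) * l₂⁻¹ := by
              rw [pow_succ']; group
          _ = _ := by rw [ih, ← conj_pow, hm, ← pow_mul, ← pow_succ']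
    have h1 := hpow (r ^ j)
    rw [hj, one_mul, inv_one, mul_one] at h1
    have h2 : ((1 : ℕ) : ZMod r) = ((m ^ r ^ j : ℕ) : ZMod r) := by
      have h3 := pow_eq_pow_iff_modEq.1 (show D.z ^ 1 = D.z ^ (m ^ r ^ j) by rw [pow_one]; exact h1)
      rw [D.ordz] at h3
      exact (ZMod.natCast_eq_natCast_iff _ _ _).2 h3
    rw [Nat.cast_pow, ZMod.pow_card_pow] at h2
    conv_rhs => rw [← pow_one D.z]
    rw [hm, pow_eq_pow_iff_modEq, D.ordz, ← ZMod.natCast_eq_natCast_iff]
    exact h2.symm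
  obtain ⟨m, hm⟩ := hconj l₁ hl₁
  have hlz : D.l * D.z * D.l⁻¹ = D.z ^ m := by
    calc D.l * D.z * D.l⁻¹ = l₁ * (l₂ * D.z * l₂⁻¹) * l₁⁻¹ := by rw [hl]; group
      _ = _ := by rw [h2z, hm]
  have hcomm : ∀ g ∈ zpowers D.l, Commute g D.φ := fun g hg => by
    obtain ⟨i, rfl⟩ := hg; exact D.lφ.zpow_left i
  have hδ : ∀ x ∈ zpowers D.z, D.φ * x * D.φ⁻¹ = x := by
    rintro _ ⟨i, rfl⟩
    rw [(D.comm.zpow_right i).eq, mul_inv_cancel_right]
  refine ⟨{
    U := zpowers D.z
    l := l₁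
    u₀ := D.z
    m := m
    pgroup := isPGroup_zpowers (k := 1) (by rw [D.ordz, pow_one])
    ucomm := fun x hx y hy => by
      obtain ⟨i, rfl⟩ := hx; obtain ⟨n, rfl⟩ := hy; exact Commute.zpow_zpow (Commute.refl _) i n
    φ_conj := fun x hx => by rw [hδ x hx]; exact hx
    z_mem := mem_zpowers _
    disj := fun i hi => by
      obtain ⟨n, hn'⟩ := hi
      replace hn' : D.z ^ n = D.φ ^ i := hn'
      by_cases hrn : (r : ℤ) ∣ n
      · obtain ⟨c, rfl⟩ := hrn
        rw [← hn', zpow_mul, zpow_natCast, z_pow (D := D), one_zpow]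
      · exfalso
        obtain ⟨c, e, hce⟩ : IsCoprime n (r : ℤ) :=
          (((Nat.prime_iff_prime_int.1 hr.out).coprime_iff_not_dvd).2 hrn).symm
        refine D.notMem ⟨i * c, ?_⟩
        show D.φ ^ (i * c) = D.z
        conv_rhs => rw [← zpow_one D.z, ← hce, zpow_add, mul_comm c n, zpow_mul, mul_comm e,
          zpow_mul D.z (r : ℤ), zpow_natCast, z_pow (D := D), one_zpow, mul_one, hn']
        rw [zpow_mul]
    l_coprime := hco
    l_comm := hcomm l₁ hl₁
    l_conj := fun x hx => (mem_normalizer_iff.1 (hn hl₁) x).1 hx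
    u₀_mem := mem_zpowers _
    u₀_not := fun x hx h => by
      rw [hδ x hx, mul_inv_cancel] at h
      have h1 := D.ordz
      rw [h, orderOf_one] at h1
      exact hr.out.one_lt.ne h1
    l_u₀ := ⟨1, one_mem _, by rw [hm]; simp⟩
    m_sq := fun h => by
      have h1 : ((m : ZMod r) - 1) * ((m : ZMod r) + 1) = 0 := by linear_combination h
      rcases mul_eq_zero.1 h1 with h1 | h1
      · refine D.lne (hlz.trans ?_)
        conv_rhs => rw [← pow_one D.z]
        rw [pow_eq_pow_iff_modEq, D.ordz, ← ZMod.natCast_eq_natCast_iff, Nat.cast_one]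
        exact sub_eq_zero.1 h1
      · refine D.linv (hlz.trans (eq_inv_of_mul_eq_one_left ?_))
        rw [← pow_succ, ← orderOf_dvd_iff_pow_eq_one, D.ordz, ← ZMod.natCast_eq_zero_iff]
        push_cast
        exact h1 }⟩

variable {D}

namespace Piece

variable (P : Piece D)

/-- A piece that is not a Sylow subgroup extends. -/
theorem exists_larger (h : ¬ ∃ S : Sylow r G, (S : Subgroup G) = P.R) :
    ∃ P' : Piece D, Nat.card P.R < Nat.card P'.R := by
  classical
  set N := normalizer (P.R : Set G) with hN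
  have hRN : P.R ≤ N := le_normalizer
  -- a Sylow subgroup of the normalizer
  obtain ⟨S, hS⟩ := P.isPGroup_R.exists_le_sylow
  have hlt : P.R < (S : Subgroup G) := lt_of_le_of_ne hS fun e => h ⟨S, e.symm⟩
  have hgrow : ∃ y ∈ (S : Subgroup G) ⊓ N, y ∉ P.R := by
    by_contra hno
    push Not at hno
    haveI : Group.IsNilpotent ↥(S : Subgroup G) := S.isPGroup'.isNilpotent
    have hsub : P.R.subgroupOf (S : Subgroup G) < ⊤ := lt_top_iff_ne_top.2 fun e => hlt.not_ge (subgroupOf_eq_top.1 e)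
    obtain ⟨⟨y, hyS⟩, hy, hy'⟩ := SetLike.exists_of_lt
      ((Group.normalizerCondition_of_isNilpotent (G := ↥(S : Subgroup G))) _ hsub)
    refine hy' (mem_subgroupOf.2 (hno y ⟨hyS, mem_normalizer_of_conj fun x hx => ?_⟩))
    exact mem_subgroupOf.1 ((mem_normalizer_iff.1 hy ⟨x, hS hx⟩).1 (mem_subgroupOf.2 hx))
  obtain ⟨y₁, hy₁, hy₁R⟩ := hgrow
  obtain ⟨TK, hTK⟩ := ((S.isPGroup'.to_le (inf_le_left (b := N))).comap_of_injective N.subtype
    N.subtype_injective).exists_le_sylow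
  set T := (TK : Subgroup N).map N.subtype with hTdef
  have hT : IsPGroup r T := TK.isPGroup'.map _
  have hTN : T ≤ N := map_subtype_le _
  have hin : ∀ x ∈ (S : Subgroup G), x ∈ N → x ∈ T := fun x hx hxN =>
    ⟨⟨x, hxN⟩, hTK ⟨hx, hxN⟩, rfl⟩
  have hRT : P.R ≤ T := fun x hx => hin x (hS hx) (hRN hx)
  have hy₁T : y₁ ∈ T := hin y₁ hy₁.1 hy₁.2
  -- `l` corrected to normalise `T`
  let K : Subgroup N :=
    { carrier := {g | P.s (g : G) = 1 ∧ P.c (g : G) = 1}
      one_mem' := ⟨(P.of_mem (one_mem _)).1, (P.of_mem (one_mem _)).2.1⟩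
      mul_mem' := fun {g h} hg hh => by
        refine ⟨?_, ?_⟩
        · show P.s ((g : G) * h) = 1
          rw [(P.mul_rules g.2 h.2).1, hg.1, hh.1, mul_one]
        · show P.c ((g : G) * h) = 1
          rw [(P.mul_rules g.2 h.2).2.1, hg.2, hh.2, mul_one]
      inv_mem' := fun {g} hg => by
        have hm := P.mul_rules g.2 (inv_mem g.2)
        rw [mul_inv_cancel, (P.of_mem (one_mem _)).1, (P.of_mem (one_mem _)).2.1, hg.1, hg.2, mul_one,
          mul_one] at hm
        exact ⟨hm.1.symm, hm.2.1.symm⟩ }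
  haveI : K.Normal := ⟨fun n hn g => by
    have h1 := P.mul_rules g.2 (inv_mem g.2)
    rw [mul_inv_cancel, (P.of_mem (one_mem _)).1, (P.of_mem (one_mem _)).2.1] at h1
    refine ⟨?_, ?_⟩
    · show P.s ((g : G) * n * (g : G)⁻¹) = 1
      rw [(P.mul_rules (mul_mem g.2 n.2) (inv_mem g.2)).1, (P.mul_rules g.2 n.2).1, hn.1, one_mul]
      exact h1.1.symm
    · show P.c ((g : G) * n * (g : G)⁻¹) = 1
      rw [(P.mul_rules (mul_mem g.2 n.2) (inv_mem g.2)).2.1, (P.mul_rules g.2 n.2).2.1, hn.2, one_mul]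
      exact h1.2.1.symm⟩
  have hTKK : (TK : Subgroup N) ≤ K := fun g hg => by
    obtain ⟨k, hk⟩ := TK.isPGroup' ⟨g, hg⟩
    have hk' : (g : G) ^ (r ^ k) = 1 := congrArg (fun x : (TK : Subgroup N) => ((x : N) : G)) hk
    exact P.of_rElement g.2 hk'
  set lN : N := ⟨P.l, P.l_mem_normalizer⟩ with hlN
  obtain ⟨k, hk, hnorm⟩ := CfsgLib.Transfer.exists_mul_mem_normalizer TK K lN hTKK fun x hx => by
    have := (inferInstance : K.Normal).conj_mem x (hTKK hx) lN⁻¹
    rwa [inv_inv] at this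
  set n : G := P.l * k with hn
  have hnN : n ∈ N := mul_mem P.l_mem_normalizer k.2
  have hnT : ∀ x ∈ T, n * x * n⁻¹ ∈ T := by
    rintro _ ⟨x, hx, rfl⟩
    exact ⟨_, (mem_normalizer_iff.1 hnorm x).1 hx, rfl⟩
  have hsn : P.s n = P.m := by
    rw [hn, (P.mul_rules P.l_mem_normalizer k.2).1, hk.1, one_mul, P.s_l.1]
  have hm0 : P.s n ≠ 0 := fun h0 => by
    have h1 := (P.mul_rules hnN (inv_mem hnN)).1
    rw [mul_inv_cancel, (P.of_mem (one_mem _)).1, h0, mul_zero] at h1
    exact one_ne_zero h1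
  have hJy₁ : P.J y₁ ≠ 0 := fun h0 => hy₁R (P.T_mem T hT hTN hRT hy₁T h0)
  set e := ((- P.J n / P.s n) / P.J y₁).val with he
  have hyT : y₁ ^ e ∈ T := pow_mem hy₁T e
  have hJ0 : P.J (n * y₁ ^ e) = 0 := by
    rw [(P.mul_rules hnN (hTN hyT)).2.2, (P.T_sc T hT hTN hyT).2, P.T_J_pow T hT hTN hRT hy₁T, he,
      ZMod.natCast_zmod_val, div_mul_cancel₀ _ hJy₁, div_mul_cancel₀ _ hm0, one_mul, neg_add_cancel]
  obtain ⟨u, hu, hd⟩ := P.mem_of_J_eq_zero (mul_mem hnN (hTN hyT)) hJ0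
  set d := u * (n * y₁ ^ e) with hddef
  have huN : u ∈ N := hRN (P.U_le_R hu)
  have hdN : d ∈ N := mul_mem huN (mul_mem hnN (hTN hyT))
  have hdT : d ∈ normalizer (T : Set G) :=
    mul_mem (le_normalizer (hRT (P.U_le_R hu))) (mul_mem (mem_normalizer_of_conj hnT) (le_normalizer hyT))
  have hsd : P.s d = P.m := by
    rw [hddef, (P.mul_rules huN (mul_mem hnN (hTN hyT))).1, (P.of_mem (P.U_le_R hu)).1, mul_one,
      (P.mul_rules hnN (hTN hyT)).1, (P.T_sc T hT hTN hyT).1, one_mul, hsn]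
  obtain ⟨d₁, hd₁, d₂, hd₂, hdd, hco, j, hj⟩ := exists_parts (r := r) d
  have hd₁N : d₁ ∈ N := (zpowers_le.2 hdN) hd₁
  have hd₂N : d₂ ∈ N := (zpowers_le.2 hdN) hd₂
  have hd₁φ : Commute d₁ D.φ := by obtain ⟨i, rfl⟩ := hd₁; exact hd.zpow_left i
  have hs₁ : P.s d₁ = P.m := by
    have h1 := (P.mul_rules hd₁N hd₂N).1
    rw [← hdd, hsd, (P.of_rElement hd₂N hj).1, one_mul] at h1
    exact h1.symm
  set P₁ := P.withL d₁ hd₁N hd₁φ hco hs₁ with hP₁
  exact P₁.exists_extend T hT hTN hRT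
    (fun g hg => (mem_normalizer_iff.1 ((zpowers_le.2 hdT) hd₁) g).1 hg) (fun hle => hy₁R (hle hy₁T))

/-- When `R` is a Sylow subgroup its normalizer fixes `φ` modulo `U ⟨φ ^ r⟩`. -/
theorem c_eq_one (S : Sylow r G) (hS : (S : Subgroup G) = P.R) {g : G}
    (hg : g ∈ normalizer (P.R : Set G)) : P.c g = 1 := by
  have hl := P.l_mem_normalizer
  set h := g * P.l * g⁻¹ * P.l⁻¹ with hh
  have hhN : h ∈ normalizer (P.R : Set G) := mul_mem (mul_mem (mul_mem hg hl) (inv_mem hg)) (inv_mem hl)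
  have e : h * (P.l * g) = g * P.l := by rw [hh]; group
  obtain ⟨hlc, hlJ, -⟩ := P.of_commute P.l_comm
  have h1 := P.mul_rules hhN (mul_mem hl hg)
  rw [e, (P.mul_rules hg hl).1, (P.mul_rules hg hl).2.1, (P.mul_rules hg hl).2.2, (P.mul_rules hl hg).1,
    (P.mul_rules hl hg).2.1, (P.mul_rules hl hg).2.2, P.s_l.1, hlc, hlJ] at h1
  obtain ⟨hs1, hc1, hJ1⟩ := h1
  simp only [mul_zero, add_zero, zero_mul, zero_add, mul_one, one_mul] at hs1 hc1 hJ1
  have hne : ∀ x ∈ normalizer (P.R : Set G), P.s x ≠ 0 ∧ P.c x ≠ 0 := fun x hx => by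
    have h2 := P.mul_rules hx (inv_mem hx)
    rw [mul_inv_cancel, (P.of_mem (one_mem _)).1, (P.of_mem (one_mem _)).2.1] at h2
    exact ⟨fun h0 => one_ne_zero (by rw [h2.1, h0, mul_zero]), fun h0 => one_ne_zero (by rw [h2.2.1, h0, mul_zero])⟩
  have hcg := (hne g hg).2
  have hsg : P.s g * (P.m : ZMod r) ≠ 0 := mul_ne_zero (hne g hg).1 (P.s_l.1 ▸ (hne _ hl).1)
  have hsh : P.s h = 1 := by
    refine mul_left_cancel₀ hsg ?_
    rw [mul_one]
    linear_combination -hs1
  have hch : P.c h = 1 := by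
    refine mul_left_cancel₀ hcg ?_
    rw [mul_one]
    linear_combination -hc1
  -- powers of `h` of `r`-power order lie in `R`
  have hJh : P.J h = 0 := by
    obtain ⟨k, n, hn, he⟩ := Nat.exists_eq_pow_mul_and_not_dvd (orderOf_pos h).ne' r hr.out.ne_one
    have hpow : ∀ i : ℕ, P.J (h ^ i) = i * P.J h := by
      intro i
      induction i with
      | zero => rw [pow_zero, (P.of_mem (one_mem _)).2.2.1]; simp
      | succ i ih =>
        rw [pow_succ, (P.mul_rules (pow_mem hhN i) hhN).2.2, hch, (P.pow_rules hhN i).1, hsh, one_pow, ih]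
        push_cast; ring
    have hmem : h ^ n ∈ P.R := by
      have hT : IsPGroup r (P.R ⊔ zpowers (h ^ n) : Subgroup G) := P.isPGroup_R.to_sup_of_normal_left'
        (isPGroup_zpowers (k := k) (orderOf_dvd_of_pow_eq_one (by
          rw [← pow_mul, mul_comm, ← he, pow_orderOf_eq_one])))
        (zpowers_le.2 (pow_mem hhN n))
      have hge : (S : Subgroup G) ≤ P.R ⊔ zpowers (h ^ n) := hS ▸ le_sup_left
      have := (S.is_maximal' hT hge)
      rw [← hS, ← this]
      exact mem_sup_right (mem_zpowers _)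
    have h3 := (P.of_mem hmem).2.2.1
    rw [hpow, mul_eq_zero, ZMod.natCast_eq_zero_iff] at h3
    exact h3.resolve_left hn
  have hJg : P.J g = 0 := by
    rw [hsh, hJh] at hJ1
    have : P.J g * ((P.m : ZMod r) - 1) = 0 := by linear_combination -hJ1
    exact (mul_eq_zero.1 this).resolve_right (sub_ne_zero.2 P.m_ne_one)
  obtain ⟨u, hu, hc⟩ := P.mem_of_J_eq_zero hg hJg
  have h4 := (P.mul_rules (le_normalizer (P.U_le_R hu)) hg).2.1
  rw [(P.of_commute hc).1, (P.of_mem (P.U_le_R hu)).2.1, mul_one] at h4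
  exact h4.symm

/-- The data for `TopData.theta_conj_eq`. -/
noncomputable def topData (S : Sylow r G) (hS : (S : Subgroup G) = P.R) :
    TopData r (S : Subgroup G) (Multiplicative (ZMod r)) where
  U := P.U
  le := hS ▸ P.U_le_R
  comm := P.ucomm
  conj := fun g hg x hx => by
    rw [hS] at hg
    have := conj_gen P.φ_conj
    obtain ⟨v, hv, i, rfl⟩ := P.exists_prod hg
    have e : v * D.φ ^ i * x * (v * D.φ ^ i)⁻¹ = v * (D.φ ^ i * x * (D.φ ^ i)⁻¹) * v⁻¹ := by group
    rw [e]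
    exact mul_mem (mul_mem hv (this i x hx)) (inv_mem hv)
  x₀ := D.φ
  mem := hS ▸ P.φ_mem_R
  gen := hS ▸ le_rfl
  θ := fun x => Multiplicative.ofAdd (P.pb x)
  mul := fun x hx y hy => by
    rw [hS] at hx hy
    rw [P.pb_add hx hy]; rfl
  pow := fun x _ => by
    rw [← ofAdd_nsmul, nsmul_eq_mul, ZMod.natCast_self, zero_mul]; rfl
  ker := fun x hx => by
    rw [show P.pb x = 0 by rw [pb, (P.mem_U_iff (P.U_le_R hx)).1 hx, map_zero]]; rfl
  inv := fun n hn x hx => by
    rw [hS] at hn hx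
    rw [P.pb_conj hn hx, P.c_eq_one S hS hn, mul_one]

end Piece

/-- **The rank one lemma**, `a ≥ 2`. -/
theorem Data.false_of_rank_one {G : Type u} [Group G] [Finite G] {r a : ℕ} [Fact r.Prime] (D : Data G r a) [IsSimpleGroup G] (hnc : ¬ IsMulCommutative G)
    (hqd : ¬ Cfsg.Involves ↥(Cfsg.qd r) G) : False := by
  classical
  suffices H : ∀ (n : ℕ) (P : Piece D), Nat.card G - Nat.card P.R < n →
      ∃ (Q : Piece D) (S : Sylow r G), (S : Subgroup G) = Q.R by
    obtain ⟨P₀⟩ := exists_piece D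
    obtain ⟨P, S, hS⟩ := H _ P₀ (Nat.lt_succ_self _)
    set T := P.topData S hS with hT
    have hfoc : ∀ x ∈ (S : Subgroup G).focalSubgroup, x ∈ (S : Subgroup G) → T.θ x = 1 := by
      intro x hx hxS
      let Kr : Subgroup G :=
        { carrier := {y | y ∈ (S : Subgroup G) ∧ T.θ y = 1}
          one_mem' := ⟨one_mem _, T.ker 1 (one_mem _)⟩
          mul_mem' := fun {p q} hp hq => ⟨mul_mem hp.1 hq.1, by rw [T.mul p hp.1 q hq.1, hp.2, hq.2, mul_one]⟩
          inv_mem' := fun {p} hp => ⟨inv_mem hp.1, by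
            have h := T.mul p hp.1 p⁻¹ (inv_mem hp.1)
            rw [mul_inv_cancel, T.ker 1 (one_mem _), hp.2, one_mul] at h
            exact h.symm⟩ }
      have hle : (S : Subgroup G).focalSubgroup ≤ Kr := by
        rw [focalSubgroup_def, closure_le]
        rintro z ⟨hz, x, hx, g, rfl⟩
        refine ⟨hz, ?_⟩
        have h1 : g * x⁻¹ * g⁻¹ ∈ (S : Subgroup G) := by
          have := mul_mem (inv_mem hx) hz
          simpa [commutatorElement_def, mul_assoc] using this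
        have e : ⁅x, g⁆ = x * (g * x⁻¹ * g⁻¹) := by rw [commutatorElement_def]; group
        rw [e, T.mul x hx _ h1, TopData.theta_conj_eq D.ne_two hqd S T (inv_mem hx) h1,
          ← T.mul x hx _ (inv_mem hx), mul_inv_cancel, T.ker 1 (one_mem _)]
      exact (hle hx).2
    have hperf : commutator G = ⊤ := by
      rcases (inferInstance : (commutator G).Normal).eq_bot_or_eq_top with h | h
      · refine absurd ⟨⟨fun x y => ?_⟩⟩ hnc
        have hmem : ⁅x, y⁆ ∈ commutator G := by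
          rw [_root_.commutator_def]; exact commutator_mem_commutator (mem_top x) (mem_top y)
        rw [h, mem_bot, commutatorElement_eq_one_iff_mul_comm] at hmem
        exact hmem
      · exact h
    have hφ : D.φ ∈ (S : Subgroup G).focalSubgroup := by
      rw [← Subgroup.commutator_inf_eq_focalSubgroup S, hperf, top_inf_eq]
      exact hS ▸ P.φ_mem_R
    have h1 := hfoc _ hφ (hS ▸ P.φ_mem_R)
    change Multiplicative.ofAdd (P.pb D.φ) = 1 at h1
    rw [Piece.pb, P.coord_φ.2, map_one, ofAdd_eq_one] at h1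
    exact one_ne_zero h1
  intro n
  induction n with
  | zero => intro P h; exact absurd h (Nat.not_lt_zero _)
  | succ n ih =>
    intro P hP
    by_cases h : ∃ S : Sylow r G, (S : Subgroup G) = P.R
    · obtain ⟨S, hS⟩ := h
      exact ⟨P, S, hS⟩
    · obtain ⟨P', hlt⟩ := P.exists_larger h
      refine ih P' ?_
      have := Finite.card_subtype_le (fun x => x ∈ P'.R)
      have h' : Nat.card P'.R ≤ Nat.card G := this
      omega

end CfsgLib.Walter.Twist.RankOneHigh
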