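import Cfsg.Agent.Lib.Walter.Twist.RankOne
import Cfsg.Agent.Lib.Walter.Twist.RankOneHighMain
import Cfsg.Agent.Lib.Walter.Twist.Control

/-!
Walter, `FieldFree`, piece R for every exponent: the rank one lemma.
-/

set_option autoImplicit false

namespace CfsgLib.Walter.Twist

open Subgroup

universe u

/-- **Piece R**: no non-abelian simple group with abelian Sylow `2`-subgroups carries rank one data for an
element of order `r ^ a`, `a ≥ 1`. -/
theorem false_of_rank_one_all {G : Type u} [Group G] [Finite G] [IsSimpleGroup G]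
    (hnc : ¬ IsMulCommutative G)
    (hab : ∀ S : Sylow 2 G, ∀ x y : ↥(S : Subgroup G), x * y = y * x)
    {r a : ℕ} [hr : Fact r.Prime] (ha : 1 ≤ a) {φ z l : G} (ordφ : orderOf φ = r ^ a) (ordz : orderOf z = r)
    (comm : Commute φ z) (notMem : z ∉ zpowers φ)
    (cent : ¬ r ^ (a + 2) ∣ Nat.card ↥(centralizer ({φ} : Set G)))
    (norm : ∀ (g : G) (k : ℕ), g * φ ^ k * g⁻¹ ∈ zpowers (φ ^ k) → g * φ ^ k * g⁻¹ = φ ^ k)
    (lφ : Commute l φ) (lz : l * z * l⁻¹ ∈ zpowers z) (lne : l * z * l⁻¹ ≠ z) (linv : l * z * l⁻¹ ≠ z⁻¹) :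
    False := by
  rcases Nat.lt_or_ge a 2 with h | h
  · obtain rfl : a = 1 := by omega
    exact RankOne.false_of_rank_one hnc (by rwa [pow_one] at ordφ) ordz comm notMem cent
      (fun g hg => by simpa using norm g 1 (by simpa using hg)) lφ lz lne linv
  · exact RankOneHigh.Data.false_of_rank_one
      (⟨φ, z, l, h, ordφ, ordz, comm, notMem, cent, norm, lφ, lz, lne, linv⟩ : RankOneHigh.Data G r a) hnc
      (not_involves_qd_of_abelian hab
        (RankOneHigh.Data.ne_two (⟨φ, z, l, h, ordφ, ordz, comm, notMem, cent, norm, lφ, lz, lne, linv⟩ : RankOneHigh.Data G r a)))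

end CfsgLib.Walter.Twist
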