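import Cfsg.Agent.Lib.Walter.Twist.RankOneAll
import Cfsg.Agent.Lib.Walter.Twist.JankoTorus
import Cfsg.Agent.Lib.Walter.Twist.FixedBasic

/-!
# Walter, `FieldFree`: the uses of the rank one lemma

* characteristic five: the centraliser of the field automorphism `φ` of order `r ∈ {7, 11, 19}` is `⟨φ⟩` by
  Janko's first group;
* characteristic three with `7 ∣ f`: `N(S)` centralises the field part and induces a Frobenius group of order
  `21` on `S`, which gives the elements `z` and `l`.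
-/

set_option autoImplicit false
set_option linter.unusedSectionVars false

namespace CfsgLib.Walter.Twist.RankOneUse

open Subgroup CfsgLib.AutPSL
open scoped Pointwise

universe u

variable {G : Type u} [Group G] [Finite G]

theorem neg_one_pow_ne : ((-1 : ZMod 7)) ^ 21 ≠ 1 := by decide

/-- A scalar action on a section of order `r` over `⟨φ⟩` lifts to an element of order `r`. -/
theorem exists_lift {r a : ℕ} [hr : Fact r.Prime] {φ l w : G} (hφ : orderOf φ = r ^ a) (hlφ : Commute l φ)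
    (hwφ : Commute w φ) (hw : w ∉ zpowers φ) (hwr : w ^ r ∈ zpowers φ) {k : ℕ}
    (hk : (k : ZMod r) ≠ 1) (hk2 : (k : ZMod r) ≠ -1) (hc : (w ^ k)⁻¹ * (l * w * l⁻¹) ∈ zpowers φ) :
    ∃ z : G, orderOf z = r ∧ Commute φ z ∧ z ∉ zpowers φ ∧ l * z * l⁻¹ ∈ zpowers z ∧ l * z * l⁻¹ ≠ z ∧
      l * z * l⁻¹ ≠ z⁻¹ := by
  have hcop : IsCoprime ((k : ℤ) - 1) ((r ^ a : ℕ) : ℤ) := by
    push_cast
    refine IsCoprime.pow_right ?_
    rw [isCoprime_comm, (Nat.prime_iff_prime_int.1 hr.out).coprime_iff_not_dvd]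
    intro h
    apply hk
    have := (ZMod.intCast_zmod_eq_zero_iff_dvd _ r).2 h
    push_cast at this
    exact sub_eq_zero.1 this
  obtain ⟨u, v, huv⟩ := hcop
  obtain ⟨i, hi⟩ := Subgroup.mem_zpowers_iff.1 hc
  have hlw : l * w * l⁻¹ = w ^ k * φ ^ i := by rw [hi, mul_inv_cancel_left]
  have hφpow : ∀ x y : ℤ, ((r ^ a : ℕ) : ℤ) ∣ y - x → φ ^ x = φ ^ y := fun x y h => by
    rw [zpow_eq_zpow_iff_modEq, Int.modEq_iff_dvd, hφ]; exact h
  have hlpow : ∀ j : ℤ, l * φ ^ j * l⁻¹ = φ ^ j := fun j =>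
    mul_inv_eq_iff_eq_mul.2 (hlφ.zpow_right j).eq
  set z := w * φ ^ (i * u) with hz
  have hzc : Commute φ z := hwφ.symm.mul_right ((Commute.refl φ).zpow_right _)
  have hzk : l * z * l⁻¹ = z ^ k := by
    have e : l * z * l⁻¹ = l * w * l⁻¹ * (l * φ ^ (i * u) * l⁻¹) := by rw [hz]; group
    rw [e, hlw, hlpow, hz, (hwφ.zpow_right _).mul_pow, mul_assoc, ← zpow_add, ← zpow_natCast (φ ^ (i * u)),
      ← zpow_mul]
    congr 1
    refine hφpow _ _ ⟨-(i * v), ?_⟩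
    linear_combination i * huv
  have hzn : z ∉ zpowers φ := fun h => hw (by
    have := mul_mem h (inv_mem (zpow_mem (mem_zpowers φ) (i * u)))
    rwa [hz, mul_inv_cancel_right] at this)
  have hzr : z ^ r = 1 := by
    have hmem : z ^ r ∈ zpowers φ := by
      rw [hz, (hwφ.zpow_right _).mul_pow]
      exact mul_mem hwr (pow_mem (zpow_mem (mem_zpowers φ) _) r)
    obtain ⟨j, hj⟩ := Subgroup.mem_zpowers_iff.1 hmem
    have h1 : l * z ^ r * l⁻¹ = z ^ r := by rw [← hj]; exact hlpow j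
    rw [← conj_pow, hzk, ← pow_mul, mul_comm, pow_mul, ← hj, ← zpow_natCast, ← zpow_mul,
      zpow_eq_zpow_iff_modEq, Int.modEq_iff_dvd, hφ] at h1
    rw [← hj, ← zpow_zero φ]
    refine hφpow _ _ ?_
    have h2 : ((r ^ a : ℕ) : ℤ) ∣ j * ((k : ℤ) - 1) := by
      rw [show j * ((k : ℤ) - 1) = -(j - j * k) by ring]
      exact h1.neg_right
    have h3 := (show IsCoprime ((k : ℤ) - 1) ((r ^ a : ℕ) : ℤ) from ⟨u, v, huv⟩).symm.dvd_of_dvd_mul_right h2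
    rw [zero_sub]; exact h3.neg_right
  have hzo : orderOf z = r := orderOf_eq_prime hzr fun h => hzn (h ▸ one_mem _)
  refine ⟨z, hzo, hzc, hzn, hzk ▸ pow_mem (mem_zpowers z) k, fun h => hk ?_, fun h => hk2 ?_⟩
  · rw [hzk] at h
    have h' : z ^ k = z ^ 1 := by rw [h, pow_one]
    rw [pow_eq_pow_iff_modEq, hzo] at h'
    exact_mod_cast (ZMod.natCast_eq_natCast_iff k 1 r).2 h'
  · rw [hzk] at h
    have h' : z ^ (k + 1) = z ^ 0 := by rw [pow_succ, h, inv_mul_cancel, pow_zero]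
    rw [pow_eq_pow_iff_modEq, hzo] at h'
    have := (ZMod.natCast_eq_natCast_iff (k + 1) 0 r).2 h'
    push_cast at this
    exact eq_neg_of_add_eq_zero_left this

/-- A section `N/C` with a scalar action, `⟨φ⟩` a Sylow subgroup of `C`. -/
theorem exists_scalar_of_section {r a : ℕ} [hr : Fact r.Prime] {φ : G} (hφ : orderOf φ = r ^ a)
    (C N : Subgroup G) (hCN : C ≤ N) (hn : ∀ n ∈ N, ∀ c ∈ C, n * c * n⁻¹ ∈ C) (hφC : φ ∈ C)
    (hN : ∀ n ∈ N, Commute n φ) (hC : ∀ c ∈ C, (∃ i, c ^ r ^ i = 1) → c ∈ zpowers φ)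
    {w l : G} (hw : w ∈ N) (hl : l ∈ N) (hwC : w ∉ C) (hwr : w ^ r ∈ C) {k : ℕ}
    (hk : (k : ZMod r) ≠ 1) (hk2 : (k : ZMod r) ≠ -1) (hc : (w ^ k)⁻¹ * (l * w * l⁻¹) ∈ C) :
    ∃ z l' : G, orderOf z = r ∧ Commute φ z ∧ z ∉ zpowers φ ∧ Commute l' φ ∧
      l' * z * l'⁻¹ ∈ zpowers z ∧ l' * z * l'⁻¹ ≠ z ∧ l' * z * l'⁻¹ ≠ z⁻¹ := by
  set M := C.subgroupOf N with hMdef
  have hMn : M.Normal := ⟨fun c hc' n => mem_subgroupOf.2 (hn n n.2 c (mem_subgroupOf.1 hc'))⟩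
  set π := QuotientGroup.mk' M with hπ
  set wb := π ⟨w, hw⟩ with hwb
  set N₀ := (zpowers wb).comap π with hN₀
  have hkmem : ∀ g : N, π g = 1 ↔ (g : G) ∈ C := fun g => by
    rw [hπ, QuotientGroup.mk'_apply, QuotientGroup.eq_one_iff, hMdef, mem_subgroupOf]
  have hlw : π ⟨l, hl⟩ * wb * (π ⟨l, hl⟩)⁻¹ = wb ^ k := by
    refine (inv_mul_eq_one.1 ?_).symm
    rw [hwb, ← map_inv, ← map_mul, ← map_mul, ← map_pow, ← map_inv, ← map_mul, hkmem]
    exact hc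
  have hNn : N₀.map (MulAut.conj (⟨l, hl⟩ : N)).toMonoidHom = N₀ := by
    refine eq_of_le_of_card_ge ?_ (by rw [card_map_of_injective (MulEquiv.injective _)])
    rintro _ ⟨g, hg, rfl⟩
    rw [hN₀, mem_comap]
    obtain ⟨j, hj⟩ := Subgroup.mem_zpowers_iff.1 (mem_comap.1 hg)
    show π (⟨l, hl⟩ * g * ⟨l, hl⟩⁻¹) ∈ _
    rw [map_mul, map_mul, map_inv, ← hj, ← conj_zpow, hlw]
    exact zpow_mem (pow_mem (mem_zpowers wb) k) j
  set φN : N := ⟨φ, hCN hφC⟩ with hφN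
  have hφ0 : φN ∈ N₀ := by
    rw [hN₀, mem_comap, (hkmem φN).2 hφC]; exact one_mem _
  have hφp : IsPGroup r ↥(zpowers φN) := by
    refine IsPGroup.of_card (n := a) ?_
    rw [Nat.card_zpowers, ← Subgroup.orderOf_coe]
    exact hφ
  have hle : zpowers φN ≤ N₀ := zpowers_le.2 hφ0
  obtain ⟨P, hP⟩ := (hφp.of_equiv (subgroupOfEquivOfLe hle).symm).exists_le_sylow
  set P₁ := (P : Subgroup N₀).map N₀.subtype with hP₁
  have hφP : φN ∈ P₁ := ⟨⟨φN, hφ0⟩, hP (mem_subgroupOf.2 (mem_zpowers φN)), rfl⟩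
  -- the Sylow subgroup meets the complement of `C`
  obtain ⟨w₁, hw₁P, hw₁⟩ : ∃ g ∈ P₁, π g ≠ 1 := by
    by_contra! hall
    set f := π.comp N₀.subtype with hf
    have hr1 : r ∣ Nat.card ↥f.range := by
      have hord : orderOf wb = r := orderOf_eq_prime (by
        rw [hwb, ← map_pow, hkmem]; exact hwr) (fun h => hwC ((hkmem _).1 h))
      refine hord.symm.dvd.trans (Subgroup.orderOf_dvd_natCard _ (MonoidHom.mem_range.2 ⟨⟨⟨w, hw⟩, ?_⟩, rfl⟩))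
      exact mem_zpowers wb
    have hP' : (P : Subgroup N₀) ≤ f.ker := fun g hg => MonoidHom.mem_ker.2 (hall g ⟨g, hg, rfl⟩)
    refine P.not_dvd_index (hr1.trans ?_)
    rw [← index_ker]
    exact index_dvd_of_le hP'
  obtain ⟨g₁, hg₁, rfl⟩ := hw₁P
  obtain ⟨j, hj⟩ := Subgroup.mem_zpowers_iff.1 (mem_comap.1 g₁.2)
  -- correct `l` to normalise the Sylow subgroup
  set c : N := ⟨l, hl⟩ with hc'
  have hPc : P₁.map (MulAut.conj c).toMonoidHom ≤ N₀ := (map_mono (map_subtype_le _)).trans hNn.le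
  set P₂ := P₁.map (MulAut.conj c).toMonoidHom with hP₂
  have hP₂card : Nat.card ↥(P₂.subgroupOf N₀) = Nat.card ↥(P : Subgroup N₀) := by
    rw [Nat.card_congr (subgroupOfEquivOfLe hPc).toEquiv, hP₂, card_map_of_injective (MulEquiv.injective _), hP₁,
      card_map_of_injective N₀.subtype_injective]
  obtain ⟨k', hk'⟩ := IsPGroup.iff_card.1 P.2
  let Q : Sylow r N₀ := Sylow.ofCard (P₂.subgroupOf N₀) (by
    rw [hP₂card]; exact P.card_eq_multiplicity)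
  obtain ⟨n, hn'⟩ := MulAction.exists_smul_eq N₀ Q P
  set l₁ : N := (n : N) * c with hl₁
  have hnorm : ∀ g ∈ P₁, l₁ * g * l₁⁻¹ ∈ P₁ := by
    intro g hg
    have h1 : c * g * c⁻¹ ∈ P₂ := ⟨g, hg, rfl⟩
    have h2 : n * ⟨c * g * c⁻¹, hPc h1⟩ * n⁻¹ ∈ (P : Subgroup N₀) := by
      rw [← hn']
      show n * ⟨c * g * c⁻¹, hPc h1⟩ * n⁻¹ ∈
        ((MulAut.conj n • (Q : Subgroup N₀)) : Subgroup N₀)
      exact ⟨⟨c * g * c⁻¹, hPc h1⟩, mem_subgroupOf.2 h1, rfl⟩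
    refine ⟨_, h2, ?_⟩
    show (n : N) * (c * g * c⁻¹) * (n : N)⁻¹ = l₁ * g * l₁⁻¹
    rw [hl₁]; group
  obtain ⟨i₀, hi₀⟩ := Subgroup.mem_zpowers_iff.1 (mem_comap.1 n.2)
  have hP₁C : ∀ g ∈ P₁, π g = 1 → (g : G) ∈ zpowers φ := by
    intro g hg h1
    refine hC _ ((hkmem g).1 h1) ?_
    obtain ⟨g', hg', rfl⟩ := hg
    obtain ⟨i, hi⟩ := P.2 ⟨g', hg'⟩
    exact ⟨i, by simpa using congrArg (fun x : (P : Subgroup N₀) => ((x : N₀) : N).1) hi⟩
  have hπl : π (l₁ * (g₁ : N) * l₁⁻¹) = π (g₁ : N) ^ k := by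
    rw [map_mul, map_mul, map_inv, hl₁, map_mul, ← hj, ← hi₀, mul_inv_rev]
    calc wb ^ i₀ * π c * wb ^ j * ((π c)⁻¹ * (wb ^ i₀)⁻¹)
        = wb ^ i₀ * (π c * wb * (π c)⁻¹) ^ j * (wb ^ i₀)⁻¹ := by rw [conj_zpow]; group
      _ = wb ^ i₀ * (wb ^ k) ^ j * (wb ^ i₀)⁻¹ := by rw [hc', hlw]
      _ = (wb ^ j) ^ k := by
          rw [← zpow_natCast, ← zpow_natCast, ← zpow_mul, ← zpow_mul, ← zpow_neg, ← zpow_add, ← zpow_add]
          congr 1; ring
  have hg₁P : (g₁ : N) ∈ P₁ := ⟨g₁, hg₁, rfl⟩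
  have hmem1 : ((g₁ : N) : G) ∉ zpowers φ := fun h => hw₁ ((hkmem _).2 ((zpowers_le.2 hφC) h))
  have hwr' : ((g₁ : N) : G) ^ r ∈ zpowers φ := by
    refine hP₁C ((g₁ : N) ^ r) (pow_mem hg₁P r) ?_
    rw [map_pow, ← hj, ← zpow_natCast, ← zpow_mul, mul_comm, zpow_mul, zpow_natCast, hwb, ← map_pow,
      (hkmem _).2 (show ((⟨w, hw⟩ : N) ^ r : N).1 ∈ C from hwr), one_zpow]
  have hck : (((g₁ : N) : G) ^ k)⁻¹ * ((l₁ : G) * (g₁ : N) * (l₁ : G)⁻¹) ∈ zpowers φ := by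
    refine hP₁C (((g₁ : N) ^ k)⁻¹ * (l₁ * (g₁ : N) * l₁⁻¹))
      (mul_mem (inv_mem (pow_mem hg₁P k)) (hnorm _ hg₁P)) ?_
    rw [map_mul, map_inv, map_pow, hπl, inv_mul_cancel]
  obtain ⟨z, hz1, hz2, hz3, hz4, hz5, hz6⟩ :=
    exists_lift hφ (hN _ l₁.2) (hN _ (g₁ : N).2) hmem1 hwr' hk hk2 hck
  exact ⟨z, l₁, hz1, hz2, hz3, hN _ l₁.2, hz4, hz5, hz6⟩

/-- **Characteristic five**: `C(φ)/⟨φ⟩` is Janko's first group. -/
theorem false_of_cent_isJ1 [IsSimpleGroup G] (hnc : ¬ IsMulCommutative G) {r : ℕ}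
    (hr : r = 7 ∨ r = 11 ∨ r = 19) {φ : G} (hφ : orderOf φ = r)
    {X : Type u} [Group X] [Finite X] (π : ↥(centralizer ({φ} : Set G)) →* X) (hπ : Function.Surjective π)
    (hker : ∀ c, π c = 1 ↔ (c : G) ∈ zpowers φ) (hX : Cfsg.IsJ1 X)
    (norm : ∀ g : G, g * φ * g⁻¹ ∈ zpowers φ → g * φ * g⁻¹ = φ) : False := by
  have : Fact r.Prime := ⟨by rcases hr with rfl | rfl | rfl <;> norm_num⟩
  obtain ⟨zb, lb, hzo, hzm, hz1, hz2⟩ := JankoTorus.exists_scalar_of_isJ1 hX hr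
  obtain ⟨⟨w, hw⟩, rfl⟩ := hπ zb
  obtain ⟨⟨l, hl⟩, rfl⟩ := hπ lb
  set wC : centralizer ({φ} : Set G) := ⟨w, hw⟩ with hwC
  set lC : centralizer ({φ} : Set G) := ⟨l, hl⟩ with hlC
  obtain ⟨k, hk⟩ : ∃ k : ℕ, π wC ^ k = π lC * π wC * (π lC)⁻¹ :=
    mem_powers_iff_mem_zpowers.2 hzm
  have hord : π wC ^ r = 1 := orderOf_dvd_iff_pow_eq_one.1 hzo.dvd
  have hk1 : (k : ZMod r) ≠ 1 := fun h => hz1 (by
    rw [← hk]; conv_rhs => rw [← pow_one (π wC)]
    exact pow_eq_pow_iff_modEq.2 (hzo.symm ▸ (ZMod.natCast_eq_natCast_iff k 1 r).1 (by rwa [Nat.cast_one])))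
  have hk2 : (k : ZMod r) ≠ -1 := fun h => hz2 (by
    rw [← hk, eq_inv_iff_mul_eq_one, ← pow_succ]
    exact orderOf_dvd_iff_pow_eq_one.1 (hzo.symm ▸ (ZMod.natCast_eq_zero_iff (k + 1) r).1 (by
      push_cast; rw [h, neg_add_cancel])))
  obtain ⟨z, l', h1, h2, h3, h4, h5, h6, h7⟩ := exists_scalar_of_section (a := 1) (by rwa [pow_one])
    (zpowers φ) (centralizer ({φ} : Set G))
    (zpowers_le.2 (mem_centralizer_singleton_iff.2 rfl))
    (fun n hn c hc => by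
      obtain ⟨i, rfl⟩ := Subgroup.mem_zpowers_iff.1 hc
      rw [mul_inv_eq_iff_eq_mul.2 ((show Commute n φ from mem_centralizer_singleton_iff.1 hn).zpow_right i).eq]
      exact zpow_mem (mem_zpowers φ) i)
    (mem_zpowers φ) (fun n hn => mem_centralizer_singleton_iff.1 hn) (fun c hc _ => hc) hw hl
    (fun h => by
      have := (hker wC).2 h
      rw [this, orderOf_one] at hzo
      exact (Fact.out : r.Prime).ne_one hzo.symm)
    ((hker (wC ^ r)).1 (by rw [map_pow, hord]))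
    hk1 hk2 ((hker ((wC ^ k)⁻¹ * (lC * wC * lC⁻¹))).1 (by
      rw [map_mul, map_mul, map_mul, map_inv, map_inv, map_pow, hk, inv_mul_cancel]))
  refine RankOne.false_of_rank_one hnc hφ h1 h2 h3 ?_ norm h4 h5 h6 h7
  intro hd
  have hcard := card_eq_card_quotient_mul_card_subgroup π.ker
  rw [Nat.card_congr (QuotientGroup.quotientKerEquivOfSurjective π hπ).toEquiv, hX.2] at hcard
  have hk' : Nat.card ↥π.ker = r := by
    rw [← hφ, ← Nat.card_zpowers, ← card_map_of_injective (K := π.ker) (centralizer ({φ} : Set G)).subtype_injective]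
    congr 1
    refine congrArg (fun S : Subgroup G => ↥S) (le_antisymm ?_ fun x hx => ?_)
    · rintro _ ⟨c, hc, rfl⟩
      exact (hker c).1 hc
    · exact ⟨⟨x, (zpowers_le.2 (mem_centralizer_singleton_iff.2 rfl) :
        zpowers φ ≤ centralizer ({φ} : Set G)) hx⟩, (hker _).2 hx, rfl⟩
  rw [hcard, hk', mul_comm 175560 r, show r ^ 3 = r * r ^ 2 by ring] at hd
  have h2' := Nat.dvd_of_mul_dvd_mul_left (Fact.out : r.Prime).pos hd
  rcases hr with rfl | rfl | rfl <;> norm_num at h2'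

variable {E : Setup G} (R : Frame E)

/-- The elements of `7`-power order of `C(S)` are field elements. -/
theorem mem_fld_of_centralizer_S [CharP R.F 3] {c : G} (hc : c ∈ centralizer ((E.S : Subgroup G) : Set G))
    (ho : Odd (orderOf c)) : ∃ τ : R.Γ, c = R.fld τ ∧ orderOf τ = orderOf c := by
  obtain ⟨a, τ, hfix, ha, h | h⟩ := FixedT.centralizer_S_form R hc
  · have hcom : Commute (R.psl a) (R.fld τ) := by
      show _ = _
      rw [FixedT.psl_fld, hfix τ]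
    have h1 := pow_orderOf_eq_one c
    obtain ⟨k, hk⟩ := ho
    rw [hk, h, hcom.mul_pow, ← map_pow, ← map_pow, pow_succ a, pow_mul, pow_two a, ha, one_pow, one_mul] at h1
    have h2 : a = 1 := (R.eq_one _ _ h1).1
    rw [h2, map_one, one_mul] at h
    exact ⟨τ, h, by rw [h, orderOf_injective R.fld R.fld_inj]⟩
  · exfalso
    have hH : c ∈ E.H := FixedT.mem_H (mem_centralizer_iff.1 hc E.t E.mem).symm
    obtain ⟨x, σ, hx⟩ := FixedT.odd_form R hH ho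
    rw [h] at hx
    apply R.ne_t (x * fieldAut (σ : R.F ≃+* R.F) (fieldAut ((τ⁻¹ : R.Γ) : R.F ≃+* R.F) a⁻¹)) (σ * τ⁻¹)
    have e1 : (R.psl a * R.fld τ)⁻¹ = R.psl (fieldAut ((τ⁻¹ : R.Γ) : R.F ≃+* R.F) a⁻¹) * R.fld τ⁻¹ := by
      rw [mul_inv_rev, ← map_inv, ← map_inv, FixedT.psl_fld]
    rw [← FixedT.comb_mul, ← e1, ← hx, mul_assoc, mul_inv_cancel, mul_one]

/-- **Characteristic three, `7 ∣ f`**: the elements `z` and `l`. -/
theorem exists_scalar_seven [CharP R.F 3] (hloc : Local E) {σ : R.Γ} {a : ℕ}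
    (hσ : orderOf σ = 7 ^ a) (hgen : ∀ τ : R.Γ, (∃ i, τ ^ 7 ^ i = 1) → τ ∈ zpowers σ) :
    ∃ z l : G, orderOf z = 7 ∧ Commute (R.fld σ) z ∧ z ∉ zpowers (R.fld σ) ∧ Commute l (R.fld σ) ∧
      l * z * l⁻¹ ∈ zpowers z ∧ l * z * l⁻¹ ≠ z ∧ l * z * l⁻¹ ≠ z⁻¹ := by
  classical
  have : Fact (Nat.Prime 7) := ⟨by norm_num⟩
  set C := centralizer ((E.S : Subgroup G) : Set G) with hCdef
  set N := normalizer ((E.S : Subgroup G) : Set G) with hNdef
  have hCN : C ≤ N := fun c hc => mem_normalizer_iff.2 fun s => by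
    constructor
    · intro hs
      rw [← mem_centralizer_iff.1 hc s hs, mul_inv_cancel_right]
      exact hs
    · intro hs
      have h := mem_centralizer_iff.1 hc _ hs
      have : s = c * s * c⁻¹ := by
        calc s = c⁻¹ * (c * s * c⁻¹ * c) := by group
          _ = c⁻¹ * (c * (c * s * c⁻¹)) := by rw [h]
          _ = c * s * c⁻¹ := by group
      rw [this]; exact hs
  have hn : ∀ n ∈ N, ∀ c ∈ C, n * c * n⁻¹ ∈ C := by
    intro n hn c hc
    refine mem_centralizer_iff.2 fun s hs => ?_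
    have hs' : n⁻¹ * s * n ∈ (E.S : Subgroup G) := by
      have := (mem_normalizer_iff.1 (inv_mem hn) s).1 hs
      rwa [inv_inv] at this
    calc s * (n * c * n⁻¹) = n * (n⁻¹ * s * n * c) * n⁻¹ := by group
      _ = n * (c * (n⁻¹ * s * n)) * n⁻¹ := by rw [mem_centralizer_iff.1 hc _ hs']
      _ = n * c * n⁻¹ * s := by group
  set M := C.subgroupOf N with hMdef
  have hMn : M.Normal := ⟨fun c hc' n => mem_subgroupOf.2 (hn n n.2 c (mem_subgroupOf.1 hc'))⟩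
  have hcard : Nat.card (↥N ⧸ M) = 21 := by rw [← index_eq_card]; exact hloc.auto
  obtain ⟨zb, hzb⟩ := exists_prime_orderOf_dvd_card' (G := ↥N ⧸ M) 7 (by rw [hcard]; norm_num)
  set π := QuotientGroup.mk' M with hπ
  obtain ⟨⟨w, hw⟩, rfl⟩ := QuotientGroup.mk'_surjective M zb
  set wN : N := ⟨w, hw⟩ with hwN
  have hkmem : ∀ g : N, π g = 1 ↔ (g : G) ∈ C := fun g => by
    rw [hπ, QuotientGroup.mk'_apply, QuotientGroup.eq_one_iff, hMdef, mem_subgroupOf]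
  have hnormal : ∀ g : ↥N ⧸ M, g * π wN * g⁻¹ ∈ zpowers (π wN) := by
    intro g
    by_contra hcon
    set w' := g * π wN * g⁻¹ with hw'
    have ho' : orderOf w' = 7 := by
      rw [hw', ← hzb]; exact (MulEquiv.orderOf_eq (MulAut.conj g) _)
    have hinj : Function.Injective (fun p : ↥(zpowers (π wN)) × ↥(zpowers w') => (p.1 : ↥N ⧸ M) * p.2) := by
      rintro ⟨⟨a1, ha1⟩, ⟨b1, hb1⟩⟩ ⟨⟨a2, ha2⟩, ⟨b2, hb2⟩⟩ h
      have h' : a2⁻¹ * a1 = b2 * b1⁻¹ := by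
        have h0 : a1 * b1 = a2 * b2 := h
        rw [eq_mul_inv_iff_mul_eq, mul_assoc, h0, inv_mul_cancel_left]
      have hmemw : a2⁻¹ * a1 ∈ zpowers w' := h' ▸ mul_mem hb2 (inv_mem hb1)
      have h1 : a2⁻¹ * a1 = 1 := by
        by_contra hne
        have hz : zpowers (a2⁻¹ * a1) = zpowers w' := by
          refine eq_of_le_of_card_ge (zpowers_le.2 hmemw) (le_of_eq ?_)
          rw [Nat.card_zpowers, Nat.card_zpowers, ho']
          refine (((Nat.dvd_prime (by norm_num : Nat.Prime 7)).1 ?_).resolve_left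
            fun h => hne (orderOf_eq_one_iff.1 h)).symm
          exact ho' ▸ orderOf_dvd_of_mem_zpowers hmemw
        exact hcon (zpowers_le.2 (mul_mem (inv_mem ha2) ha1) (hz ▸ mem_zpowers w'))
      obtain rfl : a2 = a1 := inv_mul_eq_one.1 h1
      obtain rfl : b1 = b2 := by simpa using h
      rfl
    have := Nat.card_le_card_of_injective _ hinj
    rw [Nat.card_prod, Nat.card_zpowers, Nat.card_zpowers, hzb, ho', hcard] at this
    omega
  obtain ⟨ρ, hρH, -, hρN, -, hρfix⟩ := FixedT.exists_rotation R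
  set ρN : N := ⟨ρ, hρN⟩ with hρN'
  obtain ⟨k, hk⟩ : ∃ k : ℕ, π wN ^ k = π ρN * π wN * (π ρN)⁻¹ :=
    mem_powers_iff_mem_zpowers.2 (hnormal _)
  -- `w` moves `t`
  have hwt : w * E.t * w⁻¹ ≠ E.t := by
    intro hfix
    have hwC : w ∈ C := by
      refine mem_centralizer_iff.2 fun s hs => ?_
      by_cases hs1 : s = 1
      · rw [hs1, one_mul, mul_one]
      obtain ⟨n, hn', rfl⟩ := hloc.fuse E.t E.mem s hs E.ne hs1
      obtain ⟨j, hj⟩ := Subgroup.mem_zpowers_iff.1 (hnormal ((π ⟨n, hn'⟩)⁻¹))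
      rw [inv_inv, ← map_inv, ← map_mul, ← map_mul, ← map_zpow] at hj
      have hc0 : ((wN ^ j)⁻¹ * ((⟨n, hn'⟩ : N)⁻¹ * wN * ⟨n, hn'⟩) : N).1 ∈ C := (hkmem _).1 (by
        rw [map_mul, map_inv, ← hj, inv_mul_cancel])
      have hwj : Commute (w ^ j) E.t := (show Commute w E.t from mul_inv_eq_iff_eq_mul.1 hfix).zpow_left j
      have hc1 : Commute (n⁻¹ * w * n) E.t := by
        have e : n⁻¹ * w * n = w ^ j * ((w ^ j)⁻¹ * (n⁻¹ * w * n)) := by group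
        rw [e]
        refine hwj.mul_left ?_
        exact (mem_centralizer_iff.1 hc0 E.t E.mem).symm
      calc n * E.t * n⁻¹ * w = n * (E.t * (n⁻¹ * w * n)) * n⁻¹ := by group
        _ = n * (n⁻¹ * w * n * E.t) * n⁻¹ := by rw [hc1.eq]
        _ = w * (n * E.t * n⁻¹) := by group
    have := (hkmem wN).2 hwC
    rw [this, orderOf_one] at hzb
    norm_num at hzb
  have hk3 : (k : ZMod 7) ^ 21 = 1 := by
    have h1 : ∀ m : ℕ, π ρN ^ m * π wN * (π ρN ^ m)⁻¹ = π wN ^ k ^ m := by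
      intro m
      induction m with
      | zero => simp
      | succ m ih =>
        rw [pow_succ, mul_inv_rev, show π ρN ^ m * π ρN * π wN * ((π ρN)⁻¹ * (π ρN ^ m)⁻¹) =
          π ρN ^ m * (π ρN * π wN * (π ρN)⁻¹) * (π ρN ^ m)⁻¹ by group, ← hk, ← conj_pow, ih, ← pow_mul,
          ← pow_succ]
    have h21 := h1 21
    rw [show π ρN ^ 21 = 1 by rw [← hcard]; exact pow_card_eq_one', one_mul, inv_one, mul_one] at h21
    have h' : π wN ^ (k ^ 21) = π wN ^ 1 := by rw [← h21, pow_one]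
    rw [pow_eq_pow_iff_modEq, hzb] at h'
    exact_mod_cast (ZMod.natCast_eq_natCast_iff (k ^ 21) 1 7).2 h'
  have hk1 : (k : ZMod 7) ≠ 1 := by
    intro h
    have hcw : π ρN * π wN * (π ρN)⁻¹ = π wN := by
      rw [← hk]; conv_rhs => rw [← pow_one (π wN)]
      exact pow_eq_pow_iff_modEq.2 (hzb.symm ▸ (ZMod.natCast_eq_natCast_iff k 1 7).1 (by rwa [Nat.cast_one]))
    have hc0 : ((wN⁻¹ * (ρN * wN * ρN⁻¹)) : N).1 ∈ C := (hkmem _).1 (by
      rw [map_mul, map_mul, map_mul, map_inv, map_inv, hcw, inv_mul_cancel])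
    have hρt : ρ⁻¹ * E.t * ρ = E.t := by
      rw [mul_assoc, ← (mem_centralizer_singleton_iff.1 hρH), inv_mul_cancel_left]
    have hfix : ρ * (w * E.t * w⁻¹) * ρ⁻¹ = w * E.t * w⁻¹ := by
      have hmem : w * E.t * w⁻¹ ∈ (E.S : Subgroup G) := (mem_normalizer_iff.1 hw E.t).1 E.mem
      have h2 : (w⁻¹ * (ρ * w * ρ⁻¹)) * E.t = E.t * (w⁻¹ * (ρ * w * ρ⁻¹)) :=
        (mem_centralizer_iff.1 hc0 E.t E.mem).symm
      calc ρ * (w * E.t * w⁻¹) * ρ⁻¹ = (ρ * w * ρ⁻¹) * (ρ * E.t * ρ⁻¹) * (ρ * w * ρ⁻¹)⁻¹ := by group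
        _ = (ρ * w * ρ⁻¹) * E.t * (ρ * w * ρ⁻¹)⁻¹ := by
            rw [show ρ * E.t * ρ⁻¹ = E.t from mul_inv_eq_iff_eq_mul.2 (mem_centralizer_singleton_iff.1 hρH)]
        _ = w * ((w⁻¹ * (ρ * w * ρ⁻¹)) * E.t) * (ρ * w * ρ⁻¹)⁻¹ := by group
        _ = w * E.t * w⁻¹ := by rw [h2]; group
    rcases hρfix _ ((mem_normalizer_iff.1 hw E.t).1 E.mem) (mul_inv_eq_iff_eq_mul.1 hfix) with h0 | h0
    · exact E.ne (conj_eq_one_iff.1 h0)
    · exact hwt h0
  have hk2 : (k : ZMod 7) ≠ -1 := by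
    intro h
    rw [h] at hk3
    exact neg_one_pow_ne hk3
  obtain ⟨z, l, h⟩ := exists_scalar_of_section (r := 7) (φ := R.fld σ) (a := a)
    (by rw [orderOf_injective R.fld R.fld_inj, hσ]) C N hCN hn
    (mem_centralizer_iff.2 fun s hs => (R.S_fld σ s hs).symm)
    (fun n hn' => (FixedT.mem_cfld R).1 (FixedT.normalizer_S_le R hloc hn') σ)
    (fun c hc ⟨i, hi⟩ => by
      have ho : Odd (orderOf c) :=
        (Odd.pow (by decide : Odd 7)).of_dvd_nat (orderOf_dvd_of_pow_eq_one hi)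
      obtain ⟨τ, rfl, hτ⟩ := mem_fld_of_centralizer_S R hc ho
      obtain ⟨j, rfl⟩ := Subgroup.mem_zpowers_iff.1 (hgen τ ⟨i, R.fld_inj (by rw [map_pow, hi, map_one])⟩)
      rw [map_zpow]
      exact zpow_mem (mem_zpowers _) j)
    hw hρN (fun hwC => by
      have := (hkmem wN).2 hwC
      rw [this, orderOf_one] at hzb
      norm_num at hzb)
    ((hkmem (wN ^ 7)).1 (by rw [map_pow]; exact orderOf_dvd_iff_pow_eq_one.1 hzb.dvd))
    hk1 hk2 ((hkmem ((wN ^ k)⁻¹ * (ρN * wN * ρN⁻¹))).1 (by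
      rw [map_mul, map_mul, map_mul, map_inv, map_inv, map_pow, hk, inv_mul_cancel]))
  exact ⟨z, l, h⟩

/-- **Characteristic three, `7 ∣ f`**: the rank one contradiction. -/
theorem false_of_seven [CharP R.F 3] (hloc : Local E) {σ : R.Γ} {a : ℕ} (ha : 1 ≤ a)
    (hσ : orderOf σ = 7 ^ a) (hgen : ∀ τ : R.Γ, (∃ i, τ ^ 7 ^ i = 1) → τ ∈ zpowers σ)
    (cent : ¬ 7 ^ (a + 2) ∣ Nat.card ↥(centralizer ({R.fld σ} : Set G)))
    (fusion : ∀ (σ' σ'' : R.Γ) (g : G), g * R.fld σ' * g⁻¹ = R.fld σ'' → σ' = σ'') : False := by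
  have : Fact (Nat.Prime 7) := ⟨by norm_num⟩
  have := E.simple
  obtain ⟨z, l, h1, h2, h3, h4, h5, h6, h7⟩ := exists_scalar_seven R hloc hσ hgen
  refine false_of_rank_one_all E.noncomm (fun S x y => ?_) ha
    (by rw [orderOf_injective R.fld R.fld_inj, hσ]) h1 h2 h3 cent (fun g k hg => ?_) h4 h5 h6 h7
  · obtain ⟨g, hg⟩ := MulAction.exists_smul_eq G E.S S
    subst hg
    obtain ⟨x, a', ha', rfl⟩ := x
    obtain ⟨y, b', hb', rfl⟩ := y
    refine Subtype.ext ?_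
    show MulAut.conj g a' * MulAut.conj g b' = MulAut.conj g b' * MulAut.conj g a'
    rw [← map_mul, E.comm ha' hb', map_mul]
  · obtain ⟨j, hj⟩ := Subgroup.mem_zpowers_iff.1 hg
    rw [← map_pow, ← map_zpow] at hj
    rw [← map_pow]
    exact mul_inv_eq_iff_eq_mul.2 (mul_inv_eq_iff_eq_mul.1 (by
      rw [← hj, ← fusion _ _ g hj.symm]))

end CfsgLib.Walter.Twist.RankOneUse
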