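import Cfsg.Agent.Lib.Walter.Twist.RankOneUniserial

/-!
Walter, `FieldFree`, piece R, field automorphisms of order `r ^ a`, `a ≥ 2`: the configurations
`R = U ⟨φ⟩` with `U` abelian, normal and uniserial under `φ`, and coordinates on them.
-/

set_option autoImplicit false
set_option linter.unusedSectionVars false

namespace CfsgLib.Walter.Twist.RankOneHigh

open Subgroup

universe u

/-- The hypotheses of the rank one lemma for an element `φ` of order `r ^ a`, `a ≥ 2`. -/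
structure Data (G : Type u) [Group G] (r a : ℕ) where
  /-- the element which survives -/
  φ : G
  /-- the second element of the plane -/
  z : G
  /-- the element acting as a scalar on `⟨z⟩` -/
  l : G
  two_le : 2 ≤ a
  ordφ : orderOf φ = r ^ a
  ordz : orderOf z = r
  comm : Commute φ z
  notMem : z ∉ zpowers φ
  cent : ¬ r ^ (a + 2) ∣ Nat.card ↥(centralizer ({φ} : Set G))
  norm : ∀ (g : G) (k : ℕ), g * φ ^ k * g⁻¹ ∈ zpowers (φ ^ k) → g * φ ^ k * g⁻¹ = φ ^ k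
  lφ : Commute l φ
  lz : l * z * l⁻¹ ∈ zpowers z
  lne : l * z * l⁻¹ ≠ z
  linv : l * z * l⁻¹ ≠ z⁻¹

/-- `U` with its action of `φ` and an element `l` acting on the top of `U` by a scalar `m ≠ ±1`. -/
structure Piece {G : Type u} [Group G] {r a : ℕ} (D : Data G r a) where
  /-- the abelian part -/
  U : Subgroup G
  /-- the element of order prime to `r` -/
  l : G
  /-- a generator of `U` as a `φ`-module -/
  u₀ : G
  /-- the scalar -/
  m : ℕ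
  pgroup : IsPGroup r U
  ucomm : ∀ x ∈ U, ∀ y ∈ U, x * y = y * x
  φ_conj : ∀ x ∈ U, D.φ * x * D.φ⁻¹ ∈ U
  z_mem : D.z ∈ U
  disj : ∀ i : ℤ, D.φ ^ i ∈ U → D.φ ^ i = 1
  l_coprime : (orderOf l).Coprime r
  l_comm : Commute l D.φ
  l_conj : ∀ x ∈ U, l * x * l⁻¹ ∈ U
  u₀_mem : u₀ ∈ U
  u₀_not : ∀ x ∈ U, u₀ ≠ D.φ * x * D.φ⁻¹ * x⁻¹
  l_u₀ : ∃ x ∈ U, l * u₀ * l⁻¹ = D.φ * x * D.φ⁻¹ * x⁻¹ * u₀ ^ m
  m_sq : (m : ZMod r) * m ≠ 1

variable {G : Type u} [Group G] [Finite G] {r a : ℕ} [hr : Fact r.Prime] {D : Data G r a}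

theorem isPGroup_zpowers {g : G} {k : ℕ} (hg : orderOf g ∣ r ^ k) : IsPGroup r (zpowers g) := by
  obtain ⟨j, -, hj⟩ := (Nat.dvd_prime_pow hr.out).1 hg
  exact IsPGroup.of_card (n := j) (by rw [Nat.card_zpowers, hj])

theorem conj_gen {K : Subgroup G} {φ : G} (h : ∀ x ∈ K, φ * x * φ⁻¹ ∈ K) (i : ℤ) :
    ∀ x ∈ K, φ ^ i * x * (φ ^ i)⁻¹ ∈ K := fun x hx =>
  (mem_normalizer_iff.1 (zpow_mem (mem_normalizer_of_conj h) i) x).1 hx

/-- An `r`-subgroup containing `φ` and `z` meets `C(φ)` in their product. -/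
theorem mem_of_commute {H : Subgroup G} (hH : IsPGroup r H) (hφ : D.φ ∈ H) (hz : D.z ∈ H) {x : G}
    (hx : x ∈ H) (hc : Commute x D.φ) : x ∈ zpowers D.φ ⊔ zpowers D.z := by
  set A := zpowers D.φ ⊔ zpowers D.z with hA
  set B := H ⊓ centralizer ({D.φ} : Set G) with hB
  have hAB : A ≤ B := sup_le (zpowers_le.2 ⟨hφ, mem_centralizer_singleton_iff.2 rfl⟩)
    (zpowers_le.2 ⟨hz, mem_centralizer_singleton_iff.2 D.comm.eq.symm⟩)
  obtain ⟨j, hj⟩ := IsPGroup.iff_card.1 (hH.to_le (inf_le_left : B ≤ H))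
  have hj' : j ≤ a + 1 := by
    by_contra h
    exact D.cent ((pow_dvd_pow r (show a + 2 ≤ j by omega)).trans
      (hj ▸ card_dvd_of_le (inf_le_right : B ≤ centralizer ({D.φ} : Set G))))
  obtain ⟨i, hi⟩ := IsPGroup.iff_card.1 (hH.to_le (hAB.trans inf_le_left))
  have hlt : Nat.card (zpowers D.φ) < Nat.card A := by
    refine lt_of_le_of_ne (card_le_of_le le_sup_left) fun h => D.notMem ?_
    have := eq_of_le_of_card_ge (le_sup_left : zpowers D.φ ≤ A) h.ge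
    rw [this]
    exact mem_sup_right (mem_zpowers _)
  rw [Nat.card_zpowers, D.ordφ, hi, Nat.pow_lt_pow_iff_right hr.out.one_lt] at hlt
  have hle : Nat.card B ≤ Nat.card A := by
    rw [hi, hj]
    exact Nat.pow_le_pow_right hr.out.pos (by omega)
  rw [eq_of_le_of_card_ge hAB hle]
  exact ⟨hx, mem_centralizer_singleton_iff.2 hc.eq⟩

theorem φ_pow : D.φ ^ (r ^ a : ℕ) = 1 := by rw [← D.ordφ, pow_orderOf_eq_one]

theorem z_pow : D.z ^ r = 1 := orderOf_dvd_iff_pow_eq_one.1 (dvd_of_eq D.ordz)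

namespace Piece

variable (P : Piece D)

/-- The group `U ⟨φ⟩`. -/
def R : Subgroup G := P.U ⊔ zpowers D.φ

theorem U_le_R : P.U ≤ P.R := le_sup_left

theorem φ_mem_R : D.φ ∈ P.R := mem_sup_right (mem_zpowers _)

theorem zpowers_le_normalizer : zpowers D.φ ≤ normalizer (P.U : Set G) :=
  zpowers_le.2 (mem_normalizer_of_conj P.φ_conj)

theorem exists_prod {x : G} (hx : x ∈ P.R) : ∃ v ∈ P.U, ∃ i : ℤ, x = v * D.φ ^ i := by
  have h : x ∈ ((P.U ⊔ zpowers D.φ : Subgroup G) : Set G) := hx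
  rw [coe_mul_of_right_le_normalizer_left P.U (zpowers D.φ) P.zpowers_le_normalizer] at h
  obtain ⟨v, hv, _, ⟨i, rfl⟩, rfl⟩ := h
  exact ⟨v, hv, i, rfl⟩

theorem isPGroup_R : IsPGroup r P.R :=
  P.pgroup.to_sup_of_normal_left' (isPGroup_zpowers (k := a) (by rw [D.ordφ])) P.zpowers_le_normalizer

theorem eq_zpow_of_commute {x : G} (hx : x ∈ P.U) (hc : Commute x D.φ) : x ∈ zpowers D.z := by
  have h := mem_of_commute P.isPGroup_R P.φ_mem_R (P.U_le_R P.z_mem) (P.U_le_R hx) hc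
  have hn : zpowers D.φ ≤ normalizer (zpowers D.z : Set G) := by
    refine zpowers_le.2 (mem_normalizer_of_conj fun s hs => ?_)
    obtain ⟨k, rfl⟩ := hs
    exact ⟨k, (by rw [(D.comm.zpow_right k).eq, mul_inv_cancel_right])⟩
  rw [sup_comm] at h
  have h' : x ∈ ((zpowers D.z ⊔ zpowers D.φ : Subgroup G) : Set G) := h
  rw [coe_mul_of_right_le_normalizer_left (zpowers D.z) (zpowers D.φ) hn] at h'
  obtain ⟨_, ⟨k, rfl⟩, _, ⟨i, rfl⟩, rfl⟩ := h'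
  have hi : D.φ ^ i ∈ P.U := (mul_mem_cancel_left (zpow_mem P.z_mem k)).1 hx
  show D.z ^ k * D.φ ^ i ∈ _
  rw [P.disj i hi, mul_one]
  exact zpow_mem (mem_zpowers _) k

/-- Conjugation by `φ` on `U`. -/
def aHom : P.U →* P.U :=
  MonoidHom.mk' (fun x => ⟨D.φ * x * D.φ⁻¹, P.φ_conj x x.2⟩)
    (fun x y => Subtype.ext (by simp [mul_assoc]))

theorem aHom_iter (n : ℕ) (x : P.U) : ((P.aHom^[n] x : P.U) : G) = D.φ ^ n * x * (D.φ ^ n)⁻¹ := by
  induction n with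
  | zero => simp
  | succ n ih =>
    rw [Function.iterate_succ_apply']
    show D.φ * _ * D.φ⁻¹ = _
    rw [ih, pow_succ']
    group

theorem ucomm' : ∀ x y : P.U, x * y = y * x := fun x y => Subtype.ext (P.ucomm x x.2 y y.2)

theorem aHom_periodic : ∃ n : ℕ, P.aHom^[r ^ n] = id :=
  ⟨a, funext fun x => Subtype.ext (by rw [aHom_iter, φ_pow]; simp)⟩

theorem aHom_ker (x : P.U) (h : P.aHom x = x) : x ∈ zpowers (⟨D.z, P.z_mem⟩ : P.U) := by
  have hc : Commute (x : G) D.φ := (mul_inv_eq_iff_eq_mul.1 (congrArg Subtype.val h)).symm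
  obtain ⟨k, hk⟩ := P.eq_zpow_of_commute x.2 hc
  exact ⟨k, Subtype.ext (by simpa using hk)⟩

theorem aHom_z : P.aHom ⟨D.z, P.z_mem⟩ = ⟨D.z, P.z_mem⟩ :=
  Subtype.ext (show D.φ * D.z * D.φ⁻¹ = D.z by rw [D.comm.eq, mul_inv_cancel_right])

theorem orderOf_zU : orderOf (⟨D.z, P.z_mem⟩ : P.U) = r := by rw [Subgroup.orderOf_mk, D.ordz]

/-- The subgroup `[U, φ]`. -/
def K : Subgroup G := (Uniserial.delta P.ucomm' P.aHom).range.map P.U.subtype

theorem K_le_U : P.K ≤ P.U := map_subtype_le _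

theorem mem_K {x : G} (hx : x ∈ P.U) : D.φ * x * D.φ⁻¹ * x⁻¹ ∈ P.K := ⟨_, ⟨⟨x, hx⟩, rfl⟩, rfl⟩

theorem exists_of_mem_K {x : G} (hx : x ∈ P.K) : ∃ v ∈ P.U, x = D.φ * v * D.φ⁻¹ * v⁻¹ := by
  obtain ⟨_, ⟨v, rfl⟩, rfl⟩ := hx
  exact ⟨v, v.2, rfl⟩

theorem u₀_notMem : P.u₀ ∉ P.K := fun h => by
  obtain ⟨v, hv, he⟩ := P.exists_of_mem_K h
  exact P.u₀_not v hv he

theorem u₀_range : (⟨P.u₀, P.u₀_mem⟩ : P.U) ∉ (Uniserial.delta P.ucomm' P.aHom).range :=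
  fun h => P.u₀_notMem ⟨_, h, rfl⟩

theorem relIndex_K : P.K.relIndex P.U = r := by
  have h := Uniserial.index_range P.ucomm' P.pgroup P.aHom P.aHom_periodic P.aHom_ker P.orderOf_zU P.aHom_z
  rwa [relIndex, subgroupOf, K, comap_map_eq_self_of_injective P.U.subtype_injective]

theorem φK {x : G} (hx : x ∈ P.K) : D.φ * x * D.φ⁻¹ ∈ P.K := by
  obtain ⟨v, hv, rfl⟩ := P.exists_of_mem_K hx
  have := P.mem_K (P.φ_conj v hv)
  convert this using 1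
  group

/-- Elements of `U` modulo `K` are powers of `u₀`. -/
theorem exists_pow {x : G} (hx : x ∈ P.U) : ∃ v ∈ P.K, ∃ j : ℤ, x = v * P.u₀ ^ j := by
  set W := P.K ⊔ zpowers P.u₀ with hW
  have hWU : W ≤ P.U := sup_le P.K_le_U (zpowers_le.2 P.u₀_mem)
  have h1 := relIndex_mul_relIndex P.K W P.U le_sup_left hWU
  rw [P.relIndex_K] at h1
  have h2 : W.relIndex P.U = 1 := by
    rcases (Nat.dvd_prime hr.out).1 (Dvd.intro_left _ h1) with h | h
    · exact h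
    · rw [h] at h1
      exact absurd (relIndex_eq_one.1 ((mul_eq_right₀ hr.out.ne_zero).1 h1) (mem_sup_right (mem_zpowers _)))
        P.u₀_notMem
  have hx' : x ∈ ((P.K ⊔ zpowers P.u₀ : Subgroup G) : Set G) := relIndex_eq_one.1 h2 hx
  rw [coe_mul_of_right_le_normalizer_left P.K (zpowers P.u₀) (zpowers_le.2 (mem_normalizer_of_conj fun s hs => by
    rw [P.ucomm _ P.u₀_mem s (P.K_le_U hs), mul_inv_cancel_right]; exact hs))] at hx'
  obtain ⟨v, hv, _, ⟨j, rfl⟩, rfl⟩ := hx'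
  exact ⟨v, hv, j, rfl⟩

theorem u₀_pow_mem : P.u₀ ^ r ∈ P.K := by
  haveI : (P.K.subgroupOf P.U).Normal := normal_subgroupOf_of_le_normalizer fun g hg =>
    mem_normalizer_of_conj fun s hs => by
      rw [P.ucomm g hg s (P.K_le_U hs), mul_inv_cancel_right]; exact hs
  have := (P.K.subgroupOf P.U).pow_index_mem (⟨P.u₀, P.u₀_mem⟩ : P.U)
  rw [show (P.K.subgroupOf P.U).index = r from P.relIndex_K] at this
  simpa [mem_subgroupOf] using this

theorem u₀_zpow_mem {j : ℤ} : P.u₀ ^ j ∈ P.K ↔ (j : ZMod r) = 0 := by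
  rw [ZMod.intCast_zmod_eq_zero_iff_dvd]
  refine ⟨fun h => by_contra fun hj => P.u₀_notMem ?_, ?_⟩
  · obtain ⟨c, e, hce⟩ : IsCoprime j (r : ℤ) :=
      (((Nat.prime_iff_prime_int.1 hr.out).coprime_iff_not_dvd).2 hj).symm
    have : P.u₀ = (P.u₀ ^ j) ^ c * (P.u₀ ^ r) ^ e := by
      rw [← zpow_natCast, ← zpow_mul, ← zpow_mul, ← zpow_add, mul_comm j, mul_comm (r : ℤ), hce, zpow_one]
    rw [this]
    exact mul_mem (zpow_mem h c) (zpow_mem P.u₀_pow_mem e)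
  · rintro ⟨k, rfl⟩
    rw [zpow_mul, zpow_natCast]
    exact zpow_mem P.u₀_pow_mem k

theorem conj_mod {x : G} (hx : x ∈ P.U) (i : ℤ) : D.φ ^ i * x * (D.φ ^ i)⁻¹ * x⁻¹ ∈ P.K := by
  have hφi : ∀ (j : ℤ), ∀ y ∈ P.K, D.φ ^ j * y * (D.φ ^ j)⁻¹ ∈ P.K :=
    fun j => conj_gen (fun y hy => P.φK hy) j
  induction i using Int.induction_on with
  | zero => simp
  | succ i ih =>
    have := mul_mem (hφi i _ (P.mem_K hx)) ih
    convert this using 1
    rw [zpow_add_one]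
    group
  | pred i ih =>
    have := mul_mem (inv_mem (hφi (-(i : ℤ) - 1) _ (P.mem_K hx))) ih
    convert this using 1
    rw [zpow_sub_one]
    group

theorem exists_coord {x : G} (hx : x ∈ P.R) :
    ∃ v ∈ P.K, ∃ j i : ℤ, x = v * P.u₀ ^ j * D.φ ^ i := by
  obtain ⟨w, hw, i, rfl⟩ := P.exists_prod hx
  obtain ⟨v, hv, j, rfl⟩ := P.exists_pow hw
  exact ⟨v, hv, j, i, rfl⟩

theorem coord_unique {v v' : G} (hv : v ∈ P.K) (hv' : v' ∈ P.K) {j i j' i' : ℤ}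
    (h : v * P.u₀ ^ j * D.φ ^ i = v' * P.u₀ ^ j' * D.φ ^ i') :
    (j : ZMod r) = j' ∧ (i : ZMod (r ^ a)) = i' := by
  have h1 : (v' * P.u₀ ^ j')⁻¹ * (v * P.u₀ ^ j) = D.φ ^ (i' - i) := by
    rw [zpow_sub, eq_mul_inv_iff_mul_eq, mul_assoc, h, inv_mul_cancel_left]
  have hmem : D.φ ^ (i' - i) ∈ P.U := h1 ▸ mul_mem
    (inv_mem (mul_mem (P.K_le_U hv') (zpow_mem P.u₀_mem _)))
    (mul_mem (P.K_le_U hv) (zpow_mem P.u₀_mem _))
  have hd := P.disj _ hmem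
  refine ⟨?_, ?_⟩
  · rw [hd, inv_mul_eq_one] at h1
    have hj : P.u₀ ^ (j - j') ∈ P.K := by
      have e : P.u₀ ^ (j - j') = v⁻¹ * v' := by
        rw [zpow_sub, mul_inv_eq_iff_eq_mul, mul_assoc, eq_inv_mul_iff_mul_eq, h1]
      rw [e]; exact mul_mem (inv_mem hv) hv'
    rw [P.u₀_zpow_mem, Int.cast_sub, sub_eq_zero] at hj
    exact hj
  · have := orderOf_dvd_iff_zpow_eq_one.2 hd
    rw [D.ordφ, ← ZMod.intCast_zmod_eq_zero_iff_dvd, Int.cast_sub, sub_eq_zero] at this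
    exact this.symm

open Classical in
/-- The coordinate along `U / K`. -/
noncomputable def q (x : G) : ZMod r :=
  if h : ∃ j i : ℤ, ∃ v ∈ P.K, x = v * P.u₀ ^ j * D.φ ^ i then (h.choose : ZMod r) else 0

open Classical in
/-- The coordinate along `⟨φ⟩`. -/
noncomputable def e (x : G) : ZMod (r ^ a) :=
  if h : ∃ i j : ℤ, ∃ v ∈ P.K, x = v * P.u₀ ^ j * D.φ ^ i then (h.choose : ZMod (r ^ a)) else 0

theorem coord {v : G} (hv : v ∈ P.K) (j i : ℤ) :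
    P.q (v * P.u₀ ^ j * D.φ ^ i) = j ∧ P.e (v * P.u₀ ^ j * D.φ ^ i) = i := by
  constructor
  · have h : ∃ j' i' : ℤ, ∃ w ∈ P.K, v * P.u₀ ^ j * D.φ ^ i = w * P.u₀ ^ j' * D.φ ^ i' :=
      ⟨j, i, v, hv, rfl⟩
    rw [q, dif_pos h]
    obtain ⟨i', w, hw, he⟩ := h.choose_spec
    exact (P.coord_unique hv hw he).1.symm
  · have h : ∃ i' j' : ℤ, ∃ w ∈ P.K, v * P.u₀ ^ j * D.φ ^ i = w * P.u₀ ^ j' * D.φ ^ i' :=
      ⟨i, j, v, hv, rfl⟩
    rw [e, dif_pos h]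
    obtain ⟨j', w, hw, he⟩ := h.choose_spec
    exact (P.coord_unique hv hw he).2.symm

theorem add {x y : G} (hx : x ∈ P.R) (hy : y ∈ P.R) :
    P.q (x * y) = P.q x + P.q y ∧ P.e (x * y) = P.e x + P.e y := by
  obtain ⟨v, hv, j, i, rfl⟩ := P.exists_coord hx
  obtain ⟨w, hw, k, n, rfl⟩ := P.exists_coord hy
  have hwu : w * P.u₀ ^ k ∈ P.U := mul_mem (P.K_le_U hw) (zpow_mem P.u₀_mem k)
  set c := D.φ ^ i * (w * P.u₀ ^ k) * (D.φ ^ i)⁻¹ * (w * P.u₀ ^ k)⁻¹ with hc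
  have hck : c ∈ P.K := P.conj_mod hwu i
  have e1 : v * P.u₀ ^ j * D.φ ^ i * (w * P.u₀ ^ k * D.φ ^ n) =
      v * c * w * P.u₀ ^ (j + k) * D.φ ^ (i + n) := by
    have h2 : Commute (P.u₀ ^ j) (c * w) :=
      P.ucomm _ (zpow_mem P.u₀_mem j) _ (mul_mem (P.K_le_U hck) (P.K_le_U hw))
    calc v * P.u₀ ^ j * D.φ ^ i * (w * P.u₀ ^ k * D.φ ^ n)
        = v * (P.u₀ ^ j * (c * w)) * P.u₀ ^ k * (D.φ ^ i * D.φ ^ n) := by rw [hc]; group
      _ = v * ((c * w) * P.u₀ ^ j) * P.u₀ ^ k * (D.φ ^ i * D.φ ^ n) := by rw [h2.eq]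
      _ = _ := by rw [zpow_add, zpow_add]; group
  rw [e1]
  have h := P.coord (mul_mem (mul_mem hv hck) hw) (j + k) (i + n)
  rw [h.1, h.2, (P.coord hv j i).1, (P.coord hv j i).2, (P.coord hw k n).1, (P.coord hw k n).2]
  constructor <;> push_cast <;> rfl

theorem coord_φ : P.q D.φ = 0 ∧ P.e D.φ = 1 := by
  simpa using P.coord (one_mem P.K) 0 1

theorem coord_u₀ : P.q P.u₀ = 1 ∧ P.e P.u₀ = 0 := by
  simpa using P.coord (one_mem P.K) 1 0

theorem coord_K {v : G} (hv : v ∈ P.K) : P.q v = 0 ∧ P.e v = 0 := by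
  simpa using P.coord hv 0 0

theorem coord_one : P.q 1 = 0 ∧ P.e 1 = 0 := P.coord_K (one_mem _)

theorem coord_inv {x : G} (hx : x ∈ P.R) : P.q x⁻¹ = - P.q x ∧ P.e x⁻¹ = - P.e x := by
  have h := P.add hx (inv_mem hx)
  rw [mul_inv_cancel, P.coord_one.1, P.coord_one.2] at h
  exact ⟨eq_neg_of_add_eq_zero_right h.1.symm, eq_neg_of_add_eq_zero_right h.2.symm⟩

theorem coord_pow {x : G} (hx : x ∈ P.R) (n : ℕ) :
    P.q (x ^ n) = n * P.q x ∧ P.e (x ^ n) = n * P.e x := by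
  induction n with
  | zero => simp [P.coord_one.1, P.coord_one.2]
  | succ n ih =>
    rw [pow_succ, (P.add (pow_mem hx n) hx).1, (P.add (pow_mem hx n) hx).2, ih.1, ih.2]
    constructor <;> push_cast <;> ring

theorem coord_zpow {x : G} (hx : x ∈ P.R) (n : ℤ) :
    P.q (x ^ n) = n * P.q x ∧ P.e (x ^ n) = n * P.e x := by
  obtain ⟨k, rfl | rfl⟩ := Int.eq_nat_or_neg n
  · simpa using P.coord_pow hx k
  · have h := P.coord_inv (pow_mem hx k)
    rw [(P.coord_pow hx k).1, (P.coord_pow hx k).2] at h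
    simp [h.1, h.2]

theorem mem_K_iff {x : G} (hx : x ∈ P.R) : x ∈ P.K ↔ P.q x = 0 ∧ P.e x = 0 := by
  refine ⟨P.coord_K, fun h => ?_⟩
  obtain ⟨v, hv, j, i, rfl⟩ := P.exists_coord hx
  rw [(P.coord hv j i).1, (P.coord hv j i).2] at h
  have hi : D.φ ^ i = 1 := by
    rw [← orderOf_dvd_iff_zpow_eq_one, D.ordφ, ← ZMod.intCast_zmod_eq_zero_iff_dvd]; exact h.2
  rw [hi, mul_one]
  exact mul_mem hv (P.u₀_zpow_mem.2 h.1)

theorem mem_U_iff {x : G} (hx : x ∈ P.R) : x ∈ P.U ↔ P.e x = 0 := by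
  constructor
  · intro h
    obtain ⟨v, hv, j, rfl⟩ := P.exists_pow h
    simpa using (P.coord hv j 0).2
  · intro h
    obtain ⟨v, hv, j, i, rfl⟩ := P.exists_coord hx
    rw [(P.coord hv j i).2] at h
    have hi : D.φ ^ i = 1 := by
      rw [← orderOf_dvd_iff_zpow_eq_one, D.ordφ, ← ZMod.intCast_zmod_eq_zero_iff_dvd]; exact h
    rw [hi, mul_one]
    exact mul_mem (P.K_le_U hv) (zpow_mem P.u₀_mem j)

/-- The `⟨φ⟩`-coordinate modulo `r`. -/
noncomputable def pb (x : G) : ZMod r :=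
  ZMod.castHom (dvd_pow_self r (by have := D.two_le; omega : a ≠ 0)) (ZMod r) (P.e x)

theorem pb_add {x y : G} (hx : x ∈ P.R) (hy : y ∈ P.R) : P.pb (x * y) = P.pb x + P.pb y := by
  rw [pb, (P.add hx hy).2, map_add]; rfl

theorem pb_coord {v : G} (hv : v ∈ P.K) (j i : ℤ) : P.pb (v * P.u₀ ^ j * D.φ ^ i) = i := by
  rw [pb, (P.coord hv j i).2, map_intCast]

theorem conj_mem_R {g x : G} (hg : g ∈ normalizer (P.R : Set G)) (hx : x ∈ P.R) : g * x * g⁻¹ ∈ P.R :=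
  (mem_normalizer_iff.1 hg x).1 hx

theorem K_stable {g : G} (hg : g ∈ normalizer (P.R : Set G)) {x : G} (hx : x ∈ P.K) :
    g * x * g⁻¹ ∈ P.K := by
  obtain ⟨v, hv, rfl⟩ := P.exists_of_mem_K hx
  set f := g * D.φ * g⁻¹ with hf
  set w := g * v * g⁻¹ with hw
  have hfR : f ∈ P.R := P.conj_mem_R hg P.φ_mem_R
  have hwR : w ∈ P.R := P.conj_mem_R hg (P.U_le_R hv)
  have e : g * (D.φ * v * D.φ⁻¹ * v⁻¹) * g⁻¹ = f * w * f⁻¹ * w⁻¹ := by rw [hf, hw]; group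
  rw [e]
  have h1 := mul_mem (mul_mem hfR hwR) (inv_mem hfR)
  refine (P.mem_K_iff (mul_mem h1 (inv_mem hwR))).2 ⟨?_, ?_⟩
  · rw [(P.add h1 (inv_mem hwR)).1, (P.add (mul_mem hfR hwR) (inv_mem hfR)).1, (P.add hfR hwR).1,
      (P.coord_inv hfR).1, (P.coord_inv hwR).1]
    ring
  · rw [(P.add h1 (inv_mem hwR)).2, (P.add (mul_mem hfR hwR) (inv_mem hfR)).2, (P.add hfR hwR).2,
      (P.coord_inv hfR).2, (P.coord_inv hwR).2]
    ring

/-- `M = U ⟨φ ^ r⟩` is cut out by `(r ^ (a - 1))`-th powers. -/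
theorem pb_eq_zero_iff {x : G} (hx : x ∈ P.R) : P.pb x = 0 ↔ x ^ (r ^ (a - 1)) ∈ P.K := by
  have ha := D.two_le
  rw [P.mem_K_iff (pow_mem hx _), (P.coord_pow hx _).1, (P.coord_pow hx _).2]
  obtain ⟨v, hv, j, i, rfl⟩ := P.exists_coord hx
  rw [P.pb_coord hv, (P.coord hv j i).2, (P.coord hv j i).1]
  have h0 : ((r ^ (a - 1) : ℕ) : ZMod r) = 0 := by
    rw [Nat.cast_pow, ZMod.natCast_self, zero_pow (by omega)]
  rw [h0, zero_mul, eq_self_iff_true, true_and, ← Int.cast_natCast (R := ZMod (r ^ a)), ← Int.cast_mul,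
    ZMod.intCast_zmod_eq_zero_iff_dvd, ZMod.intCast_zmod_eq_zero_iff_dvd]
  push_cast
  rw [show (r : ℤ) ^ a = (r : ℤ) ^ (a - 1) * r by rw [← pow_succ, Nat.sub_add_cancel (by omega)]]
  exact (mul_dvd_mul_iff_left (pow_ne_zero _ (Nat.cast_ne_zero.2 hr.out.ne_zero))).symm

theorem pb_stable {g : G} (hg : g ∈ normalizer (P.R : Set G)) {x : G} (hx : x ∈ P.R) (h : P.pb x = 0) :
    P.pb (g * x * g⁻¹) = 0 := by
  rw [P.pb_eq_zero_iff (P.conj_mem_R hg hx), conj_pow]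
  exact P.K_stable hg ((P.pb_eq_zero_iff hx).1 h)

/-- The scalar on `U ⟨φ^r⟩ / K ⟨φ^r⟩`. -/
noncomputable def s (g : G) : ZMod r := P.q (g * P.u₀ * g⁻¹)

/-- The shear. -/
noncomputable def J (g : G) : ZMod r := P.q (g * D.φ * g⁻¹)

/-- The scalar on `R / M`. -/
noncomputable def c (g : G) : ZMod r := P.pb (g * D.φ * g⁻¹)

/-- The component of `g u₀ g⁻¹` along `φ`. -/
noncomputable def b (g : G) : ZMod (r ^ a) := P.e (g * P.u₀ * g⁻¹)

/-- The component of `g φ g⁻¹` along `φ`. -/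
noncomputable def C (g : G) : ZMod (r ^ a) := P.e (g * D.φ * g⁻¹)

theorem conj_coord {g : G} (hg : g ∈ normalizer (P.R : Set G)) {v : G} (hv : v ∈ P.K) (j i : ℤ) :
    P.q (g * (v * P.u₀ ^ j * D.φ ^ i) * g⁻¹) = j * P.s g + i * P.J g ∧
      P.e (g * (v * P.u₀ ^ j * D.φ ^ i) * g⁻¹) = j * P.b g + i * P.C g := by
  have e1 : g * (v * P.u₀ ^ j * D.φ ^ i) * g⁻¹ =
      g * v * g⁻¹ * (g * P.u₀ * g⁻¹) ^ j * (g * D.φ * g⁻¹) ^ i := by
    rw [conj_zpow, conj_zpow]; group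
  have hu : g * P.u₀ * g⁻¹ ∈ P.R := P.conj_mem_R hg (P.U_le_R P.u₀_mem)
  have hf : g * D.φ * g⁻¹ ∈ P.R := P.conj_mem_R hg P.φ_mem_R
  have hk := P.K_stable hg hv
  have hkR : g * v * g⁻¹ ∈ P.R := P.U_le_R (P.K_le_U hk)
  rw [e1, (P.add (mul_mem hkR (zpow_mem hu j)) (zpow_mem hf i)).1,
    (P.add (mul_mem hkR (zpow_mem hu j)) (zpow_mem hf i)).2, (P.add hkR (zpow_mem hu j)).1,
    (P.add hkR (zpow_mem hu j)).2, (P.coord_K hk).1, (P.coord_K hk).2, (P.coord_zpow hu j).1,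
    (P.coord_zpow hu j).2, (P.coord_zpow hf i).1, (P.coord_zpow hf i).2, zero_add, zero_add]
  exact ⟨rfl, rfl⟩

theorem q_conj {g : G} (hg : g ∈ normalizer (P.R : Set G)) {x : G} (hx : x ∈ P.R) :
    P.q (g * x * g⁻¹) = P.q x * P.s g + P.pb x * P.J g := by
  obtain ⟨v, hv, j, i, rfl⟩ := P.exists_coord hx
  rw [(P.conj_coord hg hv j i).1, (P.coord hv j i).1, P.pb_coord hv]

theorem pb_u₀ : P.pb P.u₀ = 0 := by rw [pb, P.coord_u₀.2, map_zero]

theorem pb_conj {g : G} (hg : g ∈ normalizer (P.R : Set G)) {x : G} (hx : x ∈ P.R) :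
    P.pb (g * x * g⁻¹) = P.pb x * P.c g := by
  obtain ⟨v, hv, j, i, rfl⟩ := P.exists_coord hx
  have hb := P.pb_stable hg (P.U_le_R P.u₀_mem) P.pb_u₀
  rw [pb, (P.conj_coord hg hv j i).2, map_add, map_mul, map_mul, map_intCast, map_intCast, P.pb_coord hv]
  have hb' : ZMod.castHom (dvd_pow_self r (by have := D.two_le; omega : a ≠ 0)) (ZMod r) (P.b g) = 0 := hb
  rw [hb', mul_zero, zero_add]
  rfl

theorem mul_rules {g h : G} (hg : g ∈ normalizer (P.R : Set G)) (hh : h ∈ normalizer (P.R : Set G)) :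
    P.s (g * h) = P.s h * P.s g ∧ P.c (g * h) = P.c h * P.c g ∧
      P.J (g * h) = P.J h * P.s g + P.c h * P.J g := by
  have e : ∀ x : G, g * h * x * (g * h)⁻¹ = g * (h * x * h⁻¹) * g⁻¹ := fun x => by group
  have hu := P.conj_mem_R hh (P.U_le_R P.u₀_mem)
  have hf := P.conj_mem_R hh P.φ_mem_R
  refine ⟨?_, ?_, ?_⟩
  · rw [s, e, P.q_conj hg hu, P.pb_stable hh (P.U_le_R P.u₀_mem) P.pb_u₀, zero_mul, add_zero]; rfl
  · rw [c, e, P.pb_conj hg hf]; rfl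
  · rw [J, e, P.q_conj hg hf]; rfl

theorem of_commute {g : G} (hc : Commute g D.φ) : P.c g = 1 ∧ P.J g = 0 ∧ P.C g = 1 := by
  have e : g * D.φ * g⁻¹ = D.φ := by rw [hc.eq, mul_inv_cancel_right]
  rw [c, J, C, e, pb, P.coord_φ.1, P.coord_φ.2, map_one]
  exact ⟨rfl, rfl, rfl⟩

theorem of_mem {x : G} (hx : x ∈ P.R) :
    P.s x = 1 ∧ P.c x = 1 ∧ P.J x = 0 ∧ P.b x = 0 ∧ P.C x = 1 := by
  have key : ∀ y ∈ P.R, P.q (x * y * x⁻¹) = P.q y ∧ P.e (x * y * x⁻¹) = P.e y := fun y hy => by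
    rw [(P.add (mul_mem hx hy) (inv_mem hx)).1, (P.add (mul_mem hx hy) (inv_mem hx)).2,
      (P.add hx hy).1, (P.add hx hy).2, (P.coord_inv hx).1, (P.coord_inv hx).2]
    constructor <;> ring
  obtain ⟨hu1, hu2⟩ := key _ (P.U_le_R P.u₀_mem)
  obtain ⟨hf1, hf2⟩ := key _ P.φ_mem_R
  rw [s, c, J, b, C, pb, hu1, hu2, hf1, hf2, P.coord_u₀.1, P.coord_u₀.2, P.coord_φ.1, P.coord_φ.2, map_one]
  exact ⟨rfl, rfl, rfl, rfl, rfl⟩

theorem pow_rules {g : G} (hg : g ∈ normalizer (P.R : Set G)) (n : ℕ) :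
    P.s (g ^ n) = P.s g ^ n ∧ P.c (g ^ n) = P.c g ^ n := by
  induction n with
  | zero =>
    rw [pow_zero, (P.of_mem (one_mem _)).1, (P.of_mem (one_mem _)).2.1, pow_zero, pow_zero]
    exact ⟨rfl, rfl⟩
  | succ n ih =>
    rw [pow_succ, (P.mul_rules (pow_mem hg n) hg).1, (P.mul_rules (pow_mem hg n) hg).2.1, ih.1, ih.2,
      pow_succ', pow_succ']
    exact ⟨rfl, rfl⟩

theorem of_rElement {g : G} (hg : g ∈ normalizer (P.R : Set G)) {k : ℕ} (hk : g ^ (r ^ k) = 1) :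
    P.s g = 1 ∧ P.c g = 1 := by
  have h := P.pow_rules hg (r ^ k)
  rw [hk, (P.of_mem (one_mem _)).1, (P.of_mem (one_mem _)).2.1, ZMod.pow_card_pow, ZMod.pow_card_pow] at h
  exact ⟨h.1.symm, h.2.symm⟩

theorem l_mem_normalizer : P.l ∈ normalizer (P.R : Set G) := by
  refine mem_normalizer_of_conj fun x hx => ?_
  obtain ⟨v, hv, i, rfl⟩ := P.exists_prod hx
  have e : P.l * (v * D.φ ^ i) * P.l⁻¹ = P.l * v * P.l⁻¹ * (P.l * D.φ ^ i * P.l⁻¹) := by group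
  rw [e, (P.l_comm.zpow_right i).eq, mul_inv_cancel_right]
  exact mul_mem (mem_sup_left (P.l_conj v hv)) (zpow_mem P.φ_mem_R i)

theorem s_l : P.s P.l = (P.m : ZMod r) ∧ P.b P.l = 0 := by
  obtain ⟨x, hx, hl⟩ := P.l_u₀
  have h := P.coord (P.mem_K hx) (P.m : ℤ) 0
  rw [zpow_natCast, zpow_zero, mul_one, ← hl] at h
  simpa [s, b] using h

theorem m_ne_one : (P.m : ZMod r) ≠ 1 := fun h => P.m_sq (by rw [h, mul_one])

theorem mem_of_J_eq_zero {g : G} (hg : g ∈ normalizer (P.R : Set G)) (hJ : P.J g = 0) :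
    ∃ u ∈ P.U, Commute (u * g) D.φ := by
  obtain ⟨v, hv, j, i, he⟩ := P.exists_coord (P.conj_mem_R hg P.φ_mem_R)
  have hj : (j : ZMod r) = 0 := by rw [← (P.coord hv j i).1, ← he]; exact hJ
  set w := v * P.u₀ ^ j with hwdef
  have hw : w ∈ P.K := mul_mem hv (P.u₀_zpow_mem.2 hj)
  -- `i` is prime to `r`
  have hi : ¬ (r : ℤ) ∣ i := fun hdvd => by
    have hc0 : P.c g = 0 := by
      rw [Piece.c, he, P.pb_coord hv, ZMod.intCast_zmod_eq_zero_iff_dvd]; exact hdvd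
    have h1 := P.pb_conj (inv_mem hg) (P.conj_mem_R hg P.φ_mem_R)
    rw [show g⁻¹ * (g * D.φ * g⁻¹) * g⁻¹⁻¹ = D.φ by group,
      show P.pb (g * D.φ * g⁻¹) = P.c g from rfl, hc0, zero_mul, pb, P.coord_φ.2, map_one] at h1
    exact one_ne_zero h1
  -- a conjugate under `U` is a power of `φ`
  obtain ⟨x, hx, hxw⟩ : ∃ x ∈ P.U, D.φ ^ i * x * (D.φ ^ i)⁻¹ * x⁻¹ = w := by
    have hmk : ∀ x ∈ P.U, D.φ ^ i * x * (D.φ ^ i)⁻¹ * x⁻¹ ∈ P.K := fun x hx => P.conj_mod hx i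
    let d : P.U →* P.K := MonoidHom.mk' (fun x => ⟨_, hmk x x.2⟩) fun x y => Subtype.ext (by
      have hcy := P.ucomm _ (P.K_le_U (hmk y y.2)) (x : G)⁻¹ (inv_mem x.2)
      simp only [coe_mul]
      calc D.φ ^ i * ((x : G) * y) * (D.φ ^ i)⁻¹ * ((x : G) * y)⁻¹
          = D.φ ^ i * x * (D.φ ^ i)⁻¹ * ((D.φ ^ i * y * (D.φ ^ i)⁻¹ * (y : G)⁻¹) * (x : G)⁻¹) := by group
        _ = _ := by rw [hcy]; group)
    have hker : d.ker ≤ zpowers (⟨D.z, P.z_mem⟩ : P.U) := fun x hxk => by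
      have h1 : D.φ ^ i * x * (D.φ ^ i)⁻¹ * (x : G)⁻¹ = 1 := congrArg Subtype.val hxk
      rw [mul_inv_eq_one, mul_inv_eq_iff_eq_mul] at h1
      obtain ⟨c, f, hcf⟩ : IsCoprime i ((r : ℤ) ^ a) :=
        (((Nat.prime_iff_prime_int.1 hr.out).coprime_iff_not_dvd).2 hi).symm.pow_right
      have hφ : D.φ = (D.φ ^ i) ^ c := by
        have h3 : D.φ ^ ((r : ℤ) ^ a) = 1 := by rw [← Nat.cast_pow, zpow_natCast, φ_pow]
        conv_lhs => rw [← zpow_one D.φ, ← hcf, zpow_add, mul_comm c i, zpow_mul, mul_comm f,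
          zpow_mul D.φ ((r : ℤ) ^ a), h3, one_zpow, mul_one]
      obtain ⟨k, hk⟩ := P.eq_zpow_of_commute x.2 (hφ ▸ Commute.zpow_right (Commute.symm h1) c)
      exact ⟨k, Subtype.ext (by simpa using hk)⟩
    have hcard : Nat.card P.U = Nat.card P.K * r := by
      have := (P.K.subgroupOf P.U).card_mul_index
      rw [show (P.K.subgroupOf P.U).index = r from P.relIndex_K,
        Nat.card_congr (subgroupOfEquivOfLe P.K_le_U).toEquiv] at this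
      exact this.symm
    have hsurj : Function.Surjective d := by
      rw [← MonoidHom.range_eq_top]
      refine eq_top_of_le_card _ ?_
      have h2 := d.ker.card_mul_index
      rw [index_ker, hcard] at h2
      have h3 := card_le_of_le hker
      rw [Nat.card_zpowers, P.orderOf_zU] at h3
      by_contra hlt
      push Not at hlt
      have : Nat.card d.ker * Nat.card d.range < r * Nat.card P.K :=
        Nat.mul_lt_mul_of_le_of_lt h3 hlt hr.out.pos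
      rw [h2, mul_comm] at this
      exact lt_irrefl _ this
    obtain ⟨x, hx⟩ := hsurj ⟨w, hw⟩
    exact ⟨x, x.2, congrArg Subtype.val hx⟩
  refine ⟨x, hx, ?_⟩
  have he' : g * D.φ * g⁻¹ = w * D.φ ^ i := he
  have e1 : x * g * D.φ * (x * g)⁻¹ = D.φ ^ i := by
    calc x * g * D.φ * (x * g)⁻¹ = x * (g * D.φ * g⁻¹) * x⁻¹ := by group
      _ = x * w * (D.φ ^ i * x⁻¹) := by rw [he']; group
      _ = w * x * (D.φ ^ i * x⁻¹) := by rw [P.ucomm x hx w (P.K_le_U hw)]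
      _ = D.φ ^ i := by
        have h4 : w * x * D.φ ^ i = D.φ ^ i * x := by rw [← hxw]; group
        rw [show w * x * (D.φ ^ i * x⁻¹) = w * x * D.φ ^ i * x⁻¹ by group, h4, mul_inv_cancel_right]
  have h5 := D.norm (x * g) 1 (by rw [pow_one, e1]; exact zpow_mem (mem_zpowers _) i)
  rw [pow_one] at h5
  exact mul_inv_eq_iff_eq_mul.1 h5

end Piece

end CfsgLib.Walter.Twist.RankOneHigh
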