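import Cfsg.Agent.Lib.Walter.Twist.RankOneHigh

/-!
Walter, `FieldFree`, piece R, `a ≥ 2`: a piece `R = U ⟨φ⟩` that is not a Sylow subgroup extends.
-/

set_option autoImplicit false
set_option linter.unusedSectionVars false

namespace CfsgLib.Walter.Twist.RankOneHigh

open Subgroup

universe u

variable {G : Type u} [Group G] [Finite G] {r a : ℕ} [hr : Fact r.Prime] {D : Data G r a}

/-- Every element is a product of commuting powers of itself of order prime to `r` and of `r`-power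
order. -/
theorem exists_parts (g : G) :
    ∃ g₁ ∈ zpowers g, ∃ g₂ ∈ zpowers g, g = g₁ * g₂ ∧ (orderOf g₁).Coprime r ∧ ∃ k, g₂ ^ (r ^ k) = 1 := by
  obtain ⟨k, n, hn, he⟩ := Nat.exists_eq_pow_mul_and_not_dvd (orderOf_pos g).ne' r hr.out.ne_one
  obtain ⟨x, y, hxy⟩ : IsCoprime ((r ^ k : ℕ) : ℤ) (n : ℤ) :=
    Nat.Coprime.isCoprime (Nat.Coprime.pow_left k ((hr.out.coprime_iff_not_dvd).2 hn))
  refine ⟨g ^ (x * ((r ^ k : ℕ) : ℤ)), zpow_mem (mem_zpowers g) _, g ^ (y * (n : ℤ)),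
    zpow_mem (mem_zpowers g) _, by rw [← zpow_add, hxy, zpow_one], ?_, k, ?_⟩
  · refine Nat.Coprime.coprime_dvd_left (orderOf_dvd_of_pow_eq_one ?_)
      ((hr.out.coprime_iff_not_dvd).2 hn).symm
    rw [← zpow_natCast, ← zpow_mul, mul_assoc, mul_comm x, zpow_mul, ← Nat.cast_mul, zpow_natCast,
      ← he, pow_orderOf_eq_one, one_zpow]
  · rw [← zpow_natCast, ← zpow_mul, mul_assoc, mul_comm y, zpow_mul, ← Nat.cast_mul, zpow_natCast,
      mul_comm n, ← he, pow_orderOf_eq_one, one_zpow]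

theorem kill {x : ZMod (r ^ a)} (hx : (r : ZMod (r ^ a)) * x = 0) {k : ℤ} (hk : (k : ZMod r) ≠ 0)
    (h : (k : ZMod (r ^ a)) * x = 0) : x = 0 := by
  rw [Ne, ZMod.intCast_zmod_eq_zero_iff_dvd] at hk
  obtain ⟨c, e, hce⟩ : IsCoprime k (r : ℤ) :=
    (((Nat.prime_iff_prime_int.1 hr.out).coprime_iff_not_dvd).2 hk).symm
  have h1 : ((c * k + e * (r : ℤ) : ℤ) : ZMod (r ^ a)) * x = 0 := by
    push_cast
    rw [add_mul, mul_assoc, h, mul_assoc, hx, mul_zero, mul_zero, add_zero]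
  rw [hce, Int.cast_one, one_mul] at h1
  exact h1

theorem mul_congr {x : ZMod (r ^ a)} (hx : (r : ZMod (r ^ a)) * x = 0) {j k : ℤ}
    (h : (j : ZMod r) = k) : (j : ZMod (r ^ a)) * x = (k : ZMod (r ^ a)) * x := by
  rw [ZMod.intCast_eq_intCast_iff_dvd_sub] at h
  obtain ⟨t, ht⟩ := h
  rw [show k = j + (r : ℤ) * t by omega]
  push_cast
  rw [add_mul, mul_assoc, mul_comm (t : ZMod (r ^ a)), ← mul_assoc, hx, zero_mul, add_zero]

namespace Piece

variable (P : Piece D)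

theorem b_torsion {g : G} (hg : g ∈ normalizer (P.R : Set G)) : (r : ZMod (r ^ a)) * P.b g = 0 := by
  have h := (P.conj_coord hg (one_mem P.K) (r : ℤ) 0).2
  have h0 : P.e (g * (1 * P.u₀ ^ (r : ℤ) * D.φ ^ (0 : ℤ)) * g⁻¹) = 0 := by
    rw [zpow_natCast, zpow_zero, one_mul, mul_one]
    exact (P.coord_K (P.K_stable hg P.u₀_pow_mem)).2
  rw [h0] at h
  simpa using h.symm

/-- The coordinate rules for a product. -/
theorem bC_mul {g h : G} (hg : g ∈ normalizer (P.R : Set G)) (hh : h ∈ normalizer (P.R : Set G)) :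
    (∀ j : ℤ, (j : ZMod r) = P.s h → P.b (g * h) = j * P.b g + P.b h * P.C g) ∧
      (∀ j : ℤ, (j : ZMod r) = P.J h → P.C (g * h) = j * P.b g + P.C h * P.C g) := by
  have e : ∀ x : G, g * h * x * (g * h)⁻¹ = g * (h * x * h⁻¹) * g⁻¹ := fun x => by group
  constructor <;> intro j hj
  · obtain ⟨v, hv, k, i, he⟩ := P.exists_coord (P.conj_mem_R hh (P.U_le_R P.u₀_mem))
    rw [b, e, he, (P.conj_coord hg hv k i).2, show P.b h = (i : ZMod (r ^ a)) by
      rw [b, he, (P.coord hv k i).2]]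
    rw [mul_congr (P.b_torsion hg) (show (k : ZMod r) = j by rw [hj, s, he, (P.coord hv k i).1])]
  · obtain ⟨v, hv, k, i, he⟩ := P.exists_coord (P.conj_mem_R hh P.φ_mem_R)
    rw [C, e, he, (P.conj_coord hg hv k i).2, show P.C h = (i : ZMod (r ^ a)) by
      rw [C, he, (P.coord hv k i).2]]
    rw [mul_congr (P.b_torsion hg) (show (k : ZMod r) = j by rw [hj, J, he, (P.coord hv k i).1])]

theorem mul_C_eq {g : G} (hc : P.c g = 1) {x : ZMod (r ^ a)} (hx : (r : ZMod (r ^ a)) * x = 0) :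
    x * P.C g = x := by
  obtain ⟨n, hn⟩ := ZMod.intCast_surjective (P.C g)
  have h1 : (n : ZMod r) = ((1 : ℤ) : ZMod r) := by
    rw [Int.cast_one, ← hc, Piece.c, pb, show P.e (g * D.φ * g⁻¹) = P.C g from rfl, ← hn, map_intCast]
  rw [← hn, mul_comm, mul_congr hx h1, Int.cast_one, one_mul]

/-- An `r`-element normalising `R` that commutes with `φ` lies in `R`. -/
theorem mem_R_of_rElement {g : G} (hg : g ∈ normalizer (P.R : Set G)) (hc : Commute g D.φ) {k : ℕ}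
    (hk : g ^ (r ^ k) = 1) : g ∈ P.R := by
  have hT : IsPGroup r (P.R ⊔ zpowers g : Subgroup G) := P.isPGroup_R.to_sup_of_normal_left'
    (isPGroup_zpowers (orderOf_dvd_of_pow_eq_one hk)) (zpowers_le.2 hg)
  have h := mem_of_commute hT (mem_sup_left P.φ_mem_R) (mem_sup_left (P.U_le_R P.z_mem))
    (mem_sup_right (mem_zpowers g)) hc
  exact (sup_le (zpowers_le.2 P.φ_mem_R) (zpowers_le.2 (P.U_le_R P.z_mem))) h

theorem conj_mem_U_of_b {g : G} (hg : g ∈ normalizer (P.R : Set G)) (hb : P.b g = 0) {x : G}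
    (hx : x ∈ P.U) : g * x * g⁻¹ ∈ P.U := by
  rw [P.mem_U_iff (P.conj_mem_R hg (P.U_le_R hx))]
  obtain ⟨v, hv, j, hxe⟩ := P.exists_pow hx
  have h := (P.conj_coord hg hv j 0).2
  rw [zpow_zero, mul_one, ← hxe, hb, mul_zero, Int.cast_zero, zero_mul, add_zero] at h
  exact h

/-- Everything normalising `R` and centralising `φ` normalises `U`. -/
theorem b_eq_zero {d : G} (hd : d ∈ normalizer (P.R : Set G)) (hdφ : Commute d D.φ) : P.b d = 0 := by
  have hl := P.l_mem_normalizer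
  set h := d * P.l * d⁻¹ * P.l⁻¹ with hh
  have hhN : h ∈ normalizer (P.R : Set G) := mul_mem (mul_mem (mul_mem hd hl) (inv_mem hd)) (inv_mem hl)
  have hhφ : Commute h D.φ := ((hdφ.mul_left P.l_comm).mul_left hdφ.inv_left).mul_left P.l_comm.inv_left
  have hsd : P.s h = 1 := by
    have e : h * (P.l * d) = d * P.l := by rw [hh]; group
    have h1 := (P.mul_rules hhN (mul_mem hl hd)).1
    rw [e, (P.mul_rules hd hl).1, (P.mul_rules hl hd).1, P.s_l.1] at h1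
    have hne : P.s d * (P.m : ZMod r) ≠ 0 := by
      intro h0
      rcases mul_eq_zero.1 h0 with h0 | h0
      · have h2 := (P.mul_rules hd (inv_mem hd)).1
        rw [mul_inv_cancel, (P.of_mem (one_mem _)).1, h0, mul_zero] at h2
        exact one_ne_zero h2
      · have h2 := (P.mul_rules hl (inv_mem hl)).1
        rw [mul_inv_cancel, (P.of_mem (one_mem _)).1, P.s_l.1, h0, mul_zero] at h2
        exact one_ne_zero h2
    exact (mul_right_eq_self₀.1 (by rw [mul_comm (P.m : ZMod r)] at h1; exact h1.symm)).resolve_right hne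
  -- powers of `h`
  have hpow : ∀ n : ℕ, P.b (h ^ n) = n * P.b h ∧ P.s (h ^ n) = 1 := by
    intro n
    induction n with
    | zero =>
      rw [pow_zero, (P.of_mem (one_mem _)).2.2.2.1, (P.of_mem (one_mem _)).1]
      simp
    | succ n ih =>
      rw [pow_succ]
      refine ⟨?_, by rw [(P.mul_rules (pow_mem hhN n) hhN).1, hsd, ih.2, mul_one]⟩
      rw [(P.bC_mul (pow_mem hhN n) hhN).1 1 (by rw [hsd, Int.cast_one]), ih.1,
        (P.of_commute (hhφ.pow_left n)).2.2]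
      push_cast
      ring
  have hbh : P.b h = 0 := by
    obtain ⟨k, n, hn, he⟩ := Nat.exists_eq_pow_mul_and_not_dvd (orderOf_pos h).ne' r hr.out.ne_one
    have hmem := P.mem_R_of_rElement (pow_mem hhN n) (hhφ.pow_left n) (k := k)
      (by rw [← pow_mul, mul_comm, ← he, pow_orderOf_eq_one])
    refine kill (P.b_torsion hhN) (k := (n : ℤ)) ?_ ?_
    · rw [Int.cast_natCast, Ne, ZMod.natCast_eq_zero_iff]
      exact hn
    · rw [Int.cast_natCast, ← (hpow n).1, (P.of_mem hmem).2.2.2.1]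
  have e : h * (P.l * d) = d * P.l := by rw [hh]; group
  obtain ⟨sd, hsd'⟩ := ZMod.intCast_surjective (P.s d)
  obtain ⟨sld, hsld⟩ := ZMod.intCast_surjective (P.s (P.l * d))
  have h1 := (P.bC_mul hd hl).1 (P.m : ℤ) (by rw [Int.cast_natCast, P.s_l.1])
  have h2 := (P.bC_mul hhN (mul_mem hl hd)).1 sld hsld
  have h3 := (P.bC_mul hl hd).1 sd hsd'
  rw [e, h1, hbh, h3, P.s_l.2, (P.of_commute hhφ).2.2, (P.of_commute P.l_comm).2.2] at h2
  simp only [mul_zero, zero_mul, zero_add, mul_one, add_zero] at h2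
  refine kill (P.b_torsion hd) (k := (P.m : ℤ) - 1) ?_ ?_
  · push_cast
    exact sub_ne_zero.2 P.m_ne_one
  · push_cast
    rw [sub_mul, one_mul, sub_eq_zero]
    exact_mod_cast h2

/-- A piece with another element of order prime to `r` in place of `l`. -/
def withL (d : G) (hd : d ∈ normalizer (P.R : Set G)) (hdφ : Commute d D.φ)
    (hco : (orderOf d).Coprime r) (hs : P.s d = (P.m : ZMod r)) : Piece D :=
  { P with
    l := d
    l_coprime := hco
    l_comm := hdφ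
    l_conj := fun x hx => P.conj_mem_U_of_b hd (P.b_eq_zero hd hdφ) hx
    l_u₀ := by
      have hmem := P.conj_mem_U_of_b hd (P.b_eq_zero hd hdφ) P.u₀_mem
      obtain ⟨v, hv, j, he⟩ := P.exists_pow hmem
      have hj : (j : ZMod r) = (P.m : ℕ) := by
        rw [← hs, s, he]
        simpa using ((P.coord hv j 0).1).symm
      have h1 : P.u₀ ^ (j - (P.m : ℤ)) ∈ P.K := by
        rw [P.u₀_zpow_mem, Int.cast_sub, hj, Int.cast_natCast, sub_self]
      obtain ⟨x, hx, hxe⟩ := P.exists_of_mem_K (mul_mem hv h1)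
      refine ⟨x, hx, ?_⟩
      rw [← hxe, he, mul_assoc, ← zpow_natCast, ← zpow_add, sub_add_cancel] }

theorem withL_R {d : G} (hd : d ∈ normalizer (P.R : Set G)) (hdφ : Commute d D.φ)
    (hco : (orderOf d).Coprime r) (hs : P.s d = (P.m : ZMod r)) : (P.withL d hd hdφ hco hs).R = P.R := rfl

section Extend

variable (T : Subgroup G) (hT : IsPGroup r T) (hTN : T ≤ normalizer (P.R : Set G)) (hRT : P.R ≤ T)
include hT hTN

theorem T_sc {g : G} (hg : g ∈ T) : P.s g = 1 ∧ P.c g = 1 := by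
  obtain ⟨k, hk⟩ := hT ⟨g, hg⟩
  exact P.of_rElement (hTN hg) (congrArg Subtype.val hk)

include hRT

theorem T_mem {g : G} (hg : g ∈ T) (hJ : P.J g = 0) : g ∈ P.R := by
  obtain ⟨u, hu, hc⟩ := P.mem_of_J_eq_zero (hTN hg) hJ
  have h := mem_of_commute hT (hRT P.φ_mem_R) (hRT (P.U_le_R P.z_mem))
    (mul_mem (hRT (P.U_le_R hu)) hg) hc
  exact (mul_mem_cancel_left (P.U_le_R hu)).1
    ((sup_le (zpowers_le.2 P.φ_mem_R) (zpowers_le.2 (P.U_le_R P.z_mem))) h)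

theorem T_J {g h : G} (hg : g ∈ T) (hh : h ∈ T) : P.J (g * h) = P.J g + P.J h := by
  rw [(P.mul_rules (hTN hg) (hTN hh)).2.2, (P.T_sc T hT hTN hg).1, (P.T_sc T hT hTN hh).2]
  ring

theorem T_J_pow {g : G} (hg : g ∈ T) (n : ℕ) : P.J (g ^ n) = n * P.J g := by
  induction n with
  | zero => rw [pow_zero, (P.of_mem (one_mem _)).2.2.1]; simp
  | succ n ih => rw [pow_succ, P.T_J T hT hTN hRT (pow_mem hg n) hg, ih]; push_cast; ring

theorem T_b {g h : G} (hg : g ∈ T) (hh : h ∈ T) : P.b (g * h) = P.b g + P.b h := by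
  rw [(P.bC_mul (hTN hg) (hTN hh)).1 1 (by rw [(P.T_sc T hT hTN hh).1, Int.cast_one]), Int.cast_one,
    one_mul, P.mul_C_eq (P.T_sc T hT hTN hg).2 (P.b_torsion (hTN hh))]

theorem T_b_pow {g : G} (hg : g ∈ T) (n : ℕ) : P.b (g ^ n) = n * P.b g := by
  induction n with
  | zero => rw [pow_zero, (P.of_mem (one_mem _)).2.2.2.1]; simp
  | succ n ih => rw [pow_succ, P.T_b T hT hTN hRT (pow_mem hg n) hg, ih]; push_cast; ring

/-- Coordinates of `l g l⁻¹`. -/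
theorem T_l_conj (hlT : ∀ g ∈ T, P.l * g * P.l⁻¹ ∈ T) {g : G} (hg : g ∈ T) :
    P.J (P.l * g * P.l⁻¹) = P.m * P.J g ∧ (P.m : ZMod (r ^ a)) * P.b (P.l * g * P.l⁻¹) = P.b g := by
  have hl := P.l_mem_normalizer
  have hy := hlT g hg
  have e : P.l * g * P.l⁻¹ * P.l = P.l * g := inv_mul_cancel_right _ _
  obtain ⟨hlc, hlJ, hlC⟩ := P.of_commute P.l_comm
  refine ⟨?_, ?_⟩
  · have h := (P.mul_rules (hTN hy) hl).2.2
    rw [e, (P.mul_rules hl (hTN hg)).2.2, hlJ, P.s_l.1, hlc] at h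
    simp only [mul_zero, add_zero, zero_mul, one_mul, zero_add] at h
    rw [← h, mul_comm]
  · have h := (P.bC_mul (hTN hy) hl).1 (P.m : ℤ) (by rw [Int.cast_natCast, P.s_l.1])
    rw [e, (P.bC_mul hl (hTN hg)).1 1 (by rw [(P.T_sc T hT hTN hg).1, Int.cast_one]), P.s_l.2, hlC] at h
    simp only [mul_zero, add_zero, zero_mul, mul_one, zero_add] at h
    rw [h, Int.cast_natCast]

/-- In `T`, the element `l g l⁻¹` is `g ^ m` up to `R`. -/
theorem T_quot (hlT : ∀ g ∈ T, P.l * g * P.l⁻¹ ∈ T) {g : G} (hg : g ∈ T) :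
    ∃ t ∈ P.R, P.l * g * P.l⁻¹ = g ^ P.m * t := by
  have hy := hlT g hg
  have ht : (g ^ P.m)⁻¹ * (P.l * g * P.l⁻¹) ∈ T := mul_mem (inv_mem (pow_mem hg _)) hy
  refine ⟨_, P.T_mem T hT hTN hRT ht ?_, (mul_inv_cancel_left _ _).symm⟩
  have h := P.T_J T hT hTN hRT (pow_mem hg P.m) ht
  rw [mul_inv_cancel_left, P.T_J_pow T hT hTN hRT hg, (P.T_l_conj T hT hTN hRT hlT hg).1] at h
  exact left_eq_add.1 h

theorem T_b_zero (hlT : ∀ g ∈ T, P.l * g * P.l⁻¹ ∈ T) {g : G} (hg : g ∈ T) : P.b g = 0 := by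
  obtain ⟨t, ht, he⟩ := P.T_quot T hT hTN hRT hlT hg
  have h := (P.T_l_conj T hT hTN hRT hlT hg).2
  rw [he, P.T_b T hT hTN hRT (pow_mem hg _) (hRT ht), (P.of_mem ht).2.2.2.1, add_zero,
    P.T_b_pow T hT hTN hRT hg] at h
  refine kill (P.b_torsion (hTN hg)) (k := (P.m : ℤ) * P.m - 1) ?_ ?_
  · push_cast
    exact sub_ne_zero.2 P.m_sq
  · push_cast
    rw [sub_mul, one_mul, sub_eq_zero, mul_assoc, h]

theorem T_C (hlT : ∀ g ∈ T, P.l * g * P.l⁻¹ ∈ T) {g : G} (hg : g ∈ T) : P.C g = 1 := by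
  have hmul : ∀ {x y : G}, x ∈ T → y ∈ T → P.C (x * y) = P.C x * P.C y := fun {x y} hx hy => by
    obtain ⟨j, hj⟩ := ZMod.intCast_surjective (P.J y)
    rw [(P.bC_mul (hTN hx) (hTN hy)).2 j hj, P.T_b_zero T hT hTN hRT hlT hx, mul_zero, zero_add, mul_comm]
  have hpow : ∀ n : ℕ, P.C (g ^ n) = P.C g ^ n := by
    intro n
    induction n with
    | zero => rw [pow_zero, pow_zero, (P.of_mem (one_mem _)).2.2.2.2]
    | succ n ih => rw [pow_succ, hmul (pow_mem hg n) hg, ih, pow_succ]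
  have hr1 : P.C g ^ r = 1 := by
    rw [← hpow]
    refine (P.of_mem (P.T_mem T hT hTN hRT (pow_mem hg r) ?_)).2.2.2.2
    rw [P.T_J_pow T hT hTN hRT hg, ZMod.natCast_self, zero_mul]
  have hl := P.l_mem_normalizer
  have hy := hlT g hg
  have e : P.l * g * P.l⁻¹ * P.l = P.l * g := inv_mul_cancel_right _ _
  obtain ⟨hlc, hlJ, hlC⟩ := P.of_commute P.l_comm
  have hC : P.C (P.l * g * P.l⁻¹) = P.C g := by
    obtain ⟨j, hj⟩ := ZMod.intCast_surjective (P.J g)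
    have h := (P.bC_mul (hTN hy) hl).2 0 (by rw [hlJ, Int.cast_zero])
    rw [e, (P.bC_mul hl (hTN hg)).2 j hj, P.s_l.2, hlC] at h
    simp only [mul_zero, zero_add, mul_one, Int.cast_zero, zero_mul, one_mul] at h
    exact h.symm
  obtain ⟨t, ht, he⟩ := P.T_quot T hT hTN hRT hlT hg
  rw [he, hmul (pow_mem hg _) (hRT ht), (P.of_mem ht).2.2.2.2, mul_one, hpow] at hC
  have hm1 : (P.m : ZMod r) ≠ 1 := P.m_ne_one
  rw [← Nat.mod_add_div P.m r, pow_add, pow_mul, hr1, one_pow, mul_one] at hC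
  rcases Nat.eq_zero_or_pos (P.m % r) with h0 | h0
  · rw [h0, pow_zero] at hC; exact hC.symm
  have hlt : P.m % r < r := Nat.mod_lt _ hr.out.pos
  have h2 : P.C g ^ (P.m % r - 1) = 1 := by
    calc P.C g ^ (P.m % r - 1) = P.C g ^ (P.m % r - 1) * P.C g ^ r := by rw [hr1, mul_one]
      _ = P.C g ^ (P.m % r) * P.C g ^ (r - 1) := by rw [← pow_add, ← pow_add]; congr 1; omega
      _ = 1 := by rw [hC, ← pow_succ', Nat.sub_add_cancel hr.out.one_le, hr1]
  have hne : P.m % r - 1 ≠ 0 := fun h => hm1 (by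
    rw [← ZMod.natCast_mod, show P.m % r = 1 by omega, Nat.cast_one])
  have hg1 : Nat.gcd (P.m % r - 1) r = 1 :=
    Nat.coprime_comm.1 ((hr.out.coprime_iff_not_dvd).2 fun h => hne (Nat.eq_zero_of_dvd_of_lt h (by omega)))
  have := (pow_gcd_eq_one (a := P.C g)).2 ⟨h2, hr1⟩
  rwa [hg1, pow_one] at this

/-- The extension step. -/
theorem exists_extend (hlT : ∀ g ∈ T, P.l * g * P.l⁻¹ ∈ T) (hne : ¬ T ≤ P.R) :
    ∃ P' : Piece D, Nat.card P.R < Nat.card P'.R := by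
  classical
  have hl := P.l_mem_normalizer
  have hTU : T ≤ normalizer (P.U : Set G) := fun g hg => mem_normalizer_of_conj fun x hx =>
    P.conj_mem_U_of_b (hTN hg) (P.T_b_zero T hT hTN hRT hlT hg) hx
  have hUT : P.U ≤ T := P.U_le_R.trans hRT
  haveI : (P.U.subgroupOf T).Normal := normal_subgroupOf_of_le_normalizer hTU
  set π := QuotientGroup.mk' (P.U.subgroupOf T) with hπ
  have hπ1 : ∀ x : T, π x = 1 ↔ (x : G) ∈ P.U := fun x => by
    rw [hπ, QuotientGroup.mk'_apply, QuotientGroup.eq_one_iff, mem_subgroupOf]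
  set φT : T := ⟨D.φ, hRT P.φ_mem_R⟩ with hφT
  -- `T / U` is abelian
  have hcφ : ∀ g : T, Commute (π g) (π φT) := fun g => by
    have hU : (g : G) * D.φ * (g : G)⁻¹ * D.φ⁻¹ ∈ P.U := by
      have hR := P.conj_mem_R (hTN g.2) P.φ_mem_R
      rw [P.mem_U_iff (mul_mem hR (inv_mem P.φ_mem_R)), (P.add hR (inv_mem P.φ_mem_R)).2,
        (P.coord_inv P.φ_mem_R).2, P.coord_φ.2, show P.e ((g : G) * D.φ * (g : G)⁻¹) = P.C g from rfl,
        P.T_C T hT hTN hRT hlT g.2, add_neg_cancel]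
    have := (hπ1 (g * φT * g⁻¹ * φT⁻¹)).2 hU
    rw [map_mul, map_mul, map_mul, map_inv, map_inv, mul_inv_eq_one, mul_inv_eq_iff_eq_mul] at this
    exact this
  obtain ⟨y, hyT, hyR⟩ := SetLike.not_le_iff_exists.1 hne
  have hJy : P.J y ≠ 0 := fun h => hyR (P.T_mem T hT hTN hRT hyT h)
  set yT : T := ⟨y, hyT⟩ with hyT'
  have hRform : ∀ x ∈ P.R, ∃ i : ℤ, ∀ hx : x ∈ T, π ⟨x, hx⟩ = π φT ^ i := by
    intro x hx
    obtain ⟨v, hv, i, rfl⟩ := P.exists_prod hx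
    refine ⟨i, fun h => ?_⟩
    have e : (⟨v * D.φ ^ i, h⟩ : T) = ⟨v, hUT hv⟩ * φT ^ i := Subtype.ext (by simp [hφT])
    rw [e, map_mul, map_zpow, (hπ1 ⟨v, hUT hv⟩).2 hv, one_mul]
  have hform : ∀ {w : G} (hw : w ∈ T), P.J w ≠ 0 → ∀ g : T, ∃ k : ℕ, ∃ t ∈ P.R, (g : G) = w ^ k * t := by
    intro w hw hJw g
    refine ⟨((P.J (g : G)) / P.J w).val, _, ?_, (mul_inv_cancel_left _ _).symm⟩
    set k := ((P.J (g : G)) / P.J w).val
    have ht : (w ^ k)⁻¹ * (g : G) ∈ T := mul_mem (inv_mem (pow_mem hw _)) g.2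
    refine P.T_mem T hT hTN hRT ht ?_
    have h := P.T_J T hT hTN hRT (pow_mem hw k) ht
    rw [mul_inv_cancel_left, P.T_J_pow T hT hTN hRT hw, ZMod.natCast_zmod_val, div_mul_cancel₀ _ hJw] at h
    exact left_eq_add.1 h
  have hab : ∀ g h : T, π g * π h = π h * π g := by
    have hf : ∀ g : T, ∃ (k : ℕ) (i : ℤ), π g = π yT ^ k * π φT ^ i := fun g => by
      obtain ⟨k, t, ht, he⟩ := hform hyT hJy g
      obtain ⟨i, hi⟩ := hRform t ht
      refine ⟨k, i, ?_⟩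
      have e : g = yT ^ k * ⟨t, hRT ht⟩ := Subtype.ext (by simpa [hyT'] using he)
      rw [e, map_mul, map_pow, hi]
    intro g h
    obtain ⟨k, i, hg⟩ := hf g
    obtain ⟨n, j, hh⟩ := hf h
    rw [hg, hh]
    have c1 : Commute (π yT ^ k) (π φT ^ j) := ((hcφ yT).pow_left k).zpow_right j
    have c2 : Commute (π φT ^ i) (π yT ^ n) := (((hcφ yT).pow_left n).zpow_right i).symm
    exact ((Commute.pow_pow (Commute.refl _) k n).mul_right c1).mul_left
      (c2.mul_right (Commute.zpow_zpow (Commute.refl _) i j))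
  -- the map `g ↦ l g l⁻¹ g⁻¹` modulo `U`
  let cl : T →* T := MonoidHom.mk' (fun g => ⟨P.l * g * P.l⁻¹, hlT g g.2⟩)
    (fun g h => Subtype.ext (by simp [mul_assoc]))
  let δ : T →* T ⧸ P.U.subgroupOf T := MonoidHom.mk' (fun g => π (cl g) * (π g)⁻¹) fun g h => by
    rw [map_mul, map_mul, map_mul, mul_inv_rev]
    have h1 : π (cl h) * ((π h)⁻¹ * (π g)⁻¹) = (π g)⁻¹ * (π (cl h) * (π h)⁻¹) := by
      rw [← mul_assoc, ← map_inv, ← map_inv, ← map_mul, hab]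
    calc π (cl g) * π (cl h) * ((π h)⁻¹ * (π g)⁻¹) = π (cl g) * (π (cl h) * ((π h)⁻¹ * (π g)⁻¹)) := by group
      _ = π (cl g) * ((π g)⁻¹ * (π (cl h) * (π h)⁻¹)) := by rw [h1]
      _ = _ := by group
  have hδR : ∀ x (hx : x ∈ P.R), δ ⟨x, hRT hx⟩ = 1 := by
    intro x hx
    show π _ * (π _)⁻¹ = 1
    rw [← map_inv, ← map_mul, hπ1]
    show P.l * x * P.l⁻¹ * x⁻¹ ∈ P.U
    have hR := P.conj_mem_R hl hx
    rw [P.mem_U_iff (mul_mem hR (inv_mem hx)), (P.add hR (inv_mem hx)).2, (P.coord_inv hx).2]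
    obtain ⟨v, hv, j, i, rfl⟩ := P.exists_coord hx
    rw [(P.conj_coord hl hv j i).2, (P.coord hv j i).2, P.s_l.2, (P.of_commute P.l_comm).2.2]
    ring
  -- the new generator
  set w := P.l * y * P.l⁻¹ * y⁻¹ with hwdef
  have hly := hlT y hyT
  have hwT : w ∈ T := mul_mem hly (inv_mem hyT)
  set wT : T := ⟨w, hwT⟩ with hwT'
  have hwδ : π wT = δ yT := by
    show π wT = π (cl yT) * (π yT)⁻¹
    rw [← map_inv, ← map_mul]; rfl
  have hJw : P.J w ≠ 0 := by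
    have h := P.T_J T hT hTN hRT hwT hyT
    rw [hwdef, inv_mul_cancel_right, (P.T_l_conj T hT hTN hRT hlT hyT).1] at h
    intro h0
    rw [hwdef] at h0
    rw [h0, zero_add] at h
    exact P.m_ne_one ((mul_eq_right₀ hJy).1 h)
  have hw_r : w ^ r ∈ P.U := by
    have h1 : π (wT ^ r) = 1 := by
      rw [map_pow, hwδ, ← map_pow]
      have e : yT ^ r = ⟨y ^ r, hRT (P.T_mem T hT hTN hRT (pow_mem hyT r) (by
          rw [P.T_J_pow T hT hTN hRT hyT, ZMod.natCast_self, zero_mul]))⟩ := Subtype.ext rfl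
      rw [e]
      exact hδR _ (P.T_mem T hT hTN hRT (pow_mem hyT r) (by
        rw [P.T_J_pow T hT hTN hRT hyT, ZMod.natCast_self, zero_mul]))
    exact (hπ1 _).1 h1
  have hlw : π (cl wT) = π wT ^ P.m := by
    obtain ⟨t, ht, he⟩ := P.T_quot T hT hTN hRT hlT hyT
    have e1 : cl wT = cl (cl yT) * (cl yT)⁻¹ := Subtype.ext (by
      show P.l * (P.l * y * P.l⁻¹ * y⁻¹) * P.l⁻¹ = P.l * (P.l * y * P.l⁻¹) * P.l⁻¹ * (P.l * y * P.l⁻¹)⁻¹
      group)
    have e2 : cl yT = yT ^ P.m * ⟨t, hRT ht⟩ := Subtype.ext (by simpa [cl, hyT'] using he)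
    calc π (cl wT) = π (cl (cl yT)) * (π (cl yT))⁻¹ := by rw [e1, map_mul, map_inv]
      _ = δ (cl yT) := rfl
      _ = δ yT ^ P.m := by rw [e2, map_mul, map_pow, hδR t ht, mul_one]
      _ = _ := by rw [hwδ]
  -- the new abelian part
  set U₁ := P.U ⊔ zpowers w with hU₁
  have hU₁T : U₁ ≤ T := sup_le hUT (zpowers_le.2 hwT)
  have hU₁form : ∀ x ∈ U₁, ∃ v ∈ P.U, ∃ k : ℕ, x = v * w ^ k := by
    intro x hx
    have h : x ∈ ((P.U ⊔ zpowers w : Subgroup G) : Set G) := hx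
    rw [coe_mul_of_right_le_normalizer_left P.U (zpowers w) (zpowers_le.2 (hTU hwT))] at h
    obtain ⟨v, hv, p, hp, rfl⟩ := h
    obtain ⟨k, rfl⟩ := (mem_powers_iff_mem_zpowers (x := w)).2 hp
    exact ⟨v, hv, k, rfl⟩
  have hπU₁ : ∀ x (hx : x ∈ U₁), ∃ k : ℕ, π ⟨x, hU₁T hx⟩ = π wT ^ k := by
    intro x hx
    obtain ⟨v, hv, k, rfl⟩ := hU₁form x hx
    refine ⟨k, ?_⟩
    have e : (⟨v * w ^ k, hU₁T hx⟩ : T) = ⟨v, hUT hv⟩ * wT ^ k := Subtype.ext (by simp [hwT'])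
    rw [e, map_mul, map_pow, (hπ1 ⟨v, hUT hv⟩).2 hv, one_mul]
  have hU₁mem : ∀ (x : T) (k : ℕ), π x = π wT ^ k → (x : G) ∈ U₁ := by
    intro x k hk
    have h : π (x * (wT ^ k)⁻¹) = 1 := by rw [map_mul, map_inv, map_pow, hk, mul_inv_cancel]
    have hm := (hπ1 _).1 h
    have e : (x : G) = ((x * (wT ^ k)⁻¹ : T) : G) * w ^ k := by simp [hwT']
    rw [e]
    exact mul_mem (mem_sup_left hm) (mem_sup_right (pow_mem (mem_zpowers w) k))
  have hU₁R : ∀ x ∈ U₁, x ∈ P.R → x ∈ P.U := by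
    intro x hx hxR
    obtain ⟨v, hv, k, rfl⟩ := hU₁form x hx
    have hwk : w ^ k ∈ P.R := (mul_mem_cancel_left (P.U_le_R hv)).1 hxR
    have h0 := (P.of_mem hwk).2.2.1
    rw [P.T_J_pow T hT hTN hRT hwT, mul_eq_zero, or_iff_left hJw, ZMod.natCast_eq_zero_iff] at h0
    obtain ⟨n, rfl⟩ := h0
    rw [pow_mul]
    exact mul_mem hv (pow_mem hw_r n)
  -- `w` centralises `U`
  have hwU : ∀ x ∈ P.U, w * x = x * w := by
    let fw : P.U →* P.U := MonoidHom.mk' (fun x => ⟨w * x * w⁻¹, (mem_normalizer_iff.1 (hTU hwT) _).1 x.2⟩)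
      (fun x y => Subtype.ext (by simp [mul_assoc]))
    let fl : P.U →* P.U := MonoidHom.mk' (fun x => ⟨P.l * x * P.l⁻¹, P.l_conj x x.2⟩)
      (fun x y => Subtype.ext (by simp [mul_assoc]))
    have hfl : ∀ x, fl (P.aHom x) = P.aHom (fl x) := fun x => Subtype.ext (by
      show P.l * (D.φ * x * D.φ⁻¹) * P.l⁻¹ = D.φ * (P.l * x * P.l⁻¹) * D.φ⁻¹
      calc P.l * (D.φ * x * D.φ⁻¹) * P.l⁻¹ = (P.l * D.φ) * x * (P.l * D.φ)⁻¹ := by group
        _ = (D.φ * P.l) * x * (D.φ * P.l)⁻¹ := by rw [P.l_comm.eq]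
        _ = _ := by group)
    have hfw : ∀ x, fw (P.aHom x) = P.aHom (fw x) := fun x => Subtype.ext (by
      show w * (D.φ * x * D.φ⁻¹) * w⁻¹ = D.φ * (w * x * w⁻¹) * D.φ⁻¹
      have h1 : π (wT * φT * wT⁻¹ * φT⁻¹) = 1 := by
        rw [map_mul, map_mul, map_mul, map_inv, map_inv, (hcφ wT).eq, mul_inv_cancel_right, mul_inv_cancel]
      have hu : w * D.φ * w⁻¹ * D.φ⁻¹ ∈ P.U := (hπ1 _).1 h1
      set u := w * D.φ * w⁻¹ * D.φ⁻¹ with hudef
      set x' := w * (x : G) * w⁻¹ with hx'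
      have hx'U : x' ∈ P.U := (mem_normalizer_iff.1 (hTU hwT) _).1 x.2
      calc w * (D.φ * x * D.φ⁻¹) * w⁻¹ = u * (D.φ * x' * D.φ⁻¹) * u⁻¹ := by rw [hudef, hx']; group
        _ = _ := by rw [P.ucomm u hu _ (P.φ_conj x' hx'U), mul_inv_cancel_right])
    have hcomm := Uniserial.comm_of_comm P.ucomm' P.pgroup P.aHom P.aHom_periodic P.aHom_ker
      P.orderOf_zU P.aHom_z P.u₀_range fw fl hfw hfl
    obtain ⟨v, hv, hve⟩ : ∃ v ∈ P.U, P.l * w * P.l⁻¹ = v * w ^ P.m := by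
      have h : π (cl wT * (wT ^ P.m)⁻¹) = 1 := by rw [map_mul, map_inv, map_pow, hlw, mul_inv_cancel]
      exact ⟨_, (hπ1 _).1 h, by simp [cl, hwT', mul_assoc]⟩
    intro x hx
    have hfix : ∀ x ∈ P.U, Commute (w ^ ((P.m : ℤ) - 1)) x := by
      intro x hx
      have hxl : P.l⁻¹ * x * P.l ∈ P.U := by
        have hlU : P.l ∈ normalizer (P.U : Set G) := mem_normalizer_of_conj P.l_conj
        have := (mem_normalizer_iff.1 (inv_mem hlU) x).1 hx
        rwa [inv_inv] at this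
      have h1 := congrArg Subtype.val (hcomm ⟨_, hxl⟩)
      change w * (P.l * (P.l⁻¹ * x * P.l) * P.l⁻¹) * w⁻¹ = P.l * (w * (P.l⁻¹ * x * P.l) * w⁻¹) * P.l⁻¹ at h1
      have h2 : w * x * w⁻¹ = w ^ P.m * x * (w ^ P.m)⁻¹ := by
        calc w * x * w⁻¹ = P.l * (w * (P.l⁻¹ * x * P.l) * w⁻¹) * P.l⁻¹ := by rw [← h1]; group
          _ = (P.l * w * P.l⁻¹) * x * (P.l * w * P.l⁻¹)⁻¹ := by group
          _ = v * (w ^ P.m * x * (w ^ P.m)⁻¹) * v⁻¹ := by rw [hve]; group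
          _ = _ := by
            rw [P.ucomm v hv _ ((mem_normalizer_iff.1 (pow_mem (hTU hwT) _) x).1 hx), mul_inv_cancel_right]
      rw [zpow_sub_one, zpow_natCast]
      show w ^ P.m * w⁻¹ * x = x * (w ^ P.m * w⁻¹)
      have h3 := (mem_normalizer_iff.1 (inv_mem (hTU hwT)) x).1 hx
      calc w ^ P.m * w⁻¹ * x = w⁻¹ * (w ^ P.m * x * (w ^ P.m)⁻¹) * w ^ P.m := by
            rw [← (Commute.refl w).inv_left.pow_right P.m |>.eq]; group
        _ = w⁻¹ * (w * x * w⁻¹) * w ^ P.m := by rw [h2]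
        _ = _ := by rw [← (Commute.refl w).inv_left.pow_right P.m |>.eq]; group
    obtain ⟨j, hj⟩ := hT wT
    have hj' : w ^ (r ^ j) = 1 := congrArg Subtype.val hj
    obtain ⟨c, f, hcf⟩ : IsCoprime ((P.m : ℤ) - 1) ((r : ℤ) ^ j) := by
      refine (((Nat.prime_iff_prime_int.1 hr.out).coprime_iff_not_dvd).2 fun h => P.m_ne_one ?_).symm.pow_right
      rw [← ZMod.intCast_zmod_eq_zero_iff_dvd] at h
      push_cast at h
      exact sub_eq_zero.1 h
    have hw' : w = (w ^ ((P.m : ℤ) - 1)) ^ c := by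
      have h3 : w ^ ((r : ℤ) ^ j) = 1 := by rw [← Nat.cast_pow, zpow_natCast, hj']
      conv_lhs => rw [← zpow_one w, ← hcf, zpow_add, mul_comm c, zpow_mul, mul_comm f,
        zpow_mul w ((r : ℤ) ^ j), h3, one_zpow, mul_one]
    rw [hw']
    exact (Commute.zpow_left (hfix x hx) c).eq
  have hU₁comm : ∀ x ∈ U₁, ∀ y ∈ U₁, x * y = y * x := by
    intro x hx y' hy'
    obtain ⟨u, hu, k, rfl⟩ := hU₁form x hx
    obtain ⟨v, hv, n, rfl⟩ := hU₁form y' hy'
    have c1 : Commute u (w ^ n) := Commute.pow_right (Commute.symm (hwU u hu)) n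
    have c2 : Commute (w ^ k) v := Commute.pow_left (hwU v hv) k
    exact ((Commute.mul_right (P.ucomm u hu v hv) c1).mul_left
      (c2.mul_right (Commute.pow_pow (Commute.refl w) k n)))
  have hφc : ∀ x ∈ U₁, D.φ * x * D.φ⁻¹ * x⁻¹ ∈ P.U := by
    intro x hx
    have h : π (φT * ⟨x, hU₁T hx⟩ * φT⁻¹ * (⟨x, hU₁T hx⟩ : T)⁻¹) = 1 := by
      rw [map_mul, map_mul, map_mul, map_inv, map_inv, ← (hcφ _).eq, mul_inv_cancel_right, mul_inv_cancel]
    exact (hπ1 _).1 h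
  have hφU₁ : ∀ x ∈ U₁, D.φ * x * D.φ⁻¹ ∈ U₁ := fun x hx => by
    have := mul_mem (mem_sup_left (hφc x hx) : D.φ * x * D.φ⁻¹ * x⁻¹ ∈ U₁) hx
    rwa [inv_mul_cancel_right] at this
  have hlU₁ : ∀ x ∈ U₁, P.l * x * P.l⁻¹ ∈ U₁ := by
    intro x hx
    obtain ⟨v, hv, k, rfl⟩ := hU₁form x hx
    have e : P.l * (v * w ^ k) * P.l⁻¹ = P.l * v * P.l⁻¹ * (P.l * w * P.l⁻¹) ^ k := by rw [conj_pow]; group
    rw [e]
    exact mul_mem (mem_sup_left (P.l_conj v hv)) (pow_mem (hU₁mem (cl wT) P.m hlw) k)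
  have hw_not : w ∉ P.U := fun h => hJw (P.of_mem (P.U_le_R h)).2.2.1
  -- `U` is `[U₁, φ]`
  have hsurj : ∀ u ∈ P.U, ∃ x ∈ U₁, u = D.φ * x * D.φ⁻¹ * x⁻¹ := by
    let d : U₁ →* G := MonoidHom.mk' (fun x => D.φ * x * D.φ⁻¹ * (x : G)⁻¹) fun x y => by
      show D.φ * ((x * y : U₁) : G) * D.φ⁻¹ * ((x * y : U₁) : G)⁻¹ = _
      have hc := hU₁comm _ (mem_sup_left (hφc y y.2)) (x : G)⁻¹ (inv_mem x.2)
      calc D.φ * ((x : G) * y) * D.φ⁻¹ * ((x : G) * y)⁻¹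
          = D.φ * x * D.φ⁻¹ * ((D.φ * y * D.φ⁻¹ * (y : G)⁻¹) * (x : G)⁻¹) := by group
        _ = _ := by rw [hc]; group
    intro u hu
    set p := d ⟨w, mem_sup_right (mem_zpowers w)⟩ with hpdef
    have hpU : p ∈ P.U := hφc w (mem_sup_right (mem_zpowers w))
    have hq : P.q p = - P.J w := by
      have e : p = D.φ * (w * D.φ * w⁻¹)⁻¹ := by rw [hpdef]; show D.φ * w * D.φ⁻¹ * w⁻¹ = _; group
      have hR := P.conj_mem_R (hTN hwT) P.φ_mem_R
      rw [e, (P.add P.φ_mem_R (inv_mem hR)).1, (P.coord_inv hR).1, P.coord_φ.1, zero_add]; rfl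
    set n := ((P.q u) / (- P.J w)).val with hn
    have hk : (p ^ n)⁻¹ * u ∈ P.K := by
      have hpn : p ^ n ∈ P.U := pow_mem hpU n
      have hmem : (p ^ n)⁻¹ * u ∈ P.R := P.U_le_R (mul_mem (inv_mem hpn) hu)
      refine (P.mem_K_iff hmem).2 ⟨?_, ?_⟩
      · rw [(P.add (inv_mem (P.U_le_R hpn)) (P.U_le_R hu)).1, (P.coord_inv (P.U_le_R hpn)).1,
          (P.coord_pow (P.U_le_R hpU) n).1, hq, hn, ZMod.natCast_zmod_val,
          div_mul_cancel₀ _ (neg_ne_zero.2 hJw), neg_add_cancel]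
      · exact (P.mem_U_iff hmem).1 (mul_mem (inv_mem hpn) hu)
    obtain ⟨x, hx, hxe⟩ := P.exists_of_mem_K hk
    refine ⟨w ^ n * x, mul_mem (mem_sup_right (pow_mem (mem_zpowers w) n)) (mem_sup_left hx), ?_⟩
    have h := map_mul d (⟨w, mem_sup_right (mem_zpowers w)⟩ ^ n) ⟨x, mem_sup_left hx⟩
    rw [map_pow, ← hpdef] at h
    change D.φ * (w ^ n * x) * D.φ⁻¹ * (w ^ n * x)⁻¹ = p ^ n * (D.φ * x * D.φ⁻¹ * x⁻¹) at h
    rw [h, ← hxe, mul_inv_cancel_left]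
  let P' : Piece D :=
    { U := U₁
      l := P.l
      u₀ := w
      m := P.m
      pgroup := hT.to_le hU₁T
      ucomm := hU₁comm
      φ_conj := hφU₁
      z_mem := mem_sup_left P.z_mem
      disj := fun i hi => P.disj i (hU₁R _ hi (zpow_mem P.φ_mem_R i))
      l_coprime := P.l_coprime
      l_comm := P.l_comm
      l_conj := hlU₁
      u₀_mem := mem_sup_right (mem_zpowers w)
      u₀_not := fun x hx h => hw_not (h ▸ hφc x hx)
      l_u₀ := by
        have h : π (cl wT * (wT ^ P.m)⁻¹) = 1 := by rw [map_mul, map_inv, map_pow, hlw, mul_inv_cancel]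
        obtain ⟨x, hx, hxe⟩ := hsurj _ ((hπ1 _).1 h)
        exact ⟨x, hx, by rw [← hxe]; simp [cl, hwT', mul_assoc]⟩
      m_sq := P.m_sq }
  refine ⟨P', lt_of_le_of_ne (card_le_of_le (sup_le_sup_right le_sup_left _)) fun h => hw_not ?_⟩
  have he : P.R = P'.R := eq_of_le_of_card_ge (sup_le_sup_right le_sup_left _) h.ge
  exact hU₁R w (mem_sup_right (mem_zpowers w)) (he ▸ mem_sup_left (mem_sup_right (mem_zpowers w)))

end Extend

end Piece

end CfsgLib.Walter.Twist.RankOneHigh
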