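import Mathlib
import Cfsg.Agent.Lib.PF.OddOrder

/-!
# Walter, the rank one lemma: the action on the plane

`W` is a group of `2 × 2` matrices over `ZMod r` containing `diag(1, a)`, `a ^ 2 ≠ 1`, in which every element
stabilising the first coordinate axis fixes it pointwise.  If `r` does not divide `|W|`, then `W` fixes that
axis; in general the elements of `r`-power order in `W` are lower unitriangular.
-/

set_option autoImplicit false
set_option linter.unusedSectionVars false

namespace CfsgLib.Walter.Twist.RankOne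

open Subgroup Matrix
open scoped commutatorElement

variable {r : ℕ} [hr : Fact r.Prime]

/-- The plane's matrices. -/
local notation "GLr" => GL (Fin 2) (ZMod r)

theorem mul_entry (A B : Matrix (Fin 2) (Fin 2) (ZMod r)) (i j : Fin 2) :
    (A * B) i j = A i 0 * B 0 j + A i 1 * B 1 j := by
  simp [Matrix.mul_apply, Fin.sum_univ_two]

theorem ext_entries {A B : Matrix (Fin 2) (Fin 2) (ZMod r)} (h00 : A 0 0 = B 0 0) (h01 : A 0 1 = B 0 1)
    (h10 : A 1 0 = B 1 0) (h11 : A 1 1 = B 1 1) : A = B := by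
  ext i j
  fin_cases i <;> fin_cases j <;> assumption

theorem zmod_two_sq : ∀ b : ZMod 2, b ≠ 0 → b ^ 2 ≠ 1 → False := by decide

theorem ne_two_of_sq {a : ZMod r} (ha : a ≠ 0) (h : a ^ 2 ≠ 1) : (2 : ZMod r) ≠ 0 := by
  intro h2
  have h' : r = 2 := by
    have : ((2 : ℕ) : ZMod r) = 0 := by exact_mod_cast h2
    exact (Nat.prime_dvd_prime_iff_eq hr.out Nat.prime_two).1 ((ZMod.natCast_eq_zero_iff 2 r).1 this)
  subst h'
  exact zmod_two_sq a ha h

/-- Conjugation by `diag(1, a)`. -/
theorem conj_diag {a : ZMod r} {L : GLr} (ha : a ≠ 0)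
    (hL : (L : Matrix (Fin 2) (Fin 2) (ZMod r)) = !![1, 0; 0, a]) (g : GLr) :
    ((L * g * L⁻¹ : GLr) : Matrix (Fin 2) (Fin 2) (ZMod r)) =
      !![g.1 0 0, g.1 0 1 / a; a * g.1 1 0, g.1 1 1] := by
  have h : ((L⁻¹ : GLr) : Matrix (Fin 2) (Fin 2) (ZMod r)) = !![1, 0; 0, a⁻¹] := by
    refine Units.inv_eq_of_mul_eq_one_right ?_
    rw [hL]
    apply ext_entries <;> simp [mul_entry, ha]
  rw [Units.val_mul, Units.val_mul, hL, h]
  apply ext_entries <;> simp only [mul_entry] <;> simp [div_eq_mul_inv] <;> field_simp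

/-- Elements of `r`-power order have trace two and a nilpotent deviation from one. -/
theorem unipotent {g : GLr} {k : ℕ} (hk : g ^ r ^ k = 1) :
    g.1 1 1 = 2 - g.1 0 0 ∧ (g.1 0 0 - 1) * (g.1 0 0 - 1) + g.1 0 1 * g.1 1 0 = 0 := by
  set N : Matrix (Fin 2) (Fin 2) (ZMod r) := g.1 - 1 with hN
  have hnil : IsNilpotent N := by
    refine ⟨r ^ k, ?_⟩
    rw [hN, sub_pow_char_pow_of_commute (R := Matrix (Fin 2) (Fin 2) (ZMod r)) (p := r) (n := k) (Commute.one_right _),
      one_pow, ← Units.val_pow_eq_pow_val, hk, Units.val_one, sub_self]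
  have ht : N.trace = 0 := (Matrix.isNilpotent_trace_of_isNilpotent hnil).eq_zero
  have hd : N.det = 0 := by
    obtain ⟨n, hn⟩ := hnil
    have := congrArg Matrix.det hn
    rw [Matrix.det_pow, Matrix.det_zero] at this
    exact eq_zero_of_pow_eq_zero this
  rw [Matrix.trace_fin_two] at ht
  rw [Matrix.det_fin_two] at hd
  simp only [hN, Matrix.sub_apply, Matrix.one_apply_eq, ne_eq, zero_ne_one, not_false_eq_true,
    Matrix.one_apply_ne, one_ne_zero, sub_zero] at ht hd
  refine ⟨by linear_combination ht, ?_⟩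
  linear_combination (g.1 0 0 - 1) * ht - hd

/-- The powers of an element with square zero deviation. -/
theorem pow_entries {g : GLr} (h11 : g.1 1 1 = 2 - g.1 0 0)
    (hsq : (g.1 0 0 - 1) * (g.1 0 0 - 1) + g.1 0 1 * g.1 1 0 = 0) (n : ℕ) :
    ((g ^ n : GLr) : Matrix (Fin 2) (Fin 2) (ZMod r)) =
      !![1 + n * (g.1 0 0 - 1), n * g.1 0 1; n * g.1 1 0, 1 - n * (g.1 0 0 - 1)] := by
  induction n with
  | zero =>
    rw [pow_zero, Units.val_one]
    apply ext_entries <;> simp
  | succ n ih =>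
    rw [pow_succ, Units.val_mul, ih]
    apply ext_entries <;> simp [mul_entry, h11] <;>
      first
      | ring1
      | linear_combination (n : ZMod r) * hsq

/-- **Elements of `r`-power order are lower unitriangular.** -/
theorem lower_of_pow {W : Subgroup GLr} {a : ZMod r} (ha : a ≠ 0) (ha2 : a ^ 2 ≠ 1) {L : GLr} (hLW : L ∈ W)
    (hL : (L : Matrix (Fin 2) (Fin 2) (ZMod r)) = !![1, 0; 0, a])
    (hfix : ∀ w ∈ W, w.1 1 0 = 0 → w.1 0 0 = 1)
    (hu : ∀ w ∈ W, w.1 0 0 = 1 → w.1 1 0 = 0 → w ^ r = 1 → w = 1)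
    {g : GLr} (hg : g ∈ W) {k : ℕ} (hk : g ^ r ^ k = 1) :
    g.1 0 1 = 0 ∧ g.1 0 0 = 1 ∧ g.1 1 1 = 1 := by
  obtain ⟨h11, hsq⟩ := unipotent hk
  set x := g.1 0 0 - 1 with hx
  have h2 := ne_two_of_sq ha ha2
  have ha1 : (1 : ZMod r) - a ≠ 0 := fun h => ha2 (by rw [← sub_eq_zero.1 h, one_pow])
  by_cases hx0 : x = 0
  · have h00 : g.1 0 0 = 1 := sub_eq_zero.1 hx0
    refine ⟨?_, h00, by rw [h11, h00]; ring⟩
    rw [hx0, mul_zero, zero_add] at hsq
    rcases mul_eq_zero.1 hsq with h | h
    · exact h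
    · have hgr : g ^ r = 1 := by
        apply Units.ext
        rw [pow_entries h11 (by rw [← hx, hx0, h]; ring) r, Units.val_one]
        apply ext_entries <;> simp
      rw [hu g hg h00 h hgr, Units.val_one, Matrix.one_apply_ne (by decide)]
  · exfalso
    set t : ZMod r := 1 / (x * (1 - a)) with ht
    set s : ZMod r := -(t * a) / 2 with hs
    let w : GLr := g ^ s.val * (L * g ^ t.val * L⁻¹)
    have hwW : w ∈ W := mul_mem (pow_mem hg _) (mul_mem (mul_mem hLW (pow_mem hg _)) (inv_mem hLW))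
    have htx : t * x * (1 - a) = 1 := by rw [ht]; field_simp
    have hsa : 2 * s + t * a = 0 := by rw [hs]; field_simp; ring
    have hw : w.1 = !![1 + s * x, s * g.1 0 1; s * g.1 1 0, 1 - s * x] *
        !![1 + t * x, t * g.1 0 1 / a; a * (t * g.1 1 0), 1 - t * x] := by
      show ((g ^ s.val * (L * g ^ t.val * L⁻¹) : GLr) : Matrix (Fin 2) (Fin 2) (ZMod r)) = _
      rw [Units.val_mul, conj_diag ha hL, pow_entries h11 hsq, pow_entries h11 hsq, ← hx,
        ZMod.natCast_zmod_val, ZMod.natCast_zmod_val]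
      simp
    have h10 : w.1 1 0 = 0 := by
      rw [hw, mul_entry]
      simp
      linear_combination g.1 1 0 * s * htx + g.1 1 0 * hsa
    have h00 : w.1 0 0 = 2 := by
      rw [hw, mul_entry]
      simp
      linear_combination (s * t * a) * hsq + (s * x + 1) * htx + x * hsa
    have := hfix w hwW h10
    rw [h00] at this
    exact one_ne_zero (α := ZMod r) (by linear_combination this)

/-- **A group of order prime to `r` fixes the first axis.** -/
theorem fix_of_coprime {W : Subgroup GLr} {a : ZMod r} (ha : a ≠ 0) (ha2 : a ^ 2 ≠ 1) {L : GLr} (hLW : L ∈ W)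
    (hL : (L : Matrix (Fin 2) (Fin 2) (ZMod r)) = !![1, 0; 0, a])
    (hfix : ∀ w ∈ W, w.1 1 0 = 0 → w.1 0 0 = 1) (hW : ¬ r ∣ Nat.card W) :
    ∀ w ∈ W, w.1 0 0 = 1 ∧ w.1 1 0 = 0 := by
  classical
  have h2 := ne_two_of_sq ha ha2
  have ha1 : (1 : ZMod r) - a ≠ 0 := fun h => ha2 (by rw [← sub_eq_zero.1 h, one_pow])
  have hrpow : ∀ w ∈ W, w ^ r = 1 → w = 1 := fun w hw h => by
    by_contra hne
    exact hW ((orderOf_eq_prime h hne).symm.dvd.trans (Subgroup.orderOf_dvd_natCard W hw))
  set C : Subgroup GLr := W ⊓ (Matrix.GeneralLinearGroup.det : GLr →* (ZMod r)ˣ).ker with hC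
  have hdet : ∀ g ∈ C, g.1 0 0 * g.1 1 1 - g.1 0 1 * g.1 1 0 = 1 := fun g hg => by
    rw [← Matrix.det_fin_two]
    have := congrArg Units.val (MonoidHom.mem_ker.1 hg.2)
    simpa [Matrix.GeneralLinearGroup.val_det_apply] using this
  have hCn : ∀ n ∈ W, ∀ g ∈ C, n * g * n⁻¹ ∈ C := fun n hn g hg => by
    refine Subgroup.mem_inf.2 ⟨mul_mem (mul_mem hn hg.1) (inv_mem hn), MonoidHom.mem_ker.2 ?_⟩
    rw [map_mul, map_mul, map_inv, MonoidHom.mem_ker.1 hg.2, mul_one, mul_inv_cancel]
  have hodd : Odd (Nat.card C) := by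
    rw [Nat.odd_iff, ← Nat.two_dvd_ne_zero]
    intro hdvd
    obtain ⟨⟨g, hg⟩, hgo⟩ := exists_prime_orderOf_dvd_card' (G := C) 2 hdvd
    have hgo' : orderOf g = 2 := (Subgroup.orderOf_mk g hg).symm.trans hgo
    have hsq : g * g = 1 := by
      have h := pow_orderOf_eq_one g
      rwa [hgo', pow_two] at h
    have e : ∀ i j, (g.1 * g.1) i j = (1 : Matrix (Fin 2) (Fin 2) (ZMod r)) i j := fun i j => by
      rw [← Units.val_mul, hsq, Units.val_one]
    have e00 := e 0 0
    have e01 := e 0 1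
    have e10 := e 1 0
    have e11 := e 1 1
    simp [mul_entry] at e00 e01 e10 e11
    have hd := hdet g hg
    have hs : g.1 0 0 * (g.1 0 0 + g.1 1 1) = 2 := by linear_combination e00 + hd
    have hne : g.1 0 0 + g.1 1 1 ≠ 0 := fun h => h2 (by rw [← hs, h, mul_zero])
    have hb : g.1 0 1 = 0 := by
      have : g.1 0 1 * (g.1 0 0 + g.1 1 1) = 0 := by linear_combination e01
      exact (mul_eq_zero.1 this).resolve_right hne
    have hc : g.1 1 0 = 0 := by
      have : g.1 1 0 * (g.1 0 0 + g.1 1 1) = 0 := by linear_combination e10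
      exact (mul_eq_zero.1 this).resolve_right hne
    have h00 := hfix g hg.1 hc
    rw [h00, hb] at hd
    have h11 : g.1 1 1 = 1 := by linear_combination hd
    have : g = 1 := Units.ext (by rw [Units.val_one]; apply ext_entries <;> simp [h00, hb, hc, h11])
    rw [this, orderOf_one] at hgo'
    exact absurd hgo' (by norm_num)
  -- an abelian subgroup of `C` normalised by `L` is trivial
  have key : ∀ D : Subgroup GLr, D ≤ C → (∀ x ∈ D, ∀ y ∈ D, x * y = y * x) →
      (∀ x ∈ D, L * x * L⁻¹ ∈ D) → D = ⊥ := by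
    intro D hDC hDc hDL
    rw [eq_bot_iff]
    intro g hg
    have hcomm := congrArg Units.val (hDc g hg _ (hDL g hg))
    rw [Units.val_mul g, Units.val_mul (L * g * L⁻¹), conj_diag ha hL] at hcomm
    have c00 := congrFun (congrFun hcomm 0) 0
    have c01 := congrFun (congrFun hcomm 0) 1
    have c10 := congrFun (congrFun hcomm 1) 0
    simp [mul_entry] at c00 c01 c10
    have hd := hdet g (hDC hg)
    have hgW : g ∈ W := (hDC hg).1
    field_simp at c00 c01
    have hbc : g.1 0 1 = 0 ∨ g.1 1 0 = 0 := by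
      have : g.1 0 1 * g.1 1 0 * (a ^ 2 - 1) = 0 := by linear_combination c00
      rcases mul_eq_zero.1 this with h | h
      · exact mul_eq_zero.1 h
      · exact absurd (sub_eq_zero.1 h) ha2
    have hbad : ∀ m : GLr, m ∈ W → m.1 0 0 = 1 → m.1 1 1 = 1 → (m.1 0 1 = 0 ∨ m.1 1 0 = 0) → m = 1 := by
      intro m hm h00 h11 hz
      refine hrpow m hm (Units.ext ?_)
      have hsq : (m.1 0 0 - 1) * (m.1 0 0 - 1) + m.1 0 1 * m.1 1 0 = 0 := by
        rcases hz with h | h <;> rw [h00, h] <;> ring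
      rw [pow_entries (by rw [h00, h11]; ring) hsq r, Units.val_one]
      apply ext_entries <;> simp
    rw [Subgroup.mem_bot]
    by_cases hb : g.1 0 1 = 0
    · rw [hb] at hd
      by_cases hc : g.1 1 0 = 0
      · have h00 := hfix g hgW hc
        exact hbad g hgW h00 (by rw [h00] at hd; linear_combination hd) (Or.inr hc)
      · have hda : g.1 1 1 = g.1 0 0 := by
          have : g.1 1 0 * (a - 1) * (g.1 1 1 - g.1 0 0) = 0 := by linear_combination c10
          rcases mul_eq_zero.1 this with h | h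
          · exact absurd h (mul_ne_zero hc (fun h => ha1 (by linear_combination -h)))
          · exact sub_eq_zero.1 h
        rw [hda] at hd
        have hgg : (g * g).1 0 0 = 1 ∧ (g * g).1 1 1 = 1 ∧ (g * g).1 0 1 = 0 := by
          rw [Units.val_mul]
          simp [mul_entry, hb, hda]
          linear_combination hd
        have h1 := hbad (g * g) (mul_mem hgW hgW) hgg.1 hgg.2.1 (Or.inl hgg.2.2)
        have ho : Odd (orderOf g) := hodd.of_dvd_nat (Subgroup.orderOf_dvd_natCard C (hDC hg))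
        rw [← orderOf_eq_one_iff]
        exact Nat.eq_one_of_dvd_coprimes (Nat.coprime_two_right.2 ho) dvd_rfl
          (orderOf_dvd_of_pow_eq_one (by rw [pow_two]; exact h1))
    · have hc : g.1 1 0 = 0 := hbc.resolve_left hb
      have h00 := hfix g hgW hc
      exact hbad g hgW h00 (by rw [h00, hc] at hd; linear_combination hd) (Or.inr hc)
  have hCbot : C = ⊥ := by
    by_contra hne
    have : Group.IsSolvable ↥C := CfsgLib.PF.oddSolvable ↥C hodd
    obtain ⟨n, hn⟩ : ∃ n, derivedSeries ↥C n = ⊥ := Group.IsSolvable.solvable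
    induction n with
    | zero =>
      rw [derivedSeries_zero] at hn
      exact hne ((Subgroup.eq_bot_iff_forall _).2 fun x hx => by
        have h1 : (⟨x, hx⟩ : C) ∈ (⊤ : Subgroup C) := mem_top _
        rw [hn] at h1
        exact congrArg Subtype.val (Subgroup.mem_bot.1 h1))
    | succ n ih =>
      apply ih
      set D := (derivedSeries ↥C n).map C.subtype with hD
      have hD0 : D = ⊥ := by
        refine key D (map_subtype_le _) ?_ ?_
        · rintro _ ⟨x, hx, rfl⟩ _ ⟨y, hy, rfl⟩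
          rw [derivedSeries_succ] at hn
          have hm : ⁅x, y⁆ ∈ (⊥ : Subgroup C) := hn ▸ commutator_mem_commutator hx hy
          rw [← map_mul, ← map_mul, commutatorElement_eq_one_iff_mul_comm.1 (mem_bot.1 hm)]
        · rintro _ ⟨x, hx, rfl⟩
          let f : ↥C →* ↥C :=
            { toFun := fun c => ⟨L * c.1 * L⁻¹, hCn L hLW c.1 c.2⟩
              map_one' := Subtype.ext (by simp)
              map_mul' := fun c d => Subtype.ext (by simp [mul_assoc]) }
          exact ⟨f x, map_derivedSeries_le_derivedSeries f n (mem_map_of_mem f hx), rfl⟩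
      exact (Subgroup.map_eq_bot_iff_of_injective _ C.subtype_injective).1 hD0
  intro w hw
  have hcomm : L * w * L⁻¹ = w := by
    have hm : L * w * L⁻¹ * w⁻¹ ∈ C := by
      refine Subgroup.mem_inf.2 ⟨mul_mem (mul_mem (mul_mem hLW hw) (inv_mem hLW)) (inv_mem hw),
        MonoidHom.mem_ker.2 ?_⟩
      rw [map_mul, map_mul, map_mul, map_inv, map_inv]
      simp
    rw [hCbot, mem_bot, mul_inv_eq_one] at hm
    exact hm
  have h := congrArg Units.val hcomm
  rw [conj_diag ha hL] at h
  have c10 := congrFun (congrFun h 1) 0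
  simp at c10
  have hc : w.1 1 0 = 0 := by
    have : w.1 1 0 * (1 - a) = 0 := by linear_combination -c10
    exact (mul_eq_zero.1 this).resolve_right ha1
  exact ⟨hfix w hw hc, hc⟩

end CfsgLib.Walter.Twist.RankOne
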