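import Cfsg.Agent.Lib.Walter.Twist.TopTransfer

/-!
Walter, `FieldFree`, piece R: an abelian `r`-group `U` with an endomorphism `δ = [·, φ]` whose kernel
has order `r` is uniserial, and the endomorphisms commuting with `δ` commute with each other.
-/

set_option autoImplicit false
set_option linter.unusedSectionVars false

namespace CfsgLib.Walter.Twist.Uniserial

open Subgroup

universe u

variable {r : ℕ} [hr : Fact r.Prime] {V : Type u} [Group V] [Finite V] (hc : ∀ a b : V, a * b = b * a)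
  (hV : IsPGroup r V) (a : V →* V) (ha : ∃ n : ℕ, a^[r ^ n] = id)

/-- A nontrivial invariant subgroup contains a nontrivial fixed point. -/
theorem exists_fixed (ha : ∃ n : ℕ, a^[r ^ n] = id) (hV : IsPGroup r V) (W : Subgroup V)
    (hW : ∀ x ∈ W, a x ∈ W) (hne : W ≠ ⊥) : ∃ w ∈ W, w ≠ 1 ∧ a w = w := by
  classical
  obtain ⟨n, hn⟩ := ha
  have hpos : 0 < r ^ n := pow_pos hr.out.pos n
  let e : Equiv.Perm W :=
    { toFun := fun x => ⟨a x, hW x x.2⟩
      invFun := fun x => ⟨a^[r ^ n - 1] x, Set.MapsTo.iterate (s := (W : Set V)) hW _ x.2⟩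
      left_inv := fun x => Subtype.ext (by
        show a^[r ^ n - 1] (a x) = x
        rw [← Function.iterate_succ_apply, Nat.succ_eq_add_one, Nat.sub_add_cancel (Nat.one_le_iff_ne_zero.2 hpos.ne'), hn, id])
      right_inv := fun x => Subtype.ext (by
        show a (a^[r ^ n - 1] x) = x
        rw [← Function.iterate_succ_apply' a, Nat.succ_eq_add_one, Nat.sub_add_cancel (Nat.one_le_iff_ne_zero.2 hpos.ne'), hn, id]) }
  have hiter : ∀ (k : ℕ) (x : W), (((e ^ k) x : W) : V) = a^[k] x := by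
    intro k
    induction k with
    | zero => intro x; simp
    | succ k ih =>
      intro x
      rw [pow_succ', Equiv.Perm.mul_apply, Function.iterate_succ_apply', ← ih]
      rfl
  have he : e ^ (r ^ n) = 1 := Equiv.ext fun x => Subtype.ext (by rw [hiter, hn]; rfl)
  haveI : Fact r.Prime := hr
  have hg : IsPGroup r (zpowers e) := by
    rintro ⟨_, k, rfl⟩
    refine ⟨n, Subtype.ext ?_⟩
    show (e ^ k) ^ (r ^ n) = 1
    rw [← zpow_natCast, ← zpow_mul, mul_comm, zpow_mul, zpow_natCast, he, one_zpow]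
  obtain ⟨m, hm⟩ := IsPGroup.iff_card.1 (hV.to_subgroup W)
  have hdvd : r ∣ Nat.card W := by
    rcases m with - | m
    · exact absurd (card_eq_one.1 (hm.trans (pow_zero r))) hne
    · exact ⟨r ^ m, hm.trans (pow_succ' r m)⟩
  have h1 : (1 : W) ∈ MulAction.fixedPoints (zpowers e) W := by
    rintro ⟨_, k, rfl⟩
    exact Equiv.Perm.zpow_apply_eq_self_of_apply_eq_self (Subtype.ext (map_one a)) k
  obtain ⟨w, hw, hw1⟩ :=
    hg.exists_fixed_point_of_prime_dvd_card_of_fixed_point W hdvd h1
  refine ⟨w, w.2, fun h => hw1 (Subtype.ext h.symm), congrArg Subtype.val (hw ⟨e, mem_zpowers e⟩)⟩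

/-- The map `x ↦ a x · x⁻¹`. -/
def delta : V →* V :=
  MonoidHom.mk' (fun x => a x * x⁻¹) fun x y => by
    rw [map_mul, mul_inv_rev, hc y⁻¹ x⁻¹]
    calc a x * a y * (x⁻¹ * y⁻¹) = a x * (a y * x⁻¹) * y⁻¹ := by group
      _ = a x * x⁻¹ * (a y * y⁻¹) := by rw [hc (a y) x⁻¹]; group

theorem delta_apply (x : V) : delta hc a x = a x * x⁻¹ := rfl

theorem delta_eq_one {x : V} : delta hc a x = 1 ↔ a x = x := by
  rw [delta_apply, mul_inv_eq_one]

variable {z : V} (hker : ∀ x, a x = x → x ∈ zpowers z) (hz : orderOf z = r) (haz : a z = z)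
include hV ha hker hz haz

theorem mem_of_ne_bot (W : Subgroup V) (hW : ∀ x ∈ W, a x ∈ W) (hne : W ≠ ⊥) : z ∈ W := by
  obtain ⟨w, hw, hw1, hfix⟩ := exists_fixed a ha hV W hW hne
  obtain ⟨k, rfl⟩ := hker w hfix
  have hk : ¬ (r : ℤ) ∣ k := by
    rintro ⟨m, rfl⟩
    refine hw1 ?_
    show z ^ ((r : ℤ) * m) = 1
    rw [zpow_mul, zpow_natCast, ← hz, pow_orderOf_eq_one, one_zpow]
  obtain ⟨c, e, hce⟩ : IsCoprime k (r : ℤ) :=
    (((Nat.prime_iff_prime_int.1 hr.out).coprime_iff_not_dvd).2 hk).symm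
  have : z = (z ^ k) ^ c := by
    calc z = z ^ (c * k + e * r) := by rw [hce, zpow_one]
      _ = _ := by
        rw [zpow_add, mul_comm c k, zpow_mul, mul_comm e, zpow_mul z (r : ℤ), zpow_natCast, ← hz,
          pow_orderOf_eq_one, one_zpow, mul_one]
  rw [this]
  exact zpow_mem hw c

theorem index_range : (delta hc a).range.index = r := by
  have h1 : (delta hc a).ker = zpowers z := by
    ext x
    rw [MonoidHom.mem_ker, delta_eq_one]
    refine ⟨hker x, ?_⟩
    rintro ⟨k, rfl⟩
    show a (z ^ k) = z ^ k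
    rw [map_zpow, haz]
  have h2 := (delta hc a).ker.card_mul_index
  rw [index_ker, h1, Nat.card_zpowers, hz] at h2
  have h3 := (delta hc a).range.card_mul_index
  rw [← h2, mul_comm r] at h3
  exact mul_left_cancel₀ (Nat.card_pos (α := (delta hc a).range)).ne' h3

theorem card_map_lt (W : Subgroup V) (hW : ∀ x ∈ W, a x ∈ W) (hne : W ≠ ⊥) :
    Nat.card (W.map (delta hc a)) < Nat.card W := by
  have hzW := mem_of_ne_bot hV a ha hker hz haz W hW hne
  refine lt_of_le_of_ne (Nat.card_le_card_of_surjective (fun x : W => (⟨delta hc a x, x, x.2, rfl⟩ :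
    W.map (delta hc a))) ?_) fun h => ?_
  · rintro ⟨_, x, hx, rfl⟩; exact ⟨⟨x, hx⟩, rfl⟩
  · have hb : Function.Bijective (fun x : W => (⟨delta hc a x, x, x.2, rfl⟩ : W.map (delta hc a))) :=
      (Nat.bijective_iff_surjective_and_card _).2 ⟨by rintro ⟨_, x, hx, rfl⟩; exact ⟨⟨x, hx⟩, rfl⟩, h.symm⟩
    have : (⟨z, hzW⟩ : W) = 1 := hb.1 (Subtype.ext (by
      show delta hc a z = delta hc a 1
      rw [map_one, delta_eq_one, haz]))
    have h1 : z = 1 := congrArg Subtype.val this
    rw [h1, orderOf_one] at hz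
    exact hr.out.one_lt.ne hz

/-- An invariant subgroup not inside the image of `δ` is everything. -/
theorem eq_top_of_mem {u₀ : V} (hu : u₀ ∉ (delta hc a).range) (W : Subgroup V)
    (hW : ∀ x ∈ W, a x ∈ W) (h0 : u₀ ∈ W) : W = ⊤ := by
  set d := delta hc a with hd
  have hWd : W.map d ≤ W := by
    rintro _ ⟨x, hx, rfl⟩
    exact mul_mem (hW x hx) (inv_mem hx)
  have hidx := index_range hc hV a ha hker hz haz
  have htop : (W : Subgroup V) ⊔ d.range = ⊤ := by
    rw [← index_eq_one]
    have h1 := index_dvd_of_le (le_sup_right : d.range ≤ W ⊔ d.range)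
    rw [hd, hidx] at h1
    refine ((Nat.dvd_prime hr.out).1 h1).resolve_right fun h => hu ?_
    have h2 := relIndex_mul_index (le_sup_right : d.range ≤ W ⊔ d.range)
    rw [h, show d.range.index = r from hidx] at h2
    exact relIndex_eq_one.1 (mul_eq_right₀ hr.out.ne_zero |>.1 h2) (mem_sup_left h0)
  suffices H : ∀ n (X : Subgroup V), Nat.card X < n → (∀ x ∈ X, a x ∈ X) → W ⊔ X = ⊤ → W = ⊤ from
    H _ ⊤ (Nat.lt_succ_self _) (fun _ _ => mem_top _) (sup_top_eq W)
  intro n
  induction n with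
  | zero => intro X h; exact absurd h (Nat.not_lt_zero _)
  | succ n ih =>
    intro X hX hXa hXW
    by_cases hne : X = ⊥
    · rwa [hne, sup_bot_eq] at hXW
    refine ih (X.map d) ?_ ?_ (top_le_iff.1 ?_)
    · have h := card_map_lt hc hV a ha hker hz haz X hXa hne
      exact lt_of_lt_of_le h (Nat.lt_succ_iff.1 ‹Nat.card X < n + 1›)
    · rintro _ ⟨x, hx, rfl⟩
      exact ⟨a x, hXa x hx, by simp [hd, delta_apply, map_mul, map_inv]⟩
    · rw [← htop]
      refine sup_le le_sup_left ?_
      rw [MonoidHom.range_eq_map, ← hXW, Subgroup.map_sup]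
      exact sup_le_sup_right hWd _

/-- The endomorphisms commuting with `a` commute with each other. -/
theorem comm_of_comm {u₀ : V} (hu : u₀ ∉ (delta hc a).range) (f g : V →* V)
    (hf : ∀ x, f (a x) = a (f x)) (hg : ∀ x, g (a x) = a (g x)) (x : V) : f (g x) = g (f x) := by
  let Q : Subgroup V :=
    { carrier := {v | ∃ h : V →* V, h u₀ = v ∧ ∀ f : V →* V, (∀ x, f (a x) = a (f x)) →
          ∀ x, f (h x) = h (f x)}
      one_mem' := ⟨1, rfl, fun f _ x => by simp⟩
      mul_mem' := by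
        rintro v w ⟨h, rfl, hh⟩ ⟨k, rfl, hk⟩
        refine ⟨MonoidHom.mk' (fun x => h x * k x) fun x y => ?_, rfl, fun f hf x => ?_⟩
        · rw [map_mul, map_mul]
          calc h x * h y * (k x * k y) = h x * (h y * k x) * k y := by group
            _ = h x * k x * (h y * k y) := by rw [hc (h y) (k x)]; group
        · simp only [MonoidHom.mk'_apply, map_mul, hh f hf x, hk f hf x]
      inv_mem' := by
        rintro v ⟨h, rfl, hh⟩
        refine ⟨MonoidHom.mk' (fun x => (h x)⁻¹) fun x y => ?_, rfl, fun f hf x => ?_⟩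
        · rw [map_mul, mul_inv_rev, hc]
        · simp only [MonoidHom.mk'_apply, map_inv, hh f hf x] }
  have hQ : Q = ⊤ := by
    refine eq_top_of_mem hc hV a ha hker hz haz hu Q ?_ ⟨MonoidHom.id V, rfl, fun f _ x => rfl⟩
    rintro v ⟨h, rfl, hh⟩
    refine ⟨a.comp h, rfl, fun f hf x => ?_⟩
    show f (a (h x)) = a (h (f x))
    rw [hf, hh f hf x]
  obtain ⟨h, hh0, hh⟩ : g u₀ ∈ Q := hQ ▸ mem_top _
  have hha : ∀ x, h (a x) = a (h x) := fun x => (hh a (fun _ => rfl) x).symm
  have heq : ∀ x, g x = h x := fun x => by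
    have : ({ carrier := {x | g x = h x}
              one_mem' := by simp
              mul_mem' := fun {p q} hp hq => by
                show g (p * q) = h (p * q)
                rw [map_mul, map_mul, hp, hq]
              inv_mem' := fun {p} hp => by
                show g p⁻¹ = h p⁻¹
                rw [map_inv, map_inv, hp] } : Subgroup V) = ⊤ :=
      eq_top_of_mem hc hV a ha hker hz haz hu _ (fun p hp => by
        show g (a p) = h (a p)
        rw [hg, hha, show g p = h p from hp]) hh0.symm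
    exact (this ▸ mem_top x : x ∈ _)
  rw [heq, heq, hh f hf x]

end CfsgLib.Walter.Twist.Uniserial
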