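import Cfsg.Agent.Lib.Walter.Twist.ThreeIndex

/-!
Walter, the field part, characteristic three: elements of three-power order centralising an involution
are not real.
-/

set_option autoImplicit false
set_option linter.unusedSectionVars false
set_option linter.style.haveILetI false

namespace CfsgLib.Walter.Twist.ThreeT

open Subgroup Matrix CfsgLib.AutPSL

universe u

variable {G : Type u} [Group G] [Finite G] {E : Setup G}

/-- Two-elements are involutions. -/
theorem sq_eq_one_of_two {g : G} (h2 : ∃ j, orderOf g = 2 ^ j) (E : Setup G) : g * g = 1 := by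
  haveI : Fact (Nat.Prime 2) := ⟨Nat.prime_two⟩
  obtain ⟨j, hj⟩ := h2
  obtain ⟨Q, hQ⟩ := (IsPGroup.of_card (n := j) (show Nat.card (zpowers g) = 2 ^ j by
    rw [Nat.card_zpowers, hj])).exists_le_sylow
  obtain ⟨k, hk⟩ := MulAction.exists_smul_eq G E.S Q
  have := hQ (mem_zpowers g)
  rw [← hk, Sylow.coe_subgroup_smul] at this
  obtain ⟨s, hs, hsg⟩ := this
  replace hsg : k * s * k⁻¹ = g := hsg
  rw [← hsg, show k * s * k⁻¹ * (k * s * k⁻¹) = k * (s * s) * k⁻¹ by group, E.sq s hs, mul_one,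
    mul_inv_cancel]

/-- A non-trivial three-element centralising an involution is not real. -/
theorem not_real_three (R : Frame E) [CharP R.F 3] (hloc : Local E) {z v : G} (hv : orderOf v = 2)
    (hzv : Commute z v) (h3 : ∃ j, orderOf z = 3 ^ j) (hz1 : z ≠ 1) : ¬ IsConj z z⁻¹ := by
  classical
  haveI : Fact (Nat.Prime 2) := ⟨Nat.prime_two⟩
  intro hreal
  obtain ⟨g, hg⟩ := isConj_iff.1 hreal
  set C := centralizer ({z} : Set G)
  -- the extended centraliser
  let N : Subgroup G :=
    { carrier := {x | x * z * x⁻¹ = z ∨ x * z * x⁻¹ = z⁻¹}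
      one_mem' := Or.inl (by group)
      mul_mem' := fun {x y} hx hy => by
        have key : x * y * z * (x * y)⁻¹ = x * (y * z * y⁻¹) * x⁻¹ := by group
        have key' : x * z⁻¹ * x⁻¹ = (x * z * x⁻¹)⁻¹ := by group
        simp only [Set.mem_ofPred_eq] at *
        rw [key]
        rcases hy with hy | hy <;> rw [hy]
        · exact hx
        · rw [key']
          rcases hx with hx | hx <;> rw [hx]
          · exact Or.inr rfl
          · exact Or.inl (inv_inv z)
      inv_mem' := fun {x} hx => by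
        simp only [Set.mem_ofPred_eq, inv_inv] at *
        rcases hx with hx | hx
        · left; nth_rewrite 1 [← hx]; group
        · right
          have : z = (x * z * x⁻¹)⁻¹ := by rw [hx, inv_inv]
          nth_rewrite 1 [this]
          group }
  have hvN : v ∈ N := Or.inl (by rw [← hzv.eq, mul_inv_cancel_right])
  obtain ⟨T, hT⟩ := (IsPGroup.of_card (n := 1) (show Nat.card (zpowers (⟨v, hvN⟩ : N)) = 2 ^ 1 by
    rw [Nat.card_zpowers, Subgroup.orderOf_mk, hv, pow_one])).exists_le_sylow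
  obtain ⟨w, hwT, hwz⟩ : ∃ w : N, w ∈ (T : Subgroup N) ∧ (w : G) * z * (w : G)⁻¹ ≠ z := by
    by_contra! hall
    -- `T` would lie in the centraliser, of index two
    have hle : (T : Subgroup N) ≤ C.subgroupOf N := fun x hx =>
      mem_subgroupOf.2 (mem_centralizer_singleton_iff.2 (mul_inv_eq_iff_eq_mul.1 (hall x hx)))
    have hz2 : z ≠ z⁻¹ := fun e => by
      obtain ⟨j, hj⟩ := h3
      have h2 : orderOf z ∣ 2 := orderOf_dvd_of_pow_eq_one (by
        rw [pow_two]; nth_rewrite 2 [e]; group)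
      rw [hj] at h2
      exact hz1 (orderOf_eq_one_iff.1 (hj.trans (Nat.eq_one_of_dvd_coprimes
        ((Nat.coprime_primes Nat.prime_three Nat.prime_two).2 (by norm_num) |>.pow_left j) dvd_rfl h2)))
    have hidx : (C.subgroupOf N).index = 2 := by
      rw [Subgroup.index_eq_two_iff']
      refine ⟨⟨g, Or.inr hg⟩, fun x => ?_⟩
      simp only [mem_subgroupOf, Subgroup.coe_mul]
      have hmem : ∀ y : G, y ∈ C ↔ y * z * y⁻¹ = z := fun y =>
        mem_centralizer_singleton_iff.trans mul_inv_eq_iff_eq_mul.symm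
      rw [hmem, hmem, show g * (x : G) * z * (g * (x : G))⁻¹ = g * ((x : G) * z * (x : G)⁻¹) * g⁻¹ by group]
      rcases x.2 with h | h
      · refine Or.inr ⟨h, ?_⟩
        rw [h, hg]
        exact hz2.symm
      · refine Or.inl ⟨?_, fun e => hz2 (e.symm.trans h)⟩
        rw [h, show g * z⁻¹ * g⁻¹ = (g * z * g⁻¹)⁻¹ by group, hg, inv_inv]
    refine T.not_dvd_index ?_
    have h := Subgroup.index_dvd_of_le hle
    rwa [hidx] at h
  have hwv : Commute (w : G) v := by
    obtain ⟨j, hj⟩ := IsPGroup.iff_orderOf.1 T.isPGroup' ⟨w, hwT⟩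
    have hv' : (⟨v, hvN⟩ : N) ∈ (T : Subgroup N) := hT (mem_zpowers _)
    have hsq : ∀ x ∈ (T : Subgroup N), (x : G) * x = 1 := fun x hx => by
      obtain ⟨j, hj⟩ := IsPGroup.iff_orderOf.1 T.isPGroup' ⟨x, hx⟩
      exact sq_eq_one_of_two ⟨j, by rw [Subgroup.orderOf_coe, ← Subgroup.orderOf_mk x hx, hj]⟩ E
    have h1 := hsq _ (mul_mem hwT hv')
    rw [Subgroup.coe_mul] at h1
    have h2 := hsq w hwT
    have h3' : v * v = 1 := by rw [← pow_two, ← hv, pow_orderOf_eq_one]
    calc (w : G) * v = ((w : G) * v)⁻¹ := (inv_eq_of_mul_eq_one_right h1).symm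
      _ = v * w := by rw [_root_.mul_inv_rev, inv_eq_of_mul_eq_one_right h2, inv_eq_of_mul_eq_one_right h3']
  have hwinv : (w : G) * z * (w : G)⁻¹ = z⁻¹ := w.2.resolve_left hwz
  have hw2 : orderOf (w : G) = 2 := by
    obtain ⟨j, hj⟩ := IsPGroup.iff_orderOf.1 T.isPGroup' ⟨w, hwT⟩
    refine orderOf_eq_prime ?_ fun e => hwz (by rw [e]; group)
    rw [pow_two]
    exact sq_eq_one_of_two ⟨j, by rw [Subgroup.orderOf_coe, ← Subgroup.orderOf_mk w hwT, hj]⟩ E
  -- move `w` to `t`
  obtain ⟨c, hc⟩ := isConj_iff.1 (hloc.one_class (w : G) E.t hw2 E.orderOf_t)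
  set φ := MulAut.conj c
  have hφw : φ (w : G) = E.t := hc
  refine hz1 (φ.injective ?_)
  rw [map_one]
  refine no_inverted_three R hloc (v := φ v) ?_ ?_ ?_ (hzv.map φ) ?_ ?_
  · rw [MulEquiv.orderOf_eq, hv]
  · rw [← hφw]; exact hwv.symm.map φ
  · intro e
    rw [← hφw] at e
    rw [← φ.injective e] at hwz
    exact hwz (by rw [← hzv.eq, mul_inv_cancel_right])
  · rw [← hφw, ← map_inv, ← map_mul, ← map_mul, hwinv, map_inv]
  · obtain ⟨j, hj⟩ := h3
    exact ⟨j, by rw [MulEquiv.orderOf_eq, hj]⟩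

end CfsgLib.Walter.Twist.ThreeT
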