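import Mathlib.Tactic.Ring
import Mathlib.Tactic.FieldSimp
import Mathlib.Tactic.LinearCombination
import Mathlib.Tactic.Linarith
import Mathlib.Algebra.Order.Ring.Rat
import Mathlib.Data.ZMod.Basic

/-!
# Walter, rank three, the field part: the arithmetic of the character equations

`1 / a + q ^ 2 / b` with `a + b = (q + 1) c` takes its value at `a = 1` only there when `q % 8 = 3`,
`c % 8 = 7` and `a % 8 = 1` (the other root is `5` modulo `8`); its distance from `(q + 1) / c` is a square;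
and equality in the Cauchy inequality for two classes forces equal degrees.
-/

set_option autoImplicit false

namespace CfsgLib.Walter.Twist.RowsArith

/-- The square completion of the degree equation. -/
theorem sub_eq_sq {K : Type*} [Field K] {q a b c : K} (ha : a ≠ 0) (hb : b ≠ 0) (hc : c ≠ 0)
    (hab : b = (q + 1) * c - a) :
    1 / a + q ^ 2 / b - (q + 1) / c = (q + 1) * (c - a) ^ 2 / (a * b * c) := by
  field_simp
  rw [hab]
  ring

/-- The root `1` is the only one congruent to `1` modulo `8`. -/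
theorem eq_one_int {q a b c : ℤ} (hq : q % 8 = 3) (hc : c % 8 = 7) (ha : a % 8 = 1)
    (hb : b = (q + 1) * c - a) (hb0 : b ≠ 0) (hb1 : (q + 1) * c - 1 ≠ 0)
    (h : 1 / (a : ℚ) + (q : ℚ) ^ 2 / (b : ℚ) = 1 + (q : ℚ) ^ 2 / (((q : ℚ) + 1) * (c : ℚ) - 1)) :
    a = 1 := by
  have ha0 : (a : ℚ) ≠ 0 := Int.cast_ne_zero.2 (by omega)
  have hbq : (b : ℚ) ≠ 0 := Int.cast_ne_zero.2 hb0
  have hq1 : (q : ℤ) + 1 ≠ 0 := by omega
  have hb1q : ((q : ℚ) + 1) * (c : ℚ) - 1 ≠ 0 := by exact_mod_cast hb1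
  have hbe : (b : ℚ) = ((q : ℚ) + 1) * (c : ℚ) - a := by rw [hb]; push_cast; ring
  have h' : ((1 - a) * (b * ((q + 1) * c - 1) - q ^ 2 * a) : ℤ) = 0 := by
    have hZ : ((1 - a : ℚ) * (b * (((q : ℚ) + 1) * c - 1) - (q : ℚ) ^ 2 * a)) = 0 := by
      have h2 := h
      field_simp at h2
      rw [hbe] at h2 ⊢
      linear_combination h2
    exact_mod_cast hZ
  rcases mul_eq_zero.1 h' with h1 | h1
  · omega
  exfalso
  have h3 : (q + 1) * (a * (c + q - 1) - c * ((q + 1) * c - 1)) = 0 := by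
    subst hb; linear_combination -h1
  have h4 := (mul_eq_zero.1 h3).resolve_left hq1
  have h5 : a * (c + q - 1) % 8 = c * ((q + 1) * c - 1) % 8 := by rw [sub_eq_zero.1 h4]
  simp [Int.mul_emod, Int.sub_emod, Int.add_emod, hq, hc, ha] at h5

/-- The root `1` for natural degrees. -/
theorem eq_one {q a b c : ℕ} (hq : q % 8 = 3) (hc : c % 8 = 7) (ha : a % 8 = 1)
    (hab : a + b = (q + 1) * c) (hb0 : b ≠ 0)
    (h : 1 / (a : ℚ) + (q : ℚ) ^ 2 / (b : ℚ) = 1 + (q : ℚ) ^ 2 / (((q : ℚ) + 1) * (c : ℚ) - 1)) :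
    a = 1 := by
  have hbz : (b : ℤ) = ((q : ℤ) + 1) * (c : ℤ) - (a : ℤ) := by
    have := congrArg (Nat.cast : ℕ → ℤ) hab
    push_cast at this
    linarith
  have := eq_one_int (q := q) (a := a) (b := b) (c := c) (by omega) (by omega) (by omega) hbz
    (by exact_mod_cast hb0) (by
      have : (7 : ℤ) ≤ c := by omega
      have : (4 : ℤ) ≤ (q : ℤ) + 1 := by omega
      nlinarith)
    (by simpa only [Int.cast_natCast] using h)
  exact_mod_cast this

/-- Equality in the Cauchy inequality for two classes. -/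
theorem eq_of_cauchy {q m c d : ℚ} (hq : q + 1 ≠ 0) (hm : m ≠ 0) (hc : c ≠ 0) (hd : d ≠ 0)
    (h : (q + 1) * (1 / c + m / d) * ((q + 1) * (c + m * d)) = (m + 1) ^ 2 * (q + 1) ^ 2) : d = c := by
  have h0 : (q + 1) ^ 2 * m * (c - d) ^ 2 = 0 := by
    field_simp at h
    linear_combination (q + 1) ^ 2 * h
  rcases mul_eq_zero.1 h0 with h1 | h1
  · rcases mul_eq_zero.1 h1 with h2 | h2
    · exact absurd (pow_eq_zero_iff (two_ne_zero) |>.1 h2) hq
    · exact absurd h2 hm
  · exact (sub_eq_zero.1 (pow_eq_zero_iff (two_ne_zero) |>.1 h1)).symm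

end CfsgLib.Walter.Twist.RowsArith
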