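import Cfsg.Agent.Lib.Walter.Twist.RowsCommon

/-!
Walter, the field part, case D: the principal block determines the index.
-/

set_option autoImplicit false

namespace CfsgLib.Walter.Twist.RowsNum

/-- The index is prime to `q - 1`. -/
theorem coprime_index {q I : ℕ} (hq : q % 2 = 1) (hI : Odd I)
    (hJ : ∀ s : ℕ, s.Prime → s ∣ (q - 1) / 2 → ¬ s ∣ I) : IsCoprime ((q : ℤ) - 1) (I : ℤ) := by
  have h : Nat.Coprime (q - 1) I := by
    refine Nat.coprime_of_dvd fun k hk h1 h2 => ?_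
    rcases eq_or_ne k 2 with rfl | hk2
    · exact (Nat.not_even_iff_odd.2 hI) (even_iff_two_dvd.2 h2)
    · refine hJ k hk ?_ h2
      have h3 : k ∣ 2 * ((q - 1) / 2) := by rwa [show 2 * ((q - 1) / 2) = q - 1 by omega]
      exact (hk.dvd_mul.1 h3).resolve_left fun h4 =>
        hk2 ((Nat.prime_dvd_prime_iff_eq hk Nat.prime_two).1 h4)
  have := Nat.isCoprime_iff_coprime.2 h
  rwa [Nat.cast_sub (by omega), Nat.cast_one] at this

/-- The values `1`, `q` twice: the index is that of a Ree group. -/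
theorem index_one_q {q I n : ℕ} {c : ℤ} (hqn : q = 3 ^ n) (h8 : q % 8 = 3) (hq : 27 ≤ q)
    (hcop : IsCoprime ((q : ℤ) - 1) (I : ℤ)) (hchar : ¬ 3 ∣ I ∨ q ∣ I)
    (hr : ∃ r : ℕ, r.Prime ∧ 5 ≤ r ∧ r ∣ I ∧ r ∣ q ^ 2 - q + 1) (hc : c % 8 = 7)
    (h : (I : ℤ) * (c - 1) ^ 2 =
      (q : ℤ) * ((q : ℤ) - 1) ^ 2 * (c * (((q : ℤ) + 1) * c - 1))) :
    I = q ^ 2 * (q ^ 2 - q + 1) := by
  obtain ⟨k, hk⟩ : ((q : ℤ) - 1) ∣ c - 1 :=
    (Int.pow_dvd_pow_iff two_ne_zero).1 ((hcop.pow_left (m := 2)).dvd_of_dvd_mul_left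
      ⟨(q : ℤ) * (c * (((q : ℤ) + 1) * c - 1)), by linear_combination h⟩)
  have hc' : c = 1 + ((q : ℤ) - 1) * k := by linarith
  have hk4 : k % 4 = 3 := by
    have e : ((q : ℤ) - 1) * k = 8 * (((q : ℤ) / 8) * k) + 2 * k := by
      have : (q : ℤ) = 8 * ((q : ℤ) / 8) + 3 := by omega
      calc ((q : ℤ) - 1) * k = (8 * ((q : ℤ) / 8) + 2) * k := by rw [show (q : ℤ) - 1 =
            8 * ((q : ℤ) / 8) + 2 by omega]
        _ = _ := by ring
    omega
  have hI : (I : ℤ) * k ^ 2 =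
      (q : ℤ) * (1 + ((q : ℤ) - 1) * k) * (((q : ℤ) ^ 2 - 1) * k + q) := by
    apply mul_left_cancel₀ (pow_ne_zero 2 (show (q : ℤ) - 1 ≠ 0 by omega))
    rw [hc'] at h
    linear_combination h
  have hkdvd : k ∣ (q : ℤ) := by
    have h1 : k ^ 2 ∣ (q : ℤ) * (k * ((q : ℤ) ^ 2 - 1) + q) :=
      (IsCoprime.pow_left (R := ℤ) (m := 2) ⟨-((q : ℤ) - 1), 1, by ring⟩ :
        IsCoprime (k ^ 2) (1 + ((q : ℤ) - 1) * k)).dvd_of_dvd_mul_left
        ⟨(I : ℤ), by linear_combination -hI⟩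
    simpa using CfsgLib.ReeOrder.Arith.dvd_of_sq_dvd (c := 1) (M := (q : ℤ))
      (x := (q : ℤ) ^ 2 - 1) (by omega) (by simpa using h1)
  obtain ⟨i, hin, hi⟩ : ∃ i, i ≤ n ∧ k.natAbs = 3 ^ i :=
    (Nat.dvd_prime_pow Nat.prime_three).1 (hqn ▸ Int.natAbs_dvd_natAbs.2 hkdvd)
  obtain ⟨σ, hσ, hkσ⟩ : ∃ σ : ℤ, (σ = 1 ∨ σ = -1) ∧ k = σ * 3 ^ i := by
    rcases Int.natAbs_eq k with h1 | h1
    · exact ⟨1, Or.inl rfl, by rw [h1, hi]; push_cast; ring⟩
    · exact ⟨-1, Or.inr rfl, by rw [h1, hi]; push_cast; ring⟩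
  rcases Nat.eq_zero_or_pos i with hi0 | hi0
  · -- `k = -1`
    exfalso
    subst hi0
    rw [pow_zero, mul_one] at hkσ
    obtain rfl : σ = -1 := by omega
    subst hkσ
    obtain ⟨r, hr, h5, hrI, hrR⟩ := hr
    have hrp : Prime (r : ℤ) := Nat.prime_iff_prime_int.1 hr
    have hq2 : q ≤ q ^ 2 := Nat.le_self_pow two_ne_zero q
    have hR : (r : ℤ) ∣ (q : ℤ) ^ 2 - q + 1 := by
      have h1 := Int.natCast_dvd_natCast.2 hrR
      push_cast [Nat.cast_sub hq2] at h1
      exact h1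
    have hd : (r : ℤ) ∣ (q : ℤ) * ((q : ℤ) - 2) * ((q : ℤ) ^ 2 - q - 1) := by
      rw [show (q : ℤ) * ((q : ℤ) - 2) * ((q : ℤ) ^ 2 - q - 1) = (I : ℤ) by linear_combination -hI]
      exact Int.natCast_dvd_natCast.2 hrI
    have hsmall : ∀ b : ℤ, (r : ℤ) ∣ b → b = 1 ∨ b = 2 ∨ b = 3 → False := fun b hb hb' => by
      have := Int.le_of_dvd (by omega) hb
      omega
    rcases hrp.dvd_or_dvd hd with h1 | h1
    · rcases hrp.dvd_or_dvd h1 with h2 | h2
      · exact hsmall 1 (by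
          have := dvd_sub hR (h2.mul_right ((q : ℤ) - 1))
          rwa [show (q : ℤ) ^ 2 - q + 1 - (q : ℤ) * ((q : ℤ) - 1) = 1 by ring] at this) (Or.inl rfl)
      · exact hsmall 3 (by
          have := dvd_sub hR (h2.mul_right ((q : ℤ) + 1))
          rwa [show (q : ℤ) ^ 2 - q + 1 - ((q : ℤ) - 2) * ((q : ℤ) + 1) = 3 by ring] at this)
          (Or.inr (Or.inr rfl))
    · exact hsmall 2 (by
        have := dvd_sub hR h1
        rwa [show (q : ℤ) ^ 2 - q + 1 - ((q : ℤ) ^ 2 - q - 1) = 2 by ring] at this)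
        (Or.inr (Or.inl rfl))
  rcases lt_or_eq_of_le hin with hlt | rfl
  · -- a proper power of three contradicts the Sylow argument
    exfalso
    obtain ⟨d, hd⟩ : ∃ d, n = i + (d + 1) := ⟨n - i - 1, by omega⟩
    have hqz : (q : ℤ) = 3 ^ i * 3 ^ (d + 1) := by
      rw [hqn, hd, pow_add]; push_cast; ring
    set T : ℤ := 3 ^ (d + 1) with hT
    set w : ℤ := T + σ * ((q : ℤ) ^ 2 - 1) with hw
    have hσ2 : σ * σ = 1 := by rcases hσ with rfl | rfl <;> norm_num
    have hIe : (I : ℤ) = T * (c * w) := by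
      apply mul_right_cancel₀ (pow_ne_zero 2 (pow_ne_zero i (show (3 : ℤ) ≠ 0 by norm_num)))
      rw [hw, hc']
      rw [hkσ] at hI ⊢
      linear_combination hI - (I : ℤ) * (3 ^ i) ^ 2 * hσ2 +
        (1 + ((q : ℤ) - 1) * (σ * 3 ^ i)) *
          (((q : ℤ) ^ 2 - 1) * (σ * 3 ^ i) + q + 3 ^ i * T) * hqz
    have h3i : (3 : ℤ) ∣ 3 ^ i := dvd_pow_self _ (by omega)
    have h3T : (3 : ℤ) ∣ T := dvd_pow_self _ (Nat.succ_ne_zero d)
    have hncw : ¬ (3 : ℤ) ∣ c * w := by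
      intro hd3
      rcases Int.prime_three.dvd_or_dvd hd3 with h1 | h1
      · have h2 : (3 : ℤ) ∣ k := by rw [hkσ]; exact h3i.mul_left _
        have := dvd_sub h1 (h2.mul_left ((q : ℤ) - 1))
        rw [hc'] at this
        norm_num at this
      · have h2 : (3 : ℤ) ∣ (q : ℤ) := by rw [hqz]; exact h3i.mul_right _
        have := dvd_sub (dvd_add h3T ((h2.pow two_ne_zero).mul_left σ)) h1
        rw [hw, show T + σ * (q : ℤ) ^ 2 - (T + σ * ((q : ℤ) ^ 2 - 1)) = σ by ring] at this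
        rcases hσ with rfl | rfl <;> norm_num at this
    rcases hchar with h1 | h1
    · apply h1
      rw [← Int.natCast_dvd_natCast, hIe]
      exact_mod_cast h3T.mul_right (c * w)
    · rw [← Int.natCast_dvd_natCast, hIe, hqz, mul_comm (3 ^ i : ℤ)] at h1
      exact hncw (h3i.trans ((mul_dvd_mul_iff_left (pow_ne_zero _ (by norm_num))).1 h1))
  -- `k = q`
  have hkq : k = σ * (q : ℤ) := by rw [hkσ, hqn]; push_cast; rfl
  rcases hσ with rfl | rfl
  swap
  · exfalso; omega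
  rw [one_mul] at hkq
  subst hkq
  have hIval : (I : ℤ) = (q : ℤ) ^ 2 * ((q : ℤ) ^ 2 - q + 1) := by
    apply mul_right_cancel₀ (pow_ne_zero 2 (show (q : ℤ) ≠ 0 by omega))
    linear_combination hI
  have hq2 : q ≤ q ^ 2 := Nat.le_self_pow two_ne_zero q
  zify [hq2]
  exact hIval

/-- The first arithmetic step. -/
theorem indexStep : IndexStep := by
  intro q I n hqn hn hn3 hIodd hJ hchar hr W hx0 hv0 hseven
  obtain ⟨h8, hq, -⟩ := q_facts hqn hn hn3
  obtain ⟨-, hv01, hv23, -⟩ := vals W h8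
  have hv1 : W.v 1 = q := by omega
  have hIpos : 0 < I := hIodd.pos
  have hcop := coprime_index (by omega) hIodd hJ
  have key := int_eq W h8 hIpos
  rw [hx0, hv0, hv1] at key
  rcases pair_cases W h8 hv23 with hc | hc | hc
  rotate_left 2
  · -- equal values: the two further equations leave nothing
    exfalso
    have he := pair_eq W hc.1 hc.2
    obtain ⟨hf, P, R, hP, hR, hsum, hg⟩ := hseven (by omega)
    have hb : W.x 1 = -(2 * W.x 2 + 1) := by have := W.sum_x; omega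
    have hm : W.v 2 = ((q : ℤ) + 1) / 2 := by omega
    have hm3 : W.v 3 = ((q : ℤ) + 1) / 2 := by omega
    have hcong2 := W.cong 2
    have hcong1 := W.cong 1
    have hsq : CfsgLib.ReeOrder.sq q = (q : ℤ) := by simp [CfsgLib.ReeOrder.sq, h8]
    have hK : (1 : ℚ) + (q : ℚ) ^ 2 / W.x 1 + (W.v 2 : ℚ) ^ 2 / W.x 2 + (W.v 2 : ℚ) ^ 2 / W.x 2 =
        CfsgLib.ReeOrder.ratio q I := by
      have hK := W.eq_K
      rw [hx0, hv0, hv1, he, hm3, ← hm] at hK
      simpa using hK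
    refine CfsgLib.ReeOrder.Arith.twisted (q := q) (I := I) (u := ![W.x 1, W.x 2, W.x 2])
      (v := ![(q : ℤ), W.v 2, W.v 2]) (by omega) (Or.inl h8) hIpos ⟨?_, ?_, ?_, ?_⟩ ?_ ?_
    · intro i
      have h2 : 2 ≤ |W.x 2| := by
        rw [abs_of_pos hf]
        omega
      have h1 : 2 ≤ |W.x 1| := by
        rw [hb, abs_neg, abs_of_pos (by omega)]
        omega
      fin_cases i <;> simpa
    · simp; omega
    · intro i; fin_cases i <;> simp <;> omega
    · simpa using hK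
    · refine ⟨by simp [hsq], by simp [hsq]; omega, rfl, rfl, ?_, P, R, hP, hR, ?_, ?_⟩
      · simp [hsq]; exact mul_pos hf (by omega)
      · simpa using hsum
      · rw [← hm] at hg
        rw [hsq]
        simp only [Matrix.cons_val_zero, Matrix.cons_val_one, Int.cast_natCast]
        rw [hb]
        exact hg
    · refine ⟨0, ?_, ?_⟩
      · have hs := pair_sum W
        have hne : (1 : ℚ) + W.x 1 ≠ 0 := by
          have : (1 : ℤ) + W.x 1 ≠ 0 := by omega
          exact_mod_cast this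
        have hx2 : (W.x 2 : ℚ) ≠ 0 := Int.cast_ne_zero.2 (W.x_ne 2)
        have hbq : (W.x 1 : ℚ) = -(2 * (W.x 2 : ℚ) + 1) := by rw [hb]; push_cast; ring
        have hmq : 2 * (W.v 2 : ℚ) = (q : ℚ) + 1 := by exact_mod_cast hc.1
        simp only [Matrix.cons_val_zero, Int.cast_natCast]
        refine Eq.trans ?_ hK
        rw [hbq, show (1 : ℚ) + -(2 * (W.x 2 : ℚ) + 1) = -(2 * (W.x 2 : ℚ)) by ring,
          show (1 : ℚ) + (q : ℚ) = 2 * (W.v 2 : ℚ) by rw [hmq]; ring]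
        field_simp
        ring
      · obtain ⟨jq, hjq⟩ : ∃ jq : ℤ, (q : ℤ) = 8 * jq + 3 := ⟨(q : ℤ) / 8, by omega⟩
        have hdvd : ((q : ℤ) - 1) ∣ 2 * (W.x 2 + (4 * jq + 2)) := by
          refine (Int.pow_dvd_pow_iff two_ne_zero).1 ((hcop.pow_left (m := 2)).dvd_of_dvd_mul_left
            ⟨(q : ℤ) * ((q : ℤ) + 1) * (1 * W.x 1 * (1 + W.x 1)), ?_⟩)
          rw [show (2 * (W.x 2 + (4 * jq + 2))) ^ 2 = (1 * W.x 1 - (q : ℤ) * 1) ^ 2 by
            rw [hb, hjq]; ring]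
          linear_combination key
        obtain ⟨d, hd⟩ := hdvd
        have hodd : CfsgLib.ReeOrder.oddTorus q = (4 * jq + 1).natAbs :=
          CfsgLib.ReeOrder.Arith.oddTorus_eq (by rw [hsq]; omega)
        intro j hj
        rw [hodd, Int.natAbs_dvd]
        have h1 : (4 * jq + 1) ∣ W.x 2 + 1 :=
          ⟨d - 1, by rw [hjq] at hd; linarith⟩
        fin_cases j
        · exact absurd rfl hj
        · simpa using h1
        · simpa using h1
  all_goals
    obtain ⟨e, he, he8⟩ := pair_one_q W (by first | exact Or.inl hc | exact Or.inr hc)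
    have hb : W.x 1 = -((((q : ℤ) + 1) * e)) - 1 := by have := W.sum_x; linarith
    refine index_one_q (c := -e) hqn h8 hq hcop hchar hr (by omega) ?_
    rw [hb] at key
    apply mul_left_cancel₀ (pow_ne_zero 2 (show (q : ℤ) + 1 ≠ 0 by omega))
    linear_combination key

end CfsgLib.Walter.Twist.RowsNum

namespace CfsgLib.Walter.Twist

/-- The principal block determines the index. -/
theorem indexStep : IndexStep := RowsNum.indexStep

end CfsgLib.Walter.Twist
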