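import Cfsg.Agent.Lib.Walter.Twist.RowsCommon

/-!
Walter, the field part, case D: with the index of a Ree group every twisted block has a signed degree one.

The Diophantine core: with `R = q² - q + 1` the equation `(c - a)² q R = (q - 1)² a b c`, `a + b = (q + 1) c`
has only the solutions `(1, q³, R)` and `(q R, R, R)`.
-/

set_option autoImplicit false

namespace CfsgLib.Walter.Twist.RowsNum

/-- Two non-zero integers far apart have a large product. -/
theorem abs_mul_ge {A C : ℤ} (hA : A ≠ 0) (hC : C ≠ 0) : |A - C| - 1 ≤ |A * C| := by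
  have h1 : 1 ≤ |A| := Int.one_le_abs hA
  have h2 : 1 ≤ |C| := Int.one_le_abs hC
  have h3 : |A - C| ≤ |A| + |C| := abs_sub A C
  rw [abs_mul]
  nlinarith [mul_nonneg (show 0 ≤ |A| - 1 by linarith) (show 0 ≤ |C| - 1 by linarith)]

/-- A divisor is small. -/
theorem abs_le_of_dvd {a b : ℤ} (hb : 0 < b) (h : a ∣ b) : |a| ≤ b :=
  Int.le_of_dvd hb ((abs_dvd a b).2 h)

variable {q R : ℤ}

/-- `A ∣ x² + x y + y²` from the equation. -/
theorem dvd_norm_left (hR : R = q ^ 2 - q + 1) {x y A : ℤ} (hA : A = q * x + y) (h : A ∣ x ^ 2 * R) :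
    A ∣ x ^ 2 + x * y + y ^ 2 := by
  have e : x ^ 2 + x * y + y ^ 2 = x ^ 2 * R + A * (x + A - 2 * q * x) := by
    subst hA hR; ring
  rw [e]; exact dvd_add h (dvd_mul_right _ _)

/-- The case of a second coordinate dominating: no solution. -/
theorem large_case (hq : 27 ≤ q) (hR : R = q ^ 2 - q + 1) {x y : ℤ} (hxy : |x| < |y|) (hy : q ≤ |y|)
    (hx : x ≠ 0) (hsign : x * y < 0) (hA : q * x + y ≠ 0)
    (hle : |(q * x + y) * (x + q * y) * (x + y)| ≤ q * R) : False := by
  wlog hpos : 0 < x generalizing x y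
  · refine this (x := -x) (y := -y) (by simpa using hxy) (by simpa using hy) (neg_ne_zero.2 hx)
      (by linarith) (fun h => hA (by linarith)) ?_ (by omega)
    rw [show (q * -x + -y) * (-x + q * -y) * (-x + -y) = -((q * x + y) * (x + q * y) * (x + y)) by
      ring, abs_neg]
    exact hle
  obtain ⟨Y, rfl⟩ : ∃ Y, y = -Y := ⟨-y, by ring⟩
  have hY : 0 < Y := by
    by_contra hc
    nlinarith
  rw [abs_neg, abs_of_pos hY] at hxy hy
  rw [abs_of_pos hpos] at hxy
  set B : ℤ := q * Y - x with hB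
  set C : ℤ := Y - x with hC
  have hB' : (q - 1) * Y + 1 ≤ B := by rw [hB]; nlinarith
  have hAC : |q * x - Y| * C * B ≤ q * R := by
    refine le_trans (le_of_eq ?_) hle
    rw [show (q * x + -Y) * (x + q * -Y) * (x + -Y) = (q * x - Y) * (B * C) by
      rw [hB, hC]; ring, abs_mul, abs_of_pos (show 0 < B * C from mul_pos (by nlinarith) (by omega))]
    ring
  have hA0 : q * x - Y ≠ 0 := by rw [sub_eq_add_neg]; exact hA
  have h1 : 1 ≤ |q * x - Y| := Int.one_le_abs hA0
  set Z : ℤ := |q * x - Y| with hZ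
  have hZ1 : q * x - Y ≤ Z := le_abs_self _
  have hZ2 : Y - q * x ≤ Z := by
    rw [hZ, abs_sub_comm]; exact le_abs_self _
  have hC1 : 1 ≤ C := by omega
  have hsmall : Z * C ≤ q := by
    by_contra hc
    have : (q + 1) * ((q - 1) * Y + 1) ≤ Z * C * B :=
      mul_le_mul (by omega) hB' (by nlinarith) (by nlinarith)
    subst hR
    nlinarith [mul_le_mul_of_nonneg_left hy (show 0 ≤ (q + 1) * (q - 1) by nlinarith)]
  have hx1 : x = 1 := by
    by_contra hx1
    have : (q - 1) * x - 1 ≤ Z * C := by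
      nlinarith [mul_nonneg (show 0 ≤ Z - 1 by omega) (show 0 ≤ C - 1 by omega)]
    have : (q - 1) * 2 ≤ (q - 1) * x := mul_le_mul_of_nonneg_left (by omega) (by omega)
    omega
  subst hx1
  rw [mul_one] at hZ1 hZ2 hA0
  have hY1 : q + 1 ≤ Y := by omega
  have hY2 : Y = q + 1 := by
    by_contra hne
    nlinarith [mul_le_mul (show 2 ≤ Z by omega) (show q + 1 ≤ C by omega) (by omega) (by omega)]
  subst hY2 hR
  nlinarith [mul_le_mul_of_nonneg_left hB' (show 0 ≤ Z * C by positivity),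
    mul_le_mul (show 1 ≤ Z by omega) (show q ≤ C by omega) (by omega) (by omega)]

/-- The coprimality of the three factors with the variables. -/
theorem coprime_left {x y : ℤ} (h : IsCoprime x y) (q : ℤ) : IsCoprime (q * x + y) x :=
  (add_comm (y : ℤ) (q * x)) ▸ h.symm.add_mul_right_left q

/-- The bounds leave nothing if three does not divide the first variable and the second is not zero. -/
theorem free_bounds {x y : ℤ} (hq : 27 ≤ q) (hR : R = q ^ 2 - q + 1) (hxpos : 0 < x) (hy : y ≠ 0)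
    (hA0 : q * x + y ≠ 0) (hB0 : x + q * y ≠ 0) (hC0 : x + y ≠ 0)
    (hle : |(q * x + y) * (x + q * y) * (x + y)| ≤ q * R)
    (hBle : |x + q * y| ≤ x ^ 2 + x * y + y ^ 2)
    (hABle : |q * x + y| * |x + q * y| ≤ |y| * (x ^ 2 + x * y + y ^ 2)) : False := by
  rcases lt_or_gt_of_ne hy with hyn | hyp
  swap
  · -- both positive
    have hXY : x * y * (x + y) < q := by
      by_contra hc
      rw [not_lt] at hc
      have h1 : q * x * (q * y) * (x + y) < (q * x + y) * (x + q * y) * (x + y) := by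
        apply mul_lt_mul_of_pos_right _ (by omega); nlinarith
      have h2 := le_trans (le_abs_self _) hle
      subst hR
      nlinarith [mul_le_mul_of_nonneg_left hc (show 0 ≤ q * q by positivity)]
    have hB1 := le_trans (le_abs_self _) hBle
    have hy1 : y = 1 := by
      by_contra hne
      have h2 : 2 ≤ y := by omega
      have h3 : x * y * (x + y) * y < q * y := mul_lt_mul_of_pos_right hXY hyp
      have h4 : 2 * (x * y) ≤ y * (x * y) := mul_le_mul_of_nonneg_right h2 (by positivity)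
      have h5 : 0 ≤ (x - 1) * (y - 1) := mul_nonneg (by omega) (by omega)
      have h6 : x + y ≤ x * y * y := by nlinarith
      nlinarith [mul_le_mul_of_nonneg_left h6 (show 0 ≤ x + y by omega)]
    subst hy1
    nlinarith
  obtain ⟨Y, rfl⟩ : ∃ Y, y = -Y := ⟨-y, by ring⟩
  have hY : 0 < Y := by omega
  rw [abs_neg, abs_of_pos hY] at hABle
  have hne : x ≠ Y := by rintro rfl; exact hC0 (by ring)
  rcases lt_or_gt_of_ne hne with hlt | hgt
  · -- the second variable dominates
    have hN2 : x ^ 2 + x * -Y + (-Y) ^ 2 < Y ^ 2 := by nlinarith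
    have hB1 : q * Y - x ≤ |x + q * -Y| := by
      rw [show q * Y - x = -(x + q * -Y) by ring]; exact neg_le_abs _
    have hyq : q ≤ Y := by
      by_contra hc
      nlinarith
    exact large_case (x := x) (y := -Y) hq hR
      (by rw [abs_neg, abs_of_pos hY, abs_of_pos hxpos]; exact hlt)
      (by rw [abs_neg, abs_of_pos hY]; exact hyq) hxpos.ne' (by nlinarith) hA0 hle
  · by_cases hxq : q ≤ x
    · refine large_case (x := -Y) (y := x) hq hR
        (by rw [abs_neg, abs_of_pos hY, abs_of_pos hxpos]; exact hgt)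
        (by rw [abs_of_pos hxpos]; exact hxq) hy (by nlinarith) ?_ ?_
      · rw [add_comm]; exact hB0
      · refine le_trans (le_of_eq ?_) hle
        congr 1; ring
    · have hA1 : (q - 1) * x + 1 ≤ |q * x + -Y| := by
        refine le_trans ?_ (le_abs_self _)
        nlinarith
      have hB1 : q * (Y - 1) + 1 ≤ |x + q * -Y| := by
        refine le_trans ?_ (neg_le_abs _)
        nlinarith
      have hN2 : x ^ 2 + x * -Y + (-Y) ^ 2 < x ^ 2 := by nlinarith
      have h1 : ((q - 1) * x) * (q * (Y - 1) + 1) < Y * x ^ 2 := by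
        refine lt_of_le_of_lt (le_trans ?_ (le_trans
          (mul_le_mul hA1 hB1 (by nlinarith) (abs_nonneg _)) hABle)) ?_
        · nlinarith
        · exact mul_lt_mul_of_pos_left hN2 hY
      have h2 : (q - 1) * (q * (Y - 1) + 1) < Y * x := by
        by_contra hc
        nlinarith [mul_le_mul_of_nonneg_right (not_lt.1 hc) hxpos.le]
      have h3 : Y * x ≤ (q - 1) * Y := by nlinarith
      have h4 : q * (Y - 1) + 1 < Y :=
        lt_of_mul_lt_mul_left (lt_of_lt_of_le h2 h3) (by omega)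
      nlinarith

/-- Three does not divide the first variable. -/
theorem free_case {x y g : ℤ} (hq : 27 ≤ q) (hR : R = q ^ 2 - q + 1) (hqx : IsCoprime q x)
    (hxy : IsCoprime x y) (hg : 0 < g) (hcR : IsCoprime (q ^ 2 - 1) R)
    (h : g * ((q * x + y) * (x + q * y) * (x + y)) = x ^ 2 * (q * R)) :
    g * (q * x + y) = q * R := by
  have hRpos : 0 < R := by subst hR; nlinarith
  have hqR : 0 < q * R := by positivity
  have hxne : x ≠ 0 := by
    rintro rfl
    have h1 : IsUnit q := isCoprime_zero_right.1 hqx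
    rcases Int.isUnit_iff.1 h1 with h2 | h2 <;> omega
  have hcA := coprime_left hxy q
  have hcB : IsCoprime (x + q * y) x := by
    have h1 : IsCoprime (q * y) x := hqx.mul_left hxy.symm
    simpa [add_comm] using h1.add_mul_right_left 1
  have hcC : IsCoprime (x + y) x := by
    simpa [add_comm] using hxy.symm.add_mul_right_left 1
  set A : ℤ := q * x + y with hA
  set B : ℤ := x + q * y with hB
  set C : ℤ := x + y with hC
  obtain ⟨g', rfl⟩ : x ^ 2 ∣ g :=
    (((hcA.mul_left hcB).mul_left hcC).pow_right).symm.dvd_of_dvd_mul_right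
      ⟨q * R, h⟩
  have h' : g' * (A * B * C) = q * R :=
    mul_left_cancel₀ (pow_ne_zero 2 hxne) (by linear_combination h)
  have hne : A * B * C ≠ 0 := fun e => by rw [e, mul_zero] at h'; omega
  have hA0 : A ≠ 0 := fun e => hne (by rw [e]; ring)
  have hB0 : B ≠ 0 := fun e => hne (by rw [e]; ring)
  have hC0 : C ≠ 0 := fun e => hne (by rw [e]; ring)
  have hg' : 0 < g' := by
    have : 0 < x ^ 2 := by positivity
    exact pos_of_mul_pos_right hg this.le
  rcases eq_or_ne y 0 with rfl | hy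
  · rcases Int.isUnit_iff.1 (isCoprime_zero_right.1 hxy) with rfl | rfl
    · simp only [hA, hB, hC] at h' ⊢
      nlinarith
    · simp only [hA, hB, hC] at h'
      nlinarith
  exfalso
  have hdvd : A * B * C ∣ q * R := ⟨g', by rw [← h']; ring⟩
  have hle : |A * B * C| ≤ q * R := abs_le_of_dvd hqR hdvd
  have hAdvd : A ∣ q * R := dvd_trans ⟨B * C, by ring⟩ hdvd
  have hBR : B ∣ R := by
    have hcq : IsCoprime B q := by
      simpa [hB] using hqx.symm.add_mul_left_left y
    exact hcq.dvd_of_dvd_mul_left (dvd_trans ⟨A * C, by ring⟩ hdvd)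
  have hAy : A ∣ y * R := by
    rw [show y * R = A * R - x * (q * R) by rw [hA]; ring]
    exact dvd_sub (dvd_mul_right _ _) (hAdvd.mul_left _)
  set N : ℤ := x ^ 2 + x * y + y ^ 2 with hN
  have hAN : A ∣ y * N := by
    rw [show y * N = x ^ 2 * (y * R) + A * (y * (x + A - 2 * q * x)) by rw [hN, hA, hR]; ring]
    exact dvd_add (hAy.mul_left _) (dvd_mul_right _ _)
  have hBN : B ∣ N := by
    rw [show N = y ^ 2 * R + B * (B - 2 * q * y + y) by rw [hN, hB, hR]; ring]
    exact dvd_add (hBR.mul_left _) (dvd_mul_right _ _)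
  have hcAB : IsCoprime A B := by
    obtain ⟨u, v, huv⟩ := hxy
    obtain ⟨α, β, hαβ⟩ := hcR
    obtain ⟨k, hk⟩ := hBR
    refine ⟨α * (u * q - v), β * k + α * (v * q - u), ?_⟩
    rw [hA, hB] at *
    linear_combination hαβ - β * hk + α * (q ^ 2 - 1) * huv
  have hABN : A * B ∣ y * N := hcAB.mul_dvd hAN (hBN.mul_left _)
  have hNpos : 0 < N := by
    rw [hN]; nlinarith [sq_nonneg (x + y), sq_nonneg (x - y), mul_self_pos.2 hxne]
  have hBle : |B| ≤ N := abs_le_of_dvd hNpos hBN
  have hABle : |A| * |B| ≤ |y| * N := by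
    rw [← abs_mul]
    calc |A * B| ≤ |y * N| :=
          Int.le_of_dvd (abs_pos.2 (mul_ne_zero hy hNpos.ne')) ((abs_dvd_abs _ _).2 hABN)
      _ = _ := by rw [abs_mul, abs_of_pos hNpos]
  rcases lt_or_gt_of_ne hxne with hxn | hxp
  · refine free_bounds (x := -x) (y := -y) hq hR (by omega) (neg_ne_zero.2 hy) ?_ ?_ ?_ ?_ ?_ ?_
    · rw [show q * -x + -y = -A by rw [hA]; ring]; exact neg_ne_zero.2 hA0
    · rw [show -x + q * -y = -B by rw [hB]; ring]; exact neg_ne_zero.2 hB0
    · rw [show -x + -y = -C by rw [hC]; ring]; exact neg_ne_zero.2 hC0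
    · rw [show (q * -x + -y) * (-x + q * -y) * (-x + -y) = -(A * B * C) by rw [hA, hB, hC]; ring,
        abs_neg]
      exact hle
    · rw [show -x + q * -y = -B by rw [hB]; ring, abs_neg,
        show (-x) ^ 2 + -x * -y + (-y) ^ 2 = N by rw [hN]; ring]
      exact hBle
    · rw [show q * -x + -y = -A by rw [hA]; ring, show -x + q * -y = -B by rw [hB]; ring,
        show (-x) ^ 2 + -x * -y + (-y) ^ 2 = N by rw [hN]; ring, abs_neg, abs_neg, abs_neg]
      exact hABle
  · exact free_bounds hq hR hxp hy hA0 hB0 hC0 hle hBle hABle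

set_option maxHeartbeats 800000 in
/-- Three divides the first variable, which is smaller than `q`: no solution. -/
theorem three_small {x y A B C g : ℤ} {n : ℕ} (hqn : q = 3 ^ n) (hq : 27 ≤ q)
    (hR : R = q ^ 2 - q + 1) (hx : x ≠ 0) (hxy : IsCoprime x y) (hA : A = q * x + y)
    (hB : B = x + q * y) (hC : C = x + y) (hcq : IsCoprime (A * C) (x ^ 2 * q))
    (h : g * (A * B * C) = x ^ 2 * (q * R)) (hx3 : 3 ≤ |x|)
    (hdiff : (q - 1) * |x| - 1 ≤ |A * C|) (hlt : |x| < q) (hACdvd : A * C ∣ R)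
    (hACle : |A * C| ≤ R) : False := by
  have hRpos : 0 < R := by subst hR; nlinarith
  -- the 3-part of `B` is that of `x`
  obtain ⟨e, x', hx'3, hxe⟩ := Nat.exists_eq_pow_mul_and_not_dvd (n := x.natAbs) (by omega) 3
    (by norm_num)
  have hx'0 : 0 < x' := Nat.pos_of_ne_zero fun h0 => by rw [h0] at hx'3; simp at hx'3
  have hen : e < n := by
    by_contra hc
    have h1 : 3 ^ n ≤ 3 ^ e * x' :=
      le_trans (Nat.pow_le_pow_right (by norm_num) (not_lt.1 hc)) (Nat.le_mul_of_pos_right _ hx'0)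
    have h2 : (q : ℤ) ≤ (x.natAbs : ℤ) := by rw [hqn, hxe]; exact_mod_cast h1
    rw [Int.natCast_natAbs] at h2
    omega
  obtain ⟨d, hd⟩ : ∃ d, n = e + (d + 1) := ⟨n - e - 1, by omega⟩
  obtain ⟨z, hz, hz3⟩ : ∃ z : ℤ, x = 3 ^ e * z ∧ ¬ (3 : ℤ) ∣ z := by
    rcases Int.natAbs_eq x with h1 | h1
    · exact ⟨x', by rw [h1, hxe]; push_cast; ring, by exact_mod_cast hx'3⟩
    · exact ⟨-x', by rw [h1, hxe]; push_cast; ring, by rw [dvd_neg]; exact_mod_cast hx'3⟩
  set w : ℤ := z + 3 ^ (d + 1) * y with hw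
  have hBw : B = 3 ^ e * w := by rw [hB, hw, hqn, hz, hd, pow_add]; ring
  have hz3' : IsCoprime z 3 := (Int.prime_three.coprime_iff_not_dvd.2 hz3).symm
  have hw3 : IsCoprime w 3 := by
    rw [hw, show z + 3 ^ (d + 1) * y = z + 3 ^ d * y * 3 by ring]
    exact hz3'.add_mul_right_left _
  have hwz : IsCoprime w z := by
    have h1 : IsCoprime (3 ^ (d + 1) * y) z :=
      (hz3'.symm.pow_left).mul_left (hxy.of_isCoprime_of_dvd_left ⟨3 ^ e, by rw [hz]; ring⟩).symm
    simpa [hw, add_comm] using h1.add_mul_right_left 1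
  have hwx : IsCoprime w x := by rw [hz]; exact hw3.pow_right.mul_right hwz
  have hcq' : IsCoprime (A * C * w) (x ^ 2 * q) := by
    refine hcq.mul_left (hwx.pow_right.mul_right ?_)
    exact hqn ▸ hw3.pow_right
  have hdvd : A * C * w ∣ R :=
    hcq'.dvd_of_dvd_mul_left ⟨g * 3 ^ e, by rw [hBw] at h; linear_combination -h⟩
  have h1 : |A * C| * |w| ≤ R := by rw [← abs_mul]; exact abs_le_of_dvd hRpos hdvd
  have h3e : (3 : ℤ) ^ e ≤ |x| := by
    rw [hz, abs_mul, abs_of_pos (show (0 : ℤ) < 3 ^ e by positivity)]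
    exact le_mul_of_one_le_right (by positivity) (Int.one_le_abs fun e0 => hz3 (by simp [e0]))
  have hBle : |A * C| * |B| ≤ R * |x| := by
    rw [hBw, abs_mul (3 ^ e : ℤ) w, abs_of_pos (show (0 : ℤ) < 3 ^ e by positivity)]
    calc |A * C| * (3 ^ e * |w|) = (|A * C| * |w|) * 3 ^ e := by ring
      _ ≤ R * |x| := mul_le_mul h1 h3e (by positivity) hRpos.le
  have hBge : q * |y| - |x| ≤ |B| := by
    have h2 := abs_sub B x
    rw [show B - x = q * y by rw [hB]; ring, abs_mul, abs_of_pos (show 0 < q by omega)] at h2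
    linarith
  have hy2 : |y| ≤ 2 := by
    by_contra hc
    have h2 : 2 * q + 1 ≤ |B| := by nlinarith
    have h3' := mul_le_mul hdiff h2 (by omega) (abs_nonneg _)
    subst hR
    nlinarith [mul_le_mul_of_nonneg_left hx3 (show 0 ≤ q ^ 2 - 2 by nlinarith)]
  have hAN : A ∣ x ^ 2 + x * y + y ^ 2 :=
    dvd_norm_left hR hA ((dvd_trans (dvd_mul_right A C) hACdvd).mul_left _)
  have hN : |A| ≤ |x| ^ 2 + 2 * |x| + 4 := by
    have hpos : 0 < x ^ 2 + x * y + y ^ 2 := by
      nlinarith [sq_nonneg (x + y), sq_nonneg (x - y), mul_self_pos.2 hx]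
    have h2 := abs_le_of_dvd hpos hAN
    have h3' : x * y ≤ |x| * |y| := by rw [← abs_mul]; exact le_abs_self _
    nlinarith [sq_abs x, sq_abs y, abs_nonneg x, abs_nonneg y]
  have hAge : q * |x| - 2 ≤ |A| := by
    have h2 := abs_sub A y
    rw [show A - y = q * x by rw [hA]; ring, abs_mul, abs_of_pos (show 0 < q by omega)] at h2
    linarith
  have hCge : |x| - 2 ≤ |C| := by
    have h2 := abs_sub C y
    rw [show C - y = x by rw [hC]; ring] at h2
    linarith
  have hxbig : q - 3 ≤ |x| := by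
    by_contra hc
    have h6 : (|x| - 3) * (q - 4 - |x|) ≥ 0 := mul_nonneg (by omega) (by omega)
    have h7 : (|x| - 3) * (q - 4 - |x|) = q * |x| - |x| ^ 2 - |x| - 3 * q + 12 := by ring
    omega
  have h4 : (q * |x| - 2) * (|x| - 2) ≤ R := by
    refine le_trans (mul_le_mul hAge hCge (by omega) (abs_nonneg _)) ?_
    rw [← abs_mul]; exact hACle
  have hlow : q * (q - 3) - 2 ≤ q * |x| - 2 :=
    sub_le_sub_right (mul_le_mul_of_nonneg_left hxbig (by omega)) 2
  have h5 : (q * (q - 3) - 2) * 22 ≤ R :=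
    le_trans (mul_le_mul hlow (show 22 ≤ |x| - 2 by omega) (by norm_num) (by nlinarith)) h4
  subst hR
  nlinarith

/-- Three divides the first variable, which is `q` up to sign: the solution. -/
theorem three_big {x y A B C g : ℤ} (hq : 27 ≤ q) (hR : R = q ^ 2 - q + 1) (hA : A = q * x + y)
    (hB : B = x + q * y) (hC : C = x + y) (hA0 : A ≠ 0) (hC0 : C ≠ 0)
    (h : g * (A * B * C) = x ^ 2 * (q * R)) (heq : |x| = q) (hACdvd : A * C ∣ R)
    (hACle : |A * C| ≤ R) : g * A = 1 := by
  have hRpos : 0 < R := by subst hR; nlinarith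
  have hqR : (0 : ℤ) < q * R := by positivity
  obtain ⟨ε, hε, hxε⟩ : ∃ ε : ℤ, (ε = 1 ∨ ε = -1) ∧ x = ε * q := by
    rcases abs_choice x with h1 | h1
    · exact ⟨1, Or.inl rfl, by omega⟩
    · exact ⟨-1, Or.inr rfl, by omega⟩
  have hε2 : ε ^ 2 = 1 := by rcases hε with rfl | rfl <;> norm_num
  have hsum : R - 1 ≤ |A| + |C| := by
    have h2 := abs_sub A C
    rw [show A - C = (q - 1) * x by rw [hA, hC]; ring, abs_mul,
      abs_of_pos (show 0 < q - 1 by omega), heq] at h2
    subst hR; linarith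
  have hA1 : 1 ≤ |A| := Int.one_le_abs hA0
  have hC1 : 1 ≤ |C| := Int.one_le_abs hC0
  have hprod : |A| * |C| ≤ R := by rw [← abs_mul]; exact hACle
  have hR' : 10 < R := by subst hR; nlinarith
  rcases (show |A| = 1 ∨ |C| = 1 by
    by_contra hc
    rw [not_or] at hc
    nlinarith [mul_nonneg (show 0 ≤ |A| - 2 by omega) (show 0 ≤ |C| - 2 by omega)]) with hA' | hC'
  · -- the solution
    obtain ⟨σ, hσ, hAσ⟩ : ∃ σ : ℤ, (σ = 1 ∨ σ = -1) ∧ A = σ :=
      ⟨A, abs_eq (by norm_num) |>.1 hA', rfl⟩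
    have hy : y = σ - ε * q ^ 2 := by rw [← hAσ, hA, hxε]; ring
    have hCR : C ∣ R := dvd_trans (dvd_mul_left C A) hACdvd
    have hεσ : ε = -σ := by
      rcases (show ε = -σ ∨ ε = σ by rcases hε with rfl | rfl <;> rcases hσ with rfl | rfl <;> simp)
        with h1 | h1
      · exact h1
      exfalso
      have hσ2 : σ * σ = 1 := by rcases hσ with rfl | rfl <;> norm_num
      have h2 : C ∣ R - (q ^ 2 - q - 1) := dvd_sub hCR
        ⟨-σ, by rw [hC, hxε, hy, h1]; linear_combination (1 + q - q ^ 2) * hσ2⟩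
      have h3 := abs_le_of_dvd (by subst hR; omega) h2
      have h4 : |C| = q ^ 2 - q - 1 := by
        have h5 : C = -σ * (q ^ 2 - q - 1) := by rw [hC, hxε, hy, h1]; ring
        rw [h5, abs_mul, abs_neg, abs_of_pos (show 0 < q ^ 2 - q - 1 by nlinarith)]
        rcases hσ with rfl | rfl <;> simp
      subst hR
      nlinarith
    subst hεσ
    have hCval : C = σ * R := by rw [hC, hxε, hy, hR]; ring
    have hBval : B = σ * q ^ 3 := by rw [hB, hxε, hy]; ring
    rw [hAσ, hBval, hCval, hxε] at h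
    have hgσ : g * σ = 1 := by
      apply mul_right_cancel₀ (show q ^ 3 * R ≠ 0 by positivity)
      rcases hσ with rfl | rfl <;> linear_combination h
    rw [hAσ]; exact hgσ
  · exfalso
    obtain ⟨σ, hσ, hCσ⟩ : ∃ σ : ℤ, (σ = 1 ∨ σ = -1) ∧ C = σ :=
      ⟨C, abs_eq (by norm_num) |>.1 hC', rfl⟩
    have hy : y = σ - ε * q := by rw [← hCσ, hC, hxε]; ring
    have hAR : A ∣ R := dvd_trans (dvd_mul_right A C) hACdvd
    have hεσ : ε = σ := by
      rcases (show ε = σ ∨ ε = -σ by rcases hε with rfl | rfl <;> rcases hσ with rfl | rfl <;> simp)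
        with h1 | h1
      · exact h1
      exfalso
      have hσ2 : σ * σ = 1 := by rcases hσ with rfl | rfl <;> norm_num
      have h2 : A ∣ R - (q ^ 2 - q - 1) := dvd_sub hAR
        ⟨-σ, by rw [hA, hxε, hy, h1]; linear_combination (1 + q - q ^ 2) * hσ2⟩
      have h3 := abs_le_of_dvd (by subst hR; omega) h2
      have h4 : |A| = q ^ 2 - q - 1 := by
        have h5 : A = -σ * (q ^ 2 - q - 1) := by rw [hA, hxε, hy, h1]; ring
        rw [h5, abs_mul, abs_neg, abs_of_pos (show 0 < q ^ 2 - q - 1 by nlinarith)]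
        rcases hσ with rfl | rfl <;> simp
      subst hR
      nlinarith
    subst hεσ
    have hAval : A = ε * R := by rw [hA, hxε, hy, hR]; ring
    have hBval : B = -ε * (q * (q - 2)) := by rw [hB, hxε, hy]; ring
    rw [hCσ, hBval, hAval, hxε] at h
    have h5 : (g * -ε) * (q - 2) = q ^ 2 := by
      apply mul_right_cancel₀ hqR.ne'
      rcases hε with rfl | rfl <;> linear_combination h
    have h6 : (q - 2) ∣ 4 := ⟨g * -ε - (q + 2), by linear_combination -h5⟩
    have := Int.le_of_dvd (by norm_num) h6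
    omega


/-- Three divides the first variable. -/
theorem three_case {x y g : ℤ} {n : ℕ} (hqn : q = 3 ^ n) (hq : 27 ≤ q) (hR : R = q ^ 2 - q + 1)
    (hx : x ≠ 0) (h3 : 3 ∣ x) (hxy : IsCoprime x y)
    (h : g * ((q * x + y) * (x + q * y) * (x + y)) = x ^ 2 * (q * R)) :
    g * (q * x + y) = 1 := by
  have hRpos : 0 < R := by subst hR; nlinarith
  have h3q : (3 : ℤ) ∣ q := by
    rw [hqn]; exact dvd_pow_self _ (by rintro rfl; norm_num at hqn; omega)
  have hy3 : IsCoprime (3 : ℤ) y := hxy.of_isCoprime_of_dvd_left h3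
  set A : ℤ := q * x + y with hA
  set B : ℤ := x + q * y with hB
  set C : ℤ := x + y with hC
  have hA3 : IsCoprime A 3 := by
    obtain ⟨k, hk⟩ := h3
    rw [hA, hk, show q * (3 * k) + y = y + q * k * 3 by ring]
    exact hy3.symm.add_mul_right_left _
  have hC3 : IsCoprime C 3 := by
    obtain ⟨k, hk⟩ := h3
    rw [hC, hk, show 3 * k + y = y + k * 3 by ring]
    exact hy3.symm.add_mul_right_left _
  have hcA := coprime_left hxy q
  have hcC : IsCoprime C x := by
    simpa [hC, add_comm] using hxy.symm.add_mul_right_left 1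
  have hcq : IsCoprime (A * C) (x ^ 2 * q) := by
    refine ((hcA.mul_left hcC).pow_right).mul_right ?_
    have h1 := (hA3.mul_left hC3).pow_right (n := n)
    rwa [← hqn] at h1
  have hqR : (0 : ℤ) < q * R := by positivity
  have hne : A * B * C ≠ 0 := fun e => by
    rw [e, mul_zero] at h
    exact mul_ne_zero (pow_ne_zero 2 hx) hqR.ne' h.symm
  have hA0 : A ≠ 0 := fun e => hne (by rw [e]; ring)
  have hB0 : B ≠ 0 := fun e => hne (by rw [e]; ring)
  have hC0 : C ≠ 0 := fun e => hne (by rw [e]; ring)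
  have hACdvd : A * C ∣ R :=
    hcq.dvd_of_dvd_mul_left ⟨g * B, by linear_combination -h⟩
  have hACle : |A * C| ≤ R := abs_le_of_dvd hRpos hACdvd
  have hx3 : 3 ≤ |x| := by
    obtain ⟨k, rfl⟩ := h3
    rw [abs_mul]
    have : 1 ≤ |k| := Int.one_le_abs (fun e => hx (by rw [e, mul_zero]))
    simp only [Nat.abs_ofNat]; omega
  have hdiff : (q - 1) * |x| - 1 ≤ |A * C| := by
    have := abs_mul_ge hA0 hC0
    rwa [show A - C = (q - 1) * x by rw [hA, hC]; ring, abs_mul,
      abs_of_pos (show 0 < q - 1 by omega)] at this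
  have hxq : |x| ≤ q := by
    by_contra hc
    have := mul_le_mul_of_nonneg_left (show q + 1 ≤ |x| by omega) (show 0 ≤ q - 1 by omega)
    subst hR; nlinarith
  rcases lt_or_eq_of_le hxq with hlt | heq
  · exact (three_small hqn hq hR hx hxy rfl rfl rfl hcq h hx3 hdiff hlt hACdvd hACle).elim
  · exact three_big hq hR rfl rfl rfl hA0 hC0 h heq hACdvd hACle

/-- The Diophantine lemma. -/
theorem eq_one {qn : ℕ} {a b c : ℤ} {n : ℕ} (hqn : qn = 3 ^ n) (h8 : qn % 8 = 3) (hq : 27 ≤ qn)
    (ha : a % 8 = 1) (hb : b ≠ 0) (hc : c ≠ 0) (hab : a + b = ((qn : ℤ) + 1) * c)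
    (hR : R = (qn : ℤ) ^ 2 - qn + 1)
    (h : (c - a) ^ 2 * ((qn : ℤ) * R) = ((qn : ℤ) - 1) ^ 2 * (a * b * c)) : a = 1 := by
  have hq3 : ∃ t : ℤ, (qn : ℤ) = 3 * t := by
    obtain ⟨t, ht⟩ : 3 ∣ qn := by
      rw [hqn]; exact dvd_pow_self _ (by rintro rfl; simp at hqn; omega)
    exact ⟨t, by exact_mod_cast ht⟩
  have hqz : (qn : ℤ) = 3 ^ n := by rw [hqn]; push_cast; rfl
  have hq27 : (27 : ℤ) ≤ (qn : ℤ) := by exact_mod_cast hq
  obtain ⟨t, ht⟩ := hq3
  generalize hQ : (qn : ℤ) = Q at ht hqz hq27 hab hR h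
  have ha0 : a ≠ 0 := by omega
  have hg : (0 : ℤ) < (Int.gcd a c : ℕ) := by exact_mod_cast Int.gcd_pos_of_ne_zero_left c ha0
  obtain ⟨A, hA⟩ : ((Int.gcd a c : ℕ) : ℤ) ∣ a := Int.gcd_dvd_left a c
  obtain ⟨C, hC⟩ : ((Int.gcd a c : ℕ) : ℤ) ∣ c := Int.gcd_dvd_right a c
  set g : ℤ := ((Int.gcd a c : ℕ) : ℤ) with hgdef
  have hcop : IsCoprime A C := by
    refine ⟨Int.gcdA a c, Int.gcdB a c, mul_left_cancel₀ hg.ne' ?_⟩
    have := Int.gcd_eq_gcd_ab a c
    rw [← hgdef] at this
    linear_combination -this - Int.gcdA a c * hA - Int.gcdB a c * hC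
  set B : ℤ := (Q + 1) * C - A with hB
  have hbB : b = g * B := by rw [hB]; linear_combination hab - hA + (Q + 1) * hC
  have h' : (C - A) ^ 2 * (Q * R) = (Q - 1) ^ 2 * (g * (A * B * C)) := by
    apply mul_left_cancel₀ (pow_ne_zero 2 hg.ne')
    rw [hA, hbB, hC] at h
    linear_combination h
  have hcQ : IsCoprime (Q - 1) (Q * R) := by
    refine IsCoprime.mul_right ⟨-1, 1, by ring⟩ ⟨-Q, 1, by rw [hR]; ring⟩
  obtain ⟨x, hx⟩ : (Q - 1) ∣ A - C := by
    have h1 : (Q - 1) ^ 2 ∣ (C - A) ^ 2 :=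
      hcQ.pow_left.dvd_of_dvd_mul_right ⟨g * (A * B * C), h'⟩
    exact (dvd_sub_comm).1 ((Int.pow_dvd_pow_iff two_ne_zero).1 h1)
  obtain ⟨y, hy⟩ : ∃ y, C = x + y := ⟨C - x, by ring⟩
  have hAx : A = Q * x + y := by linear_combination hx + hy
  have hBx : B = x + Q * y := by rw [hB]; linear_combination (Q + 1) * hy - hAx
  have hxy : IsCoprime x y := by
    obtain ⟨u, v, huv⟩ := hcop
    exact ⟨u * Q + v, u + v, by linear_combination huv - u * hAx - v * hy⟩
  have h'' : g * ((Q * x + y) * (x + Q * y) * (x + y)) = x ^ 2 * (Q * R) := by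
    apply mul_left_cancel₀ (pow_ne_zero 2 (show Q - 1 ≠ 0 by omega))
    rw [← hAx, ← hBx, ← hy]
    have hd : C - A = -((Q - 1) * x) := by linear_combination -hx
    rw [hd] at h'
    linear_combination -h'
  have hx0 : x ≠ 0 := by
    rintro rfl
    rw [← hAx, ← hBx, ← hy] at h''
    have h0 : g * A * (g * B) * (g * C) = 0 := by linear_combination g ^ 2 * h''
    rw [← hA, ← hbB, ← hC] at h0
    exact mul_ne_zero (mul_ne_zero ha0 hb) hc h0
  by_cases h3 : (3 : ℤ) ∣ x
  · rw [hA, hAx]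
    exact three_case hqz hq27 hR hx0 h3 hxy h''
  · exfalso
    have hqx : IsCoprime Q x := by
      rw [hqz]; exact (Int.prime_three.coprime_iff_not_dvd.2 h3).pow_left
    have hcR : IsCoprime (Q ^ 2 - 1) R := by
      have h1 : IsCoprime (Q + 1) (3 : ℤ) := ⟨1, -t, by rw [ht]; ring⟩
      have e : Q ^ 2 - 1 = (Q - 1) * (Q + 1) := by ring
      rw [e]
      refine IsCoprime.mul_left ⟨-Q, 1, by rw [hR]; ring⟩ ?_
      rw [show R = 3 + (Q + 1) * (Q - 2) by rw [hR]; ring]
      exact h1.add_mul_left_right _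
    have h1 := free_case hq27 hR hqx hxy hg hcR h''
    rw [← hAx, ← hA] at h1
    rw [h1, hR, ← hQ] at ha
    simp [Int.add_emod, Int.sub_emod, Int.mul_emod, pow_two, show (qn : ℤ) % 8 = 3 by omega] at ha

/-- The second arithmetic step. -/
theorem linearStep : LinearStep := by
  intro qn n hqn hn hn3 W
  obtain ⟨h8, hq, h3⟩ := q_facts hqn hn hn3
  obtain ⟨-, hv01, hv23, hone⟩ := vals W h8
  have hRpos : 0 < qn ^ 2 * (qn ^ 2 - qn + 1) := by
    have : qn ≤ qn ^ 2 := Nat.le_self_pow two_ne_zero qn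
    positivity
  have key := int_eq W h8 hRpos
  have hRz : ((qn ^ 2 * (qn ^ 2 - qn + 1) : ℕ) : ℤ) =
      (qn : ℤ) ^ 2 * ((qn : ℤ) ^ 2 - qn + 1) := by
    have : qn ≤ qn ^ 2 := Nat.le_self_pow two_ne_zero qn
    push_cast [Nat.cast_sub this]; ring
  rw [hRz] at key
  have hq0 : (qn : ℤ) ≠ 0 := by omega
  have hq1 : (qn : ℤ) + 1 ≠ 0 := by omega
  obtain ⟨j, hj⟩ : ∃ j : ℤ, (qn : ℤ) = 8 * j + 3 := ⟨(qn : ℤ) / 8, by omega⟩
  -- the symmetric form of the first exceptional function
  have first : ∀ i i' : Fin 4, W.v i = 1 → W.v i' = qn → W.x i + W.x i' = W.x 0 + W.x 1 →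
      (qn : ℤ) ^ 2 * ((qn : ℤ) ^ 2 - qn + 1) * (W.x i' - qn * W.x i) ^ 2 =
        (qn : ℤ) * ((qn : ℤ) - 1) ^ 2 * ((qn : ℤ) + 1) *
          (W.x i * W.x i' * (W.x i + W.x i')) →
      ∃ k, W.x k = 1 ∧ W.v k = 1 := by
    intro i i' hi hi' hs e
    refine ⟨i, ?_, hi⟩
    have hci := W.cong i
    rw [hi] at hci
    rcases pair_cases W h8 hv23 with hc | hc | hc
    rotate_left 2
    · -- equal values
      have he := pair_eq W hc.1 hc.2
      have hsum : W.x i + W.x i' = -(2 * W.x 2) := by have := W.sum_x; omega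
      have hf := W.cong 2
      generalize hQ : (qn : ℤ) = Q at *
      have hm : Q + 1 = 2 * (4 * j + 2) := by omega
      -- the value divides the degree
      have e1 : (W.x 2 + (4 * j + 2) * W.x i) ^ 2 * (Q * (Q ^ 2 - Q + 1)) =
          -((Q - 1) ^ 2 * (4 * j + 2) * (W.x i * W.x i' * W.x 2)) := by
        apply mul_left_cancel₀ (mul_ne_zero (show (4 : ℤ) ≠ 0 by norm_num) hq0)
        rw [hsum, show W.x i' - Q * W.x i = -2 * (W.x 2 + (4 * j + 2) * W.x i) by
          linear_combination hsum - W.x i * hm, hm] at e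
        linear_combination e
      obtain ⟨c, hc'⟩ : (4 * j + 2) ∣ W.x 2 := by
        obtain ⟨t, ht⟩ : (3 : ℤ) ∣ Q := by rw [← hQ]; exact_mod_cast h3
        have hcm3 : IsCoprime (4 * j + 2) (3 : ℤ) := ⟨2, -t, by linear_combination -hm + ht⟩
        have hcmq : IsCoprime (4 * j + 2) (Q * (Q ^ 2 - Q + 1)) := by
          refine IsCoprime.mul_right ⟨2, -1, by linear_combination -hm⟩ ?_
          rw [show Q ^ 2 - Q + 1 = 3 + (4 * j + 2) * (2 * (Q - 2)) by
            linear_combination (Q - 2) * hm]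
          exact hcm3.add_mul_left_right _
        -- divide out the greatest common divisor
        set d : ℤ := ((Int.gcd (W.x 2) (4 * j + 2) : ℕ) : ℤ) with hd
        have hd0 : d ≠ 0 := by
          rw [hd]; exact_mod_cast fun h0 => W.x_ne 2 (Int.gcd_eq_zero_iff.1 h0).1
        obtain ⟨f', hf'⟩ : d ∣ W.x 2 := Int.gcd_dvd_left _ _
        obtain ⟨M, hM⟩ : d ∣ (4 * j + 2) := Int.gcd_dvd_right _ _
        have hcop : IsCoprime M f' := by
          refine ⟨Int.gcdB (W.x 2) (4 * j + 2), Int.gcdA (W.x 2) (4 * j + 2),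
            mul_left_cancel₀ hd0 ?_⟩
          have := Int.gcd_eq_gcd_ab (W.x 2) (4 * j + 2)
          rw [← hd] at this
          linear_combination -this - Int.gcdA (W.x 2) (4 * j + 2) * hf' -
            Int.gcdB (W.x 2) (4 * j + 2) * hM
        have hMq : IsCoprime M (Q * (Q ^ 2 - Q + 1)) :=
          hcmq.of_isCoprime_of_dvd_left ⟨d, by rw [hM]; ring⟩
        rw [hf', hM] at e1
        have e2 : (f' + M * W.x i) ^ 2 * (Q * (Q ^ 2 - Q + 1)) =
            -((Q - 1) ^ 2 * M * (W.x i * W.x i' * f')) :=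
          mul_left_cancel₀ (pow_ne_zero 2 hd0) (by linear_combination e1)
        have hu : IsUnit M := by
          refine ((hcop.add_mul_left_right (W.x i)).pow_right (n := 2)).mul_right hMq
            |>.isUnit_of_dvd ?_
          exact ⟨-((Q - 1) ^ 2 * (W.x i * W.x i' * f')), by linear_combination e2⟩
        rw [hM, hf']
        exact mul_dvd_mul_left d hu.dvd
      refine eq_one (qn := qn) (R := Q ^ 2 - Q + 1) (b := W.x i') (c := -c) hqn h8 hq (by omega)
        (W.x_ne i') (neg_ne_zero.2 fun h0 => W.x_ne 2 (by rw [hc', h0, mul_zero]))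
        (by rw [hQ]; linear_combination hsum - 2 * hc' + c * hm) (by rw [hQ]) ?_
      rw [hQ]
      rw [hc'] at e1
      apply mul_left_cancel₀ (pow_ne_zero 2 (show (4 * j + 2 : ℤ) ≠ 0 by omega))
      linear_combination e1
    all_goals
      obtain ⟨c, hc', -⟩ := pair_one_q W (by first | exact Or.inl hc | exact Or.inr hc)
      have hsum : W.x i + W.x i' = ((qn : ℤ) + 1) * -c := by
        have := W.sum_x; linarith
      refine eq_one (qn := qn) (R := (qn : ℤ) ^ 2 - qn + 1) (b := W.x i') (c := -c) hqn h8 hq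
        (by omega) (W.x_ne i') ?_ hsum rfl ?_
      · intro h0
        rw [h0, mul_zero] at hsum
        apply W.pair_ne
        have := W.sum_x
        linarith
      · apply mul_left_cancel₀ (mul_ne_zero hq0 (pow_ne_zero 2 hq1))
        rw [hsum, show W.x i' - (qn : ℤ) * W.x i = ((qn : ℤ) + 1) * (-c - W.x i) by
          linear_combination hsum] at e
        linear_combination e
  rcases pair_cases W h8 hv01 with hc | hc | hc
  · exact first 0 1 hc.1 hc.2 rfl (by rw [hc.1, hc.2, one_mul] at key; exact key)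
  · refine first 1 0 hc.2 hc.1 (add_comm _ _) ?_
    rw [hc.1, hc.2] at key
    linear_combination key
  -- equal values in the first exceptional function
  exfalso
  obtain ⟨e, he, he8⟩ := pair_one_q W (by
    rcases pair_cases W h8 hv23 with h | h | h
    · exact Or.inl h
    · exact Or.inr h
    · exfalso
      obtain ⟨i, hi⟩ := hone
      fin_cases i <;> simp at hi <;> omega)
  have hs : W.x 0 + W.x 1 = -(((qn : ℤ) + 1) * e) := by have := W.sum_x; linarith
  have h0 := W.cong 0
  have h1 := W.cong 1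
  obtain ⟨o, ho⟩ : (8 : ℤ) ∣ W.x 0 - W.x 1 := by omega
  rw [show W.v 0 = 4 * j + 2 by omega, show W.v 1 = 4 * j + 2 by omega, hs] at key
  have hx0 : W.x 0 = -((4 * j + 2) * e) + 4 * o := by
    rw [hj] at hs; linarith
  have hx1 : W.x 1 = -((4 * j + 2) * e) - 4 * o := by linarith
  rw [hx0, hx1, hj] at key
  have e2 : o ^ 2 * ((8 * j + 3) * ((8 * j + 3) ^ 2 - (8 * j + 3) + 1)) =
      (4 * j + 1) ^ 2 * e * (4 * o ^ 2 - (2 * j + 1) ^ 2 * e ^ 2) := by
    apply mul_left_cancel₀ (show (64 * (4 * j + 2) ^ 2 * (8 * j + 3) : ℤ) ≠ 0 from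
      mul_ne_zero (mul_ne_zero (by norm_num) (pow_ne_zero 2 (by omega))) (by omega))
    linear_combination key
  have e3 := congrArg (fun z : ℤ => (z : ZMod 8)) e2
  have he' : (e : ZMod 8) = 1 := by
    rw [← ZMod.intCast_mod e 8]
    simp [he8]
  push_cast at e3
  rw [he'] at e3
  revert e3
  generalize (o : ZMod 8) = a
  generalize (j : ZMod 8) = b
  revert a b
  decide

end CfsgLib.Walter.Twist.RowsNum

namespace CfsgLib.Walter.Twist

/-- With the index of a Ree group every twisted block contains a signed degree one. -/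
theorem linearStep : LinearStep := RowsNum.linearStep

end CfsgLib.Walter.Twist
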