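import Cfsg.Agent.Lib.Walter.Twist.CaseDefs
import Cfsg.Agent.Lib.Walter.Twist.FixedBasic
import Cfsg.Agent.Lib.ReeOrder.Local.Characteristic
import Cfsg.Agent.Lib.ReeOrder.Local.Parts
import Cfsg.Agent.Lib.ReeOrder.Local.PartTools

/-!
Walter, the field part, case D, piece U: either `3` does not divide the index or `q` divides it.
-/

set_option autoImplicit false
set_option linter.unusedSectionVars false
set_option linter.style.haveILetI false

namespace CfsgLib.Walter.Twist.ThreeT

open Subgroup Matrix CfsgLib.AutPSL CfsgLib.SL2Tori CfsgLib.ReeType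
open CfsgLib.ReeOrder

universe u

/-! ### An involution and the elements of odd order -/

section OddPart

variable {G : Type u} [Group G] [Finite G]

/-- If the two-elements commuting with the involution `t` are trivial or `t`, the elements of odd order
form a subgroup. -/
theorem exists_odd_part {C : Subgroup G} {t : G} (htC : t ∈ C) (ht : orderOf t = 2)
    (h2 : ∀ x ∈ C, (∃ j, orderOf x = 2 ^ j) → Commute x t → x ∈ zpowers t) :
    ∃ O : Subgroup G, O ≤ C ∧ Odd (Nat.card O) ∧ Nat.card C = Nat.card O * 2 ∧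
      ∀ x, x ∈ O ↔ x ∈ C ∧ Odd (orderOf x) := by
  haveI : Fact (Nat.Prime 2) := ⟨Nat.prime_two⟩
  set t' : C := ⟨t, htC⟩ with ht'
  have ht2' : orderOf t' = 2 := by rw [ht', Subgroup.orderOf_mk, ht]
  have hTcard : Nat.card (zpowers t') = 2 := by rw [Nat.card_zpowers, ht2']
  obtain ⟨T, hTle⟩ := (IsPGroup.of_card (n := 1) (hTcard.trans (pow_one 2).symm)).exists_le_sylow
  have hcases : ∀ g : C, g * t' * g⁻¹ ∈ zpowers t' → Commute g t' := fun g hg => by
    rcases CfsgLib.InvChar.KleinCentralizer.cases_of_mem_zpowers ht2' hg with e | e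
    · exact absurd (conj_eq_one_iff.1 e) (CfsgLib.Involutions.ne_one_of_involution ht2')
    · exact mul_inv_eq_iff_eq_mul.1 e
  have hTeq : (T : Subgroup C) = zpowers t' := by
    refine le_antisymm ?_ hTle
    have : Group.IsNilpotent (T : Subgroup C) := T.isPGroup'.isNilpotent
    by_contra hle
    have hlt : (zpowers t').subgroupOf (T : Subgroup C) < ⊤ :=
      lt_top_iff_ne_top.2 fun e => hle (Subgroup.subgroupOf_eq_top.1 e)
    refine (Group.normalizerCondition_of_isNilpotent (G := (T : Subgroup C)) _ hlt).2 fun x hx => ?_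
    rw [Subgroup.mem_normalizer_iff] at hx
    have hcx := hcases (x : C) ((hx ⟨t', hTle (mem_zpowers _)⟩).1 (Subgroup.mem_subgroupOf.2 (mem_zpowers _)))
    obtain ⟨j, hj⟩ := IsPGroup.iff_orderOf.1 T.isPGroup' x
    rw [← Subgroup.orderOf_coe, ← Subgroup.orderOf_coe] at hj
    obtain ⟨i, hi⟩ := h2 _ (x : C).2 ⟨j, hj⟩ (congrArg Subtype.val hcx)
    rw [Subgroup.mem_subgroupOf]
    exact ⟨i, Subtype.ext (by rw [Subgroup.coe_zpow]; exact hi)⟩
  have hTn : normalizer ((T : Subgroup C) : Set C) ≤ centralizer ((T : Subgroup C) : Set C) := by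
    intro g hg
    rw [hTeq] at hg ⊢
    have hgt := hcases g ((mem_normalizer_iff.1 hg t').1 (mem_zpowers _))
    rw [Subgroup.mem_centralizer_iff]
    rintro _ ⟨i, rfl⟩
    exact (hgt.zpow_right i).eq.symm
  set O₁ : Subgroup C := (MonoidHom.transferSylow T hTn).ker
  have hcompl := MonoidHom.ker_transferSylow_isComplement' T hTn
  have hOidx : O₁.index = 2 := by rw [hcompl.symm.index_eq_card, hTeq, hTcard]
  have hOodd : Odd (Nat.card O₁) := by
    rw [Nat.odd_iff, ← Nat.two_dvd_ne_zero]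
    intro h
    have h4 : 2 ^ 2 ∣ Nat.card C := by
      rw [← O₁.card_mul_index, hOidx, pow_two]
      exact mul_dvd_mul_right h 2
    have := (T.card_eq_multiplicity).symm
    rw [hTeq, hTcard] at this
    have h5 := Nat.pow_right_injective (le_refl 2) (this.trans (pow_one 2).symm)
    have := (Nat.prime_two.pow_dvd_iff_le_factorization Nat.card_pos.ne').1 h4
    omega
  have hOcard : Odd (Nat.card (O₁.map C.subtype)) := by
    rw [Subgroup.card_map_of_injective C.subtype_injective]; exact hOodd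
  refine ⟨O₁.map C.subtype, Subgroup.map_subtype_le _, hOcard,
    by rw [Subgroup.card_map_of_injective C.subtype_injective, ← hOidx, O₁.card_mul_index],
    fun x => ⟨fun hx => ?_, ?_⟩⟩
  · exact ⟨Subgroup.map_subtype_le _ hx, hOcard.of_dvd_nat (Subgroup.orderOf_dvd_natCard _ hx)⟩
  · rintro ⟨hx, hxo⟩
    refine ⟨⟨x, hx⟩, ?_, rfl⟩
    obtain ⟨m, hm⟩ := hxo
    have h1 : (⟨x, hx⟩ : C) = ((⟨x, hx⟩ : C) ^ (m + 1)) ^ 2 := by
      rw [← pow_mul, show (m + 1) * 2 = (2 * m + 1) + 1 by ring, pow_succ]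
      conv_lhs => rw [← one_mul (⟨x, hx⟩ : C)]
      congr 1
      refine Subtype.ext ?_
      rw [Subgroup.coe_pow, ← hm, pow_orderOf_eq_one]
      rfl
    rw [h1]
    exact Subgroup.sq_mem_of_index_two hOidx _

/-- What normalises `C` normalises its odd part. -/
theorem mem_normalizer_odd {C O : Subgroup G} (hmem : ∀ x, x ∈ O ↔ x ∈ C ∧ Odd (orderOf x)) {g : G}
    (hg : g ∈ normalizer (C : Set G)) : g ∈ normalizer (O : Set G) := by
  intro x
  rw [SetLike.mem_coe, SetLike.mem_coe, hmem, hmem]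
  have h1 : orderOf (g * x * g⁻¹) = orderOf x := by rw [← MulAut.conj_apply, MulEquiv.orderOf_eq]
  rw [h1]
  exact and_congr_left fun _ => mem_normalizer_iff.1 hg x

theorem mem_normalizer_centralizer {U : Subgroup G} {g : G} (hg : g ∈ normalizer (U : Set G)) :
    g ∈ normalizer (centralizer (U : Set G) : Set G) := by
  have key : ∀ h ∈ normalizer (U : Set G), ∀ y ∈ centralizer (U : Set G),
      h * y * h⁻¹ ∈ centralizer (U : Set G) := by
    intro h hh y hy
    rw [Subgroup.mem_centralizer_iff] at hy ⊢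
    intro u hu
    have h' := hy _ ((Subgroup.mem_normalizer_iff''.1 hh u).1 hu)
    calc u * (h * y * h⁻¹) = h * (h⁻¹ * u * h * y) * h⁻¹ := by group
      _ = h * (y * (h⁻¹ * u * h)) * h⁻¹ := by rw [h']
      _ = h * y * h⁻¹ * u := by group
  intro y
  refine ⟨key g hg y, fun h => ?_⟩
  have := key g⁻¹ (inv_mem hg) _ h
  rwa [inv_inv, ← mul_assoc, ← mul_assoc, inv_mul_cancel, one_mul, mul_assoc, inv_mul_cancel, mul_one] at this

end OddPart

/-! ### The frame in characteristic three -/

variable {G : Type u} [Group G] [Finite G] {E : Setup G} (R : Frame E)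

local notation "PSLF" => ProjectiveSpecialLinearGroup (Fin 2) R.F
local notation "q" => Fintype.card R.F

theorem card_H : Nat.card E.H = 2 * Nat.card PSLF * R.f := by
  classical
  have hmem : ∀ (b : Bool) (x : PSLF) (σ : R.Γ),
      cond b E.t 1 * (R.psl x * R.fld σ) ∈ E.H := fun b x σ => by
    cases b
    · simpa using mul_mem (R.psl_mem x) (R.fld_mem σ)
    · exact mul_mem FixedT.t_mem_H (mul_mem (R.psl_mem x) (R.fld_mem σ))
  let e : Bool × PSLF × R.Γ → E.H := fun p => ⟨_, hmem p.1 p.2.1 p.2.2⟩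
  have hne : ∀ (x x' : PSLF) (σ σ' : R.Γ), E.t * (R.psl x * R.fld σ) ≠ R.psl x' * R.fld σ' := by
    intro x x' σ σ' h
    obtain ⟨z, τ, hz⟩ : ∃ z τ, R.psl x' * R.fld σ' * (R.psl x * R.fld σ)⁻¹ = R.psl z * R.fld τ := by
      refine ⟨x' * fieldAut ((σ' * σ⁻¹ : R.Γ) : R.F ≃+* R.F) x⁻¹, σ' * σ⁻¹, ?_⟩
      rw [_root_.mul_inv_rev, ← map_inv, ← map_inv, mul_assoc, ← mul_assoc (R.fld σ'), ← map_mul,
        FixedT.psl_fld, map_mul R.psl]
      simp only [mul_assoc]
    refine R.ne_t z τ ?_
    rw [← hz, ← h, mul_inv_cancel_right]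
  have hbij : Function.Bijective e := by
    constructor
    · rintro ⟨b, x, σ⟩ ⟨b', x', σ'⟩ h
      have h' := congrArg Subtype.val h
      cases b <;> cases b' <;> simp only [e, cond_true, cond_false, one_mul] at h'
      · obtain ⟨rfl, rfl⟩ := FixedT.comb_unique R h'; rfl
      · exact absurd h'.symm (hne _ _ _ _)
      · exact absurd h' (hne _ _ _ _)
      · obtain ⟨rfl, rfl⟩ := FixedT.comb_unique R (mul_left_cancel h'); rfl
    · rintro ⟨h, hh⟩
      obtain ⟨x, σ, hx | hx⟩ := R.exists_eq h hh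
      · exact ⟨(false, x, σ), Subtype.ext (by simpa [e] using hx.symm)⟩
      · exact ⟨(true, x, σ), Subtype.ext (by simpa [e] using hx.symm)⟩
  rw [← Nat.card_eq_of_bijective e hbij, Nat.card_prod, Nat.card_prod, Frame.f, mul_assoc]
  simp

theorem card_H' : Nat.card E.H = q * ((q - 1) * (q + 1) * R.f) := by
  have h := CfsgLib.PSL2.card_psl (F := R.F)
  have ho : Odd q := FixedT.odd_q R
  have hg : Nat.gcd 2 (q - 1) = 2 := Nat.gcd_eq_left (by obtain ⟨k, hk⟩ := ho; exact ⟨k, by omega⟩)
  rw [hg] at h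
  rw [card_H, h]
  ring

section Char

variable [CharP R.F 3] (h3f : ¬ 3 ∣ R.f)

/-- The translations in `G`. -/
noncomputable def tr : Multiplicative R.F →* G := R.psl.comp Char96.trans

theorem tr_injective : Function.Injective (tr R) :=
  R.psl_inj.comp (CfsgLib.ReeOrder.Char96.trans_injective (FixedT.psl_two_ne R))

theorem fieldAut_trans (σ : R.F ≃+* R.F) (b : R.F) :
    fieldAut σ (Char96.trans (Multiplicative.ofAdd b) : PSLF) =
      Char96.trans (Multiplicative.ofAdd (σ b)) := by
  show fieldAut σ (QuotientGroup.mk _ : PSLF) = QuotientGroup.mk _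
  rw [fieldAut_mk]
  congr 1
  refine Subtype.ext ?_
  rw [slField_coe]
  ext i j
  fin_cases i <;> fin_cases j <;> simp [bEl_coe]

/-- Odd elements of `H` centralising the translations are translations. -/
theorem centralizes_tr {x : PSLF} {σ : R.Γ}
    (h : ∀ b, Commute (R.psl x * R.fld σ) (tr R b)) :
    x ∈ (Char96.trans : Multiplicative R.F →* PSLF).range ∧ σ = 1 := by
  have key : ∀ b : R.F, x * Char96.trans (Multiplicative.ofAdd ((σ : R.F ≃+* R.F) b)) =
      Char96.trans (Multiplicative.ofAdd b) * x := by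
    intro b
    have hb := (h (Multiplicative.ofAdd b)).eq
    rw [tr, MonoidHom.comp_apply, mul_assoc, FixedT.psl_fld, fieldAut_trans, ← mul_assoc,
      ← mul_assoc, ← map_mul, ← map_mul] at hb
    exact R.psl_inj (mul_right_cancel hb)
  have hx : x ∈ (Char96.trans : Multiplicative R.F →* PSLF).range := by
    refine CfsgLib.ReeOrder.Char96.cent_trans (FixedT.psl_two_ne R) ?_
    have := key 1
    rwa [map_one] at this
  refine ⟨hx, ?_⟩
  obtain ⟨c, rfl⟩ := hx
  refine Subtype.ext (RingEquiv.ext fun b => ?_)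
  have := key b
  rw [← map_mul, ← map_mul] at this
  have h' := CfsgLib.ReeOrder.Char96.trans_injective (FixedT.psl_two_ne R) this
  rw [mul_comm] at h'
  exact Multiplicative.ofAdd.injective (mul_right_cancel h')

include h3f in
/-- Elements of order a power of three in the field part are trivial. -/
theorem sigma_three {σ : R.Γ} {j : ℕ} (h : σ ^ 3 ^ j = 1) : σ = 1 := by
  have h1 := orderOf_dvd_of_pow_eq_one h
  have h2 : orderOf σ ∣ R.f := orderOf_dvd_natCard σ
  exact orderOf_eq_one_iff.1 (Nat.eq_one_of_dvd_coprimes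
    ((Nat.Coprime.pow_left j ((Nat.prime_three.coprime_iff_not_dvd).2 h3f))) h1 h2)

theorem oddTorus_eq : CfsgLib.ReeOrder.oddTorus q = (q - 1) / 2 := by
  rw [CfsgLib.ReeOrder.oddTorus, CfsgLib.ReeOrder.sq, if_pos (FixedT.q_mod_three R).1]
  omega

theorem coprime_three : Nat.Coprime 3 (CfsgLib.ReeOrder.oddTorus q) := by
  haveI : Fact (Nat.Prime 3) := ⟨Nat.prime_three⟩
  exact (CfsgLib.ReeOrder.Psl.coprime_p R.q_mod 3).1

include h3f in
/-- A three-element of `H` commuting with an element of the split torus is trivial. -/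
theorem three_commute_torus {c : PSLF} (c1 : c ≠ 1) (hc : orderOf c ∣ CfsgLib.ReeOrder.oddTorus q)
    {g : G} (hg : g ∈ E.H) (h3 : ∃ j, orderOf g = 3 ^ j) (hgc : Commute g (R.psl c)) : g = 1 := by
  obtain ⟨j, hj⟩ := h3
  obtain ⟨x, σ, rfl⟩ := FixedT.odd_form R hg (by rw [hj]; exact (by decide : Odd 3).pow)
  have hσ : σ = 1 := by
    obtain ⟨y, hy⟩ := FixedT.comb_pow R x σ (3 ^ j)
    rw [← hj, pow_orderOf_eq_one] at hy
    rw [hj] at hy
    exact sigma_three R h3f (R.eq_one _ _ hy.symm).2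
  subst hσ
  rw [map_one, mul_one] at hgc hj ⊢
  obtain ⟨T, -, -, hT, hTc⟩ := CfsgLib.ReeOrder.Psl.exists_torus_odd R.q_mod (FixedT.q_mod_three R).2 c1 hc
  have hx : x ∈ T := hTc x (R.psl_inj (by rw [map_mul, map_mul, hgc.eq]))
  have hd : orderOf x ∣ CfsgLib.ReeOrder.oddTorus q := hT ▸ T.orderOf_dvd_natCard hx
  rw [FixedT.orderOf_psl] at hj
  have hx1 : orderOf x = 1 :=
    Nat.eq_one_of_dvd_coprimes ((coprime_three R).pow_left j) (hj ▸ dvd_rfl) hd
  rw [orderOf_eq_one_iff.1 hx1, map_one]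

/-- Two-elements commuting with `t` and with an odd torus element. -/
theorem two_commute_torus {c : PSLF} (c1 : c ≠ 1) (hc : orderOf c ∣ CfsgLib.ReeOrder.oddTorus q)
    {g : G} (h2 : ∃ j, orderOf g = 2 ^ j) (hgt : Commute g E.t) (hgc : Commute g (R.psl c)) :
    g ∈ zpowers E.t := by
  haveI : Fact (Nat.Prime 2) := ⟨Nat.prime_two⟩
  obtain ⟨j, hj⟩ := h2
  have hgg : g * g = 1 := by
    obtain ⟨Q, hQ⟩ := (IsPGroup.of_card (n := j) (show Nat.card (zpowers g) = 2 ^ j by
      rw [Nat.card_zpowers, hj])).exists_le_sylow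
    obtain ⟨k, hk⟩ := MulAction.exists_smul_eq G E.S Q
    have := hQ (mem_zpowers g)
    rw [← hk, Sylow.coe_subgroup_smul] at this
    obtain ⟨s, hs, hsg⟩ := this
    replace hsg : k * s * k⁻¹ = g := hsg
    rw [← hsg, show k * s * k⁻¹ * (k * s * k⁻¹) = k * (s * s) * k⁻¹ by group, E.sq s hs, mul_one,
      mul_inv_cancel]
  by_cases hg1 : g = 1
  · rw [hg1]; exact one_mem _
  by_cases hgt' : g = E.t
  · rw [hgt']; exact mem_zpowers _
  exfalso
  obtain ⟨i, hi, he⟩ := FixedT.invol_form R (FixedT.mem_H hgt)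
    (orderOf_eq_prime (by rw [pow_two, hgg]) hg1) hgt'
  have hic := (FixedT.commute_psl_iff R he c).1 hgc
  obtain ⟨T, -, -, hT, hTc⟩ := CfsgLib.ReeOrder.Psl.exists_torus_odd R.q_mod (FixedT.q_mod_three R).2 c1 hc
  have hd : orderOf i ∣ CfsgLib.ReeOrder.oddTorus q := hT ▸ T.orderOf_dvd_natCard (hTc i hic)
  rw [hi] at hd
  exact Nat.not_even_iff_odd.2 (CfsgLib.ReeOrder.odd_oddTorus R.q_mod) (even_iff_two_dvd.2 hd)

/-- The Weyl element inverts the diagonal. -/
theorem exists_weyl : ∃ w : PSLF, orderOf w = 2 ∧ ∀ a : R.Fˣ, w * Char96.diag a * w⁻¹ = (Char96.diag a)⁻¹ := by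
  let w₀ : Matrix.SpecialLinearGroup (Fin 2) R.F := ⟨!![0, 1; -1, 0], by simp [Matrix.det_fin_two]⟩
  have hw2 : w₀ * w₀ = -1 := by
    refine Subtype.ext ?_
    rw [Matrix.SpecialLinearGroup.coe_mul, CfsgLib.SL2Char.neg_one_coe]
    ext i j
    fin_cases i <;> fin_cases j <;> simp [w₀, Matrix.mul_apply, Fin.sum_univ_two]
  refine ⟨prj w₀, orderOf_eq_prime ?_ fun e => ?_, fun a => ?_⟩
  · rw [pow_two, ← map_mul, hw2]
    exact prj_eq_one.2 (Or.inr rfl)
  · rcases prj_eq_one.1 e with e | e <;>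
    · have := congrArg (fun g : Matrix.SpecialLinearGroup (Fin 2) R.F => (g : Matrix (Fin 2) (Fin 2) R.F) 0 1) e
      simp [w₀] at this
  · rw [eq_inv_iff_mul_eq_one, mul_inv_eq_iff_eq_mul.2 (?_ : prj w₀ * Char96.diag a =
      Char96.diag a⁻¹ * prj w₀)]
    · show prj _ * prj _ = 1
      rw [← map_mul, CfsgLib.ReeOrder.Char96.bEl_zero_mul, inv_mul_cancel]
      refine prj_eq_one.2 (Or.inl (Subtype.ext ?_))
      rw [bEl_coe]
      simp [Matrix.one_fin_two]
    · show prj _ * prj _ = prj _ * prj _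
      rw [← map_mul, ← map_mul]
      congr 1
      refine Subtype.ext ?_
      rw [Matrix.SpecialLinearGroup.coe_mul, Matrix.SpecialLinearGroup.coe_mul, bEl_coe, bEl_coe]
      ext i j
      fin_cases i <;> fin_cases j <;> simp [w₀, Matrix.mul_apply, Fin.sum_univ_two]

include R in
/-- A three-element inverted by `t` does not commute with another involution of `H`. -/
theorem no_inverted_three (hloc : Local E) {v z : G} (hv : orderOf v = 2) (hvt : Commute v E.t)
    (hne : v ≠ E.t) (hzv : Commute z v) (hz : E.t * z * E.t⁻¹ = z⁻¹) (h3 : ∃ j, orderOf z = 3 ^ j) :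
    z = 1 := by
  haveI : Fact (Nat.Prime 3) := ⟨Nat.prime_three⟩
  obtain ⟨g, hg⟩ := isConj_iff.1 (hloc.one_class v E.t hv E.orderOf_t)
  set φ := MulAut.conj g
  have hgv : φ v = E.t := hg
  have ht' : φ E.t ∈ E.H := FixedT.mem_H (by have h := hvt.symm.map φ; rwa [hgv] at h)
  have hz' : φ z ∈ E.H := FixedT.mem_H (by have h := hzv.map φ; rwa [hgv] at h)
  obtain ⟨j, hj⟩ := h3
  have hinv : φ E.t * φ z * (φ E.t)⁻¹ = (φ z)⁻¹ := by rw [← map_inv, ← map_mul, ← map_mul, hz, map_inv]
  have hjz : orderOf (φ z) = 3 ^ j := by rw [MulEquiv.orderOf_eq, hj]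
  obtain ⟨x, hx⟩ := FixedT.psl_of_inverted R hz' (by rw [hjz]; exact (by decide : Odd 3).pow) ht' hinv
  obtain ⟨i, hi, he⟩ := FixedT.invol_form R ht' (by rw [MulEquiv.orderOf_eq, E.orderOf_t])
    fun e => hne (φ.injective (by rw [hgv, e]))
  rw [hx, FixedT.conj_psl_invol R he, ← map_inv] at hinv
  have hixi := R.psl_inj hinv
  rcases j with _ | j
  · exact orderOf_eq_one_iff.1 hj
  exfalso
  rw [hx, FixedT.orderOf_psl] at hjz
  refine CfsgLib.ReeOrder.Psl.unipotent_not_inverted R.q_mod (FixedT.q_mod_three R).2 3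
    (FixedT.q_mod_three R).1 (u := x ^ 3 ^ j) ?_ ?_ hi ?_
  · intro e
    have := Nat.le_of_dvd (by positivity) (orderOf_dvd_of_pow_eq_one e)
    rw [hjz, pow_succ] at this
    have : 0 < 3 ^ j := by positivity
    omega
  · rw [← pow_mul, ← pow_succ, ← hjz, pow_orderOf_eq_one]
  · rw [← conj_pow, hixi, inv_pow]

include h3f in
/-- The split torus acts semiregularly on three-elements. -/
theorem semiregular (hloc : Local E) {a : R.Fˣ} (a1 : Char96.diag a ≠ (1 : PSLF))
    (ha : orderOf (Char96.diag a : PSLF) ∣ CfsgLib.ReeOrder.oddTorus q)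
    {g : G} (h3 : ∃ j, orderOf g = 3 ^ j) (hgy : Commute g (R.psl (Char96.diag a))) : g = 1 := by
  classical
  haveI : Fact (Nat.Prime 3) := ⟨Nat.prime_three⟩
  by_contra hg1
  set c : PSLF := Char96.diag a
  set y := R.psl c with hy
  set C := centralizer ({y} : Set G) with hC
  have htC : E.t ∈ C := mem_centralizer_singleton_iff.2 (FixedT.commute_t (R.psl_mem c)).eq.symm
  obtain ⟨O, hOC, hOodd, -, hmemO⟩ := exists_odd_part htC E.orderOf_t fun x hx h2 hxt =>
    two_commute_torus R a1 ha h2 hxt (mem_centralizer_singleton_iff.1 hx)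
  obtain ⟨w, hw, hwc⟩ := exists_weyl R
  set i := R.psl w with hi
  have hi2 : orderOf i = 2 := by rw [hi, FixedT.orderOf_psl, hw]
  have hit : Commute i E.t := FixedT.commute_t (R.psl_mem w)
  have hine : i ≠ E.t := fun e => R.ne_t w 1 (by rw [map_one, mul_one]; exact e)
  have hiC : i ∈ normalizer (C : Set G) := by
    have hiy : i * y * i⁻¹ = y⁻¹ := by rw [hi, hy, ← map_inv, ← map_mul, ← map_mul, hwc, map_inv]
    intro x
    simp only [hC, SetLike.mem_coe, mem_centralizer_singleton_iff]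
    show Commute x y ↔ Commute (i * x * i⁻¹) y
    rw [← Commute.inv_right_iff (a := i * x * i⁻¹), ← hiy]
    exact (Commute.conj_iff i).symm
  have htO : E.t ∈ normalizer (O : Set G) :=
    mem_normalizer_odd hmemO (Subgroup.le_normalizer htC)
  have hiO : i ∈ normalizer (O : Set G) := mem_normalizer_odd hmemO hiC
  obtain ⟨V, hV, hV4, htV, hiV, hmemV⟩ :=
    CfsgLib.ReeOrder.PartTools.exists_four E.orderOf_t hi2 hit.symm hine.symm
  have hVO : V ≤ normalizer (O : Set G) := by
    intro e he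
    rcases hmemV e he with rfl | rfl | rfl | rfl
    exacts [one_mem _, htO, hiO, mul_mem htO hiO]
  haveI := hV.1
  obtain ⟨P, hP⟩ := Coprime.exists_invariant_sylow V O hVO
    (by rw [hV4, show (4 : ℕ) = 2 ^ 2 by norm_num]; exact (Nat.coprime_two_left.2 hOodd).pow_left 2)
    (Or.inl (Group.isSolvable_of_comm fun a b => IsMulCommutative.is_comm.comm a b)) 3
  obtain ⟨j, hj⟩ := h3
  have hgO : g ∈ O :=
    (hmemO g).2 ⟨mem_centralizer_singleton_iff.2 hgy.eq, by rw [hj]; exact (by decide : Odd 3).pow⟩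
  have h3O : 3 ∣ Nat.card O := by
    rcases j with _ | j
    · exact absurd (orderOf_eq_one_iff.1 hj) hg1
    exact (dvd_pow_self 3 j.succ_ne_zero).trans (hj ▸ Subgroup.orderOf_dvd_natCard _ hgO)
  set P' : Subgroup G := (P : Subgroup O).map O.subtype
  have hP3 : ∀ z ∈ P', ∃ k, orderOf z = 3 ^ k := fun z hz => by
    obtain ⟨k, hk⟩ := IsPGroup.iff_orderOf.1 (P.isPGroup'.map O.subtype) ⟨z, hz⟩
    exact ⟨k, by rwa [Subgroup.orderOf_mk] at hk⟩
  have hPC : P' ≤ C := (Subgroup.map_subtype_le _).trans hOC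
  obtain ⟨hinv, hcomm⟩ := CfsgLib.ReeOrder.Local.inverts_of_fpf (N := P') (s := E.t) FixedT.t_sq
    (fun z hz => (mem_normalizer_iff.1 (hP htV) z).1 hz)
    fun z hz hzt => three_commute_torus R h3f a1 ha (FixedT.mem_H hzt) (hP3 z hz)
      (mem_centralizer_singleton_iff.1 (hPC hz))
  obtain ⟨z, hz, hz1⟩ : ∃ z ∈ P', z ≠ 1 := by
    refine (Subgroup.bot_or_exists_ne_one P').resolve_left fun e => ?_
    rw [Subgroup.map_eq_bot_iff_of_injective _ O.subtype_injective] at e
    exact P.ne_bot_of_dvd_card h3O e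
  have hiz : i * z * i⁻¹ ∈ P' := (mem_normalizer_iff.1 (hP hiV) z).1 hz
  by_cases hzi : i * z * i⁻¹ = z⁻¹
  · -- `t * i` centralises `z`
    refine hz1 (no_inverted_three R hloc (v := E.t * i) ?_ ?_ ?_ ?_ (hinv z hz) (hP3 z hz))
    · refine orderOf_eq_prime ?_ fun e => hine ?_
      · rw [pow_two, mul_assoc, ← mul_assoc i, hit.eq, mul_assoc E.t i,
          CfsgLib.ReeOrder.PartTools.mul_self_of hi2, mul_one, FixedT.t_sq]
      · exact (eq_inv_of_mul_eq_one_right e).trans (inv_eq_of_mul_eq_one_right FixedT.t_sq)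
    · exact (Commute.refl _).mul_left hit
    · intro e
      have := mul_eq_left.1 e
      rw [this, orderOf_one] at hi2
      omega
    · have : E.t * i * z * (E.t * i)⁻¹ = z := by
        calc E.t * i * z * (E.t * i)⁻¹ = E.t * (i * z * i⁻¹) * E.t⁻¹ := by group
          _ = (E.t * z * E.t⁻¹)⁻¹ := by rw [hzi]; group
          _ = z := by rw [hinv z hz, inv_inv]
      exact (mul_inv_eq_iff_eq_mul.1 this).symm
  · -- the product with the conjugate
    set z' := z * (i * z * i⁻¹) with hz'
    have hmem' : z' ∈ P' := mul_mem hz hiz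
    refine hzi (eq_inv_of_mul_eq_one_right
      (no_inverted_three R hloc hi2 hit hine ?_ (hinv z' hmem') (hP3 z' hmem')))
    have hii : i * i = 1 := CfsgLib.ReeOrder.PartTools.mul_self_of hi2
    have : i * z' * i⁻¹ = z' := by
      rw [hz']
      calc i * (z * (i * z * i⁻¹)) * i⁻¹ = i * z * i⁻¹ * (i * i * z * (i * i)⁻¹) := by group
        _ = i * z * i⁻¹ * z := by rw [hii]; group
        _ = _ := (hcomm _ hiz z hz).eq
    exact (mul_inv_eq_iff_eq_mul.1 this).symm

end Char

/-- Piece U. -/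
theorem three_index (hloc : Local E) (R : Frame E) [CharP R.F 3] (h3f : ¬ 3 ∣ R.f) :
    ¬ 3 ∣ R.I ∨ R.q ∣ R.I := by
  classical
  haveI : Fact (Nat.Prime 3) := ⟨Nat.prime_three⟩
  haveI : Fact (Nat.Prime 2) := ⟨Nat.prime_two⟩
  obtain ⟨⟨n, hn0⟩, -, hn⟩ := FiniteField.card R.F 3
  replace hn : Fintype.card R.F = 3 ^ n := hn
  obtain ⟨hq8, hge⟩ := FixedT.q_mod_three R
  set t := E.t
  set q₀ := Fintype.card R.F with hq₀
  set Ct := E.H with hCt
  set m := (q₀ - 1) * (q₀ + 1) * R.f with hm
  have hCtcard : Nat.card Ct = q₀ * m := card_H' R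
  have h3q : 3 ∣ q₀ := hn ▸ dvd_pow_self 3 hn0.ne'
  have hpm : ¬ 3 ∣ m := by
    intro h
    rcases (Nat.prime_three.dvd_mul.1 h) with h | h
    · rcases (Nat.prime_three.dvd_mul.1 h) with h | h <;> omega
    · exact h3f h
  -- the translations
  set ι := tr R with hι
  set U := ι.range with hU
  have hUcard : Nat.card U = 3 ^ n := by
    rw [← Nat.card_congr (MonoidHom.ofInjective (tr_injective R)).toEquiv, ← hn, hq₀,
      ← Nat.card_eq_fintype_card]
    exact Nat.card_congr Multiplicative.toAdd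
  have hUp : IsPGroup 3 U := IsPGroup.of_card hUcard
  have hUt : U ≤ Ct := by rintro _ ⟨b, rfl⟩; exact R.psl_mem _
  set C := centralizer (U : Set G) with hC
  have hUC : U ≤ C := by
    rintro _ ⟨b, rfl⟩
    rw [hC, mem_centralizer_iff]
    rintro _ ⟨c, rfl⟩
    rw [← map_mul, ← map_mul, mul_comm]
  have htC : t ∈ C := by
    rw [hC, mem_centralizer_iff]
    rintro _ ⟨c, rfl⟩
    exact (FixedT.commute_t (R.psl_mem _)).eq
  have hCH : ∀ x, x ∈ C → Commute x t → x ∈ U ∨ ∃ u ∈ U, x = t * u := by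
    intro x hx hxt
    obtain ⟨a, σ, e⟩ := R.exists_eq x (FixedT.mem_H hxt)
    have hh : ∀ b, Commute (R.psl a * R.fld σ) (tr R b) := by
      intro b
      have hxb : Commute x (tr R b) := (mem_centralizer_iff.1 hx _ ⟨b, rfl⟩).symm
      rcases e with rfl | rfl
      · exact hxb
      · have htb : Commute E.t (tr R b) := (FixedT.commute_t (R.psl_mem _)).symm
        have := htb.inv_left.mul_left hxb
        rwa [inv_mul_cancel_left] at this
    obtain ⟨⟨c, rfl⟩, rfl⟩ := centralizes_tr R hh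
    rw [map_one, mul_one] at e
    exact e.imp (fun e => ⟨c, e.symm⟩) fun e => ⟨ι c, ⟨c, rfl⟩, e⟩
  have hodd_U : ∀ u ∈ U, Odd (orderOf u) := by
    intro u hu
    obtain ⟨j, hj⟩ := IsPGroup.iff_orderOf.1 hUp ⟨u, hu⟩
    rw [Subgroup.orderOf_mk] at hj
    rw [hj]
    exact (by decide : Odd 3).pow
  obtain ⟨O, hOC, hOcard, hCO, hmemO⟩ := exists_odd_part htC E.orderOf_t (by
    rintro x hx ⟨j, hj⟩ hxt
    have two_zero : ∀ u ∈ U, orderOf u ∣ 2 ^ j → u = 1 := fun u hu hd =>
      orderOf_eq_one_iff.1 (Nat.eq_one_of_dvd_coprimes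
        ((Nat.coprime_two_left.2 (hodd_U u hu)).pow_left j) hd dvd_rfl)
    rcases hCH x hx hxt with h | ⟨u, hu, he⟩
    · rw [two_zero x h (hj ▸ dvd_rfl)]; exact one_mem _
    · have htu : Commute t u := (FixedT.commute_t (hUt hu)).symm
      have hu1 : u = 1 := by
        refine two_zero u hu (orderOf_dvd_of_pow_eq_one ?_)
        have h0 : x ^ 2 ^ j = 1 := by rw [← hj, pow_orderOf_eq_one]
        rcases j with _ | j
        · rw [pow_zero, pow_one] at h0
          exfalso
          have hu' : u = t⁻¹ := eq_inv_of_mul_eq_one_right (he ▸ h0)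
          have h5 := hodd_U u hu
          rw [hu', orderOf_inv, E.orderOf_t] at h5
          exact absurd h5 (by decide)
        · rw [he, htu.mul_pow] at h0
          rwa [show t ^ 2 ^ (j + 1) = 1 by
            rw [pow_succ', pow_mul, pow_two, FixedT.t_sq, one_pow], one_mul] at h0
      rw [he, hu1, mul_one]
      exact mem_zpowers _)
  have hUO : U ≤ O := fun u hu => (hmemO u).2 ⟨hUC hu, hodd_U u hu⟩
  have hnorm : ∀ g, g ∈ normalizer (U : Set G) → g ∈ normalizer (O : Set G) := fun g hg =>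
    mem_normalizer_odd hmemO (mem_normalizer_centralizer hg)
  have htU : t ∈ normalizer (U : Set G) := Subgroup.centralizer_le_normalizer _ htC
  -- the invariant Sylow subgroup
  let ψ := Subgroup.normalizerMonoidHom O
  set α : MulAut O := ψ ⟨t, hnorm t htU⟩ with hα
  have hα2 : α ^ 2 = 1 := by
    rw [hα, ← map_pow, show (⟨t, hnorm t htU⟩ : normalizer (O : Set G)) ^ 2 = 1 from
      Subtype.ext (by rw [Subgroup.coe_pow, pow_two, FixedT.t_sq]; rfl), map_one]
  have h2O : ¬ 2 ∣ Nat.card O := Nat.odd_iff.1 hOcard |> fun h => by omega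
  have hn2 : ¬ 2 ∣ Nat.card (Sylow 3 O) := fun h => h2O ((h.trans
    (Sylow.card_dvd_index (default : Sylow 3 O))).trans (Subgroup.index_dvd_card _))
  obtain ⟨P, hP⟩ := CoprimeCentral.exists_fixed Nat.prime_two
    (MulAction.toPermHom (MulAut O) (Sylow 3 O) α) (by rw [← map_pow, hα2, map_one]) hn2
  have huniq : ∀ Q : Sylow 3 O, α • Q = Q → Q = P := by
    intro Q hQ
    obtain ⟨g, hg, hgP⟩ := CoprimeCentral.exists_fixed_conj Nat.prime_two hα2 h2O P Q
      (congrArg Sylow.toSubgroup hP) (congrArg Sylow.toSubgroup hQ)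
    have hgt : Commute (g : G) t := by
      have := congrArg Subtype.val hg
      exact (mul_inv_eq_iff_eq_mul.1 this).symm
    have hgU : (g : G) ∈ U := by
      rcases hCH _ (hOC g.2) hgt with h | ⟨u, hu, he⟩
      · exact h
      · exfalso
        have htO : t ∈ O := by
          have := O.mul_mem g.2 (O.inv_mem (hUO hu))
          rwa [he, mul_inv_cancel_right] at this
        have := ((hmemO t).1 htO).2
        rw [E.orderOf_t] at this
        exact absurd this (by decide)
    rw [← hgP]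
    refine Sylow.ext ?_
    show (P : Subgroup O).map (MulAut.conj g).toMonoidHom = P
    have hconj : (MulAut.conj g).toMonoidHom = MonoidHom.id O := by
      ext x
      show (g : G) * x * (g : G)⁻¹ = x
      have h := Subgroup.mem_centralizer_iff.1 (hOC x.2) _ hgU
      rw [h, mul_inv_cancel_right]
    rw [hconj, Subgroup.map_id]
  set W : Subgroup G := (P : Subgroup O).map O.subtype with hW
  have hWp : IsPGroup 3 W := P.isPGroup'.map _
  have hUall : ∀ Q : Sylow 3 O, U.subgroupOf O ≤ (Q : Subgroup O) := by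
    intro Q u hu
    obtain ⟨R', hR⟩ := ((hUp.comap_of_injective O.subtype O.subtype_injective)).exists_le_sylow
    obtain ⟨g, hg⟩ := MulAction.exists_smul_eq O R' Q
    rw [← hg]
    show u ∈ (R' : Subgroup O).map (MulAut.conj g).toMonoidHom
    refine ⟨u, hR hu, Subtype.ext ?_⟩
    show (g : G) * u * (g : G)⁻¹ = u
    rw [← Subgroup.mem_centralizer_iff.1 (hOC g.2) (u : G) hu, mul_inv_cancel_right]
  have hUW : U ≤ W := fun u hu => ⟨⟨u, hUO hu⟩, hUall P (mem_subgroupOf.2 hu), rfl⟩
  obtain ⟨w, hw⟩ := IsPGroup.iff_card.1 hWp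
  have hnw : n ≤ w := by
    have := Subgroup.card_dvd_of_le hUW
    rw [hUcard, hw] at this
    exact (Nat.pow_dvd_pow_iff_le_right (by norm_num)).1 this
  -- the torus
  obtain ⟨a, ha⟩ := CfsgLib.ReeOrder.Char96.exists_diag_order (FixedT.psl_two_ne R)
  set β := R.psl (Char96.diag a) with hβ
  have hβord : orderOf β = (q₀ - 1) / 2 := by rw [hβ, FixedT.orderOf_psl, ha]
  have hβU : β ∈ normalizer (U : Set G) := by
    refine Subgroup.mem_normalizer_fintype ?_
    rintro _ ⟨c, rfl⟩
    obtain ⟨d, hd⟩ := CfsgLib.ReeOrder.Char96.diag_conj a c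
    exact ⟨d, by
      show R.psl (Char96.trans d) = β * R.psl (Char96.trans c) * β⁻¹
      rw [hd, hβ, map_mul, map_mul, map_inv]⟩
  have hβt : Commute β t := FixedT.commute_t (R.psl_mem _)
  set γ : MulAut O := ψ ⟨β, hnorm β hβU⟩ with hγ
  have hγP : γ • P = P := by
    refine huniq _ ?_
    rw [← mul_smul, hα, hγ, ← map_mul, show (⟨t, hnorm t htU⟩ : normalizer (O : Set G)) * ⟨β, hnorm β hβU⟩ =
      ⟨β, hnorm β hβU⟩ * ⟨t, hnorm t htU⟩ from Subtype.ext hβt.eq.symm, map_mul, mul_smul]
    exact congrArg _ hP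
  have hβW : β ∈ normalizer (W : Set G) := by
    refine Subgroup.mem_normalizer_fintype ?_
    rintro _ ⟨x, hx, rfl⟩
    have : γ x ∈ (P : Subgroup O) := by
      have e : (P : Subgroup O).map γ.toMonoidHom = P := congrArg Sylow.toSubgroup hγP
      rw [← e]
      exact ⟨x, hx, rfl⟩
    exact ⟨γ x, this, rfl⟩
  -- semiregularity
  have hdvd : (q₀ - 1) / 2 ∣ 3 ^ w - 1 := by
    let _ : MulAction (zpowers β) W :=
      MulAction.compHom W ((Subgroup.normalizerMonoidHom W).comp
        (Subgroup.inclusion (Subgroup.zpowers_le.2 hβW)))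
    have hsm : ∀ (r : zpowers β) (x : W), ((r • x : W) : G) = (r : G) * x * (r : G)⁻¹ :=
      fun r x => rfl
    have h := CfsgLib.NaturalGL.dvd_card_sub_one (R := zpowers β) (1 : W)
      (fun r => Subtype.ext (by rw [hsm]; simp)) (D := (q₀ - 1) / 2) ?_
    · rwa [hw] at h
    intro x hx
    have hst : MulAction.stabilizer (zpowers β) x = ⊥ := by
      rw [Subgroup.eq_bot_iff_forall]
      intro r hr
      by_contra hr1
      refine hx (Subtype.ext ?_)
      have hcomm : Commute (x : G) (r : G) := by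
        have := congrArg Subtype.val (MulAction.mem_stabilizer_iff.1 hr)
        rw [hsm] at this
        exact (mul_inv_eq_iff_eq_mul.1 this).symm
      obtain ⟨i, hi⟩ := r.2
      have hr' : (r : G) = R.psl (Char96.diag (a ^ i)) := by
        rw [← hi, hβ]
        show R.psl (Char96.diag a) ^ i = R.psl (CfsgLib.ReeOrder.Char96.diagHom (a ^ i))
        rw [map_zpow, map_zpow]
        rfl
      obtain ⟨j, hj⟩ := IsPGroup.iff_orderOf.1 hWp x
      rw [← Subgroup.orderOf_coe] at hj
      refine semiregular R h3f hloc (a := a ^ i) (fun e => hr1 (Subtype.ext ?_)) ?_ ⟨j, hj⟩ (hr' ▸ hcomm)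
      · rw [hr', e, map_one]; rfl
      · rw [oddTorus_eq R, ← hq₀, ← hβord, ← FixedT.orderOf_psl R, ← hr', ← Nat.card_zpowers β]
        exact Subgroup.orderOf_dvd_natCard _ r.2
    rw [Nat.card_coe_set_eq, ← MulAction.index_stabilizer, hst, Subgroup.index_bot, Nat.card_zpowers, hβord]
  have hGcard : Nat.card G = q₀ * m * R.I := by
    rw [← hCtcard]; exact (Subgroup.card_mul_index _).symm
  by_cases hwn : w = n
  · -- `U` is a Sylow subgroup of `G`
    left
    have hWU : W = U := (Subgroup.eq_of_le_of_card_ge hUW (by rw [hw, hwn, hUcard])).symm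
    have hCpart : ∀ x ∈ C, (∃ j, orderOf x = 3 ^ j) → x ∈ U := by
      rintro x hx ⟨j, hj⟩
      have hxO : x ∈ O := (hmemO x).2 ⟨hx, by rw [hj]; exact (by decide : Odd 3).pow⟩
      obtain ⟨Q, hQ⟩ := (IsPGroup.of_card (n := j) (show Nat.card (zpowers (⟨x, hxO⟩ : O)) = 3 ^ j by
        rw [Nat.card_zpowers, Subgroup.orderOf_mk, hj])).exists_le_sylow
      have hcardQ : Nat.card (Q : Subgroup O) = 3 ^ n := by
        rw [Q.card_eq_multiplicity, ← P.card_eq_multiplicity,
          ← Subgroup.card_map_of_injective O.subtype_injective, ← hW, hWU, hUcard]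
      have hQeq : U.subgroupOf O = (Q : Subgroup O) := Subgroup.eq_of_le_of_card_ge (hUall Q) (by
        rw [hcardQ, Nat.card_congr (Subgroup.subgroupOfEquivOfLe hUO).toEquiv, hUcard])
      have := hQ (mem_zpowers _)
      rw [← hQeq] at this
      exact this
    obtain ⟨S, hS⟩ := hUp.exists_le_sylow
    have hSU : (S : Subgroup G) = U := by
      refine le_antisymm ?_ hS
      have : Group.IsNilpotent (S : Subgroup G) := S.isPGroup'.isNilpotent
      by_contra hle
      have hlt : U.subgroupOf (S : Subgroup G) < ⊤ :=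
        lt_top_iff_ne_top.2 fun e => hle (Subgroup.subgroupOf_eq_top.1 e)
      refine (Group.normalizerCondition_of_isNilpotent (G := (S : Subgroup G)) _ hlt).2 fun x hx => ?_
      rw [Subgroup.mem_subgroupOf]
      have hxN : (x : G) ∈ normalizer (U : Set G) := by
        refine Subgroup.mem_normalizer_fintype fun u hu => ?_
        have := (Subgroup.mem_normalizer_iff.1 hx ⟨u, hS hu⟩).1 (Subgroup.mem_subgroupOf.2 hu)
        exact Subgroup.mem_subgroupOf.1 this
      obtain ⟨j, hj⟩ := IsPGroup.iff_orderOf.1 S.isPGroup' x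
      rw [← Subgroup.orderOf_coe] at hj
      have hconjC : ∀ g ∈ normalizer (U : Set G), ∀ y ∈ C, g * y * g⁻¹ ∈ C := fun g hg y hy =>
        (mem_normalizer_iff.1 (mem_normalizer_centralizer hg) y).1 hy
      -- a correction in `C`
      set s : C := ⟨(x : G) * t * (x : G)⁻¹, hconjC _ hxN t htC⟩ with hs
      have hs2 : orderOf s = 2 := by
        rw [hs, Subgroup.orderOf_mk, ← MulAut.conj_apply, MulEquiv.orderOf_eq, E.orderOf_t]
      have ht2' : orderOf (⟨t, htC⟩ : C) = 2 := by rw [Subgroup.orderOf_mk, E.orderOf_t]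
      obtain ⟨T', hT'⟩ := (IsPGroup.of_card (n := 1) (show Nat.card (zpowers s) = 2 ^ 1 by
        rw [Nat.card_zpowers, hs2, pow_one])).exists_le_sylow
      obtain ⟨T, hT⟩ := (IsPGroup.of_card (n := 1) (show Nat.card (zpowers (⟨t, htC⟩ : C)) = 2 ^ 1 by
        rw [Nat.card_zpowers, ht2', pow_one])).exists_le_sylow
      have hTeq : (T : Subgroup C) = zpowers (⟨t, htC⟩ : C) := by
        refine (Subgroup.eq_of_le_of_card_ge hT ?_).symm
        rw [Nat.card_zpowers, ht2']
        obtain ⟨k, hk⟩ := IsPGroup.iff_card.1 T.isPGroup'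
        rw [hk]
        by_contra hlt2
        have h4 : 4 ∣ Nat.card C := by
          refine dvd_trans ?_ (T : Subgroup C).card_subgroup_dvd_card
          rw [hk]
          rcases k with _ | _ | k
          · simp at hlt2
          · simp at hlt2
          · exact pow_dvd_pow 2 (show 2 ≤ k + 1 + 1 by omega)
        rw [hCO] at h4
        rw [Nat.odd_iff] at hOcard
        omega
      obtain ⟨c, hc⟩ := MulAction.exists_smul_eq C T' T
      have hsc : c * s * c⁻¹ = ⟨t, htC⟩ := by
        have h1 : c * s * c⁻¹ ∈ zpowers (⟨t, htC⟩ : C) := by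
          rw [← hTeq, ← hc]
          exact ⟨s, hT' (mem_zpowers s), rfl⟩
        rcases CfsgLib.InvChar.KleinCentralizer.cases_of_mem_zpowers ht2' h1 with e | e
        · exact absurd (conj_eq_one_iff.1 e) (CfsgLib.Involutions.ne_one_of_involution hs2)
        · exact e
      set y : G := (c : G) * x with hy
      have hyt : Commute y t := by
        have e := congrArg Subtype.val hsc
        simp only [Subgroup.coe_mul, InvMemClass.coe_inv, hs] at e
        show y * t = t * y
        rw [hy]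
        conv_rhs => rw [← e]
        group
      have hcN : (c : G) ∈ normalizer (U : Set G) := Subgroup.centralizer_le_normalizer _ c.2
      have hyN : y ∈ normalizer (U : Set G) := Subgroup.mul_mem _ hcN hxN
      set M := normalizer (U : Set G) ⊓ Ct
      have hyM : y ∈ M := ⟨hyN, FixedT.mem_H hyt⟩
      have hUM : U ≤ M := le_inf Subgroup.le_normalizer hUt
      have : (U.subgroupOf M).Normal := Subgroup.normal_subgroupOf_iff_le_normalizer hUM |>.2 inf_le_left
      have hym : y ^ m ∈ U := by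
        have h1 := Subgroup.pow_index_mem (H := U.subgroupOf M) ⟨y, hyM⟩
        rw [Subgroup.mem_subgroupOf, SubmonoidClass.coe_pow] at h1
        have h2 : (U.subgroupOf M).index ∣ m := by
          have h3 := Subgroup.card_dvd_of_le (inf_le_right : M ≤ Ct)
          rw [hCtcard, ← (U.subgroupOf M).card_mul_index,
            Nat.card_congr (Subgroup.subgroupOfEquivOfLe hUM).toEquiv, hUcard, ← hn] at h3
          exact Nat.dvd_of_mul_dvd_mul_left (by omega) h3
        obtain ⟨k, hk⟩ := h2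
        rw [hk, pow_mul]
        exact U.pow_mem h1 k
      have hxm : (x : G) ^ m ∈ C := by
        have key : ∀ k : ℕ, y ^ k * ((x : G) ^ k)⁻¹ ∈ C := by
          intro k
          induction k with
          | zero => simp
          | succ k ih =>
            have hyk : y ^ k ∈ normalizer (U : Set G) := Subgroup.pow_mem _ hyN k
            have e : y ^ (k + 1) * ((x : G) ^ (k + 1))⁻¹ =
                (y ^ k * (c : G) * (y ^ k)⁻¹) * (y ^ k * ((x : G) ^ k)⁻¹) := by
              rw [pow_succ y, pow_succ' (x : G), hy]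
              group
            rw [e]
            exact C.mul_mem (hconjC _ hyk _ c.2) ih
        have := C.mul_mem (C.inv_mem (key m)) (hUC hym)
        rwa [_root_.mul_inv_rev, inv_inv, inv_mul_cancel_right] at this
      have hxC : (x : G) ∈ C := by
        have hco : Nat.Coprime (orderOf (x : G)) m := by
          rw [hj]
          exact Nat.Coprime.pow_left _ ((Nat.prime_three.coprime_iff_not_dvd).2 hpm)
        obtain ⟨i, hi⟩ := exists_pow_eq_self_of_coprime hco.symm
        rw [← hi]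
        exact C.pow_mem hxm i
      exact hCpart _ hxC ⟨j, hj⟩
    intro hpI
    refine S.not_dvd_index (hpI.trans ?_)
    rw [hSU]
    exact Subgroup.index_dvd_of_le hUt
  · -- `q ^ 2` divides the order
    right
    show q₀ ∣ R.I
    have hlt : n < w := by omega
    have h2n : 2 * n ≤ w := by
      by_contra hlt2
      obtain ⟨k, rfl⟩ := Nat.exists_eq_add_of_le hnw
      have hk : k < n := by omega
      have hk0 : 0 < k := by omega
      obtain ⟨b, hb⟩ : ∃ b, q₀ - 1 = 2 * b := ⟨(q₀ - 1) / 2, by omega⟩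
      rw [hb, Nat.mul_div_cancel_left _ two_pos] at hdvd
      have hq1 : 3 ^ n = 2 * b + 1 := by omega
      have h1 : 1 ≤ 3 ^ k := Nat.one_le_pow _ _ (by norm_num)
      have h3 : b ∣ 3 ^ k - 1 := by
        have h4 : 3 ^ (n + k) - 1 = 2 * b * 3 ^ k + (3 ^ k - 1) := by
          rw [pow_add, hq1, add_mul, one_mul]; omega
        rw [h4] at hdvd
        exact (Nat.dvd_add_right (Dvd.intro_left 2 rfl |>.mul_right _)).1 hdvd
      have h5 : 3 ^ (k + 1) ≤ 3 ^ n := Nat.pow_le_pow_right (by norm_num) (by omega)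
      rw [pow_succ'] at h5
      have h7 : 1 < 3 ^ k := Nat.one_lt_pow (by omega) (by norm_num)
      have := Nat.le_of_dvd (by omega) h3
      omega
    have hd : 3 ^ (2 * n) ∣ Nat.card G :=
      (Nat.pow_dvd_pow 3 h2n).trans (hw ▸ Subgroup.card_subgroup_dvd_card W)
    rw [hGcard, two_mul, pow_add, ← hn, mul_assoc] at hd
    refine Nat.Coprime.dvd_of_dvd_mul_left ?_ (Nat.dvd_of_mul_dvd_mul_left (by omega) hd)
    have hco := Nat.Coprime.pow_left n ((Nat.prime_three.coprime_iff_not_dvd).2 hpm)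
    rwa [← hn] at hco

theorem _root_.CfsgLib.Walter.Twist.threeIndexGoal : ThreeIndexGoal.{u} := fun G _ _ E hloc _ R D => by
  haveI := D.char_three
  exact three_index hloc R D.not_three

end CfsgLib.Walter.Twist.ThreeT
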