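import Cfsg.Agent.Lib.Techniques.StableControl
import Cfsg.Agent.Lib.LocalEven.QdStable
import Cfsg.Agent.Lib.LocalEvenSix.QdStable
import Cfsg.Agent.Lib.Transfer.Basic
import Cfsg.Agent.Lib.OddOrder.PuigSeries

/-!
Walter, `FieldFree`, piece R: fusion in a Sylow subgroup with an abelian normal subgroup with cyclic
quotient.  In a group without a section `Qd(p)`, a character of such a Sylow subgroup that kills the
abelian subgroup and is invariant under the normalizer is invariant under fusion.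
-/

set_option autoImplicit false
set_option linter.unusedSectionVars false
set_option linter.style.haveILetI false

namespace CfsgLib.Walter.Twist

open Subgroup

universe u v

variable {p : ℕ} [hp : Fact p.Prime]

theorem mem_normalizer_of_conj {G : Type*} [Group G] [Finite G] {H : Subgroup G} {g : G}
    (h : ∀ s ∈ H, g * s * g⁻¹ ∈ H) : g ∈ normalizer (H : Set G) := by
  refine mem_normalizer_iff.2 fun a => ⟨fun ha => h a ha, fun ha => ?_⟩
  have hinj : Function.Injective fun s : H => (⟨g * s * g⁻¹, h s s.2⟩ : H) := fun s t e =>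
    Subtype.ext (mul_left_cancel (mul_right_cancel (congrArg Subtype.val e)))
  obtain ⟨s, hs⟩ := (Finite.injective_iff_surjective.1 hinj) ⟨_, ha⟩
  have e : (s : G) = a := mul_left_cancel (mul_right_cancel (congrArg Subtype.val hs))
  exact e ▸ s.2

/-- A `p`-group `P` with an abelian normal subgroup `U` with cyclic quotient and a character of
exponent `p` killing `U`, invariant under the normalizer of `P`. -/
structure TopData {X : Type u} [Group X] (p : ℕ) (P : Subgroup X) (A : Type v) [CommGroup A] where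
  /-- the abelian subgroup -/
  U : Subgroup X
  le : U ≤ P
  comm : ∀ a ∈ U, ∀ b ∈ U, a * b = b * a
  conj : ∀ g ∈ P, ∀ a ∈ U, g * a * g⁻¹ ∈ U
  /-- a generator of the quotient -/
  x₀ : X
  mem : x₀ ∈ P
  gen : P ≤ U ⊔ zpowers x₀
  /-- the character -/
  θ : X → A
  mul : ∀ a ∈ P, ∀ b ∈ P, θ (a * b) = θ a * θ b
  pow : ∀ a ∈ P, θ a ^ p = 1
  ker : ∀ a ∈ U, θ a = 1
  inv : ∀ n ∈ normalizer (P : Set X), ∀ a ∈ P, θ (n * a * n⁻¹) = θ a

namespace TopData

variable {X : Type u} [Group X] {A : Type v} [CommGroup A]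

/-- The character as a homomorphism. -/
def hom {P : Subgroup X} (D : TopData p P A) : P →* A :=
  MonoidHom.mk' (fun a => D.θ a) fun a b => D.mul a a.2 b b.2

theorem le_normalizer_U {P : Subgroup X} (D : TopData p P A) : P ≤ normalizer (D.U : Set X) := by
  intro g hg
  refine mem_normalizer_iff.2 fun a => ⟨fun ha => D.conj g hg a ha, fun ha => ?_⟩
  have := D.conj g⁻¹ (inv_mem hg) _ ha
  simpa [mul_assoc] using this

theorem exists_form {P : Subgroup X} (D : TopData p P A) {a : X} (ha : a ∈ P) :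
    ∃ u ∈ D.U, ∃ k : ℤ, a = u * D.x₀ ^ k := by
  have h : a ∈ ((D.U ⊔ zpowers D.x₀ : Subgroup X) : Set X) := D.gen ha
  rw [coe_mul_of_right_le_normalizer_left D.U (zpowers D.x₀)
    ((zpowers_le.2 D.mem).trans D.le_normalizer_U)] at h
  obtain ⟨u, hu, _, ⟨k, rfl⟩, rfl⟩ := h
  exact ⟨u, hu, k, rfl⟩

/-- An element outside the kernel of the character generates the quotient. -/
theorem gen_of_ne {P : Subgroup X} (D : TopData p P A) (hP : IsPGroup p P) {a : X} (ha : a ∈ P)
    (hne : D.θ a ≠ 1) : P ≤ D.U ⊔ zpowers a := by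
  obtain ⟨u, hu, k, hk⟩ := D.exists_form ha
  have hk' : D.hom ⟨a, ha⟩ = D.θ D.x₀ ^ k := by
    have e : (⟨a, ha⟩ : P) = ⟨u, D.le hu⟩ * (⟨D.x₀, D.mem⟩ : P) ^ k := Subtype.ext (by simpa using hk)
    rw [e, map_mul, map_zpow]
    show D.θ u * _ = _
    rw [D.ker u hu, one_mul]
    rfl
  have hpk : ¬ (p : ℤ) ∣ k := by
    rintro ⟨m, rfl⟩
    refine hne ?_
    show D.hom ⟨a, ha⟩ = 1
    rw [hk', zpow_mul, zpow_natCast, D.pow _ D.mem, one_zpow]
  obtain ⟨j, hj⟩ := hP ⟨D.x₀, D.mem⟩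
  have hj' : D.x₀ ^ (p ^ j) = 1 := congrArg Subtype.val hj
  obtain ⟨c, e, hce⟩ : IsCoprime k ((p : ℤ) ^ j) :=
    (((Nat.prime_iff_prime_int.1 hp.out).coprime_iff_not_dvd).2 hpk).symm.pow_right
  have hx : D.x₀ = (u⁻¹ * a) ^ c := by
    have h1 : u⁻¹ * a = D.x₀ ^ k := by rw [hk, inv_mul_cancel_left]
    have h2 : D.x₀ ^ ((p : ℤ) ^ j) = 1 := by rw [← Nat.cast_pow, zpow_natCast, hj']
    calc D.x₀ = D.x₀ ^ (c * k + e * (p : ℤ) ^ j) := by rw [hce, zpow_one]
      _ = (D.x₀ ^ k) ^ c := by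
        rw [zpow_add, mul_comm c k, zpow_mul, mul_comm e, zpow_mul D.x₀ ((p : ℤ) ^ j), h2, one_zpow,
          mul_one]
      _ = _ := by rw [h1]
  refine D.gen.trans (sup_le le_sup_left (zpowers_le.2 ?_))
  rw [hx]
  exact zpow_mem (mul_mem (inv_mem (mem_sup_left hu)) (mem_sup_right (mem_zpowers a))) c

/-- The centralizer of `U` in `P`. -/
def C0 {P : Subgroup X} (D : TopData p P A) : Subgroup X := P ⊓ centralizer (D.U : Set X)

theorem U_le_C0 {P : Subgroup X} (D : TopData p P A) : D.U ≤ D.C0 :=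
  le_inf D.le fun a ha => mem_centralizer_iff.2 fun b hb => D.comm b hb a ha

theorem C0_comm {P : Subgroup X} (D : TopData p P A) :
    ∀ a ∈ D.C0, ∀ b ∈ D.C0, a * b = b * a := by
  intro a ha b hb
  obtain ⟨u, hu, i, rfl⟩ := D.exists_form ha.1
  obtain ⟨v, hv, j, rfl⟩ := D.exists_form hb.1
  have cu : ∀ w ∈ D.U, Commute u w := fun w hw => D.comm u hu w hw
  have hx : ∀ {w : X} {k : ℤ}, w ∈ D.U → w * D.x₀ ^ k ∈ D.C0 → ∀ z ∈ D.U, Commute (D.x₀ ^ k) z := by
    intro w k hw h z hz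
    have h1 : Commute (w * D.x₀ ^ k) z := (mem_centralizer_iff.1 h.2 z hz).symm
    have h2 : Commute w z := D.comm w hw z hz
    simpa using h2.inv_left.mul_left h1
  have e1 : Commute (D.x₀ ^ i) v := hx hu ha v hv
  have e2 : Commute u (D.x₀ ^ j) := (hx hv hb u hu).symm
  exact ((cu v hv).mul_right e2).mul_left (e1.mul_right ((Commute.refl D.x₀).zpow_zpow i j))

/-- The character kills `C0`, unless `P` is abelian. -/
theorem ker_C0 {P : Subgroup X} (D : TopData p P A) (hP : IsPGroup p P)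
    (hnab : ¬ ∀ a ∈ P, ∀ b ∈ P, a * b = b * a) {a : X} (ha : a ∈ D.C0) : D.θ a = 1 := by
  by_contra hne
  refine hnab fun x hx y hy => ?_
  have hle : P ≤ D.C0 := (D.gen_of_ne hP ha.1 hne).trans (sup_le D.U_le_C0 (zpowers_le.2 ha))
  exact D.C0_comm x (hle hx) y (hle hy)

theorem C0_conj {P : Subgroup X} (D : TopData p P A) {g a : X} (hg : g ∈ P) (ha : a ∈ D.C0) :
    g * a * g⁻¹ ∈ D.C0 := by
  refine mem_inf.2 ⟨mul_mem (mul_mem hg (mem_inf.1 ha).1) (inv_mem hg), mem_centralizer_iff.2 fun w hw => ?_⟩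
  have h := mem_centralizer_iff.1 (mem_inf.1 ha).2 _ (D.conj g⁻¹ (inv_mem hg) w hw)
  rw [inv_inv] at h
  calc w * (g * a * g⁻¹) = g * (g⁻¹ * w * g * a) * g⁻¹ := by group
    _ = g * a * g⁻¹ * w := by rw [h]; group

variable [Finite X]

/-- Fixed points grow along `γ, γ^p, …` outside `C0`. -/
theorem count {P : Subgroup X} (D : TopData p P A) (hP : IsPGroup p P) :
    ∀ (c : ℕ) (γ : X), γ ∈ P → (∀ j < c, γ ^ (p ^ j) ∉ D.C0) →
      p ^ c * Nat.card ↥(D.C0 ⊓ centralizer ({γ} : Set X)) ≤ Nat.card D.C0 := by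
  intro c
  induction c with
  | zero => intro γ _ _; simpa using card_le_of_le (inf_le_left : D.C0 ⊓ centralizer ({γ} : Set X) ≤ D.C0)
  | succ c ih =>
    intro γ hγ hout
    have h0 : γ ∉ D.C0 := by simpa using hout 0 c.succ_pos
    have hpow : γ ^ p ∈ P := pow_mem hγ p
    have hih := ih (γ ^ p) hpow fun j hj => by
      rw [← pow_mul, ← pow_succ']
      exact hout (j + 1) (Nat.succ_lt_succ hj)
    set K := D.C0 ⊓ centralizer ({γ} : Set X) with hK
    set K' := D.C0 ⊓ centralizer ({γ ^ p} : Set X) with hK'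
    have hle : K ≤ K' := fun u hu => ⟨hu.1, mem_centralizer_singleton_iff.2
      ((Commute.pow_right (mem_centralizer_singleton_iff.1 hu.2) p).eq)⟩
    -- the commutator with `γ`
    have hγC : ∀ u ∈ D.C0, γ * u * γ⁻¹ ∈ D.C0 := fun u hu => D.C0_conj hγ hu
    let f : D.C0 →* D.C0 := MonoidHom.mk'
      (fun u => ⟨γ * u * γ⁻¹ * (u : X)⁻¹, mul_mem (hγC u u.2) (inv_mem u.2)⟩)
      (fun a b => Subtype.ext (by
        simp only [coe_mul, mul_inv_rev]
        have h1 := D.C0_comm _ (mul_mem (hγC b b.2) (inv_mem b.2)) (a : X)⁻¹ (inv_mem a.2)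
        calc γ * ((a : X) * b) * γ⁻¹ * ((b : X)⁻¹ * (a : X)⁻¹)
            = γ * a * γ⁻¹ * (γ * b * γ⁻¹ * (b : X)⁻¹ * (a : X)⁻¹) := by group
          _ = γ * a * γ⁻¹ * ((a : X)⁻¹ * (γ * b * γ⁻¹ * (b : X)⁻¹)) := by rw [h1]
          _ = γ * a * γ⁻¹ * (a : X)⁻¹ * (γ * b * γ⁻¹ * (b : X)⁻¹) := by group))
    set I := f.range.map D.C0.subtype with hI
    have hI1 : I ≠ ⊥ := by
      intro h
      refine h0 ⟨hγ, mem_centralizer_iff.2 fun w hw => ?_⟩
      have hm : γ * w * γ⁻¹ * w⁻¹ ∈ I := ⟨_, ⟨⟨w, D.U_le_C0 hw⟩, rfl⟩, rfl⟩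
      rw [h, mem_bot] at hm
      exact (mul_inv_eq_iff_eq_mul.1 (mul_inv_eq_one.1 hm)).symm
    -- an element of the image fixed by `γ`
    have hIC : I ≤ D.C0 := map_subtype_le _
    have hIγ : ∀ a ∈ I, γ * a * γ⁻¹ ∈ I := by
      rintro _ ⟨_, ⟨u, rfl⟩, rfl⟩
      refine ⟨_, ⟨⟨γ * u * γ⁻¹, hγC u u.2⟩, rfl⟩, ?_⟩
      show γ * (γ * u * γ⁻¹) * γ⁻¹ * (γ * u * γ⁻¹)⁻¹ = γ * (γ * u * γ⁻¹ * (u : X)⁻¹) * γ⁻¹
      group
    set Q := I ⊔ zpowers γ with hQ
    have hQP : Q ≤ P := sup_le (hIC.trans inf_le_left) (zpowers_le.2 hγ)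
    haveI : Group.IsNilpotent Q := (hP.to_le hQP).isNilpotent
    haveI : (I.subgroupOf Q).Normal := normal_subgroupOf_of_le_normalizer (sup_le le_normalizer
      (zpowers_le.2 (mem_normalizer_of_conj hIγ)))
    obtain ⟨⟨⟨w, hwQ⟩, hw⟩, hw1⟩ := ne_bot_iff_exists_ne_one.1
      (CfsgLib.OddOrder.PuigSeries.inf_center_ne_bot (I.subgroupOf Q) fun h => hI1 (by
        rw [← map_subgroupOf_eq_of_le (le_sup_left : I ≤ Q), h, Subgroup.map_bot]))
    rw [mem_inf] at hw
    replace hw1 : (⟨w, hwQ⟩ : Q) ≠ 1 := fun h => hw1 (Subtype.ext h)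
    obtain ⟨hwc, hwI⟩ := hw
    have hwγ : Commute γ w := congrArg Subtype.val
      (mem_center_iff.1 hwc ⟨γ, mem_sup_right (mem_zpowers γ)⟩)
    have hwC0 : w ∈ D.C0 := hIC hwI
    obtain ⟨_, ⟨u, rfl⟩, huw⟩ := (hwI : w ∈ I)
    change γ * u * γ⁻¹ * (u : X)⁻¹ = w at huw
    have hw1' : w ≠ 1 := fun h => hw1 (Subtype.ext h)
    -- a power of `w` of order `p`
    obtain ⟨i, hi⟩ := hP ⟨w, hQP hwQ⟩
    have hi' : w ^ (p ^ i) = 1 := congrArg Subtype.val hi
    have hlt : K < K' := by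
      classical
      obtain ⟨m, hm, hm1, hmp⟩ : ∃ m, m = Nat.find (⟨i, hi'⟩ : ∃ n, w ^ (p ^ n) = 1) ∧ 1 ≤ m ∧
          w ^ (p ^ m) = 1 := by
        refine ⟨_, rfl, Nat.one_le_iff_ne_zero.2 fun h => hw1' ?_, Nat.find_spec (⟨i, hi'⟩ : ∃ n, w ^ (p ^ n) = 1)⟩
        have := Nat.find_spec (⟨i, hi'⟩ : ∃ n, w ^ (p ^ n) = 1)
        rwa [h, pow_zero, pow_one] at this
      set w' := w ^ (p ^ (m - 1)) with hw'
      have hw'1 : w' ≠ 1 := fun h => Nat.find_min (⟨i, hi'⟩ : ∃ n, w ^ (p ^ n) = 1)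
        (by omega : m - 1 < _) h
      have hw'p : w' ^ p = 1 := by
        rw [hw', ← pow_mul, ← pow_succ, Nat.sub_add_cancel hm1, hmp]
      set u' : X := (u : X) ^ (p ^ (m - 1)) with hu'
      have hu'C : u' ∈ D.C0 := pow_mem u.2 _
      have he : γ * u' * γ⁻¹ = w' * u' := by
        have h1 : γ * u * γ⁻¹ = w * u := by rw [← huw, inv_mul_cancel_right]
        have hwu : Commute w (u : X) := D.C0_comm w hwC0 u u.2
        rw [hu', hw', ← conj_pow, h1, hwu.mul_pow]
      have hwγ' : Commute γ w' := hwγ.pow_right _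
      have hn : ∀ n : ℕ, γ ^ n * u' * (γ ^ n)⁻¹ = w' ^ n * u' := by
        intro n
        induction n with
        | zero => simp
        | succ n ihn =>
          calc γ ^ (n + 1) * u' * (γ ^ (n + 1))⁻¹ = γ * (γ ^ n * u' * (γ ^ n)⁻¹) * γ⁻¹ := by
                rw [pow_succ']; group
            _ = γ * w' ^ n * γ⁻¹ * (γ * u' * γ⁻¹) := by rw [ihn]; group
            _ = w' ^ (n + 1) * u' := by
                rw [he, (hwγ'.pow_right n).eq, mul_inv_cancel_right, pow_succ, mul_assoc]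
      refine lt_of_le_of_ne hle fun heq => hw'1 ?_
      have hu'K : u' ∈ K' := ⟨hu'C, mem_centralizer_singleton_iff.2 (by
        have := hn p
        rw [hw'p, one_mul, mul_inv_eq_iff_eq_mul] at this
        exact this.symm)⟩
      rw [← heq] at hu'K
      have hc := mem_centralizer_singleton_iff.1 hu'K.2
      rw [← hc, mul_inv_cancel_right] at he
      exact mul_eq_right.1 he.symm
    have hmul : p * Nat.card K ≤ Nat.card K' := by
      obtain ⟨j, hj⟩ := IsPGroup.iff_card.1 ((hP.to_le (inf_le_left.trans inf_le_left : K' ≤ P)))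
      obtain ⟨d, hd⟩ := card_dvd_of_le hle
      have hd1 : d ≠ 1 := fun h => hlt.ne (eq_of_le_of_card_ge hle (by rw [hd, h, mul_one]))
      obtain ⟨l, -, rfl⟩ := (Nat.dvd_prime_pow hp.out).1 ⟨_, (hd.trans (mul_comm _ _)).symm.trans hj |>.symm⟩
      rcases l with - | l
      · exact absurd (pow_zero p) hd1
      · rw [hd, mul_comm]
        exact Nat.mul_le_mul_left _ (Nat.le_self_pow l.succ_ne_zero p)
    calc p ^ (c + 1) * Nat.card K = p ^ c * (p * Nat.card K) := by rw [pow_succ, mul_assoc]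
      _ ≤ p ^ c * Nat.card K' := Nat.mul_le_mul_left _ hmul
      _ ≤ _ := hih

/-- `C0` is an abelian subgroup of largest order. -/
theorem isMax {P : Subgroup X} (D : TopData p P A) (hP : IsPGroup p P) :
    CfsgLib.PLocal.IsMaxElemIn 0 P D.C0 := by
  refine ⟨inf_le_left, ⟨⟨⟨fun a b => Subtype.ext (D.C0_comm a a.2 b b.2)⟩⟩, fun a _ => pow_zero a⟩,
    fun B hB hBe => ?_⟩
  have hn : (D.C0.subgroupOf P).Normal := normal_subgroupOf_of_le_normalizer (by
    intro g hg
    refine mem_normalizer_iff.2 fun a => ?_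
    have key : ∀ g ∈ P, ∀ a ∈ D.C0, g * a * g⁻¹ ∈ D.C0 := fun g hg a ha => D.C0_conj hg ha
    refine ⟨key g hg a, fun h => ?_⟩
    have := key g⁻¹ (inv_mem hg) _ h
    simpa [mul_assoc] using this)
  let ρ : B →* P ⧸ D.C0.subgroupOf P := (QuotientGroup.mk' _).comp (inclusion hB)
  haveI : IsCyclic (P ⧸ D.C0.subgroupOf P) := by
    refine ⟨⟨((⟨D.x₀, D.mem⟩ : P) : P ⧸ D.C0.subgroupOf P), fun q => ?_⟩⟩
    induction q using QuotientGroup.induction_on with
    | H a =>
      obtain ⟨u, hu, k, hk⟩ := D.exists_form a.2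
      refine ⟨k, ?_⟩
      show ((⟨D.x₀, D.mem⟩ : P) : P ⧸ D.C0.subgroupOf P) ^ k = _
      rw [← QuotientGroup.mk_zpow, QuotientGroup.eq, mem_subgroupOf]
      push_cast
      rw [hk]
      have h2 := hn.conj_mem ⟨u, D.le hu⟩ (mem_subgroupOf.2 (D.U_le_C0 hu)) ((⟨D.x₀, D.mem⟩ : P) ^ k)⁻¹
      rw [mem_subgroupOf] at h2
      push_cast at h2
      simpa [mul_assoc] using h2
  obtain ⟨⟨_, γ, rfl⟩, hγ⟩ := IsCyclic.exists_generator (α := ρ.range)
  obtain ⟨c, hc⟩ : ∃ c, orderOf (ρ γ) = p ^ c := by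
    obtain ⟨j, hj⟩ := hP (inclusion hB γ)
    obtain ⟨c, -, hc⟩ := (Nat.dvd_prime_pow hp.out).1 (orderOf_dvd_of_pow_eq_one (x := ρ γ) (n := p ^ j) (by
      show QuotientGroup.mk' _ (inclusion hB γ) ^ _ = 1
      rw [← map_pow, hj, map_one]))
    exact ⟨c, hc⟩
  have hρ : ∀ b : B, ρ b = 1 ↔ (b : X) ∈ D.C0 := fun b => by
    show QuotientGroup.mk' _ (inclusion hB b) = 1 ↔ _
    rw [QuotientGroup.mk'_apply, QuotientGroup.eq_one_iff, mem_subgroupOf]
    rfl
  have hout : ∀ j < c, (γ : X) ^ (p ^ j) ∉ D.C0 := fun j hj h => by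
    have h1 : ρ γ ^ (p ^ j) = 1 := by
      rw [← map_pow]; exact (hρ _).2 (by simpa using h)
    have := orderOf_dvd_of_pow_eq_one h1
    rw [hc, Nat.pow_dvd_pow_iff_le_right hp.out.one_lt] at this
    omega
  have hcount := D.count hP c γ (hB γ.2) hout
  have hrange : Nat.card ρ.range = p ^ c := by
    rw [← hc, ← orderOf_eq_card_of_forall_mem_zpowers hγ, ← Subgroup.orderOf_coe]
  have hker : Nat.card ρ.ker ≤ Nat.card ↥(D.C0 ⊓ centralizer ({(γ : X)} : Set X)) := by
    rw [Nat.card_congr (ρ.ker.equivMapOfInjective B.subtype B.subtype_injective).toEquiv]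
    refine card_le_of_le ?_
    rintro _ ⟨b, hb, rfl⟩
    haveI := hBe.1
    exact ⟨(hρ b).1 hb, mem_centralizer_singleton_iff.2
      (congrArg Subtype.val (IsMulCommutative.is_comm.comm b γ))⟩
  calc Nat.card B = Nat.card ρ.ker * Nat.card ρ.range := by rw [← index_ker, card_mul_index]
    _ ≤ Nat.card ↥(D.C0 ⊓ centralizer ({(γ : X)} : Set X)) * p ^ c := by
        rw [hrange]; exact Nat.mul_le_mul_right _ hker
    _ ≤ _ := by rw [mul_comm]; exact hcount

theorem zj_le_C0 {P : Subgroup X} (D : TopData p P A) (hP : IsPGroup p P) :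
    CfsgLib.PLocal.zj 0 P ≤ D.C0 :=
  CfsgLib.PLocal.zj_le_of_isMaxElemIn (D.isMax hP)

end TopData

/-- The character is invariant under fusion in smaller groups. -/
def TopSmall (p : ℕ) (A : Type v) [CommGroup A] (X : Type u) [Group X] : Prop :=
  ∀ (Y : Type u) [Group Y] [Finite Y], Nat.card Y < Nat.card X → ¬ Cfsg.Involves ↥(Cfsg.qd p) Y →
    ∀ (P : Sylow p Y) (D : TopData p (P : Subgroup Y) A) (x g : Y), x ∈ P → g * x * g⁻¹ ∈ P →
      D.θ (g * x * g⁻¹) = D.θ x

section Step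

variable {X : Type u} [Group X] [Finite X] {A : Type v} [CommGroup A] (hind : TopSmall p A X)
  (hqd : ¬ Cfsg.Involves ↥(Cfsg.qd p) X) (P : Sylow p X) (D : TopData p (P : Subgroup X) A)
include hind hqd

theorem top_subgroup (H : Subgroup X) (hPH : (P : Subgroup X) ≤ H) (hH : H ≠ ⊤) {x g : X} (hg : g ∈ H)
    (hx : x ∈ P) (hy : g * x * g⁻¹ ∈ P) : D.θ (g * x * g⁻¹) = D.θ x := by
  have hlt : Nat.card H < Nat.card X := lt_of_le_of_ne (Finite.card_subtype_le _)
    fun h => hH (eq_top_of_card_eq H h)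
  let D' : TopData p (P.subtype hPH : Subgroup H) A :=
    { U := D.U.subgroupOf H
      le := fun a ha => D.le ha
      comm := fun a ha b hb => Subtype.ext (D.comm a ha b hb)
      conj := fun g hg a ha => D.conj g hg a ha
      x₀ := ⟨D.x₀, hPH D.mem⟩
      mem := D.mem
      gen := by
        intro a ha
        obtain ⟨u, hu, k, hk⟩ := D.exists_form (ha : (a : X) ∈ (P : Subgroup X))
        have e : a = ⟨u, hPH (D.le hu)⟩ * (⟨D.x₀, hPH D.mem⟩ : H) ^ k := Subtype.ext (by simpa using hk)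
        rw [e]
        exact mul_mem (mem_sup_left (mem_subgroupOf.2 hu)) (mem_sup_right (zpow_mem (mem_zpowers _) k))
      θ := fun a => D.θ a
      mul := fun a ha b hb => D.mul a ha b hb
      pow := fun a ha => D.pow a ha
      ker := fun a ha => D.ker a ha
      inv := fun n hn a ha => D.inv n (mem_normalizer_iff.2 fun b => by
        constructor
        · intro hb
          exact (mem_normalizer_iff.1 hn ⟨b, hPH hb⟩).1 hb
        · intro hb
          have hbH : b ∈ H := by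
            have := mul_mem (mul_mem (inv_mem n.2) (hPH hb)) n.2
            simpa [mul_assoc] using this
          exact (mem_normalizer_iff.1 hn ⟨b, hbH⟩).2 hb) a ha }
  exact hind H hlt (CfsgLib.LocalEvenSix.QdStable.not_involves_subgroup hqd H) (P.subtype hPH) D'
    ⟨x, hPH hx⟩ ⟨g, hg⟩ hx hy

theorem top_quotient (K : Subgroup X) [K.Normal] (hK : K ≠ ⊥)
    (hθ : ∀ a ∈ (P : Subgroup X), a ∈ K → D.θ a = 1) {x g : X} (hx : x ∈ P) (hy : g * x * g⁻¹ ∈ P) :
    D.θ (g * x * g⁻¹) = D.θ x := by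
  classical
  have hlt : Nat.card (X ⧸ K) < Nat.card X := by
    rw [← Subgroup.index_eq_card, ← card_mul_index K]
    refine lt_mul_of_one_lt_left ?_ ((one_lt_card_iff_ne_bot K).2 hK)
    exact Nat.pos_of_ne_zero index_ne_zero_of_finite
  set π := QuotientGroup.mk' K with hπ
  have hπs : Function.Surjective π := QuotientGroup.mk'_surjective K
  let Pb : Sylow p (X ⧸ K) := P.mapSurjective hπs
  have hlift : ∀ a : X ⧸ K, a ∈ (Pb : Subgroup (X ⧸ K)) → ∃ b ∈ (P : Subgroup X), π b = a :=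
    fun a ha => ha
  let θb : X ⧸ K → A := fun a => if h : ∃ b ∈ (P : Subgroup X), π b = a then D.θ h.choose else 1
  have hθb : ∀ b ∈ (P : Subgroup X), θb (π b) = D.θ b := by
    intro b hb
    have h : ∃ b' ∈ (P : Subgroup X), π b' = π b := ⟨b, hb, rfl⟩
    simp only [θb, dif_pos h]
    obtain ⟨hc, hce⟩ := h.choose_spec
    have hk : h.choose⁻¹ * b ∈ K := QuotientGroup.eq.1 hce
    have := D.mul _ hc _ (mul_mem (inv_mem hc) hb)
    rw [mul_inv_cancel_left, hθ _ (mul_mem (inv_mem hc) hb) hk, mul_one] at this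
    exact this.symm
  let D' : TopData p (Pb : Subgroup (X ⧸ K)) A :=
    { U := D.U.map π
      le := map_mono D.le
      comm := by
        rintro _ ⟨a, ha, rfl⟩ _ ⟨b, hb, rfl⟩
        rw [← map_mul, ← map_mul, D.comm a ha b hb]
      conj := by
        rintro _ ⟨h, hh, rfl⟩ _ ⟨a, ha, rfl⟩
        exact ⟨h * a * h⁻¹, D.conj h hh a ha, by rw [map_mul, map_mul, map_inv]⟩
      x₀ := π D.x₀
      mem := ⟨D.x₀, D.mem, rfl⟩
      gen := by
        refine (map_mono (f := π) D.gen).trans ?_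
        rw [Subgroup.map_sup, MonoidHom.map_zpowers]
      θ := θb
      mul := fun a ha b hb => by
        obtain ⟨a, ha', rfl⟩ := hlift a ha
        obtain ⟨b, hb', rfl⟩ := hlift b hb
        rw [← map_mul, hθb _ (mul_mem ha' hb'), hθb _ ha', hθb _ hb', D.mul a ha' b hb']
      pow := fun a ha => by
        obtain ⟨a, ha', rfl⟩ := hlift a ha
        rw [hθb _ ha', D.pow a ha']
      ker := by
        rintro _ ⟨a, ha, rfl⟩
        rw [hθb _ (D.le ha), D.ker a ha]
      inv := fun nb hnb ab hab => by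
        obtain ⟨n, rfl⟩ := hπs nb
        obtain ⟨a, ha', rfl⟩ := hlift ab hab
        obtain ⟨c, hc, hnc⟩ := CfsgLib.Transfer.exists_mul_mem_normalizer P ((P : Subgroup X) ⊔ K) n
          le_sup_left fun b hb => by
            have h1 := (mem_normalizer_iff.1 (inv_mem hnb) (π b)).1 ⟨b, hb, rfl⟩
            rw [inv_inv, ← map_inv, ← map_mul, ← map_mul] at h1
            obtain ⟨b', hb', he⟩ := hlift _ h1
            have e : n⁻¹ * b * n = b' * (b'⁻¹ * (n⁻¹ * b * n)) := by rw [mul_inv_cancel_left]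
            rw [e]
            exact mul_mem (mem_sup_left hb') (mem_sup_right (QuotientGroup.eq.1 he))
        obtain ⟨b, hb, k, hk, rfl⟩ := mem_sup_of_normal_right.1 hc
        have hπk : π k = 1 := (QuotientGroup.eq_one_iff k).2 hk
        have hm : n * (b * k) * b⁻¹ ∈ normalizer ((P : Subgroup X) : Set X) :=
          mul_mem hnc (inv_mem (le_normalizer hb))
        have e : π n = π (n * (b * k) * b⁻¹) := by
          simp only [map_mul, map_inv, hπk, mul_one, mul_inv_cancel_right]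
        rw [e, ← map_inv, ← map_mul, ← map_mul,
          hθb _ ((mem_normalizer_iff.1 hm a).1 ha'), hθb _ ha', D.inv _ hm a ha'] }
  have h := hind (X ⧸ K) hlt (CfsgLib.LocalEvenSix.QdStable.not_involves_quotient hqd K) Pb D'
    (π x) (π g) ⟨x, hx, rfl⟩ ⟨g * x * g⁻¹, hy, by rw [map_mul, map_mul, map_inv]⟩
  change θb (π g * π x * (π g)⁻¹) = θb (π x) at h
  rwa [← map_inv, ← map_mul, ← map_mul, hθb _ hy, hθb _ hx] at h

end Step

/-- A normalizer invariant character of `P` that kills an abelian normal subgroup with cyclic quotient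
is invariant under fusion, if `Qd(p)` is not involved. -/
theorem TopData.theta_conj_eq (hp2 : p ≠ 2) {A : Type v} [CommGroup A] {X : Type u} [Group X] [Finite X]
    (hqd : ¬ Cfsg.Involves ↥(Cfsg.qd p) X) (P : Sylow p X) (D : TopData p (P : Subgroup X) A) {x g : X}
    (hx : x ∈ P) (hy : g * x * g⁻¹ ∈ P) : D.θ (g * x * g⁻¹) = D.θ x := by
  suffices H : ∀ (n : ℕ) (X : Type u) [Group X] [Finite X], Nat.card X < n →
      ¬ Cfsg.Involves ↥(Cfsg.qd p) X → ∀ (P : Sylow p X) (D : TopData p (P : Subgroup X) A) (x g : X),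
      x ∈ P → g * x * g⁻¹ ∈ P → D.θ (g * x * g⁻¹) = D.θ x from
    H _ X (Nat.lt_succ_self _) hqd P D x g hx hy
  intro n
  induction n with
  | zero => intro X _ _ hn; exact absurd hn (Nat.not_lt_zero _)
  | succ n ih =>
    clear hy hx g x D P hqd
    intro X _ _ hn hqd P D x g hx hy
    have hind : TopSmall p A X := fun Y _ _ hY => ih Y (by omega)
    have hP := P.isPGroup'
    by_cases hab : ∀ a ∈ (P : Subgroup X), ∀ b ∈ (P : Subgroup X), a * b = b * a
    · haveI : IsMulCommutative (P : Subgroup X) := ⟨⟨fun a b => Subtype.ext (hab a a.2 b b.2)⟩⟩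
      obtain ⟨m, hm, hmx⟩ := P.conj_eq_normalizer_conj_of_mem x g⁻¹ hx (by rwa [inv_inv])
      rw [inv_inv] at hmx
      rw [hmx]
      have := D.inv m⁻¹ (inv_mem hm) x hx
      rwa [inv_inv] at this
    have hPne : (P : Subgroup X) ≠ ⊥ := fun h => hab fun a ha b hb => by
      rw [h, mem_bot] at ha hb; rw [ha, hb]
    set Z := CfsgLib.PLocal.zj 0 (P : Subgroup X) with hZ
    set N := normalizer (Z : Set X) with hN
    have hPN : (P : Subgroup X) ≤ N := CfsgLib.PLocal.le_normalizer_zj 0 _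
    obtain ⟨m, hmN, hmx⟩ : ∃ m ∈ N, ∀ a ∈ zpowers x, m * a * m⁻¹ = g * a * g⁻¹ := by
      have hst := CfsgLib.QdStable.isNormalizerPStable_of_not_involves hp2 hqd
      have hD : zpowers x ≤ (P : Subgroup X) := zpowers_le.2 hx
      have hgD : (zpowers x).map (MulAut.conj g).toMonoidHom ≤ (P : Subgroup X) := by
        rw [MonoidHom.map_zpowers]; exact zpowers_le.2 hy
      have hc := CfsgLib.Techniques.StableQuot.fusCtrl_zJA hp2 X hst P _ g (mem_top _) hD hgD
      rw [CfsgLib.Techniques.Fusion.stepGroups, Set.image_singleton] at hc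
      obtain ⟨m, hm, hm'⟩ := hc.exists_mem
      rw [CfsgLib.Techniques.StableQuot.inducedFunctor_zJAFun, ← CfsgLib.PLocal.zj_zero] at hm
      exact ⟨m, hm, hm'⟩
    have hmx' := hmx x (mem_zpowers x)
    rw [← hmx'] at hy ⊢
    by_cases hNtop : N = ⊤
    swap
    · exact top_subgroup hind hqd P D N hPN hNtop hmN hx hy
    clear hmx hmx' hmN
    generalize m = g at hy ⊢
    haveI : Z.Normal := normalizer_eq_top_iff.1 hNtop
    have hZP : Z ≤ (P : Subgroup X) := CfsgLib.PLocal.zj_le 0 _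
    have hZC0 : Z ≤ D.C0 := D.zj_le_C0 hP
    have hZne : Z ≠ ⊥ := by
      rw [hZ, CfsgLib.PLocal.zj_zero]; exact CfsgLib.PLocal.centerJ_zero_ne_bot hP hPne
    haveI : IsMulCommutative Z := (CfsgLib.PLocal.zj_elemAb 0 _).1
    set C := centralizer (Z : Set X) with hC
    have hZC : Z ≤ C := fun a ha => mem_centralizer_iff.2 fun b hb =>
      congrArg Subtype.val (IsMulCommutative.is_comm.comm (⟨b, hb⟩ : Z) ⟨a, ha⟩)
    haveI : C.Normal := Subgroup.normal_centralizer
    by_cases hθ : ∀ a ∈ (P : Subgroup X), a ∈ C → D.θ a = 1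
    · exact top_quotient hind hqd P D C (fun h => hZne (eq_bot_iff.2 (h ▸ hZC))) hθ hx hy
    push Not at hθ
    obtain ⟨a, haP, haC, hane⟩ := hθ
    have hPC : (P : Subgroup X) ≤ C := by
      refine (D.gen_of_ne hP haP hane).trans (sup_le ?_ (zpowers_le.2 haC))
      exact fun u hu => mem_centralizer_iff.2 fun z hz => (mem_centralizer_iff.1 (hZC0 hz).2 u hu).symm
    by_cases hCtop : C = ⊤
    · refine top_quotient hind hqd P D Z hZne (fun b _ hb => D.ker_C0 hP hab (hZC0 hb)) hx hy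
    · obtain ⟨c, hc, hnc⟩ := CfsgLib.Transfer.exists_mul_mem_normalizer P C g hPC fun b hb => by
        have := (inferInstance : C.Normal).conj_mem b (hPC hb) g⁻¹
        rwa [inv_inv] at this
      have hx' : g * c * x * (g * c)⁻¹ ∈ P := (mem_normalizer_iff.1 hnc x).1 hx
      have hgcg : g * c⁻¹ * g⁻¹ ∈ C := (inferInstance : C.Normal).conj_mem _ (inv_mem hc) g
      have e : g * c⁻¹ * g⁻¹ * (g * c * x * (g * c)⁻¹) * (g * c⁻¹ * g⁻¹)⁻¹ = g * x * g⁻¹ := by group
      have h1 := top_subgroup hind hqd P D C hPC hCtop hgcg hx' (e ▸ hy)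
      rwa [e, D.inv _ hnc x hx] at h1

end CfsgLib.Walter.Twist
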