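import Cfsg.Agent.Lib.Walter.Twist.FixedBasic
import Cfsg.Agent.Lib.Walter.Twist.CaseDefs

/-!
Walter, the field part, case D, piece S: the primes of the split torus do not divide the index.
Either some element of order `s` of `H` is centralised by the field part (then the fixed torus
statement applies), or the good torus statement applies; in both cases no element of order `s` inverted
by `t` commutes with an element of order `s` of `H`, so a Sylow `s`-subgroup of `G` lies in `H`.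
-/

set_option autoImplicit false
set_option linter.unusedSectionVars false
set_option linter.style.haveILetI false

namespace CfsgLib.Walter.Twist

open Subgroup Matrix CfsgLib.ReeOrder

universe u

variable {G : Type u} [Group G] [Finite G] {E : Setup G}

/-- The generic torus statement needed by piece S. -/
def GoodTorusGoal : Prop :=
  ∀ (G : Type u) [Group G] [Finite G] (E : Setup G), Local E → E.W = ⊥ → ∀ R : Frame E,
    R.q % 8 = 3 → CharP R.F 3 → ∀ s : ℕ, s.Prime → 5 ≤ s → s ∣ R.q - 1 → ¬ s ∣ R.f →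
      (∀ y ∈ E.H, orderOf y = s → ∃ σ : R.Γ, ¬ Commute (R.fld σ) y) → R.GoodTorus s

/-- The fixed torus statement needed by piece S. -/
def FixedTorusGoal : Prop :=
  ∀ (G : Type u) [Group G] [Finite G] (E : Setup G), Local E → E.W = ⊥ → ∀ R : Frame E,
    CaseD R → ∀ y ∈ E.H, (orderOf y).Prime → orderOf y ≠ 2 → orderOf y ≠ 3 → orderOf y ∣ R.q - 1 →
      (∀ σ : R.Γ, Commute (R.fld σ) y) → centralizer ({y} : Set G) ≤ E.H

namespace TorusS

variable (R : Frame E)

local notation "PSLF" => ProjectiveSpecialLinearGroup (Fin 2) R.F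

/-- In a cyclic group an element whose order divides that of `a` is a power of `a`. -/
theorem mem_zpowers_cyclic {C : Type*} [Group C] [IsCyclic C] [Finite C] {a b : C}
    (h : orderOf b ∣ orderOf a) : b ∈ zpowers a := by
  classical
  letI := Fintype.ofFinite C
  have hsub : ((zpowers a : Set C).toFinset) ⊆
      Finset.univ.filter fun x : C => x ^ orderOf a = 1 := fun x hx => by
    rw [Set.mem_toFinset] at hx
    obtain ⟨i, rfl⟩ := mem_zpowers_iff.1 hx
    simp only [Finset.mem_filter, Finset.mem_univ, true_and]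
    rw [← zpow_natCast, ← _root_.zpow_mul, mul_comm, _root_.zpow_mul, zpow_natCast, pow_orderOf_eq_one, _root_.one_zpow]
  have heq := Finset.eq_of_subset_of_card_le hsub
    ((IsCyclic.card_pow_eq_one_le (α := C) (orderOf_pos a)).trans (by
      rw [Set.toFinset_card, ← Nat.card_eq_fintype_card]
      exact (Nat.card_zpowers a).ge))
  have hb : b ∈ (zpowers a : Set C).toFinset := by
    rw [heq]; simpa using orderOf_dvd_iff_pow_eq_one.1 h
  simpa using hb

/-- Elements of prime order `s` prime to the field part lie in the simple part. -/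
theorem psl_of_order {s : ℕ} (hs : s.Prime) (hs2 : s ≠ 2) (hf : ¬ s ∣ R.f) {y : G} (hy : y ∈ E.H)
    (hys : orderOf y = s) : ∃ x : PSLF, y = R.psl x ∧ orderOf x = s := by
  obtain ⟨x, σ, rfl⟩ := FixedT.odd_form R hy (hys ▸ hs.odd_of_ne_two hs2)
  obtain ⟨x', hx'⟩ := FixedT.comb_pow R x σ s
  have h1 : (R.psl x * R.fld σ) ^ s = 1 := hys ▸ pow_orderOf_eq_one _
  have hσs : σ ^ s = 1 := (R.eq_one _ _ (hx'.symm.trans h1)).2
  have hσ : σ = 1 := orderOf_eq_one_iff.1 <|
    ((Nat.dvd_prime hs).1 (orderOf_dvd_of_pow_eq_one hσs)).resolve_right fun e =>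
      hf (e ▸ orderOf_dvd_natCard σ)
  subst hσ
  rw [map_one, mul_one] at hys ⊢
  exact ⟨x, rfl, by rwa [FixedT.orderOf_psl] at hys⟩

/-- `t` is the only involution of `H` commuting with an element of order `s ∣ (q - 1) / 2`. -/
theorem involution_eq [CharP R.F 3] {s : ℕ} (hs : s.Prime) (hs2 : s ≠ 2) (hf : ¬ s ∣ R.f)
    (hd : s ∣ oddTorus R.q) {y v : G} (hy : y ∈ E.H) (hys : orderOf y = s) (hv : v ∈ E.H)
    (hv2 : orderOf v = 2) (hc : Commute v y) : v = E.t := by
  obtain ⟨h8, hq⟩ := FixedT.q_mod_three R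
  by_contra hne
  obtain ⟨j, hj, hvj⟩ := FixedT.invol_form R hv hv2 hne
  obtain ⟨x, rfl, hx⟩ := psl_of_order R hs hs2 hf hy hys
  have hjx := (FixedT.commute_psl_iff R hvj x).1 hc
  have x1 : x ≠ 1 := fun e => hs.ne_one (by rw [← hx, e, orderOf_one])
  obtain ⟨C, -, -, hC, hcent⟩ := Psl.exists_torus_odd (Or.inl h8) hq x1 (hx.symm ▸ hd)
  have h2 : 2 ∣ oddTorus (Fintype.card R.F) := by
    rw [← hC]
    exact hj.symm.dvd.trans (Subgroup.orderOf_dvd_natCard C (hcent j hjx))
  exact Nat.not_even_iff_odd.2 (odd_oddTorus (Or.inl h8)) (even_iff_two_dvd.2 h2)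

/-- A maximal `s`-subgroup of the centraliser of an element of order `s` of `H` lies in `H`. -/
theorem exists_sylow_le [CharP R.F 3] {s : ℕ} (hs : s.Prime) (hs2 : s ≠ 2) (hf : ¬ s ∣ R.f)
    (hd : s ∣ oddTorus R.q) (hgood : R.GoodTorus s) {y : G} (hy : y ∈ E.H) (hys : orderOf y = s) :
    ∃ Q : Subgroup G, Q ≤ E.H ∧ Q ≤ centralizer ({y} : Set G) ∧ IsPGroup s Q ∧ y ∈ Q ∧
      ∀ T : Subgroup G, IsPGroup s T → T ≤ centralizer ({y} : Set G) → Nat.card T ≤ Nat.card Q := by
  haveI := Fact.mk Nat.prime_two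
  haveI := Fact.mk hs
  set D := centralizer ({y} : Set G) with hD
  have htt : E.t * E.t = 1 := E.sq _ E.mem
  have ht : orderOf E.t = 2 := orderOf_eq_prime (by rw [pow_two, htt]) E.ne
  have hty : E.t * y = y * E.t := (FixedT.commute_t hy).eq.symm
  set t' : ↥D := ⟨E.t, mem_centralizer_singleton_iff.2 hty⟩ with ht'
  have ht'2 : orderOf t' = 2 := by rw [ht', orderOf_mk, ht]
  -- the Sylow 2-subgroup of `D` is generated by `t`
  obtain ⟨P, hP⟩ := (IsPGroup.of_card (n := 1) (p := 2)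
    (show Nat.card (zpowers t') = 2 ^ 1 by rw [Nat.card_zpowers, ht'2, pow_one])).exists_le_sylow
  have htP : t' ∈ (P : Subgroup ↥D) := hP (mem_zpowers t')
  have hPmem : ∀ a ∈ (P : Subgroup ↥D), a = 1 ∨ a = t' := by
    intro a ha
    obtain ⟨S', hS'⟩ := (P.isPGroup'.map D.subtype).exists_le_sylow
    obtain ⟨g, hg⟩ := MulAction.exists_smul_eq G E.S S'
    have hin : ∀ b ∈ (P : Subgroup ↥D), g⁻¹ * (b : G) * g ∈ (E.S : Subgroup G) := by
      intro b hb
      have hb' : (b : G) ∈ (S' : Subgroup G) := hS' (Subgroup.mem_map_of_mem _ hb)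
      rw [← hg, Sylow.coe_subgroup_smul, mem_pointwise_smul_iff_inv_smul_mem] at hb'
      simpa [MulAut.smul_def] using hb'
    have hgt : g⁻¹ * E.t * g ∈ (E.S : Subgroup G) := hin t' htP
    have hga : g⁻¹ * (a : G) * g ∈ (E.S : Subgroup G) := hin a ha
    have hsq : (a : G) * a = 1 := by
      have h := E.sq _ hga
      calc (a : G) * a = g * (g⁻¹ * a * g * (g⁻¹ * a * g)) * g⁻¹ := by group
        _ = 1 := by rw [h]; group
    have hct : Commute (a : G) E.t := by
      have h := E.comm hga hgt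
      calc (a : G) * E.t = g * (g⁻¹ * a * g * (g⁻¹ * E.t * g)) * g⁻¹ := by group
        _ = g * (g⁻¹ * E.t * g * (g⁻¹ * a * g)) * g⁻¹ := by rw [h]
        _ = E.t * a := by group
    by_cases ha1 : (a : G) = 1
    · exact Or.inl (Subtype.ext ha1)
    · refine Or.inr (Subtype.ext ?_)
      exact involution_eq R hs hs2 hf hd hy hys (FixedT.mem_H hct)
        (orderOf_eq_prime (by rw [pow_two, hsq]) ha1) (mem_centralizer_singleton_iff.1 a.2)
  have hn : normalizer ((P : Subgroup ↥D) : Set ↥D) ≤ centralizer ((P : Subgroup ↥D) : Set ↥D) := by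
    intro n hn
    rw [mem_centralizer_iff]
    intro b hb
    rcases hPmem b hb with rfl | rfl
    · simp
    · rcases hPmem _ ((mem_normalizer_iff.1 hn _).1 htP) with e | e
      · exact absurd (conj_eq_one_iff.1 e) fun h => E.ne (congrArg Subtype.val h)
      · exact (mul_inv_eq_iff_eq_mul.1 e).symm
  -- the normal complement
  set K := (MonoidHom.transferSylow P hn).ker with hKdef
  have hKodd : Odd (Nat.card K) := Nat.not_even_iff_odd.1 fun h =>
    MonoidHom.not_dvd_card_ker_transferSylow P hn h.two_dvd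
  have hmemK : ∀ a : ↥D, Odd (orderOf a) → a ∈ K := by
    intro a hodd
    rw [hKdef, MonoidHom.mem_ker, ← orderOf_eq_one_iff]
    obtain ⟨k, hk⟩ := P.isPGroup' (MonoidHom.transferSylow P hn a)
    exact Nat.eq_one_of_dvd_coprimes ((Nat.coprime_two_right.2 hodd).pow_right k)
      (orderOf_map_dvd _ a) (orderOf_dvd_of_pow_eq_one hk)
  -- a `t`-invariant Sylow subgroup
  obtain ⟨P₁⟩ : Nonempty (Sylow s ↥K) := inferInstance
  set M := (P₁ : Subgroup ↥K).map K.subtype with hMdef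
  have hMcard : Nat.card M = Nat.card (P₁ : Subgroup ↥K) := card_map_of_injective K.subtype_injective
  have hfrat : normalizer (M : Set ↥D) ⊔ K = ⊤ := Sylow.normalizer_sup_eq_top P₁
  have heven : 2 ∣ Nat.card (normalizer (M : Set ↥D)) := by
    by_contra h
    have hle : normalizer (M : Set ↥D) ≤ K := fun a ha => hmemK a
      ((Nat.not_even_iff_odd.1 fun e => h e.two_dvd).of_dvd_nat (Subgroup.orderOf_dvd_natCard _ ha))
    rw [sup_eq_right.2 hle] at hfrat
    have : Odd (orderOf t') := hKodd.of_dvd_nat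
      (Subgroup.orderOf_dvd_natCard K (show t' ∈ K by rw [hfrat]; exact mem_top _))
    rw [ht'2] at this
    exact absurd this (by decide)
  obtain ⟨⟨u, huN⟩, hu⟩ := exists_prime_orderOf_dvd_card' (G := normalizer (M : Set ↥D)) 2 heven
  rw [orderOf_mk] at hu
  obtain ⟨P₂, hP₂⟩ := (IsPGroup.of_card (n := 1) (p := 2)
    (show Nat.card (zpowers u) = 2 ^ 1 by rw [Nat.card_zpowers, hu, pow_one])).exists_le_sylow
  obtain ⟨d, hd'⟩ := MulAction.exists_smul_eq ↥D P P₂
  have hud : d⁻¹ * u * d = t' := by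
    have h : u ∈ (P₂ : Subgroup ↥D) := hP₂ (mem_zpowers u)
    rw [← hd', Sylow.coe_subgroup_smul, mem_pointwise_smul_iff_inv_smul_mem] at h
    rcases hPmem _ (by simpa [MulAut.smul_def] using h) with e | e
    · exact absurd (by rw [← conj_eq_one_iff (a := d⁻¹), inv_inv]; exact e : u = 1)
        (fun e' => by rw [e', orderOf_one] at hu; omega)
    · exact e
  set M' := M.map (MulAut.conj d⁻¹).toMonoidHom with hM'def
  set Q := M'.map D.subtype with hQdef
  have hM'card : Nat.card M' = Nat.card (P₁ : Subgroup ↥K) :=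
    (card_map_of_injective (MulEquiv.injective _)).trans hMcard
  have hQcard : Nat.card Q = Nat.card (P₁ : Subgroup ↥K) :=
    (card_map_of_injective D.subtype_injective).trans hM'card
  have hQp : IsPGroup s Q := ((P₁.isPGroup'.map K.subtype).map _).map _
  have hQD : Q ≤ D := map_subtype_le _
  have hQnorm : ∀ a ∈ Q, E.t * a * E.t ∈ Q := by
    rintro _ ⟨_, ⟨m, hm, rfl⟩, rfl⟩
    have hm' : u * m * u⁻¹ ∈ M := (mem_normalizer_iff.1 huN m).1 hm
    refine ⟨_, mem_map_of_mem _ hm', ?_⟩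
    have hti : t'⁻¹ = t' := inv_eq_of_mul_eq_one_right (Subtype.ext htt)
    show ((d⁻¹ * (u * m * u⁻¹) * d⁻¹⁻¹ : ↥D) : G) = ((t' * (d⁻¹ * m * d⁻¹⁻¹) * t' : ↥D) : G)
    nth_rewrite 2 [← hti]
    rw [← hud]
    congr 1
    group
  -- it centralises `t`
  have hQH : Q ≤ E.H := by
    intro a ha
    refine FixedT.mem_H ?_
    set w := a⁻¹ * (E.t * a * E.t) with hw
    have hwQ : w ∈ Q := mul_mem (inv_mem ha) (hQnorm a ha)
    by_cases hw1 : w = 1
    · rw [hw, inv_mul_eq_one] at hw1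
      calc a * E.t = E.t * a * E.t * E.t := by rw [← hw1]
        _ = E.t * a := by rw [mul_assoc, htt, mul_one]
    exfalso
    obtain ⟨k, hk⟩ := (IsPGroup.iff_orderOf.1 hQp) ⟨w, hwQ⟩
    rw [orderOf_mk] at hk
    have hk0 : k ≠ 0 := fun e => hw1 (orderOf_eq_one_iff.1 (by rw [hk, e, pow_zero]))
    obtain ⟨k, rfl⟩ := Nat.exists_eq_add_of_le' (Nat.one_le_iff_ne_zero.2 hk0)
    have hti : E.t⁻¹ = E.t := inv_eq_of_mul_eq_one_right htt
    have hinv : E.t * w * E.t⁻¹ = w⁻¹ := by
      rw [hti, hw, _root_.mul_inv_rev, inv_inv]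
      calc E.t * (a⁻¹ * (E.t * a * E.t)) * E.t = E.t * a⁻¹ * E.t * a * (E.t * E.t) := by group
        _ = E.t⁻¹ * a⁻¹ * E.t⁻¹ * a := by rw [htt, mul_one, hti]
        _ = (E.t * a * E.t)⁻¹ * a := by group
    have hz : orderOf (w ^ s ^ k) = s := by
      rw [orderOf_pow' w (pow_ne_zero _ hs.ne_zero), hk, pow_succ,
        Nat.gcd_eq_right (dvd_mul_right _ _), Nat.mul_div_cancel_left _ (pow_pos hs.pos _)]
    refine hgood y hy hys (w ^ s ^ k) hz
      ((Commute.pow_left (mem_centralizer_singleton_iff.1 (hQD hwQ)) _)) ?_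
    nth_rewrite 2 [← hti]
    rw [← conj_pow, hinv, inv_pow]
  have hmax : ∀ T : Subgroup G, IsPGroup s T → T ≤ D → Nat.card T ≤ Nat.card Q := by
    intro T hT hTD
    have hTK : T.subgroupOf D ≤ K := fun a ha => hmemK a <| by
      obtain ⟨k, hk⟩ := (IsPGroup.iff_orderOf.1 hT) ⟨(a : G), mem_subgroupOf.1 ha⟩
      rw [orderOf_mk] at hk
      rw [← Subgroup.orderOf_coe, hk]
      exact (hs.odd_of_ne_two hs2).pow
    have hT' : IsPGroup s ((T.subgroupOf D).subgroupOf K) := by
      refine (IsPGroup.of_equiv ?_ (subgroupOfEquivOfLe hTK).symm)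
      exact IsPGroup.of_equiv hT (subgroupOfEquivOfLe hTD).symm
    obtain ⟨P₃, hP₃⟩ := hT'.exists_le_sylow
    rw [hQcard, ← Nat.card_congr (Sylow.equiv P₃ P₁).toEquiv,
      ← Nat.card_congr (subgroupOfEquivOfLe hTD).toEquiv,
      ← Nat.card_congr (subgroupOfEquivOfLe hTK).toEquiv]
    exact Subgroup.card_le_of_le hP₃
  refine ⟨Q, hQH, hQD, hQp, ?_, hmax⟩
  -- `y` is central in `D`
  have hy' : IsPGroup s (zpowers y) := IsPGroup.of_card (n := 1) (by rw [Nat.card_zpowers, hys, pow_one])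
  have hnorm : zpowers y ≤ normalizer (Q : Set G) := by
    rw [zpowers_le]
    refine centralizer_le_normalizer _ (mem_centralizer_iff.2 fun a ha => ?_)
    exact mem_centralizer_singleton_iff.1 (hQD ha)
  have hsup : IsPGroup s (zpowers y ⊔ Q : Subgroup G) := IsPGroup.to_sup_of_normal_right' hy' hQp hnorm
  have hle : zpowers y ⊔ Q ≤ D := sup_le (zpowers_le.2 (mem_centralizer_singleton_iff.2 rfl)) hQD
  have he : Q = zpowers y ⊔ Q := eq_of_le_of_card_ge le_sup_right (hmax _ hsup hle)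
  rw [he]
  exact le_sup_left (a := zpowers y) (mem_zpowers y)

/-- If one element of order `s` of `H` has its centraliser in `H`, all of them do. -/
theorem centralizer_le_of_one [CharP R.F 3] {s : ℕ} (hs : s.Prime) (hs2 : s ≠ 2) (hf : ¬ s ∣ R.f)
    (hd : s ∣ oddTorus R.q) {y₀ y : G} (hy₀ : y₀ ∈ E.H) (hy₀s : orderOf y₀ = s) (hy : y ∈ E.H)
    (hys : orderOf y = s) (hC : centralizer ({y₀} : Set G) ≤ E.H) :
    centralizer ({y} : Set G) ≤ E.H := by
  obtain ⟨h8, hq⟩ := FixedT.q_mod_three R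
  obtain ⟨x₀, rfl, hx₀⟩ := psl_of_order R hs hs2 hf hy₀ hy₀s
  obtain ⟨x, rfl, hx⟩ := psl_of_order R hs hs2 hf hy hys
  have x₀1 : x₀ ≠ 1 := fun e => hs.ne_one (by rw [← hx₀, e, orderOf_one])
  have x1 : x ≠ 1 := fun e => hs.ne_one (by rw [← hx, e, orderOf_one])
  obtain ⟨k, hk⟩ := Psl.conj_odd (Or.inl h8) hq x1 (hx.symm ▸ hd) x₀1 (hx₀.symm ▸ hd)
  obtain ⟨C, hC', hx₀C, -, hcent⟩ :=
    Psl.exists_torus_odd (Or.inl h8) hq x₀1 (hx₀.symm ▸ hd)
  haveI := hC'.cyclic
  have hxC : k * x * k⁻¹ ∈ C := hcent _ (hk x (Commute.refl x))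
  have ho : orderOf (k * x * k⁻¹) = s := by
    rw [← MulAut.conj_apply, (MulAut.conj k).orderOf_eq, hx]
  obtain ⟨i, hi⟩ := mem_zpowers_iff.1 (mem_zpowers_cyclic (C := ↥C) (a := ⟨k * x * k⁻¹, hxC⟩)
    (b := ⟨x₀, hx₀C⟩) (by rw [orderOf_mk, orderOf_mk, ho, hx₀]))
  have hi' : (k * x * k⁻¹) ^ i = x₀ := by
    have := congrArg Subtype.val hi
    rwa [Subgroup.coe_zpow] at this
  intro g hg
  have hg' : Commute g (R.psl x) := mem_centralizer_singleton_iff.1 hg
  have hmem : R.psl k * g * (R.psl k)⁻¹ ∈ E.H := hC <| mem_centralizer_singleton_iff.2 <| by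
    have h1 := hg'.map (MulAut.conj (R.psl k)).toMonoidHom
    have h2 : Commute (R.psl k * g * (R.psl k)⁻¹) (R.psl (k * x * k⁻¹)) := by
      rw [map_mul, map_mul, map_inv]; exact h1
    have h3 := h2.zpow_right i
    rwa [← map_zpow, hi'] at h3
  simpa [mul_assoc] using mul_mem (mul_mem (inv_mem (R.psl_mem k)) hmem) (R.psl_mem k)

/-- A good torus prime does not divide the index. -/
theorem not_dvd_index [CharP R.F 3] {s : ℕ} (hs : s.Prime) (hs2 : s ≠ 2) (hf : ¬ s ∣ R.f)
    (hd : s ∣ oddTorus R.q) (hgood : R.GoodTorus s) : ¬ s ∣ R.I := by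
  haveI := Fact.mk hs
  obtain ⟨h8, hq⟩ := FixedT.q_mod_three R
  obtain ⟨x, hx⟩ := exists_prime_orderOf_dvd_card' (G := PSLF) s (by
    rw [Psl.card_psl_eq (Or.inl h8) hq]
    exact dvd_mul_of_dvd_right hd _)
  have hys : orderOf (R.psl x) = s := by rw [FixedT.orderOf_psl, hx]
  obtain ⟨Q, hQH, hQD, hQp, hyQ, hmax⟩ :=
    exists_sylow_le R hs hs2 hf hd hgood (R.psl_mem x) hys
  obtain ⟨P, hP⟩ := hQp.exists_le_sylow
  haveI : Nontrivial (P : Subgroup G) := (Subgroup.nontrivial_iff_ne_bot _).2 fun h => by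
    have h1 : R.psl x = 1 := Subgroup.mem_bot.1 (h ▸ hP hyQ)
    rw [h1, orderOf_one] at hys
    exact hs.ne_one hys.symm
  haveI : Nontrivial (center (P : Subgroup G)) := P.isPGroup'.center_nontrivial
  obtain ⟨⟨z, hzc⟩, hz⟩ := exists_prime_orderOf_dvd_card' (G := center (P : Subgroup G)) s
    ((P.isPGroup'.to_subgroup (center _)).card_eq_or_dvd.resolve_left
      (Finite.one_lt_card (α := center (P : Subgroup G))).ne')
  rw [orderOf_mk, ← Subgroup.orderOf_coe] at hz
  have hzcomm : ∀ a ∈ (P : Subgroup G), Commute a (z : G) := fun a ha =>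
    congrArg Subtype.val (mem_center_iff.1 hzc ⟨a, ha⟩)
  have hzH : (z : G) ∈ E.H := by
    have hzp : IsPGroup s (zpowers (z : G)) :=
      IsPGroup.of_card (n := 1) (by rw [Nat.card_zpowers, hz, pow_one])
    have hnorm : zpowers (z : G) ≤ normalizer (Q : Set G) := by
      rw [zpowers_le]
      exact centralizer_le_normalizer _ (mem_centralizer_iff.2 fun a ha => (hzcomm a (hP ha)).eq)
    have hle : zpowers (z : G) ⊔ Q ≤ centralizer ({R.psl x} : Set G) := sup_le
      (zpowers_le.2 (mem_centralizer_singleton_iff.2 (hzcomm _ (hP hyQ)).eq.symm)) hQD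
    have he : Q = zpowers (z : G) ⊔ Q := eq_of_le_of_card_ge le_sup_right
      (hmax _ (IsPGroup.to_sup_of_normal_right' hzp hQp hnorm) hle)
    exact hQH (he ▸ le_sup_left (a := zpowers (z : G)) (mem_zpowers _))
  obtain ⟨Q', hQ'H, -, hQ'p, -, hmax'⟩ := exists_sylow_le R hs hs2 hf hd hgood hzH hz
  obtain ⟨P', hP'⟩ := hQ'p.exists_le_sylow
  have he : Q' = (P' : Subgroup G) := eq_of_le_of_card_ge hP' <| by
    rw [← Nat.card_congr (Sylow.equiv P P').toEquiv]
    exact hmax' _ P.isPGroup' fun a ha => mem_centralizer_singleton_iff.2 (hzcomm a ha).eq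
  intro hI
  exact P'.not_dvd_index (hI.trans (index_dvd_of_le (he ▸ hQ'H)))

end TorusS

/-- Piece S from the good torus and fixed torus statements. -/
theorem torusIndexGoal_of (hgood : GoodTorusGoal.{u}) (hfix : FixedTorusGoal.{u}) :
    TorusIndexGoal.{u} := by
  intro G _ _ E hloc hW R D s hs hsJ
  haveI := D.char_three
  obtain ⟨h8, hq⟩ := FixedT.q_mod_three R
  have h8' : R.q % 8 = 3 := h8
  have hd : s ∣ oddTorus R.q := by
    rcases sq_cases (Or.inl h8') with ⟨-, -, e1, -⟩ | ⟨e, -, -, -⟩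
    · rwa [show oddTorus R.q = (R.q - 1) / 2 by omega]
    · omega
  have hs1 : s ∣ R.q - 1 := hsJ.trans (Nat.div_dvd_of_dvd ⟨(R.q - 1) / 2, by omega⟩)
  have hs2 : s ≠ 2 := fun e => by
    subst e
    exact Nat.not_even_iff_odd.2 (odd_oddTorus (Or.inl h8')) (even_iff_two_dvd.2 hd)
  have hf : ¬ s ∣ R.f := fun h => by
    obtain ⟨-, hq2, -⟩ := D.prime_dvd s hs h
    have h1 : R.q ^ 2 - R.q + 1 = (R.q - 1) * R.q + 1 := by rw [Nat.sub_mul, one_mul, pow_two]
    exact hs.not_dvd_one ((Nat.dvd_add_right (hs1.mul_right R.q)).1 (h1 ▸ hq2))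
  have hs3 : s ≠ 3 := fun e => by
    subst e
    obtain ⟨n, -, hn⟩ := FiniteField.card R.F 3
    have h3 : 3 ∣ R.q := by rw [show R.q = 3 ^ (n : ℕ) from hn]; exact dvd_pow_self 3 n.ne_zero
    have := R.three
    omega
  have hs5 : 5 ≤ s := by
    have := hs.two_le
    have h4 : s ≠ 4 := fun e => by rw [e] at hs; norm_num at hs
    omega
  refine TorusS.not_dvd_index R hs hs2 hf hd ?_
  by_cases hmove : ∀ y ∈ E.H, orderOf y = s → ∃ σ : R.Γ, ¬ Commute (R.fld σ) y
  · exact hgood G E hloc hW R h8' D.char_three s hs hs5 hs1 hf hmove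
  · push Not at hmove
    obtain ⟨y₀, hy₀, hy₀s, hfixed⟩ := hmove
    subst hy₀s
    have hC := hfix G E hloc hW R D y₀ hy₀ hs hs2 hs3 hs1 hfixed
    intro y hy hys z hz hzy hinv
    have hzH : Commute z E.t := FixedT.commute_t <|
      TorusS.centralizer_le_of_one R hs hs2 hf hd hy₀ rfl hy hys hC
        (mem_centralizer_singleton_iff.2 hzy.eq)
    rw [← hzH.eq, mul_assoc, FixedT.t_sq, mul_one, eq_inv_iff_mul_eq_one, ← pow_two] at hinv
    exact hs2 ((Nat.prime_dvd_prime_iff_eq hs Nat.prime_two).1 (hz ▸ orderOf_dvd_of_pow_eq_one hinv))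

end CfsgLib.Walter.Twist
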