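import Cfsg.Agent.Lib.ReeOrder.Block.PslChars
import Cfsg.Agent.Lib.AutPSL.Basic
import Mathlib.GroupTheory.SemidirectProduct

/-!
Walter, rank three, case D, piece X step 1: the group `Y = PSL₂(q) ⋊ Γ` and the interface of its
characters of the principal 2-block.
-/

set_option autoImplicit false
set_option linter.unusedSectionVars false

namespace CfsgLib.Walter.Twist.YB

open Matrix Cfsg CfsgLib.ReeType CfsgLib.SL2Tori CfsgLib.AutPSL CfsgLib.ReeOrder.Block
open scoped ComplexConjugate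

variable {F : Type} [Field F]

/-- The action of the field part. -/
noncomputable abbrev act (Γ : Subgroup (F ≃+* F)) :
    Γ →* MulAut (Matrix.ProjectiveSpecialLinearGroup (Fin 2) F) :=
  fieldAut.comp Γ.subtype

/-- The group `PSL₂(F) ⋊ Γ`. -/
abbrev Ext (Γ : Subgroup (F ≃+* F)) : Type :=
  Matrix.ProjectiveSpecialLinearGroup (Fin 2) F ⋊[act Γ] Γ

variable [Fintype F] [DecidableEq F]

instance instFiniteExt (Γ : Subgroup (F ≃+* F)) : Finite (Ext Γ) := by
  haveI : Finite (F ≃+* F) := Finite.of_injective (fun σ => (⇑σ : F → F)) DFunLike.coe_injective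
  exact Finite.of_equiv _ SemidirectProduct.equivProd.symm

noncomputable instance instFintypeExt (Γ : Subgroup (F ≃+* F)) : Fintype (Ext Γ) :=
  Fintype.ofFinite _

/-- The principal 2-block of `Y`, `q ≡ 3 (mod 8)`. -/
structure YData (Γ : Subgroup (F ≃+* F)) where
  /-- the principal block of the simple part -/
  D : HalfData F
  /-- Steinberg -/
  St : IrrCharacter (Ext Γ)
  /-- a half -/
  eta : IrrCharacter (Ext Γ)
  /-- the other half -/
  eta' : IrrCharacter (Ext Γ)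
  e_one : D.e = 1
  St_res : ∀ x, (St : Ext Γ → ℂ) (SemidirectProduct.inl x) =
    (D.St : Matrix.ProjectiveSpecialLinearGroup (Fin 2) F → ℂ) x
  eta_res : ∀ x, (eta : Ext Γ → ℂ) (SemidirectProduct.inl x) =
    (D.eta : Matrix.ProjectiveSpecialLinearGroup (Fin 2) F → ℂ) x
  eta'_res : ∀ x, (eta' : Ext Γ → ℂ) (SemidirectProduct.inl x) =
    (D.eta' : Matrix.ProjectiveSpecialLinearGroup (Fin 2) F → ℂ) x
  St_one : (St : Ext Γ → ℂ) 1 = (Fintype.card F : ℂ)
  eta_one : 2 * (eta : Ext Γ → ℂ) 1 = (Fintype.card F : ℂ) - 1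
  eta'_one : 2 * (eta' : Ext Γ → ℂ) 1 = (Fintype.card F : ℂ) - 1
  ne : eta ≠ eta'
  conj_eta : ∀ y, conj ((eta : Ext Γ → ℂ) y) = (eta' : Ext Γ → ℂ) y
  conj_St : ∀ y, conj ((St : Ext Γ → ℂ) y) = (St : Ext Γ → ℂ) y
  even : ∀ y, Even (orderOf y) → (St : Ext Γ → ℂ) y = -1 ∧ (eta : Ext Γ → ℂ) y = 1 ∧
    (eta' : Ext Γ → ℂ) y = 1
  torus : ∀ (a : Fˣ) (σ : Γ), (σ : F ≃+* F) (a : F) = (a : F) → a ^ (2 * orderOf σ) ≠ 1 →
    (St : Ext Γ → ℂ) (SemidirectProduct.inl
        (prj (bEl a 0 : Matrix.SpecialLinearGroup (Fin 2) F)) * SemidirectProduct.inr σ) = 1 ∧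
      (eta : Ext Γ → ℂ) (SemidirectProduct.inl
          (prj (bEl a 0 : Matrix.SpecialLinearGroup (Fin 2) F)) * SemidirectProduct.inr σ) = 0 ∧
      (eta' : Ext Γ → ℂ) (SemidirectProduct.inl
          (prj (bEl a 0 : Matrix.SpecialLinearGroup (Fin 2) F)) * SemidirectProduct.inr σ) = 0
  fld : ∀ σ : Γ, (St : Ext Γ → ℂ) (SemidirectProduct.inr σ) =
      (Nat.card {x : F // (σ : F ≃+* F) x = x} : ℂ) ∧
    (eta : Ext Γ → ℂ) (SemidirectProduct.inr σ) =
      (Nat.card {x : F // x ≠ 0 ∧ IsSquare x ∧ (σ : F ≃+* F) x = x} : ℂ) ∧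
    (eta' : Ext Γ → ℂ) (SemidirectProduct.inr σ) =
      (Nat.card {x : F // x ≠ 0 ∧ IsSquare x ∧ (σ : F ≃+* F) x = x} : ℂ)

variable {Γ : Subgroup (F ≃+* F)} (D : YData Γ)

/-- The first projective. -/
noncomputable def YData.f0 : Ext Γ → ℂ := fun y => 1 + (D.St : Ext Γ → ℂ) y

/-- The second projective. -/
noncomputable def YData.g1 : Ext Γ → ℂ := fun y => (D.St : Ext Γ → ℂ) y + (D.eta : Ext Γ → ℂ) y

/-- The third projective. -/
noncomputable def YData.g2 : Ext Γ → ℂ := fun y => (D.St : Ext Γ → ℂ) y + (D.eta' : Ext Γ → ℂ) y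

theorem YData.f0_even {y : Ext Γ} (h : Even (orderOf y)) : D.f0 y = 0 := by
  rw [YData.f0, (D.even y h).1]; ring

theorem YData.g1_even {y : Ext Γ} (h : Even (orderOf y)) : D.g1 y = 0 := by
  rw [YData.g1, (D.even y h).1, (D.even y h).2.1]; ring

theorem YData.g2_even {y : Ext Γ} (h : Even (orderOf y)) : D.g2 y = 0 := by
  rw [YData.g2, (D.even y h).1, (D.even y h).2.2]; ring

end CfsgLib.Walter.Twist.YB
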